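import Cfsg.Agent.Involutions.BaerSuzuki
import Cfsg.Agent.Omega.HOne.TvDef

/-!
# The BS-trick (helper766, OMEGA #16735)

`H ≤ G`, `T` a Sylow 2-subgroup of `H` which centralises `Z0`, `N = ⟨Z0^H⟩`, `u ∈ H` an involution (or 1)
which moves `N` and which lies, for every `f ∈ Z0#`, in a 2-subgroup normalised by `C_G(f)`.  Then some
conjugate `h u h⁻¹`, `h ∈ H`, centralises no element of `Z0#`; so `|Z0| ≤ |N : C_N(u)|`.

`card_le_two`: with the transvection statement of #15959 (`JEnd`): `|Z0| ≤ 2`.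
-/

set_option autoImplicit false

namespace Cfsg.Agent.Omega.IId.BSTrick

open Subgroup Cfsg.Agent.Omega.HOne.TvDef

variable {G : Type*} [Group G]

/-- two elements `u ∈ A`, `v`, `A` a 2-group normalised by `v`, `v * v = 1`: `⟨u, v⟩` is a 2-group -/
theorem pair_isPGroup {A : Subgroup G} (hA : IsPGroup 2 A) {u v : G} (hu : u ∈ A)
    (hv : v ∈ normalizer (A : Set G)) (hvv : v * v = 1) :
    IsPGroup 2 (Subgroup.closure {u, v} : Subgroup G) := by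
  have h1 : IsPGroup 2 (Subgroup.zpowers v) := by
    rintro ⟨x, hx⟩
    obtain ⟨k, rfl⟩ := Subgroup.mem_zpowers_iff.mp hx
    refine ⟨1, Subtype.ext ?_⟩
    have : (v ^ k) ^ 2 = 1 := by
      rw [← zpow_natCast, ← zpow_mul, mul_comm, zpow_mul]
      have h2 : v ^ ((2 : ℕ) : ℤ) = 1 := by
        rw [zpow_natCast, pow_two, hvv]
      rw [h2, one_zpow]
    simpa using this
  have h2 : IsPGroup 2 (A ⊔ Subgroup.zpowers v : Subgroup G) := by
    refine IsPGroup.to_sup_of_normal_left' hA h1 ?_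
    rw [Subgroup.zpowers_le]
    exact hv
  refine h2.to_le ?_
  rw [Subgroup.closure_le]
  rintro x (rfl | hx)
  · exact (le_sup_left : A ≤ A ⊔ Subgroup.zpowers v) hu
  · rw [Set.mem_singleton_iff] at hx
    subst hx
    exact (le_sup_right : Subgroup.zpowers x ≤ A ⊔ Subgroup.zpowers x) (Subgroup.mem_zpowers x)

/-- **THE BS-TRICK** -/
theorem exists_free [Finite G] {H T Z0 N : Subgroup G} (hTH : T ≤ H) (hTp : IsPGroup 2 T)
    (hT : ∀ R : Subgroup G, IsPGroup 2 R → T ≤ R → R ≤ H → R ≤ T)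
    (hZT : ∀ x ∈ T, ∀ f ∈ Z0, x * f = f * x)
    (hN : N ≤ Subgroup.closure {x | ∃ h ∈ H, ∃ f ∈ Z0, h * f * h⁻¹ = x})
    {u : G} (hu : u ∈ H) (huu : u * u = 1) (hm : ∃ n ∈ N, u * n ≠ n * u)
    (hA : ∀ f ∈ Z0, f ≠ 1 → ∃ A : Subgroup G, IsPGroup 2 A ∧ (∀ c, c * f = f * c → ∀ a ∈ A, c * a * c⁻¹ ∈ A) ∧
      u ∈ A) :
    ∃ h ∈ H, ∀ f ∈ Z0, (h * u * h⁻¹) * f = f * (h * u * h⁻¹) → f = 1 := by
  by_contra hcon
  push Not at hcon
  -- `u ∈ O₂(H)`
  have h1 : ∀ h : H, IsPGroup 2 (Subgroup.closure {(⟨u, hu⟩ : H), h * ⟨u, hu⟩ * h⁻¹} : Subgroup H) := by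
    intro h
    obtain ⟨f, hf, hc, hf1⟩ := hcon h h.2
    obtain ⟨A, hA2, hAn, huA⟩ := hA f hf hf1
    have hv : (h : G) * u * (h : G)⁻¹ ∈ normalizer (A : Set G) := by
      rw [Subgroup.mem_normalizer_iff]
      intro a
      refine ⟨fun ha => hAn _ hc a ha, fun ha => ?_⟩
      have hc' : ((h : G) * u * (h : G)⁻¹)⁻¹ * f = f * ((h : G) * u * (h : G)⁻¹)⁻¹ := by
        have e : ((h : G) * u * (h : G)⁻¹)⁻¹ * (((h : G) * u * (h : G)⁻¹) * f) *
          ((h : G) * u * (h : G)⁻¹)⁻¹ = ((h : G) * u * (h : G)⁻¹)⁻¹ * (f * ((h : G) * u * (h : G)⁻¹)) *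
          ((h : G) * u * (h : G)⁻¹)⁻¹ := by rw [hc]
        rw [inv_mul_cancel_left, ← mul_assoc, mul_inv_cancel_right] at e
        exact e.symm
      have := hAn _ hc' _ ha
      have e : ((h : G) * u * (h : G)⁻¹)⁻¹ * (((h : G) * u * (h : G)⁻¹) * a * ((h : G) * u * (h : G)⁻¹)⁻¹) *
        ((h : G) * u * (h : G)⁻¹)⁻¹⁻¹ = a := by group
      rwa [e] at this
    have hvv : (h : G) * u * (h : G)⁻¹ * ((h : G) * u * (h : G)⁻¹) = 1 := by
      have : (h : G) * u * (h : G)⁻¹ * ((h : G) * u * (h : G)⁻¹) = (h : G) * (u * u) * (h : G)⁻¹ := by group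
      rw [this, huu]; group
    have h2 := pair_isPGroup hA2 huA hv hvv
    have h3 : (Subgroup.closure {(⟨u, hu⟩ : H), h * ⟨u, hu⟩ * h⁻¹} : Subgroup H).map H.subtype ≤
        Subgroup.closure {u, (h : G) * u * (h : G)⁻¹} := by
      rw [MonoidHom.map_closure, Subgroup.closure_le]
      rintro x ⟨y, hy, rfl⟩
      rcases hy with rfl | hy
      · exact Subgroup.subset_closure (Or.inl rfl)
      · rw [Set.mem_singleton_iff] at hy
        subst hy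
        exact Subgroup.subset_closure (Or.inr rfl)
    have h4 := h2.to_le h3
    rintro ⟨x, hx⟩
    obtain ⟨k, hk⟩ := h4 ⟨H.subtype x, Subgroup.mem_map_of_mem _ hx⟩
    refine ⟨k, Subtype.ext (Subtype.ext ?_)⟩
    have := congrArg Subtype.val hk
    simpa using this
  have h2 := Cfsg.Agent.Involutions.BaerSuzuki.baer_suzuki_element (p := 2) (⟨u, hu⟩ : H) h1
  set R : Subgroup H := Subgroup.normalClosure {(⟨u, hu⟩ : H)} with hR
  have hRn : R.Normal := Subgroup.normalClosure_normal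
  have huR : (⟨u, hu⟩ : H) ∈ R := Subgroup.subset_normalClosure rfl
  -- `R ≤ T`
  have hRG : IsPGroup 2 (R.map H.subtype) := h2.map _
  have hTn : T ≤ normalizer ((R.map H.subtype : Subgroup G) : Set G) := by
    intro x hx
    have key : ∀ x ∈ T, ∀ y ∈ R.map H.subtype, x * y * x⁻¹ ∈ R.map H.subtype := by
      rintro x hx _ ⟨y, hy, rfl⟩
      exact ⟨⟨x, hTH hx⟩ * y * ⟨x, hTH hx⟩⁻¹, hRn.conj_mem y hy _, rfl⟩
    rw [Subgroup.mem_normalizer_iff]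
    intro y
    refine ⟨key x hx y, fun hy => ?_⟩
    have := key x⁻¹ (inv_mem hx) _ hy
    have e : x⁻¹ * (x * y * x⁻¹) * x⁻¹⁻¹ = y := by group
    rwa [e] at this
  have hRT : R.map H.subtype ≤ T := by
    have h5 : IsPGroup 2 (R.map H.subtype ⊔ T : Subgroup G) :=
      IsPGroup.to_sup_of_normal_left' hRG hTp hTn
    have h6 : R.map H.subtype ⊔ T ≤ H := by
      refine sup_le ?_ hTH
      rintro _ ⟨y, -, rfl⟩
      exact y.2
    exact le_sup_left.trans (hT _ h5 le_sup_right h6)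
  -- `R` centralises `N`
  obtain ⟨n, hn, hne⟩ := hm
  apply hne
  have h7 : N ≤ centralizer ({u} : Set G) := by
    refine hN.trans ?_
    rw [Subgroup.closure_le]
    rintro x ⟨h, hh, f, hf, rfl⟩
    rw [SetLike.mem_coe, Subgroup.mem_centralizer_singleton_iff]
    have h8 : h⁻¹ * u * h ∈ T := by
      apply hRT
      refine ⟨⟨h, hh⟩⁻¹ * ⟨u, hu⟩ * (⟨h, hh⟩⁻¹)⁻¹, hRn.conj_mem _ huR _, ?_⟩
      simp
    have h9 := hZT _ h8 f hf
    calc h * f * h⁻¹ * u = h * (f * (h⁻¹ * u * h)) * h⁻¹ := by group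
      _ = h * ((h⁻¹ * u * h) * f) * h⁻¹ := by rw [h9]
      _ = _ := by group
  exact (Subgroup.mem_centralizer_singleton_iff.1 (h7 hn)).symm

/-- `|Z0| ≤ |N : C_N(u)|` -/
theorem card_le [Finite G] {H T Z0 N : Subgroup G} (hTH : T ≤ H) (hTp : IsPGroup 2 T)
    (hT : ∀ R : Subgroup G, IsPGroup 2 R → T ≤ R → R ≤ H → R ≤ T)
    (hZT : ∀ x ∈ T, ∀ f ∈ Z0, x * f = f * x)
    (hN : N ≤ Subgroup.closure {x | ∃ h ∈ H, ∃ f ∈ Z0, h * f * h⁻¹ = x})
    (hNn : ∀ h ∈ H, ∀ n ∈ N, h * n * h⁻¹ ∈ N) (hZN : Z0 ≤ N)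
    {u : G} (hu : u ∈ H) (huu : u * u = 1) (hm : ∃ n ∈ N, u * n ≠ n * u)
    (hA : ∀ f ∈ Z0, f ≠ 1 → ∃ A : Subgroup G, IsPGroup 2 A ∧ (∀ c, c * f = f * c → ∀ a ∈ A, c * a * c⁻¹ ∈ A) ∧
      u ∈ A) :
    Nat.card Z0 ≤ (centralizer ({u} : Set G)).relIndex N := by
  obtain ⟨h, hh, hf⟩ := exists_free hTH hTp hT hZT hN hu huu hm hA
  -- the map f ↦ h⁻¹ f h from Z0 to N / C_N(u) is injective
  rw [Subgroup.relIndex, Subgroup.index]
  refine Nat.card_le_card_of_injective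
    (fun f : Z0 => (QuotientGroup.mk (⟨h⁻¹ * f * h, by
      have := hNn h⁻¹ (inv_mem hh) f (hZN f.2)
      simpa using this⟩ : N) : N ⧸ (centralizer ({u} : Set G)).subgroupOf N)) ?_
  intro a b hab
  have h1 := QuotientGroup.eq.mp hab
  rw [Subgroup.mem_subgroupOf, Subgroup.mem_centralizer_singleton_iff] at h1
  have h2 := hf ((a : G)⁻¹ * b) (mul_mem (inv_mem a.2) b.2) (by
    have e : ((⟨h⁻¹ * (a : G) * h, by
      have := hNn h⁻¹ (inv_mem hh) a (hZN a.2)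
      simpa using this⟩ : N)⁻¹ * (⟨h⁻¹ * (b : G) * h, by
      have := hNn h⁻¹ (inv_mem hh) b (hZN b.2)
      simpa using this⟩ : N) : N) = (h⁻¹ * ((a : G)⁻¹ * b) * h : G) := by
      push_cast
      group
    rw [e] at h1
    calc h * u * h⁻¹ * ((a : G)⁻¹ * b) = h * (u * (h⁻¹ * ((a : G)⁻¹ * b) * h)) * h⁻¹ := by group
      _ = h * ((h⁻¹ * ((a : G)⁻¹ * b) * h) * u) * h⁻¹ := by rw [h1]
      _ = _ := by group)
  apply Subtype.ext
  exact inv_mul_eq_one.mp h2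

/-- **the transvection statement implies `|Z0| ≤ 2`** (`H = C(r)`, `N r = ⟨Z0^{C(r)}⟩`) -/
theorem eq_of_jend [Finite G] {M T Z0 : Subgroup G} {r t c : G} {Q N : G → Subgroup G}
    (h : TvH M r t Q N) (j : JEnd M r Q N c)
    (hTr : ∀ x ∈ T, x * r = r * x) (hTp : IsPGroup 2 T)
    (hT : ∀ R : Subgroup G, IsPGroup 2 R → T ≤ R → (∀ x ∈ R, x * r = r * x) → R ≤ T)
    (hZT : ∀ x ∈ T, ∀ f ∈ Z0, x * f = f * x)
    (hN : N r ≤ Subgroup.closure {x | ∃ g, g * r = r * g ∧ ∃ f ∈ Z0, g * f * g⁻¹ = x})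
    (hZN : Z0 ≤ N r)
    (hMZ : ∀ m ∈ M, ∀ f ∈ Z0, m * f = f * m)
    (hA : ∀ f ∈ Z0, f ≠ 1 → ∃ A : Subgroup G, IsPGroup 2 A ∧ (∀ x, x * f = f * x → ∀ a ∈ A, x * a * x⁻¹ ∈ A) ∧
      r ∈ A) :
    ∀ a ∈ Z0, ∀ b ∈ Z0, a ≠ 1 → b ≠ 1 → a = b := by
  obtain ⟨u, hu, huQ⟩ := h.beta
  have hm : ∃ n ∈ N r, u * n ≠ n * u := by
    by_contra hcon
    push Not at hcon
    exact huQ (h.UN u hu hcon)
  have huH : u ∈ centralizer ({r} : Set G) := by
    rw [Subgroup.mem_centralizer_singleton_iff]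
    exact h.UU_comm hu (Om_le_UU Om_base)
  have hUA : ∀ f ∈ Z0, f ≠ 1 → ∃ A : Subgroup G, IsPGroup 2 A ∧
      (∀ x, x * f = f * x → ∀ a ∈ A, x * a * x⁻¹ ∈ A) ∧ u ∈ A := by
    intro f hf hf1
    obtain ⟨A, hA2, hAn, hrA⟩ := hA f hf hf1
    refine ⟨A, hA2, hAn, ?_⟩
    have : UU M r ≤ A := by
      unfold UU
      rw [Subgroup.closure_le]
      rintro x ⟨m, hm, rfl⟩
      exact hAn m (hMZ m hm f hf) r hrA
    exact this hu
  obtain ⟨g, hg, hf⟩ := exists_free (H := centralizer ({r} : Set G)) (T := T) (Z0 := Z0) (N := N r)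
    (fun x hx => Subgroup.mem_centralizer_singleton_iff.2 (hTr x hx)) hTp
    (fun R hR hTR hRr => hT R hR hTR fun x hx => Subgroup.mem_centralizer_singleton_iff.1 (hRr hx))
    hZT (hN.trans (Subgroup.closure_mono (by
      rintro x ⟨g, hg, f, hf, rfl⟩
      exact ⟨g, Subgroup.mem_centralizer_singleton_iff.2 hg, f, hf, rfl⟩))) huH (h.UU_sq hu) hm hUA
  have hgr : g⁻¹ * r = r * g⁻¹ := by
    have := Subgroup.mem_centralizer_singleton_iff.1 (inv_mem hg)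
    exact this
  have hconj : ∀ a ∈ Z0, g⁻¹ * a * g ∈ N r := by
    intro a ha
    have := (h.N_fix (x := a) hgr).2 (hZN ha)
    simpa using this
  have hmv : ∀ a ∈ Z0, a ≠ 1 → ∃ v ∈ UU M r, v * (g⁻¹ * a * g) ≠ (g⁻¹ * a * g) * v := by
    intro a ha ha1
    refine ⟨u, hu, fun hc => ha1 (hf a ha ?_)⟩
    calc g * u * g⁻¹ * a = g * (u * (g⁻¹ * a * g)) * g⁻¹ := by group
      _ = g * ((g⁻¹ * a * g) * u) * g⁻¹ := by rw [hc]
      _ = _ := by group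
  have hprod : ∀ a ∈ Z0, ∀ b ∈ Z0, a ≠ 1 → b ≠ 1 → a * b = 1 := by
    intro a ha b hb ha1 hb1
    have h1 := j.2.2 _ (hconj a ha) _ (hconj b hb) (hmv a ha ha1) (hmv b hb hb1) u hu
    refine hf _ (mul_mem ha hb) ?_
    have e : g⁻¹ * a * g * (g⁻¹ * b * g) = g⁻¹ * (a * b) * g := by group
    rw [e] at h1
    calc g * u * g⁻¹ * (a * b) = g * (u * (g⁻¹ * (a * b) * g)) * g⁻¹ := by group
      _ = g * ((g⁻¹ * (a * b) * g) * u) * g⁻¹ := by rw [h1]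
      _ = _ := by group
  intro a ha b hb ha1 hb1
  have h1 := hprod a ha a ha ha1 ha1
  have h2 := hprod a ha b hb ha1 hb1
  exact mul_left_cancel (h1.trans h2.symm)

/-- `|Z0| ≤ 2` -/
theorem card_le_two [Finite G] {M T Z0 : Subgroup G} {r t c : G} {Q N : G → Subgroup G}
    (h : TvH M r t Q N) (j : JEnd M r Q N c)
    (hTr : ∀ x ∈ T, x * r = r * x) (hTp : IsPGroup 2 T)
    (hT : ∀ R : Subgroup G, IsPGroup 2 R → T ≤ R → (∀ x ∈ R, x * r = r * x) → R ≤ T)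
    (hZT : ∀ x ∈ T, ∀ f ∈ Z0, x * f = f * x)
    (hN : N r ≤ Subgroup.closure {x | ∃ g, g * r = r * g ∧ ∃ f ∈ Z0, g * f * g⁻¹ = x})
    (hZN : Z0 ≤ N r)
    (hMZ : ∀ m ∈ M, ∀ f ∈ Z0, m * f = f * m)
    (hA : ∀ f ∈ Z0, f ≠ 1 → ∃ A : Subgroup G, IsPGroup 2 A ∧ (∀ x, x * f = f * x → ∀ a ∈ A, x * a * x⁻¹ ∈ A) ∧
      r ∈ A) :
    Nat.card Z0 ≤ 2 := by
  have h1 := eq_of_jend h j hTr hTp hT hZT hN hZN hMZ hA
  classical
  have h2 : Function.Injective (fun a : Z0 => decide ((a : G) = 1)) := by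
    intro a b hab
    simp only [decide_eq_decide] at hab
    by_cases ha : (a : G) = 1
    · exact Subtype.ext (ha.trans (hab.1 ha).symm)
    · exact Subtype.ext (h1 a a.2 b b.2 ha fun hb => ha (hab.2 hb))
  have h3 := Nat.card_le_card_of_injective _ h2
  simpa using h3

end Cfsg.Agent.Omega.IId.BSTrick
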