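import Cfsg.Agent.Omega.FFMutual
import Cfsg.Agent.Omega.FrameMulti

/-!
# Mutual pairs in normal position

* `Pair S S' P P'` : `P ∈ P*(S)`, `P' ∈ P*(S')`, `V' ≤ S`, `V ≤ S'`, `[V, V'] ≠ 1` for `V = zl S P`, `V' = zl S' P'`;
* `exists_pair` : a mutual pair `Mutual S P₁ P₂ x` gives a pair in normal position with `P = P₁`,
  `S' = S^y`, `P' = P₂^y`;
* `NatK.cj`, `SymK.cj`, `cv_cj`, `isNat_cj`, `isSym_cj` : conjugates of typed groups.
-/

set_option autoImplicit false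

namespace Cfsg.Agent.Omega.IId

open Subgroup Pointwise Cfsg Cfsg.Agent.ZN Cfsg.Agent.ZN.ChoiceBase Cfsg.Agent.ZN.ChoiceSit
open Cfsg.Agent.Omega.MinPar Cfsg.Agent.Omega.FrameFF Cfsg.Agent.Omega.FrameMulti
open Cfsg.Agent.Omega.FFThm
open Cfsg.Agent.MinSimple.VModule (zl_comm zl_sq le_normalizer_zl oddGen mem_oddGen)
open Cfsg.Agent.Lib.SL2Mat
open Cfsg.Agent.Omega.NatPair (ap)

universe u

section conj

variable {G : Type u} [Group G]

theorem zl_cj (x : G) (S P : Subgroup G) : zl (cj x S) (cj x P) = cj x (zl S P) :=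
  zl_map _ (MulAut.conj x).injective S P

theorem isParS_cj {S P : Subgroup G} (h : IsParS S P) (x : G) : IsParS (cj x S) (cj x P) :=
  h.map (MulAut.conj x)

theorem oddGen_le_cj (x : G) (P : Subgroup G) : cj x (oddGen P) ≤ oddGen (cj x P) := by
  rw [MinSimple.VModule.oddGen_def]
  change Subgroup.map _ _ ≤ _
  rw [MonoidHom.map_closure, closure_le]
  rintro _ ⟨y, ⟨hy, ho⟩, rfl⟩
  refine mem_oddGen ⟨y, hy, rfl⟩ ?_
  have h1 : orderOf ((MulAut.conj x).toMonoidHom y) = orderOf y :=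
    orderOf_injective _ (MulAut.conj x).injective y
  rw [h1]
  exact ho

theorem oddGen_cj (x : G) (P : Subgroup G) : oddGen (cj x P) = cj x (oddGen P) := by
  refine le_antisymm ?_ (oddGen_le_cj x P)
  have h1 := cj_mono x (oddGen_le_cj x⁻¹ (cj x P))
  rw [cj_cj_inv, cj_inv_cj] at h1
  exact h1

theorem cv_cj (x : G) (S P : Subgroup G) : cv (cj x S) (cj x P) = cj x (cv S P) := by
  rw [cv, cv, cj_inf, zl_cj, oddGen_cj, cj_centralizer]

theorem free_cj {x : G} {S P : Subgroup G} (h : Free S P) : Free (cj x S) (cj x P) := by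
  rw [Free, cv_cj, h]
  exact Subgroup.map_bot _

variable {T H V D : Subgroup G} {k : ℕ}

theorem mem_cj_iff {x v : G} {A : Subgroup G} : v ∈ cj x A ↔ x⁻¹ * v * x ∈ A := mem_cj

/-- Conjugate of a sum of natural modules. -/
def NatK.cj {F : Type} [Field F] (M : NatK F T H V D k) (x : G) :
    NatK F (ChoiceBase.cj x T) (ChoiceBase.cj x H) (ChoiceBase.cj x V) (ChoiceBase.cj x D) k := by
  have acts : ∀ g A, ActsSL M.e V D g A →
      ActsSL (fun v => M.e (x⁻¹ * v * x)) (ChoiceBase.cj x V) (ChoiceBase.cj x D) (x * g * x⁻¹) A := by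
    rintro g A ⟨h1, h2⟩
    refine ⟨fun v hv i => ?_, fun d hd => ?_⟩
    · have h3 := h1 _ (mem_cj.1 hv) i
      have e : x⁻¹ * (x * g * x⁻¹ * v * (x * g * x⁻¹)⁻¹) * x = g * (x⁻¹ * v * x) * g⁻¹ := by group
      change M.e (x⁻¹ * (x * g * x⁻¹ * v * (x * g * x⁻¹)⁻¹) * x) i = ap (A i) (M.e (x⁻¹ * v * x) i)
      rw [e, h3]
    · have h3 := h2 _ (mem_cj.1 hd)
      calc x * g * x⁻¹ * d = x * (g * (x⁻¹ * d * x)) * x⁻¹ := by group
        _ = x * ((x⁻¹ * d * x) * g) * x⁻¹ := by rw [h3]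
        _ = d * (x * g * x⁻¹) := by group
  have acts' : ∀ g A, ActsSL (fun v => M.e (x⁻¹ * v * x)) (ChoiceBase.cj x V) (ChoiceBase.cj x D) g A →
      ActsSL M.e V D (x⁻¹ * g * x) A := by
    rintro g A ⟨h1, h2⟩
    refine ⟨fun v hv i => ?_, fun d hd => ?_⟩
    · have hv' : x * v * x⁻¹ ∈ ChoiceBase.cj x V := by
        rw [mem_cj]
        have e : x⁻¹ * (x * v * x⁻¹) * x = v := by group
        rwa [e]
      have h3 := h1 _ hv' i
      dsimp only at h3
      have e1 : x⁻¹ * (g * (x * v * x⁻¹) * g⁻¹) * x = x⁻¹ * g * x * v * (x⁻¹ * g * x)⁻¹ := by group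
      have e2 : x⁻¹ * (x * v * x⁻¹) * x = v := by group
      rwa [e1, e2] at h3
    · have hd' : x * d * x⁻¹ ∈ ChoiceBase.cj x D := by
        rw [mem_cj]
        have e : x⁻¹ * (x * d * x⁻¹) * x = d := by group
        rwa [e]
      have h3 := h2 _ hd'
      calc x⁻¹ * g * x * d = x⁻¹ * (g * (x * d * x⁻¹)) * x := by group
        _ = x⁻¹ * (x * d * x⁻¹ * g) * x := by rw [h3]
        _ = d * (x⁻¹ * g * x) := by group
  have mem : ∀ {A : Subgroup G} {g : G}, g ∈ A → x * g * x⁻¹ ∈ ChoiceBase.cj x A := by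
    intro A g hg
    exact ⟨g, hg, rfl⟩
  have ex : ∀ v : G, x⁻¹ * (x * v * x⁻¹) * x = v := fun v => by group
  exact
  { e := fun v => M.e (x⁻¹ * v * x)
    mul := fun v hv w hw => by
      have e : x⁻¹ * (v * w) * x = (x⁻¹ * v * x) * (x⁻¹ * w * x) := by group
      rw [e, M.mul _ (mem_cj.1 hv) _ (mem_cj.1 hw)]
    surj := fun y => by
      obtain ⟨v, hv, h1⟩ := M.surj y
      exact ⟨x * v * x⁻¹, mem hv, by rw [ex, h1]⟩
    ker := fun v hv => by
      rw [M.ker _ (mem_cj.1 hv), mem_cj]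
    lift := fun A => by
      obtain ⟨g, hg, h1⟩ := M.lift A
      exact ⟨x * g * x⁻¹, mem hg, acts g A h1⟩
    norm := fun g hg h hh A hA => by
      obtain ⟨B, hB⟩ := M.norm _ (mem_cj.1 hg) _ (mem_cj.1 hh) A fun v hv i => by
        have h3 := hA _ (mem hv) i
        have e1 : x⁻¹ * (h * (x * v * x⁻¹) * h⁻¹) * x = x⁻¹ * h * x * v * (x⁻¹ * h * x)⁻¹ := by group
        rwa [e1, ex] at h3
      refine ⟨B, fun v hv i => ?_⟩
      have h3 := hB _ (mem_cj.1 hv) i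
      have e1 : x⁻¹ * (g * h * g⁻¹ * v * (g * h * g⁻¹)⁻¹) * x =
          x⁻¹ * g * x * (x⁻¹ * h * x) * (x⁻¹ * g * x)⁻¹ * (x⁻¹ * v * x) *
            (x⁻¹ * g * x * (x⁻¹ * h * x) * (x⁻¹ * g * x)⁻¹)⁻¹ := by group
      rw [e1, h3]
    perm := fun g hg => by
      obtain ⟨σ, hσ⟩ := M.perm _ (mem_cj.1 hg)
      refine ⟨σ, fun v hv i => ?_⟩
      have h3 := hσ _ (mem_cj.1 hv) i
      have e1 : x⁻¹ * (g * v * g⁻¹) * x = x⁻¹ * g * x * (x⁻¹ * v * x) * (x⁻¹ * g * x)⁻¹ := by group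
      rw [e1, h3]
    trans := fun i j => by
      obtain ⟨t, ht, h1⟩ := M.trans i j
      refine ⟨x * t * x⁻¹, mem ht, fun v hv => ?_⟩
      have h3 := h1 _ (mem_cj.1 hv)
      have e1 : x⁻¹ * (x * t * x⁻¹ * v * (x * t * x⁻¹)⁻¹) * x = t * (x⁻¹ * v * x) * t⁻¹ := by group
      rw [e1, h3]
    line := fun t ht => by
      obtain ⟨σ, hσ⟩ := M.line _ (mem_cj.1 ht)
      refine ⟨σ, fun v hv i => ?_⟩
      have h3 := hσ _ (mem_cj.1 hv) i
      have e1 : x⁻¹ * (t * v * t⁻¹) * x = x⁻¹ * t * x * (x⁻¹ * v * x) * (x⁻¹ * t * x)⁻¹ := by group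
      rw [e1, h3]
    unip := fun b => by
      obtain ⟨t, ht, h1⟩ := M.unip b
      exact ⟨x * t * x⁻¹, mem ht, acts t _ h1⟩
    gen := fun K hTK hK => by
      have h1 : ChoiceBase.cj x⁻¹ K = ChoiceBase.cj x⁻¹ K := rfl
      have h2 : T ≤ ChoiceBase.cj x⁻¹ K := by
        intro t ht
        rw [mem_cj, inv_inv]
        exact hTK (mem ht)
      have h3 := M.gen (ChoiceBase.cj x⁻¹ K) h2 fun h hh A hA => by
        rw [mem_cj, inv_inv]
        exact hK _ (mem hh) A (acts h A hA)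
      intro g hg
      have h4 := h3 (mem_cj.1 hg)
      rw [mem_cj, inv_inv] at h4
      have e : x * (x⁻¹ * g * x) * x⁻¹ = g := by group
      rwa [e] at h4
    off := fun A hA hoff => by
      have h1 : ChoiceBase.cj x⁻¹ A ≤ T := by
        intro a ha
        rw [mem_cj, inv_inv] at ha
        have := mem_cj.1 (hA ha)
        rwa [ex] at this
      have h2 := off_cj hoff x⁻¹
      rw [cj_inv_cj] at h2
      obtain ⟨I, hI1, hI2⟩ := M.off _ h1 h2
      refine ⟨I, fun a ha => ?_, fun b hb => ?_⟩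
      · have h3 : x⁻¹ * a * x ∈ ChoiceBase.cj x⁻¹ A := by
          rw [mem_cj, inv_inv]
          have e : x * (x⁻¹ * a * x) * x⁻¹ = a := by group
          rwa [e]
        obtain ⟨b, hb, h4⟩ := hI1 _ h3
        refine ⟨b, hb, ?_⟩
        have h5 := acts _ _ h4
        have e : x * (x⁻¹ * a * x) * x⁻¹ = a := by group
        rwa [e] at h5
      · obtain ⟨a, ha, h3⟩ := hI2 b hb
        rw [mem_cj, inv_inv] at ha
        exact ⟨x * a * x⁻¹, ha, acts a _ h3⟩ }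

/-- Conjugate of a sum of even-subset modules. -/
def SymK.cj {m : ℕ} (M : SymK T H V D k m) (x : G) :
    SymK (ChoiceBase.cj x T) (ChoiceBase.cj x H) (ChoiceBase.cj x V) (ChoiceBase.cj x D) k m := by
  have acts : ∀ g σ τ, ActsSym M.e V g σ τ →
      ActsSym (fun v => M.e (x⁻¹ * v * x)) (ChoiceBase.cj x V) (x * g * x⁻¹) σ τ := by
    intro g σ τ h1 v hv i y
    have h3 := h1 _ (mem_cj.1 hv) i y
    have e : x⁻¹ * (x * g * x⁻¹ * v * (x * g * x⁻¹)⁻¹) * x = g * (x⁻¹ * v * x) * g⁻¹ := by group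
    change M.e (x⁻¹ * (x * g * x⁻¹ * v * (x * g * x⁻¹)⁻¹) * x) (σ i) (τ i y) = M.e (x⁻¹ * v * x) i y
    rw [e, h3]
  have mem : ∀ {A : Subgroup G} {g : G}, g ∈ A → x * g * x⁻¹ ∈ ChoiceBase.cj x A := by
    intro A g hg
    exact ⟨g, hg, rfl⟩
  have ex : ∀ v : G, x⁻¹ * (x * v * x⁻¹) * x = v := fun v => by group
  have ex' : ∀ v : G, x * (x⁻¹ * v * x) * x⁻¹ = v := fun v => by group
  have acts' : ∀ g σ τ, ActsSym (fun v => M.e (x⁻¹ * v * x)) (ChoiceBase.cj x V) g σ τ →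
      ActsSym M.e V (x⁻¹ * g * x) σ τ := by
    intro g σ τ h1 v hv i y
    have h3 := h1 _ (mem hv) i y
    have e : x⁻¹ * (g * (x * v * x⁻¹) * g⁻¹) * x = x⁻¹ * g * x * v * (x⁻¹ * g * x)⁻¹ := by group
    change M.e (x⁻¹ * (g * (x * v * x⁻¹) * g⁻¹) * x) (σ i) (τ i y) = M.e (x⁻¹ * (x * v * x⁻¹) * x) i y at h3
    rwa [e, ex] at h3
  have cen : ∀ g, (∀ d ∈ D, g * d = d * g) → ∀ d ∈ ChoiceBase.cj x D, x * g * x⁻¹ * d = d * (x * g * x⁻¹) := by
    intro g h2 d hd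
    have h3 := h2 _ (mem_cj.1 hd)
    calc x * g * x⁻¹ * d = x * (g * (x⁻¹ * d * x)) * x⁻¹ := by group
      _ = x * ((x⁻¹ * d * x) * g) * x⁻¹ := by rw [h3]
      _ = d * (x * g * x⁻¹) := by group
  exact
  { e := fun v => M.e (x⁻¹ * v * x)
    mul := fun v hv w hw => by
      have e : x⁻¹ * (v * w) * x = (x⁻¹ * v * x) * (x⁻¹ * w * x) := by group
      rw [e, M.mul _ (mem_cj.1 hv) _ (mem_cj.1 hw)]
    even := fun v hv i => M.even _ (mem_cj.1 hv) i
    surj := fun y hy => by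
      obtain ⟨v, hv, h1⟩ := M.surj y hy
      exact ⟨x * v * x⁻¹, mem hv, by rw [ex, h1]⟩
    ker := fun v hv => by
      rw [M.ker _ (mem_cj.1 hv), mem_cj]
    lift := fun τ => by
      obtain ⟨g, hg, h1, h2⟩ := M.lift τ
      exact ⟨x * g * x⁻¹, mem hg, acts g _ _ h1, cen g h2⟩
    perm := fun g hg => by
      obtain ⟨σ, τ, h1⟩ := M.perm _ (mem_cj.1 hg)
      refine ⟨σ, τ, ?_⟩
      have h2 := acts _ _ _ h1
      rwa [ex'] at h2
    trans := fun i j => by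
      obtain ⟨t, ht, σ, τ, h1, h2⟩ := M.trans i j
      exact ⟨x * t * x⁻¹, mem ht, σ, τ, acts t _ _ h1, h2⟩
    fix0 := fun t ht σ τ h i => M.fix0 _ (mem_cj.1 ht) σ τ (acts' _ _ _ h) i
    gen := fun K hTK hK => by
      have h2 : T ≤ ChoiceBase.cj x⁻¹ K := by
        intro t ht
        rw [mem_cj, inv_inv]
        exact hTK (mem ht)
      have h3 := M.gen (ChoiceBase.cj x⁻¹ K) h2 fun h hh τ hτ hd => by
        rw [mem_cj, inv_inv]
        exact hK _ (mem hh) τ (acts h _ _ hτ) (cen h hd)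
      intro g hg
      have h4 := h3 (mem_cj.1 hg)
      rw [mem_cj, inv_inv, ex'] at h4
      exact h4
    off := fun A hA hoff => by
      have h1 : ChoiceBase.cj x⁻¹ A ≤ T := by
        intro a ha
        rw [mem_cj, inv_inv] at ha
        have := mem_cj.1 (hA ha)
        rwa [ex] at this
      have h2 := off_cj hoff x⁻¹
      rw [cj_inv_cj] at h2
      obtain ⟨h3, h4⟩ := M.off _ h1 h2
      have hm : ∀ a ∈ A, x⁻¹ * a * x ∈ ChoiceBase.cj x⁻¹ A := fun a ha => by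
        rw [mem_cj, inv_inv, ex']
        exact ha
      refine ⟨fun a ha d hd => ?_, fun a ha => ?_⟩
      · have h5 := cen _ (h3 _ (hm a ha)) d hd
        rwa [ex'] at h5
      · obtain ⟨τ, h5, h6⟩ := h4 _ (hm a ha)
        have h7 := acts _ _ _ h5
        rw [ex'] at h7
        refine ⟨τ, h7, fun i y hy => ?_⟩
        obtain ⟨h8, b, hb, h9⟩ := h6 i y hy
        rw [mem_cj, inv_inv] at hb
        exact ⟨h8, x * b * x⁻¹, hb, acts _ _ _ h9⟩ }

theorem isNat_cj {S P : Subgroup G} {k : ℕ} (h : IsNat S P k) (x : G) : IsNat (ChoiceBase.cj x S) (ChoiceBase.cj x P) k := by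
  obtain ⟨F, i1, i2, i3, ⟨M⟩⟩ := h
  refine ⟨F, i1, i2, i3, ?_⟩
  rw [zl_cj, cv_cj]
  exact ⟨NatK.cj M x⟩

theorem isSym_cj {S P : Subgroup G} {k m : ℕ} (h : IsSym S P k m) (x : G) :
    IsSym (ChoiceBase.cj x S) (ChoiceBase.cj x P) k m := by
  obtain ⟨M⟩ := h
  unfold IsSym
  rw [zl_cj, cv_cj]
  exact ⟨SymK.cj M x⟩

theorem noOver_cj {V H : Subgroup G} (h : NoOver V H) (x : G) :
    NoOver (ChoiceBase.cj x V) (ChoiceBase.cj x H) := by
  intro A hA hAe
  have h1 : ChoiceBase.cj x⁻¹ A ≤ H := by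
    have := cj_mono x⁻¹ hA
    rwa [cj_inv_cj] at this
  have h2 := h (ChoiceBase.cj x⁻¹ A) h1 (isElementaryAbelian_cj x⁻¹ hAe)
  have e1 : Nat.card ↥(ChoiceBase.cj x V ⊓ centralizer (A : Set G)) =
      Nat.card ↥(V ⊓ centralizer (ChoiceBase.cj x⁻¹ A : Set G)) := by
    rw [← card_cj x (V ⊓ centralizer (ChoiceBase.cj x⁻¹ A : Set G)), cj_inf, cj_centralizer, cj_cj_inv]
  have e2 : Nat.card ↥(A ⊓ centralizer (ChoiceBase.cj x V : Set G)) =
      Nat.card ↥(ChoiceBase.cj x⁻¹ A ⊓ centralizer (V : Set G)) := by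
    rw [← card_cj x (ChoiceBase.cj x⁻¹ A ⊓ centralizer (V : Set G)), cj_inf, cj_centralizer, cj_cj_inv]
  rw [e1, e2, card_cj]
  rw [card_cj] at h2
  exact h2

theorem concl_cj {S P : Subgroup G} (h : Concl S P) (x : G) : Concl (ChoiceBase.cj x S) (ChoiceBase.cj x P) := by
  rcases h with ⟨F, i1, i2, i3, k, hk, hN⟩ | ⟨k, m, hk, hm, hS⟩
  · obtain ⟨F', j1, j2, j3, hN'⟩ := isNat_cj (⟨F, i1, i2, i3, hN⟩ : IsNat S P k) x
    exact Or.inl ⟨F', j1, j2, j3, k, hk, hN'⟩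
  · exact Or.inr ⟨k, m, hk, hm, isSym_cj hS x⟩

theorem typed_cj {S P : Subgroup G} (h : Typed S P) (x : G) : Typed (ChoiceBase.cj x S) (ChoiceBase.cj x P) :=
  ⟨by rw [zl_cj]; exact noOver_cj h.noOver x, concl_cj h.concl x⟩

theorem free_cj_iff {x : G} {S P : Subgroup G} : Free (ChoiceBase.cj x S) (ChoiceBase.cj x P) ↔ Free S P := by
  refine ⟨fun h => ?_, free_cj⟩
  have h1 := free_cj (x := x⁻¹) h
  rwa [cj_inv_cj, cj_inv_cj] at h1

end conj

/-! ### Normal position -/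

section pair

variable {G : Type u} [Group G] [Finite G]

/-- A mutual pair in normal position. -/
structure Pair (S S' : Sylow 2 G) (P P' : Subgroup G) : Prop where
  star : IsParS (S : Subgroup G) P
  star' : IsParS (S' : Subgroup G) P'
  le : zl (S' : Subgroup G) P' ≤ S
  le' : zl (S : Subgroup G) P ≤ S'
  ne : ⁅zl (S : Subgroup G) P, zl (S' : Subgroup G) P'⁆ ≠ ⊥

omit [Finite G] in
theorem Pair.symm {S S' : Sylow 2 G} {P P' : Subgroup G} (h : Pair S S' P P') : Pair S' S P' P :=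
  ⟨h.star', h.star, h.le', h.le, fun h0 => h.ne (by rw [commutator_comm, h0])⟩

/-- The Sylow subgroup `S^x`. -/
def sy (x : G) (S : Sylow 2 G) : Sylow 2 G := MulAut.conj x • S

omit [Finite G] in
theorem sy_coe (x : G) (S : Sylow 2 G) : ((sy x S : Sylow 2 G) : Subgroup G) = cj x (S : Subgroup G) :=
  Sylow.coe_subgroup_smul

theorem zl_isPGroup (hc : IsCharacteristicTwoType G) (S : Sylow 2 G) {P : Subgroup G}
    (h : IsLoc (S : Subgroup G) P) : IsPGroup 2 (zl (S : Subgroup G) P) :=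
  isPGroup_of_elem (elem_zl hc S h)

theorem zl_le_sylow (hc : IsCharacteristicTwoType G) (S : Sylow 2 G) {P : Subgroup G}
    (h : IsLoc (S : Subgroup G) P) : zl (S : Subgroup G) P ≤ (S : Subgroup G) :=
  le_of_le_normalizer S (zl_isPGroup hc S h) (h.le.trans (le_normalizer_zl _ _))

/-- **Normal position.** -/
theorem exists_pair (hc : IsCharacteristicTwoType G) (S : Sylow 2 G) {P₁ P₂ : Subgroup G} {x : G}
    (h : Mutual (S : Subgroup G) P₁ P₂ x) :
    ∃ y : G, Mutual (S : Subgroup G) P₁ P₂ y ∧ Pair S (sy y S) P₁ (cj y P₂) := by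
  have hV2 : IsPGroup 2 (zl (S : Subgroup G) P₁) := zl_isPGroup hc S h.star₁.isLoc
  have hW2 : IsPGroup 2 (zl (S : Subgroup G) P₂) := zl_isPGroup hc S h.star₂.isLoc
  have hSV : (S : Subgroup G) ≤ normalizer (zl (S : Subgroup G) P₁ : Set G) :=
    h.star₁.le.trans (le_normalizer_zl _ _)
  have hSW : (S : Subgroup G) ≤ normalizer (zl (S : Subgroup G) P₂ : Set G) :=
    h.star₂.le.trans (le_normalizer_zl _ _)
  have le₁ : zl (S : Subgroup G) P₁ ≤ normalizer ((cj x (zl (S : Subgroup G) P₂) : Subgroup G) : Set G) := h.le₁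
  have le₂ : cj x (zl (S : Subgroup G) P₂) ≤ normalizer (zl (S : Subgroup G) P₁ : Set G) := h.le₂
  have hne : ⁅zl (S : Subgroup G) P₁, cj x (zl (S : Subgroup G) P₂)⁆ ≠ ⊥ := h.ne
  -- move `V'` into `S`
  obtain ⟨n, hn, h1⟩ := exists_conj_le S hSV (isPGroup_cj x hW2) le₂
  rw [cj_cj] at h1
  have e1 : cj n (zl (S : Subgroup G) P₁) = zl (S : Subgroup G) P₁ := cj_eq_of_mem_normalizer hn
  -- `V` normalises the new `V'`
  have h2 : zl (S : Subgroup G) P₁ ≤ normalizer ((cj (n * x) (zl (S : Subgroup G) P₂) : Subgroup G) : Set G) := by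
    have := cj_mono n le₁
    rwa [e1, cj_normalizer, cj_cj] at this
  have h3 : ((sy (n * x) S : Sylow 2 G) : Subgroup G) ≤
      normalizer ((cj (n * x) (zl (S : Subgroup G) P₂) : Subgroup G) : Set G) := by
    rw [sy_coe, ← cj_normalizer]
    exact cj_mono _ hSW
  obtain ⟨m, hm, h4⟩ := exists_conj_le (sy (n * x) S) h3 hV2 h2
  have hm' : m⁻¹ ∈ normalizer ((cj (n * x) (zl (S : Subgroup G) P₂) : Subgroup G) : Set G) := inv_mem hm
  have e2 : cj (m⁻¹ * (n * x)) (zl (S : Subgroup G) P₂) = cj (n * x) (zl (S : Subgroup G) P₂) := by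
    rw [← cj_cj]
    exact cj_eq_of_mem_normalizer hm'
  have h5 : zl (S : Subgroup G) P₁ ≤ ((sy (m⁻¹ * (n * x)) S : Sylow 2 G) : Subgroup G) := by
    rw [sy_coe, ← cj_cj]
    rw [sy_coe, cj_le_iff] at h4
    exact h4
  have hcomm : ⁅zl (S : Subgroup G) P₁, cj (m⁻¹ * (n * x)) (zl (S : Subgroup G) P₂)⁆ ≠ ⊥ := by
    rw [e2]
    intro h0
    apply hne
    have h6 : cj n ⁅zl (S : Subgroup G) P₁, cj x (zl (S : Subgroup G) P₂)⁆ = ⊥ := by
      change Subgroup.map _ _ = _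
      rw [Subgroup.map_commutator]
      change ⁅cj n _, cj n (cj x _)⁆ = _
      rw [e1, cj_cj, h0]
    have h7 := congrArg (cj n⁻¹) h6
    rw [cj_inv_cj] at h7
    rw [h7]
    exact Subgroup.map_bot _
  refine ⟨m⁻¹ * (n * x), ⟨h.star₁, h.star₂, ?_, ?_, hcomm⟩, ⟨h.star₁, ?_, ?_, h5, ?_⟩⟩
  · change _ ≤ normalizer ((cj _ _ : Subgroup G) : Set G)
    rw [e2]
    exact h2
  · change cj _ _ ≤ _
    rw [e2]
    exact h1.trans hSV
  · rw [sy_coe]
    exact isParS_cj h.star₂ _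
  · rw [sy_coe, zl_cj, e2]
    exact h1
  · rw [sy_coe, zl_cj]
    exact hcomm

/-- `V'` is an offender on `V`, if there is no over-offender on `V'`. -/
theorem Pair.off (hc : IsCharacteristicTwoType G) {S S' : Sylow 2 G} {P P' : Subgroup G} (h : Pair S S' P P')
    (hT : NoOver (zl (S' : Subgroup G) P') P') : Off (zl (S : Subgroup G) P) (zl (S' : Subgroup G) P') := by
  refine ⟨elem_zl hc S' h.star'.isLoc, fun h1 => h.ne ?_, ?_⟩
  · rw [commutator_comm, commutator_eq_bot_iff_le_centralizer]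
    exact h1
  · exact hT _ (h.le'.trans h.star'.le) (elem_zl hc S h.star.isLoc)

end pair

end Cfsg.Agent.Omega.IId
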