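import Cfsg.Agent.Omega.Half.Basic
import Cfsg.Agent.Omega.Frame

/-!
# II.d: the structure of a pair of blocks, `k = 2`

`Two S So V₁ V₂ L₁ L₂` : `So ≤ S` of index 2, `V₁, V₂ ≤ So` elementary abelian, commuting, `V₁ ∩ V₂ = 1`,
normalised by `So` and swapped by `S - So`; `Lᵢ` normalises `Vᵢ`, is transitive on `Vᵢ#` and centralises
`V₃₋ᵢ`; `So` is a Sylow 2-subgroup of `Lᵢ So`; `|Ω₁Z(S)| ≤ |C_{Vᵢ}(So)|`; `2 < |Vᵢ|`.

* `Two.symm`, `Two.irr` (`Lᵢ So` is irreducible on `Vᵢ`);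
* `Two.half` : the HALF LEMMA: `V₂ ≤ Z(O₂(H))` for `L₂, So ≤ H ≤ C_G(z)`, `1 ≠ z ∈ V₁`, `H` of
  characteristic 2;
* `Two.full_conj`, `Two.two_cosets`, `Two.eq_or_eq_of_card_two`, ... : generalities.
-/

set_option autoImplicit false
set_option linter.unusedSectionVars false

namespace Cfsg.Agent.Omega.IId

open Subgroup Cfsg Cfsg.Agent.ZN Cfsg.Agent.Omega.MinPar Cfsg.Agent.Omega.Frame
open Cfsg.Agent.MinSimple.VModule
open scoped Pointwise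

universe u

variable {G : Type u} [Group G]

/-! ### Generalities -/

namespace Two

theorem two_cosets [Finite G] {So S : Subgroup G} (h : So ≤ S)
    (hc : Nat.card S = 2 * Nat.card So) :
    ∀ a ∈ S, ∀ b ∈ S, a ∉ So → b ∉ So → a⁻¹ * b ∈ So := by
  have hi : (So.subgroupOf S).index = 2 := by
    have h1 := Half.card_mul_relIndex h
    have h2 : 0 < Nat.card So := Nat.card_pos
    rw [hc, mul_comm 2] at h1
    exact Nat.eq_of_mul_eq_mul_left h2 h1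
  intro a ha b hb ha1 hb1
  have h2 := mul_mem_iff_of_index_two hi (a := (⟨a, ha⟩ : S)⁻¹) (b := ⟨b, hb⟩)
  rw [inv_mem_iff] at h2
  have h3 := h2.mpr (iff_of_false (fun h => ha1 (mem_subgroupOf.mp h))
    (fun h => hb1 (mem_subgroupOf.mp h)))
  exact mem_subgroupOf.mp h3

theorem conj_mem_of_two {So S : Subgroup G} (h : So ≤ S)
    (h2 : ∀ a ∈ S, ∀ b ∈ S, a ∉ So → b ∉ So → a⁻¹ * b ∈ So) {s x : G} (hs : s ∈ S)
    (hx : x ∈ So) : s * x * s⁻¹ ∈ So := by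
  by_cases hs1 : s ∈ So
  · exact mul_mem (mul_mem hs1 hx) (inv_mem hs1)
  by_contra hcon
  have h3 := h2 s hs _ (mul_mem (mul_mem hs (h hx)) (inv_mem hs)) hs1 hcon
  have h4 : s⁻¹ * (s * x * s⁻¹) = x * s⁻¹ := by group
  rw [h4] at h3
  exact hs1 (inv_mem_iff.1 ((mul_mem_cancel_left hx).1 h3))

theorem exists_not_mem [Finite G] {So S : Subgroup G} (h : So ≤ S)
    (hc : Nat.card S = 2 * Nat.card So) : ∃ s ∈ S, s ∉ So := by
  by_contra hcon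
  push Not at hcon
  have h1 : S = So := le_antisymm hcon h
  rw [h1] at hc
  have h2 : 0 < Nat.card So := Nat.card_pos
  omega

theorem le_normalizer_of {K V : Subgroup G} (h : ∀ k ∈ K, ∀ v ∈ V, k * v * k⁻¹ ∈ V) :
    K ≤ normalizer (V : Set G) := by
  intro k hk
  rw [mem_normalizer_iff]
  intro v
  refine ⟨fun hv => h k hk v hv, fun hv => ?_⟩
  have h1 := h k⁻¹ (inv_mem hk) _ hv
  have h2 : k⁻¹ * (k * v * k⁻¹) * k⁻¹⁻¹ = v := by group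
  rwa [h2] at h1

theorem eq_or_eq_of_card_two {A : Subgroup G} (h : Nat.card A = 2) {v x : G} (hv : v ∈ A)
    (hv1 : v ≠ 1) (hx : x ∈ A) : x = 1 ∨ x = v := by
  obtain ⟨y, hy, hu⟩ := (Nat.card_eq_two_iff' (1 : A)).1 h
  by_contra hcon
  push Not at hcon
  have h1 := hu ⟨x, hx⟩ (fun h => hcon.1 (congrArg Subtype.val h))
  have h2 := hu ⟨v, hv⟩ (fun h => hv1 (congrArg Subtype.val h))
  exact hcon.2 (congrArg Subtype.val (h1.trans h2.symm))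

/-- `Full` is invariant under conjugation. -/
theorem full_conj [Finite G] {S T : Sylow 2 G} (hF : Full (S : Subgroup G)) :
    Full (T : Subgroup G) := by
  obtain ⟨g, hg⟩ := MulAction.exists_smul_eq G T S
  have h1 : (S : Subgroup G) = (T : Subgroup G).map (MulAut.conj g).toMonoidHom := by
    rw [← hg]; rfl
  intro Y hY
  have h2 : Y.map (MulAut.conj g).toMonoidHom = ⊤ := by
    apply hF
    intro L hL
    rw [← MinPar.map_symm_map (MulAut.conj g) L]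
    apply Subgroup.map_mono
    apply hY
    rw [← isLoc_map_iff (MulAut.conj g), MinPar.map_symm_map, ← h1]
    exact hL
  have h3 : Y.map (MulAut.conj g).toMonoidHom = (⊤ : Subgroup G).map (MulAut.conj g).toMonoidHom := by
    rw [h2, Subgroup.map_top_of_surjective _ (MulAut.conj g).surjective]
  exact Subgroup.map_injective (MulAut.conj g).injective h3

end Two

/-! ### The structure -/

/-- `S` wreathed over `So`: the members `V₁`, `V₂` of a pair of blocks. -/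
structure Two (S So V₁ V₂ L₁ L₂ : Subgroup G) : Prop where
  SoS : So ≤ S
  card : Nat.card S = 2 * Nat.card So
  V1So : V₁ ≤ So
  V2So : V₂ ≤ So
  c1 : ∀ x ∈ V₁, ∀ y ∈ V₁, x * y = y * x
  c2 : ∀ x ∈ V₂, ∀ y ∈ V₂, x * y = y * x
  q1 : ∀ x ∈ V₁, x ^ 2 = 1
  q2 : ∀ x ∈ V₂, x ^ 2 = 1
  c12 : ∀ x ∈ V₁, ∀ y ∈ V₂, x * y = y * x
  inf : ∀ x ∈ V₁, x ∈ V₂ → x = 1
  So1 : ∀ x ∈ So, ∀ v ∈ V₁, x * v * x⁻¹ ∈ V₁
  So2 : ∀ x ∈ So, ∀ v ∈ V₂, x * v * x⁻¹ ∈ V₂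
  sw1 : ∀ s ∈ S, s ∉ So → ∀ v ∈ V₁, s * v * s⁻¹ ∈ V₂
  sw2 : ∀ s ∈ S, s ∉ So → ∀ v ∈ V₂, s * v * s⁻¹ ∈ V₁
  L1 : ∀ l ∈ L₁, ∀ v ∈ V₁, l * v * l⁻¹ ∈ V₁
  L2 : ∀ l ∈ L₂, ∀ v ∈ V₂, l * v * l⁻¹ ∈ V₂
  L12 : ∀ l ∈ L₁, ∀ v ∈ V₂, l * v = v * l
  L21 : ∀ l ∈ L₂, ∀ v ∈ V₁, l * v = v * l
  t1 : ∀ v ∈ V₁, v ≠ 1 → ∀ w ∈ V₁, w ≠ 1 → ∃ l ∈ L₁, l * v * l⁻¹ = w
  t2 : ∀ v ∈ V₂, v ≠ 1 → ∀ w ∈ V₂, w ≠ 1 → ∃ l ∈ L₂, l * v * l⁻¹ = w
  o1 : ¬ 2 ∣ So.relIndex (L₁ ⊔ So)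
  o2 : ¬ 2 ∣ So.relIndex (L₂ ⊔ So)
  z1 : Nat.card (zc S) ≤ Nat.card (V₁ ⊓ centralizer (So : Set G) : Subgroup G)
  z2 : Nat.card (zc S) ≤ Nat.card (V₂ ⊓ centralizer (So : Set G) : Subgroup G)
  big1 : 2 < Nat.card V₁
  big2 : 2 < Nat.card V₂

namespace Two

variable {S So V₁ V₂ L₁ L₂ : Subgroup G}

theorem symm (h : Two S So V₁ V₂ L₁ L₂) : Two S So V₂ V₁ L₂ L₁ where
  SoS := h.SoS
  card := h.card
  V1So := h.V2So
  V2So := h.V1So
  c1 := h.c2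
  c2 := h.c1
  q1 := h.q2
  q2 := h.q1
  c12 := fun x hx y hy => (h.c12 y hy x hx).symm
  inf := fun x hx hy => h.inf x hy hx
  So1 := h.So2
  So2 := h.So1
  sw1 := h.sw2
  sw2 := h.sw1
  L1 := h.L2
  L2 := h.L1
  L12 := h.L21
  L21 := h.L12
  t1 := h.t2
  t2 := h.t1
  o1 := h.o2
  o2 := h.o1
  z1 := h.z2
  z2 := h.z1
  big1 := h.big2
  big2 := h.big1

variable (h : Two S So V₁ V₂ L₁ L₂)
include h

theorem le_norm : L₂ ⊔ So ≤ normalizer (V₂ : Set G) :=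
  sup_le (le_normalizer_of h.L2) (le_normalizer_of h.So2)

theorem irr (X : Subgroup G) (hX : X ≤ V₂) (hn : L₂ ⊔ So ≤ normalizer (X : Set G)) :
    X = ⊥ ∨ X = V₂ := by
  by_cases h1 : X = ⊥
  · exact Or.inl h1
  right
  obtain ⟨x, hx1⟩ := Subgroup.ne_bot_iff_exists_ne_one.1 h1
  have hx2 : (x : G) ≠ 1 := fun h => hx1 (Subtype.ext h)
  refine le_antisymm hX fun w hw => ?_
  by_cases hw1 : w = 1
  · rw [hw1]; exact one_mem _
  obtain ⟨l, hl, rfl⟩ := h.t2 x (hX x.2) hx2 w hw hw1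
  exact (mem_normalizer_iff.1 (hn (mem_sup_left hl)) _).1 x.2

omit h in
/-- The HALF LEMMA for `C_G(z)`, `1 ≠ z ∈ V₁` central in `So`. -/
theorem half [Finite G] {S : Sylow 2 G} {So V₁ V₂ L₁ L₂ : Subgroup G}
    (h : Two (S : Subgroup G) So V₁ V₂ L₁ L₂) {H : Subgroup G} {z : G} (hz : z ∈ V₁) (hz1 : z ≠ 1)
    (hHz : ∀ x ∈ H, x * z = z * x) (hH : H ⊓ centralizer (ZN.o2 H : Set G) ≤ ZN.o2 H)
    (hSo : So ≤ H) (hL : L₂ ≤ H) :
    V₂ ≤ ZN.o2 H ∧ ZN.o2 H ≤ centralizer (V₂ : Set G) := by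
  have hSo2 : IsPGroup 2 So := S.isPGroup'.to_le h.SoS
  have hV2 : IsPGroup 2 V₂ := hSo2.to_le h.V2So
  have hne : V₂ ≠ ⊥ := by
    intro h0
    have h1 := h.big2
    rw [h0, card_bot] at h1
    omega
  refine Half.half S h.SoS h.card hz1 (h.q1 z hz) (h.V1So hz) hHz hH le_sup_right (sup_le hL hSo)
    h.o2 h.V2So h.le_norm h.c2 h.q2 h.irr ?_ ?_ h.z2
  · rw [eq_bot_iff]
    rintro x ⟨hx, hxc⟩
    rw [mem_bot]
    by_contra hx1
    have h1 : V₂ ≤ zpowers x := by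
      intro w hw
      by_cases hw1 : w = 1
      · rw [hw1]; exact one_mem _
      obtain ⟨l, hl, rfl⟩ := h.t2 x hx hx1 w hw hw1
      have h2 := mem_centralizer_iff.1 hxc l (mem_sup_left hl)
      rw [h2, mul_inv_cancel_right]
      exact mem_zpowers x
    have h2 := card_le_of_le h1
    rw [Nat.card_zpowers] at h2
    have h3 := orderOf_le_of_pow_eq_one (by norm_num) (h.q2 x hx)
    have h4 := h.big2
    omega
  · have h1 : L₂ ⊔ So ≤ normalizer ((V₂ ⊓ centralizer (ZN.o2 (L₂ ⊔ So) : Set G) : Subgroup G) : Set G) := by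
      refine Half.le_normalizer_inf h.le_norm ?_
      apply le_normalizer_of
      intro k hk v hv
      rw [mem_centralizer_iff] at hv ⊢
      intro y hy
      have h2 := (mem_normalizer_iff.1 (inv_mem (le_normalizer_o2 _ hk)) y).1 hy
      have h3 := hv _ h2
      rw [inv_inv] at h3
      calc y * (k * v * k⁻¹) = k * (k⁻¹ * y * k * v) * k⁻¹ := by group
        _ = k * (v * (k⁻¹ * y * k)) * k⁻¹ := by rw [h3]
        _ = k * v * k⁻¹ * y := by group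
    obtain ⟨v, hv, hv1, hvc⟩ := Half.exists_fixed hV2 hne (o2_isPGroup (L₂ ⊔ So))
      ((o2_le _).trans h.le_norm)
    rcases h.irr _ inf_le_left h1 with h2 | h2
    · exfalso
      have h3 : v ∈ V₂ ⊓ centralizer (ZN.o2 (L₂ ⊔ So) : Set G) := by
        refine ⟨hv, mem_centralizer_iff.2 fun y hy => ?_⟩
        exact mul_inv_eq_iff_eq_mul.1 (hvc y hy)
      rw [h2, mem_bot] at h3
      exact hv1 h3
    · intro x hx
      rw [mem_centralizer_iff]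
      intro y hy
      rw [SetLike.mem_coe, ← h2] at hy
      exact (mem_centralizer_iff.1 hy.2 x hx).symm

end Two

end Cfsg.Agent.Omega.IId
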