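import Cfsg.Agent.Omega.IId.Two
import Cfsg.Agent.Lib.GoldschmidtFusion

/-!
# II.d, the triangle (helper113 #13363 (2), helper612 #13524 (1)(a)), `|Z| ≥ 4`

`h : Two S So V₁ V₂ L₁ L₂`, `Zᵢ = C_{Vᵢ}(So)`, `|Zᵢ| ≥ 3`; `Tor h T₁ T₂` : `Tᵢ ≤ N_G(So)` normalises `Zᵢ`, is
transitive on `Zᵢ#` and centralises `Z₃₋ᵢ`.

* `zc_prod` : `Ω₁Z(So) = Z₁Z₂`;
* `trivial_of` : an element of `N_G(So)` which centralises `Z₁` and `Ω₁Z(So)/Z₁` centralises `Ω₁Z(So)`;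
* `norm_two` : an element of `N_G(So)` which normalises `Z₁` normalises `Z₂`;
* `le_So` : a 2-subgroup `T ≥ So` of `G` which normalises `Z₁` is `So` (in particular `So` is a Sylow
  2-subgroup of `N_G(Z₁)`).
-/

set_option autoImplicit false
set_option linter.unusedSectionVars false

namespace Cfsg.Agent.Omega.IId.TriangleQ

open Subgroup Cfsg Cfsg.Agent.ZN Cfsg.Agent.Omega.MinPar Cfsg.Agent.Omega.IId.Two
open Cfsg.Agent.MinSimple.VModule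

universe u

variable {G : Type u} [Group G]

/-- The tori: `Tᵢ ≤ N_G(So)` normalises `Zᵢ = C_{Vᵢ}(So)`, is transitive on `Zᵢ#` and centralises `Z₃₋ᵢ`. -/
structure Tor (So V₁ V₂ T₁ T₂ : Subgroup G) : Prop where
  n1 : T₁ ≤ normalizer (So : Set G)
  n2 : T₂ ≤ normalizer (So : Set G)
  a1 : ∀ a ∈ T₁, ∀ v ∈ V₁ ⊓ centralizer (So : Set G), a * v * a⁻¹ ∈ V₁ ⊓ centralizer (So : Set G)
  a2 : ∀ a ∈ T₂, ∀ v ∈ V₂ ⊓ centralizer (So : Set G), a * v * a⁻¹ ∈ V₂ ⊓ centralizer (So : Set G)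
  t1 : ∀ v ∈ V₁ ⊓ centralizer (So : Set G), v ≠ 1 → ∀ w ∈ V₁ ⊓ centralizer (So : Set G), w ≠ 1 →
    ∃ a ∈ T₁, a * v * a⁻¹ = w
  t2 : ∀ v ∈ V₂ ⊓ centralizer (So : Set G), v ≠ 1 → ∀ w ∈ V₂ ⊓ centralizer (So : Set G), w ≠ 1 →
    ∃ a ∈ T₂, a * v * a⁻¹ = w
  c12 : ∀ a ∈ T₁, ∀ v ∈ V₂ ⊓ centralizer (So : Set G), a * v = v * a
  c21 : ∀ a ∈ T₂, ∀ v ∈ V₁ ⊓ centralizer (So : Set G), a * v = v * a
  big1 : 2 < Nat.card (V₁ ⊓ centralizer (So : Set G) : Subgroup G)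
  big2 : 2 < Nat.card (V₂ ⊓ centralizer (So : Set G) : Subgroup G)

/-- Three elements: besides `1` and `x` there is another one. -/
theorem exists_third [Finite G] {A : Subgroup G} (h : 2 < Nat.card A) (x : G) :
    ∃ y ∈ A, y ≠ 1 ∧ y ≠ x := by
  classical
  by_contra hcon
  push Not at hcon
  have h1 : (A : Set G) ⊆ (({1, x} : Finset G) : Set G) := by
    intro y hy
    rw [Finset.mem_coe, Finset.mem_insert, Finset.mem_singleton]
    by_cases hy1 : y = 1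
    · exact Or.inl hy1
    · exact Or.inr (hcon y hy hy1)
  have h2 := Set.ncard_le_ncard h1 (Finset.finite_toSet _)
  rw [Set.ncard_coe_finset, ← Nat.card_coe_set_eq] at h2
  have h3 : ({1, x} : Finset G).card ≤ 2 := Finset.card_le_two
  have h4 : Nat.card A ≤ 2 := h2.trans h3
  omega

section

variable [Finite G] {S : Sylow 2 G} {So V₁ V₂ L₁ L₂ : Subgroup G}
  (h : IId.Two (S : Subgroup G) So V₁ V₂ L₁ L₂)

include h

theorem z1_le : V₁ ⊓ centralizer (So : Set G) ≤ zc So := fun x hx =>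
  mem_zc.2 ⟨h.V1So hx.1, fun y hy => mem_centralizer_iff.1 hx.2 y hy, h.q1 x hx.1⟩

theorem z2_le : V₂ ⊓ centralizer (So : Set G) ≤ zc So := fun x hx =>
  mem_zc.2 ⟨h.V2So hx.1, fun y hy => mem_centralizer_iff.1 hx.2 y hy, h.q2 x hx.1⟩

theorem S_norm : (S : Subgroup G) ≤ normalizer (So : Set G) :=
  le_normalizer_of fun _ hk _ hy => conj_mem_of_two h.SoS (two_cosets h.SoS h.card) hk hy

theorem conj_cent {s x : G} (hs : s ∈ (S : Subgroup G)) (hx : x ∈ centralizer (So : Set G)) :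
    s * x * s⁻¹ ∈ centralizer (So : Set G) := by
  rw [mem_centralizer_iff] at hx ⊢
  intro y hy
  have h1 : s⁻¹ * y * s ∈ So := by
    have := conj_mem_of_two h.SoS (two_cosets h.SoS h.card) (inv_mem hs) hy
    rwa [inv_inv] at this
  have h2 := hx _ h1
  calc y * (s * x * s⁻¹) = s * (s⁻¹ * y * s * x) * s⁻¹ := by group
    _ = s * x * s⁻¹ * y := by rw [h2]; group

/-- `Ω₁Z(So) = Z₁Z₂` -/
theorem zc_prod {x : G} (hx : x ∈ zc So) : ∃ c ∈ V₁ ⊓ centralizer (So : Set G),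
    ∃ d ∈ V₂ ⊓ centralizer (So : Set G), x = c * d := by
  obtain ⟨s, hs, hsS⟩ := exists_not_mem h.SoS h.card
  have two := two_cosets h.SoS h.card
  have hss : s * s ∈ So := by
    have h1 := two s⁻¹ (inv_mem hs) s hs (fun h1 => hsS (inv_mem_iff.1 h1)) hsS
    rwa [inv_inv] at h1
  have hcc := zc_comm So
  have hsN : s ∈ normalizer (So : Set G) := S_norm h hs
  have hsx : ∀ y ∈ zc So, s * y * s⁻¹ ∈ zc So := fun y hy =>
    (mem_normalizer_iff.1 (normalizer_le_normalizer_zc _ hsN) y).1 hy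
  have key : ∀ y ∈ zc So, s * y * s⁻¹ = y → y ∈ zc (S : Subgroup G) := by
    intro y hy hys
    obtain ⟨hy1, hy2, hy3⟩ := mem_zc.1 hy
    refine mem_zc.2 ⟨h.SoS hy1, ?_, hy3⟩
    intro a ha
    by_cases haS : a ∈ So
    · exact hy2 a haS
    · have h1 := hy2 _ (two s hs a ha hsS haS)
      have h2 : s * y = y * s := mul_inv_eq_iff_eq_mul.1 hys
      calc a * y = s * (s⁻¹ * a * y) := by group
        _ = (s * y) * (s⁻¹ * a) := by rw [h1]; group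
        _ = y * a := by rw [h2]; group
  have hN : ∀ y ∈ zc So, y * (s * y * s⁻¹) ∈ zc (S : Subgroup G) := by
    intro y hy
    apply key _ (mul_mem hy (hsx y hy))
    have h1 : s * s * y = y * (s * s) := (mem_zc.1 hy).2.1 _ hss
    calc s * (y * (s * y * s⁻¹)) * s⁻¹ = (s * y * s⁻¹) * (s * s * y * (s * s)⁻¹) := by group
      _ = (s * y * s⁻¹) * y := by rw [h1]; group
      _ = y * (s * y * s⁻¹) := (hcc _ hy _ (hsx y hy)).symm
  have hZ1 := z1_le h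
  -- `c ↦ c c^s` is a bijection of `Z₁` onto `Ω₁Z(S)`
  let f : (V₁ ⊓ centralizer (So : Set G) : Subgroup G) → zc (S : Subgroup G) :=
    fun c => ⟨(c : G) * (s * c * s⁻¹), hN c (hZ1 c.2)⟩
  have hf : Function.Injective f := by
    intro a b hab
    have h1 : (a : G) * (s * a * s⁻¹) = b * (s * b * s⁻¹) := congrArg Subtype.val hab
    have h2 : (b : G)⁻¹ * a = s * (b * (a : G)⁻¹) * s⁻¹ := by
      calc (b : G)⁻¹ * a = (b : G)⁻¹ * (a * (s * a * s⁻¹)) * (s * a * s⁻¹)⁻¹ := by group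
        _ = s * (b * (a : G)⁻¹) * s⁻¹ := by rw [h1]; group
    have h3 : (b : G)⁻¹ * a ∈ V₂ := by
      rw [h2]
      exact h.sw1 s hs hsS _ (mul_mem b.2.1 (inv_mem a.2.1))
    have h4 := h.inf _ (mul_mem (inv_mem b.2.1) a.2.1) h3
    exact Subtype.ext (inv_mul_eq_one.1 h4).symm
  have hbij : Function.Bijective f :=
    (Nat.bijective_iff_injective_and_card f).2
      ⟨hf, le_antisymm (Nat.card_le_card_of_injective f hf) h.z1⟩
  obtain ⟨c, hc⟩ := hbij.2 ⟨x * (s * x * s⁻¹), hN x hx⟩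
  have hc' : (c : G) * (s * c * s⁻¹) = x * (s * x * s⁻¹) := congrArg Subtype.val hc
  have hsq : ∀ y ∈ zc So, y * y = 1 := fun y hy => by rw [← pow_two]; exact zc_sq _ y hy
  have hcz : (c : G) ∈ zc So := hZ1 c.2
  -- `x c` is fixed by `s`
  have hfix : x * c ∈ zc (S : Subgroup G) := by
    apply key _ (mul_mem hx hcz)
    have h1 : x * c * (s * (x * c) * s⁻¹) = 1 := by
      calc x * c * (s * (x * c) * s⁻¹) = x * (c * (s * x * s⁻¹)) * (s * c * s⁻¹) := by group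
        _ = x * (s * x * s⁻¹) * (c * (s * c * s⁻¹)) := by
            rw [hcc _ hcz _ (hsx x hx)]; group
        _ = x * (s * x * s⁻¹) * (x * (s * x * s⁻¹)) := by rw [hc']
        _ = 1 := by rw [← pow_two]; exact zc_sq _ _ (hN x hx)
    have h2 := hsq _ (mul_mem hx hcz)
    rw [← h2] at h1
    exact mul_left_cancel h1
  obtain ⟨e, he⟩ := hbij.2 ⟨x * c, hfix⟩
  have he' : (e : G) * (s * e * s⁻¹) = x * c := congrArg Subtype.val he
  refine ⟨e * c, mul_mem e.2 c.2, s * e * s⁻¹, ⟨h.sw1 s hs hsS _ e.2.1, conj_cent h hs e.2.2⟩, ?_⟩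
  have hez : (e : G) ∈ zc So := hZ1 e.2
  calc x = x * c * c := by rw [mul_assoc, hsq _ hcz, mul_one]
    _ = e * ((s * e * s⁻¹) * c) := by rw [← he']; group
    _ = e * c * (s * e * s⁻¹) := by rw [hcc _ (hsx _ hez) _ hcz]; group

theorem zc_conj {g x : G} (hg : g ∈ normalizer (So : Set G)) (hx : x ∈ zc So) :
    g * x * g⁻¹ ∈ zc So :=
  (mem_normalizer_iff.1 (normalizer_le_normalizer_zc _ hg) x).1 hx

/-- The elements of `N_G(So)` which centralise `Z₁` and `Ω₁Z(So)/Z₁`. -/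
def UU (So V₁ : Subgroup G) : Subgroup G where
  carrier := {g | g ∈ normalizer (So : Set G) ∧ (∀ v ∈ V₁ ⊓ centralizer (So : Set G), g * v * g⁻¹ = v) ∧
    ∀ x ∈ zc So, g * x * g⁻¹ * x⁻¹ ∈ V₁ ⊓ centralizer (So : Set G)}
  one_mem' := ⟨one_mem _, fun v _ => by simp, fun x _ => by simp⟩
  mul_mem' := by
    rintro a b ⟨ha1, ha2, ha3⟩ ⟨hb1, hb2, hb3⟩
    refine ⟨mul_mem ha1 hb1, fun v hv => ?_, fun x hx => ?_⟩
    · have e : a * b * v * (a * b)⁻¹ = a * (b * v * b⁻¹) * a⁻¹ := by group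
      rw [e, hb2 v hv, ha2 v hv]
    · have e : a * b * x * (a * b)⁻¹ * x⁻¹ = (a * (b * x * b⁻¹ * x⁻¹) * a⁻¹) * (a * x * a⁻¹ * x⁻¹) := by
        group
      rw [e, ha2 _ (hb3 x hx)]
      exact mul_mem (hb3 x hx) (ha3 x hx)
  inv_mem' := by
    rintro a ⟨ha1, ha2, ha3⟩
    have hv : ∀ v ∈ V₁ ⊓ centralizer (So : Set G), a⁻¹ * v * a = v := by
      intro v hv
      have h1 := ha2 v hv
      calc a⁻¹ * v * a = a⁻¹ * (a * v * a⁻¹) * a := by rw [h1]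
        _ = v := by group
    refine ⟨inv_mem ha1, fun v hv' => ?_, fun x hx => ?_⟩
    · rw [inv_inv]; exact hv v hv'
    · have e : a⁻¹ * x * a⁻¹⁻¹ * x⁻¹ = a⁻¹ * (a * x * a⁻¹ * x⁻¹)⁻¹ * a := by group
      rw [e, hv _ (inv_mem (ha3 x hx))]
      exact inv_mem (ha3 x hx)

/-- The elements of `N_G(So)` which centralise `Ω₁Z(So)`. -/
def CC (So : Subgroup G) : Subgroup G := normalizer (So : Set G) ⊓ centralizer (zc So : Set G)

omit h in
theorem mem_CC {g : G} : g ∈ CC So ↔ g ∈ normalizer (So : Set G) ∧ ∀ x ∈ zc So, g * x = x * g := by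
  unfold CC
  rw [mem_inf, mem_centralizer_iff]
  exact and_congr_right fun _ => ⟨fun h1 x hx => (h1 x hx).symm, fun h1 x hx => (h1 x hx).symm⟩

theorem So_le_CC : So ≤ CC So := fun _ hg =>
  mem_CC.2 ⟨le_normalizer hg, fun _ hx => (mem_zc.1 hx).2.1 _ hg⟩

theorem CC_le_UU : CC So ≤ UU So V₁ := by
  intro g hg
  obtain ⟨h1, h2⟩ := mem_CC.1 hg
  refine ⟨h1, fun v hv => mul_inv_eq_iff_eq_mul.2 (h2 v (z1_le h hv)), fun x hx => ?_⟩
  rw [mul_inv_eq_iff_eq_mul.2 (h2 x hx), mul_inv_cancel]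
  exact one_mem _

/-- `|UU : CC| ≤ 2`, because a Sylow 2-subgroup of `N_G(So)/So` has order 2. -/
theorem UU_two {u u' : G} (hu : u ∈ UU So V₁) (hu' : u' ∈ UU So V₁) (h1 : u ∉ CC So) (h2 : u' ∉ CC So) :
    u⁻¹ * u' ∈ CC So := by
  set C := (CC So).subgroupOf (UU So V₁) with hC
  have hn : C.Normal := by
    refine ⟨fun n hn g => ?_⟩
    rw [hC, mem_subgroupOf] at hn ⊢
    obtain ⟨hn1, hn2⟩ := mem_CC.1 hn
    obtain ⟨hg1, hg2, hg3⟩ := g.2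
    refine mem_CC.2 ⟨mul_mem (mul_mem hg1 hn1) (inv_mem hg1), fun x hx => ?_⟩
    have h3 := zc_conj h (inv_mem hg1) hx
    rw [inv_inv] at h3
    have h4 := hn2 _ h3
    show (g : G) * n * (g : G)⁻¹ * x = x * (g * n * (g : G)⁻¹)
    calc (g : G) * n * (g : G)⁻¹ * x = g * (n * ((g : G)⁻¹ * x * g)) * (g : G)⁻¹ := by group
      _ = x * (g * n * (g : G)⁻¹) := by rw [h4]; group
  have hsq : ∀ g : UU So V₁, g * g ∈ C := by
    rintro ⟨g, hg1, hg2, hg3⟩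
    rw [hC, mem_subgroupOf]
    refine mem_CC.2 ⟨mul_mem hg1 hg1, fun x hx => ?_⟩
    show g * g * x = x * (g * g)
    have h3 := hg3 x hx
    have h4 := hg2 _ h3
    have h5 : (g * x * g⁻¹ * x⁻¹) * (g * x * g⁻¹ * x⁻¹) = 1 := by
      rw [← pow_two]; exact h.q1 _ h3.1
    rw [← mul_inv_eq_iff_eq_mul]
    calc g * g * x * (g * g)⁻¹ = (g * (g * x * g⁻¹ * x⁻¹) * g⁻¹) * (g * x * g⁻¹ * x⁻¹) * x := by group
      _ = x := by rw [h4, h5, one_mul]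
  have hp : IsPGroup 2 (UU So V₁ ⧸ C) := by
    intro q
    obtain ⟨g, rfl⟩ := QuotientGroup.mk_surjective q
    refine ⟨1, ?_⟩
    rw [pow_one, pow_two, ← QuotientGroup.mk_mul, QuotientGroup.eq_one_iff]
    exact hsq g
  obtain ⟨n, hn'⟩ := IsPGroup.iff_card.mp hp
  have hidx : C.index = 2 ^ n := hn'
  have hle : n ≤ 1 := by
    by_contra hcon
    push Not at hcon
    have h4 : 4 ∣ C.index := by
      rw [hidx]
      calc 4 = 2 ^ 2 := by norm_num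
        _ ∣ 2 ^ n := pow_dvd_pow 2 hcon
    have h5 : Nat.card (UU So V₁) = Nat.card (CC So) * (CC So).relIndex (UU So V₁) :=
      (Half.card_mul_relIndex (CC_le_UU h)).symm
    have h6 : Nat.card (CC So) = Nat.card So * So.relIndex (CC So) :=
      (Half.card_mul_relIndex (So_le_CC h)).symm
    obtain ⟨k, hk⟩ := h4
    have h7 : (CC So).relIndex (UU So V₁) = 4 * k := hk
    have h8 : Nat.card (S : Subgroup G) * 2 ∣ Nat.card (UU So V₁) := by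
      rw [h5, h6, h7, h.card]
      exact ⟨So.relIndex (CC So) * k, by ring⟩
    have h9 : Nat.card (S : Subgroup G) * 2 ∣ Nat.card G := h8.trans (Subgroup.card_subgroup_dvd_card _)
    rw [← Subgroup.card_mul_index (S : Subgroup G)] at h9
    have : Fact (Nat.Prime 2) := ⟨Nat.prime_two⟩
    exact S.not_dvd_index (Nat.dvd_of_mul_dvd_mul_left Nat.card_pos h9)
  rcases Nat.eq_zero_or_pos n with h0 | h0
  · exfalso
    rw [h0, pow_zero, Subgroup.index_eq_one] at hidx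
    apply h1
    have : (⟨u, hu⟩ : UU So V₁) ∈ C := by rw [hidx]; exact mem_top _
    exact mem_subgroupOf.1 this
  · have h3 : n = 1 := le_antisymm hle h0
    rw [h3, pow_one] at hidx
    have h4 := (mul_mem_iff_of_index_two hidx (a := (⟨u, hu⟩ : UU So V₁)⁻¹) (b := ⟨u', hu'⟩))
    rw [inv_mem_iff] at h4
    exact mem_subgroupOf.1 (h4.2 (iff_of_false (fun h5 => h1 (mem_subgroupOf.1 h5))
      (fun h5 => h2 (mem_subgroupOf.1 h5))))

variable {T₁ T₂ : Subgroup G} (τ : Tor So V₁ V₂ T₁ T₂)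

include τ

theorem T1_zc {a x : G} (ha : a ∈ T₁) (hx : x ∈ zc So) :
    a * x * a⁻¹ * x⁻¹ ∈ V₁ ⊓ centralizer (So : Set G) := by
  obtain ⟨c, hc, d, hd, rfl⟩ := zc_prod h hx
  have h1 : a * d * a⁻¹ = d := mul_inv_eq_iff_eq_mul.2 (τ.c12 a ha d hd)
  have h2 : a * (c * d) * a⁻¹ * (c * d)⁻¹ = (a * c * a⁻¹) * (a * d * a⁻¹ * d⁻¹) * c⁻¹ := by group
  rw [h2, h1, mul_inv_cancel, mul_one]
  exact mul_mem (τ.a1 a ha c hc) (inv_mem hc)

/-- An element of `Z₁` fixed by `T₁` is trivial. -/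
theorem fix_one {c : G} (hc : c ∈ V₁ ⊓ centralizer (So : Set G))
    (hfix : ∀ a ∈ T₁, a * c * a⁻¹ = c) : c = 1 := by
  by_contra hc1
  obtain ⟨y, hy, hy1, hyc⟩ := exists_third τ.big1 c
  obtain ⟨a, ha, hac⟩ := τ.t1 c hc hc1 y hy hy1
  exact hyc (hac.symm.trans (hfix a ha))

/-- An element of `N_G(So)` which centralises `Z₁` and `Ω₁Z(So)/Z₁` centralises `Ω₁Z(So)`. -/
theorem trivial_of {u : G} (hu : u ∈ UU So V₁) : u ∈ CC So := by
  by_contra huC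
  apply huC
  obtain ⟨hu1, hu2, hu3⟩ := hu
  refine mem_CC.2 ⟨hu1, ?_⟩
  -- `u` centralises `Z₂`
  have key : ∀ d ∈ V₂ ⊓ centralizer (So : Set G), u * d = d * u := by
    intro d hd
    have he := hu3 d (z2_le h hd)
    have hfix : ∀ a ∈ T₁, a * (u * d * u⁻¹ * d⁻¹) * a⁻¹ = u * d * u⁻¹ * d⁻¹ := by
      intro a ha
      have haN := τ.n1 ha
      have hau : a * u * a⁻¹ ∈ UU So V₁ := by
        refine ⟨mul_mem (mul_mem haN hu1) (inv_mem haN), fun v hv => ?_, fun x hx => ?_⟩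
        · have h1 := τ.a1 a⁻¹ (inv_mem ha) v hv
          rw [inv_inv] at h1
          have h2 := hu2 _ h1
          calc a * u * a⁻¹ * v * (a * u * a⁻¹)⁻¹ = a * (u * (a⁻¹ * v * a) * u⁻¹) * a⁻¹ := by group
            _ = v := by rw [h2]; group
        · have h1 := zc_conj h (inv_mem haN) hx
          rw [inv_inv] at h1
          have h2 := τ.a1 a ha _ (hu3 _ h1)
          have e : a * u * a⁻¹ * x * (a * u * a⁻¹)⁻¹ * x⁻¹ =
              a * (u * (a⁻¹ * x * a) * u⁻¹ * (a⁻¹ * x * a)⁻¹) * a⁻¹ := by group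
          rw [e]; exact h2
      have hauC : a * u * a⁻¹ ∉ CC So := by
        intro h1
        apply huC
        obtain ⟨h2, h3⟩ := mem_CC.1 h1
        refine mem_CC.2 ⟨hu1, fun x hx => ?_⟩
        have h4 := h3 _ (zc_conj h haN hx)
        calc u * x = a⁻¹ * (a * u * a⁻¹ * (a * x * a⁻¹)) * a := by group
          _ = x * u := by rw [h4]; group
      have hc0 := UU_two h ⟨hu1, hu2, hu3⟩ hau huC hauC
      obtain ⟨-, h5⟩ := mem_CC.1 hc0
      have h6 := h5 d (z2_le h hd)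
      have h7 := τ.c12 a ha d hd
      have h8 : a⁻¹ * d * a = d := by
        calc a⁻¹ * d * a = a⁻¹ * (a * d) := by rw [h7]; group
          _ = d := by group
      -- `(aua⁻¹) d (aua⁻¹)⁻¹ = u d u⁻¹`
      have h9 : (a * u * a⁻¹) * d * (a * u * a⁻¹)⁻¹ = u * d * u⁻¹ := by
        calc (a * u * a⁻¹) * d * (a * u * a⁻¹)⁻¹
            = u * (u⁻¹ * (a * u * a⁻¹) * d) * (a * u * a⁻¹)⁻¹ := by group
          _ = u * d * u⁻¹ := by rw [h6]; group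
      calc a * (u * d * u⁻¹ * d⁻¹) * a⁻¹
          = (a * u * a⁻¹) * (a * d * a⁻¹) * (a * u * a⁻¹)⁻¹ * (a * d * a⁻¹)⁻¹ := by group
        _ = (a * u * a⁻¹) * d * (a * u * a⁻¹)⁻¹ * d⁻¹ := by rw [mul_inv_eq_iff_eq_mul.2 h7]
        _ = u * d * u⁻¹ * d⁻¹ := by rw [h9]
    have h1 := fix_one h τ he hfix
    exact mul_inv_eq_iff_eq_mul.1 (mul_inv_eq_one.1 h1)
  intro x hx
  obtain ⟨c, hc, d, hd, rfl⟩ := zc_prod h hx
  have h1 : u * c = c * u := mul_inv_eq_iff_eq_mul.1 (hu2 c hc)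
  calc u * (c * d) = (u * c) * d := by group
    _ = c * (u * d) := by rw [h1]; group
    _ = c * d * u := by rw [key d hd]; group

/-- An element of `N_G(So)` which normalises `Z₁` normalises `Z₂`. -/
theorem norm_two {w : G} (hw : w ∈ normalizer (So : Set G))
    (hwZ : ∀ v ∈ V₁ ⊓ centralizer (So : Set G), w * v * w⁻¹ ∈ V₁ ⊓ centralizer (So : Set G))
    {z : G} (hz : z ∈ V₂ ⊓ centralizer (So : Set G)) : w * z * w⁻¹ ∈ V₂ ⊓ centralizer (So : Set G) := by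
  have hwN : w ∈ normalizer ((V₁ ⊓ centralizer (So : Set G) : Subgroup G) : Set G) := by
    apply mem_normalizer_of_map_le
    rintro _ ⟨x, hx, rfl⟩
    exact hwZ x hx
  -- conjugates of elements of `T₂` normalise `Z₂`
  have hb : ∀ b ∈ T₂, (∀ v ∈ V₁ ⊓ centralizer (So : Set G), w * b * w⁻¹ * v * (w * b * w⁻¹)⁻¹ = v) ∧
      ∀ d ∈ V₂ ⊓ centralizer (So : Set G),
        w * b * w⁻¹ * d * (w * b * w⁻¹)⁻¹ ∈ V₂ ⊓ centralizer (So : Set G) := by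
    intro b hb
    have hbN : w * b * w⁻¹ ∈ normalizer (So : Set G) := mul_mem (mul_mem hw (τ.n2 hb)) (inv_mem hw)
    have h1 : ∀ v ∈ V₁ ⊓ centralizer (So : Set G), w * b * w⁻¹ * v * (w * b * w⁻¹)⁻¹ = v := by
      intro v hv
      have h2 := (mem_normalizer_iff.1 (inv_mem hwN) v).1 hv
      rw [inv_inv] at h2
      have h3 := mul_inv_eq_iff_eq_mul.2 (τ.c21 b hb _ h2)
      calc w * b * w⁻¹ * v * (w * b * w⁻¹)⁻¹ = w * (b * (w⁻¹ * v * w) * b⁻¹) * w⁻¹ := by group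
        _ = v := by rw [h3]; group
    refine ⟨h1, fun d hd => ?_⟩
    set b' := w * b * w⁻¹ with hb'
    have h1' : ∀ v ∈ V₁ ⊓ centralizer (So : Set G), b'⁻¹ * v * b' = v := by
      intro v hv
      have h2 := h1 v hv
      calc b'⁻¹ * v * b' = b'⁻¹ * (b' * v * b'⁻¹) * b' := by rw [h2]
        _ = v := by group
    -- `[a, b'] ∈ UU`, so it centralises `Ω₁Z(So)`
    have hcomm : ∀ a ∈ T₁, a * b' * a⁻¹ * b'⁻¹ ∈ CC So := by
      intro a ha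
      apply trivial_of h τ
      have haN := τ.n1 ha
      refine ⟨mul_mem (mul_mem (mul_mem haN hbN) (inv_mem haN)) (inv_mem hbN), fun v hv => ?_,
        fun x hx => ?_⟩
      · have h3 := τ.a1 a⁻¹ (inv_mem ha) v hv
        rw [inv_inv] at h3
        calc a * b' * a⁻¹ * b'⁻¹ * v * (a * b' * a⁻¹ * b'⁻¹)⁻¹
            = a * (b' * (a⁻¹ * (b'⁻¹ * v * b') * a) * b'⁻¹) * a⁻¹ := by group
          _ = a * (b' * (a⁻¹ * v * a) * b'⁻¹) * a⁻¹ := by rw [h1' v hv]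
          _ = v := by rw [h1 _ h3]; group
      · -- both factors `a` and `b' a⁻¹ b'⁻¹` are trivial modulo `Z₁`
        have h3 := zc_conj h (inv_mem hbN) hx
        rw [inv_inv] at h3
        have h4 := T1_zc h τ (inv_mem ha) h3
        have h5 : b' * a⁻¹ * b'⁻¹ * x * (b' * a⁻¹ * b'⁻¹)⁻¹ * x⁻¹ ∈ V₁ ⊓ centralizer (So : Set G) := by
          have e : b' * a⁻¹ * b'⁻¹ * x * (b' * a⁻¹ * b'⁻¹)⁻¹ * x⁻¹ =
              b' * (a⁻¹ * (b'⁻¹ * x * b') * a⁻¹⁻¹ * (b'⁻¹ * x * b')⁻¹) * b'⁻¹ := by group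
          rw [e, h1 _ h4]; exact h4
        have h6 : a * b' * a⁻¹ * b'⁻¹ * x * (a * b' * a⁻¹ * b'⁻¹)⁻¹ * x⁻¹ =
            (a * (b' * a⁻¹ * b'⁻¹ * x * (b' * a⁻¹ * b'⁻¹)⁻¹ * x⁻¹) * a⁻¹) * (a * x * a⁻¹ * x⁻¹) := by group
        rw [h6]
        exact mul_mem (τ.a1 a ha _ h5) (T1_zc h τ ha hx)
    have hy := zc_conj h hbN (z2_le h hd)
    have hfix : ∀ a ∈ T₁, a * (b' * d * b'⁻¹) * a⁻¹ = b' * d * b'⁻¹ := by
      intro a ha
      obtain ⟨-, h2⟩ := mem_CC.1 (hcomm a ha)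
      have h3 := h2 _ hy
      have h4 : a⁻¹ * d * a = d := by
        calc a⁻¹ * d * a = a⁻¹ * (a * d) := by rw [τ.c12 a ha d hd]; group
          _ = d := by group
      have h5 : a * d * a⁻¹ = d := mul_inv_eq_iff_eq_mul.2 (τ.c12 a ha d hd)
      calc a * (b' * d * b'⁻¹) * a⁻¹
          = (a * b' * a⁻¹ * b'⁻¹) * (b' * (a * d * a⁻¹) * b'⁻¹) * (a * b' * a⁻¹ * b'⁻¹)⁻¹ := by group
        _ = (a * b' * a⁻¹ * b'⁻¹) * (b' * d * b'⁻¹) * (a * b' * a⁻¹ * b'⁻¹)⁻¹ := by rw [h5]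
        _ = b' * d * b'⁻¹ := by rw [h3]; group
    obtain ⟨c, hc, e, he, hce⟩ := zc_prod h hy
    have hc1 : c = 1 := by
      apply fix_one h τ hc
      intro a ha
      have h2 := hfix a ha
      rw [hce] at h2
      have h3 : a * e * a⁻¹ = e := mul_inv_eq_iff_eq_mul.2 (τ.c12 a ha e he)
      have h4 : a * (c * e) * a⁻¹ = (a * c * a⁻¹) * (a * e * a⁻¹) := by group
      rw [h4, h3] at h2
      exact mul_right_cancel h2
    rw [hce, hc1, one_mul]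
    exact he
  by_cases hz1 : z = 1
  · rw [hz1, mul_one, mul_inv_cancel]; exact one_mem _
  obtain ⟨y, hy, hy1, hyz⟩ := exists_third τ.big2 z
  have hyz1 : y * z ≠ 1 := by
    intro h1
    apply hyz
    have h2 : z * z = 1 := by rw [← pow_two]; exact h.q2 z hz.1
    exact mul_right_cancel (h1.trans h2.symm)
  obtain ⟨b, hbT, hby⟩ := τ.t2 y hy hy1 _ (mul_mem hy hz) hyz1
  obtain ⟨hb1, hb2⟩ := hb b hbT
  obtain ⟨c, hc, d, hd, hcd⟩ := zc_prod h (zc_conj h hw (z2_le h hy))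
  have e1 : w * z * w⁻¹ = (w * y * w⁻¹)⁻¹ * ((w * b * w⁻¹) * (w * y * w⁻¹) * (w * b * w⁻¹)⁻¹) := by
    have h1 : z = y⁻¹ * (b * y * b⁻¹) := by rw [hby]; group
    calc w * z * w⁻¹ = w * (y⁻¹ * (b * y * b⁻¹)) * w⁻¹ := by rw [← h1]
      _ = _ := by group
  have e2 : (w * b * w⁻¹) * (c * d) * (w * b * w⁻¹)⁻¹ =
      c * ((w * b * w⁻¹) * d * (w * b * w⁻¹)⁻¹) := by
    have h1 := hb1 c hc
    calc (w * b * w⁻¹) * (c * d) * (w * b * w⁻¹)⁻¹
        = ((w * b * w⁻¹) * c * (w * b * w⁻¹)⁻¹) * ((w * b * w⁻¹) * d * (w * b * w⁻¹)⁻¹) := by group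
      _ = _ := by rw [h1]
  rw [e1, hcd, e2]
  have e3 : (c * d)⁻¹ * (c * ((w * b * w⁻¹) * d * (w * b * w⁻¹)⁻¹)) =
      d⁻¹ * ((w * b * w⁻¹) * d * (w * b * w⁻¹)⁻¹) := by group
  rw [e3]
  exact mul_mem (inv_mem hd) (hb2 d hd)

/-- The elements of `N_G(So)` which permute `Z₁` and `Z₂`. -/
def MM (So V₁ V₂ : Subgroup G) : Subgroup G where
  carrier := {g | g ∈ normalizer (So : Set G) ∧
    (((∀ v, v ∈ V₁ ⊓ centralizer (So : Set G) ↔ g * v * g⁻¹ ∈ V₁ ⊓ centralizer (So : Set G)) ∧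
      (∀ v, v ∈ V₂ ⊓ centralizer (So : Set G) ↔ g * v * g⁻¹ ∈ V₂ ⊓ centralizer (So : Set G))) ∨
    ((∀ v, v ∈ V₁ ⊓ centralizer (So : Set G) ↔ g * v * g⁻¹ ∈ V₂ ⊓ centralizer (So : Set G)) ∧
      (∀ v, v ∈ V₂ ⊓ centralizer (So : Set G) ↔ g * v * g⁻¹ ∈ V₁ ⊓ centralizer (So : Set G))))}
  one_mem' := ⟨one_mem _, Or.inl ⟨fun v => by simp, fun v => by simp⟩⟩
  mul_mem' := by
    rintro a b ⟨ha, ha'⟩ ⟨hb, hb'⟩
    refine ⟨mul_mem ha hb, ?_⟩
    have e : ∀ v, a * b * v * (a * b)⁻¹ = a * (b * v * b⁻¹) * a⁻¹ := fun v => by group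
    simp only [e]
    rcases ha' with ⟨a1, a2⟩ | ⟨a1, a2⟩ <;> rcases hb' with ⟨b1, b2⟩ | ⟨b1, b2⟩
    · exact Or.inl ⟨fun v => (b1 v).trans (a1 _), fun v => (b2 v).trans (a2 _)⟩
    · exact Or.inr ⟨fun v => (b1 v).trans (a2 _), fun v => (b2 v).trans (a1 _)⟩
    · exact Or.inr ⟨fun v => (b1 v).trans (a1 _), fun v => (b2 v).trans (a2 _)⟩
    · exact Or.inl ⟨fun v => (b1 v).trans (a2 _), fun v => (b2 v).trans (a1 _)⟩
  inv_mem' := by
    rintro a ⟨ha, ha'⟩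
    refine ⟨inv_mem ha, ?_⟩
    have e : ∀ v, a * (a⁻¹ * v * a⁻¹⁻¹) * a⁻¹ = v := fun v => by group
    rcases ha' with ⟨a1, a2⟩ | ⟨a1, a2⟩
    · exact Or.inl ⟨fun v => by rw [a1 (a⁻¹ * v * a⁻¹⁻¹), e], fun v => by rw [a2 (a⁻¹ * v * a⁻¹⁻¹), e]⟩
    · exact Or.inr ⟨fun v => by rw [a2 (a⁻¹ * v * a⁻¹⁻¹), e], fun v => by rw [a1 (a⁻¹ * v * a⁻¹⁻¹), e]⟩

/-- **No Sylow 2-subgroup of `G` containing `So` normalises `Z₁`** (`|Z₁| ≥ 3`). -/
theorem no_sylow {T : Sylow 2 G} (hT : So ≤ (T : Subgroup G))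
    (hTZ : ∀ t ∈ (T : Subgroup G), ∀ v ∈ V₁ ⊓ centralizer (So : Set G),
      t * v * t⁻¹ ∈ V₁ ⊓ centralizer (So : Set G)) : False := by
  have : Fact (Nat.Prime 2) := ⟨Nat.prime_two⟩
  have hcT : Nat.card (T : Subgroup G) = 2 * Nat.card So := by
    rw [← h.card, T.card_eq_multiplicity, S.card_eq_multiplicity]
  have hTN : (T : Subgroup G) ≤ normalizer (So : Set G) :=
    le_normalizer_of fun _ hk _ hy => conj_mem_of_two hT (two_cosets hT hcT) hk hy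
  have hTZ2 : ∀ t ∈ (T : Subgroup G), ∀ v ∈ V₂ ⊓ centralizer (So : Set G),
      t * v * t⁻¹ ∈ V₂ ⊓ centralizer (So : Set G) := fun t ht v hv =>
    norm_two h τ (hTN ht) (hTZ t ht) hv
  have iff_of : ∀ {K Z : Subgroup G}, (∀ k ∈ K, ∀ v ∈ Z, k * v * k⁻¹ ∈ Z) →
      ∀ k ∈ K, ∀ v, v ∈ Z ↔ k * v * k⁻¹ ∈ Z := fun hK k hk v =>
    mem_normalizer_iff.1 (le_normalizer_of hK hk) v
  have hT0 : ∀ t ∈ (T : Subgroup G),
      (∀ v, v ∈ V₁ ⊓ centralizer (So : Set G) ↔ t * v * t⁻¹ ∈ V₁ ⊓ centralizer (So : Set G)) ∧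
      (∀ v, v ∈ V₂ ⊓ centralizer (So : Set G) ↔ t * v * t⁻¹ ∈ V₂ ⊓ centralizer (So : Set G)) :=
    fun t ht => ⟨iff_of hTZ t ht, iff_of hTZ2 t ht⟩
  have hTM : (T : Subgroup G) ≤ MM So V₁ V₂ := fun t ht => ⟨hTN ht, Or.inl (hT0 t ht)⟩
  have hSM : (S : Subgroup G) ≤ MM So V₁ V₂ := by
    intro x hx
    refine ⟨S_norm h hx, ?_⟩
    by_cases hxS : x ∈ So
    · have fix : ∀ {V : Subgroup G}, ∀ v ∈ V ⊓ centralizer (So : Set G), ∀ k ∈ So,
          k * v * k⁻¹ = v := fun v hv k hk =>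
        mul_inv_eq_iff_eq_mul.2 (mem_centralizer_iff.1 hv.2 k hk)
      exact Or.inl ⟨iff_of (K := So) (fun k hk v hv => by rw [fix v hv k hk]; exact hv) x hxS,
        iff_of (K := So) (fun k hk v hv => by rw [fix v hv k hk]; exact hv) x hxS⟩
    · have hxi : x⁻¹ ∉ So := fun h1 => hxS (inv_mem_iff.1 h1)
      refine Or.inr ⟨fun v => ⟨fun hv => ⟨h.sw1 x hx hxS v hv.1, conj_cent h hx hv.2⟩, fun hv => ?_⟩,
        fun v => ⟨fun hv => ⟨h.sw2 x hx hxS v hv.1, conj_cent h hx hv.2⟩, fun hv => ?_⟩⟩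
      · have h1 := h.sw2 x⁻¹ (inv_mem hx) hxi _ hv.1
        have h2 := conj_cent h (inv_mem hx) hv.2
        have e : x⁻¹ * (x * v * x⁻¹) * x⁻¹⁻¹ = v := by group
        rw [e] at h1 h2
        exact ⟨h1, h2⟩
      · have h1 := h.sw1 x⁻¹ (inv_mem hx) hxi _ hv.1
        have h2 := conj_cent h (inv_mem hx) hv.2
        have e : x⁻¹ * (x * v * x⁻¹) * x⁻¹⁻¹ = v := by group
        rw [e] at h1 h2
        exact ⟨h1, h2⟩
  obtain ⟨n, hn, hnS⟩ := Lib.GoldschmidtFusion.exists_conj_le_in (p := 2) T.isPGroup'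
    (MinSimple.Basic.not_dvd_relIndex T hTM) hSM S.isPGroup'
  obtain ⟨s, hs, hsS⟩ := exists_not_mem h.SoS h.card
  have hnsT : n * s * n⁻¹ ∈ (T : Subgroup G) := hnS ⟨s, hs, rfl⟩
  obtain ⟨h1, h2⟩ := hT0 _ hnsT
  -- a nontrivial element of `Z₁`
  obtain ⟨v, hv, hv1, -⟩ := exists_third τ.big1 1
  have hsv : s * v * s⁻¹ ∈ V₂ ⊓ centralizer (So : Set G) := ⟨h.sw1 s hs hsS v hv.1, conj_cent h hs hv.2⟩
  have hcontra : ∀ y, y ∈ V₁ ⊓ centralizer (So : Set G) → y ∈ V₂ ⊓ centralizer (So : Set G) → y = 1 :=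
    fun y hy hy' => h.inf y hy.1 hy'.1
  have e1 : ∀ y, n * s * n⁻¹ * (n * y * n⁻¹) * (n * s * n⁻¹)⁻¹ = n * (s * y * s⁻¹) * n⁻¹ :=
    fun y => by group
  have hsv1 : s * v * s⁻¹ ≠ 1 := by
    intro h3
    apply hv1
    have h4 : v = s⁻¹ * (s * v * s⁻¹) * s := by group
    rw [h4, h3]; group
  have hn1 : n * (s * v * s⁻¹) * n⁻¹ ≠ 1 := by
    intro h3
    apply hsv1
    have h4 : s * v * s⁻¹ = n⁻¹ * (n * (s * v * s⁻¹) * n⁻¹) * n := by group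
    rw [h4, h3]; group
  rcases hn.2 with ⟨n1, n2⟩ | ⟨n1, n2⟩
  · have h3 := (h1 _).1 ((n1 v).1 hv)
    rw [e1] at h3
    exact hn1 (hcontra _ h3 ((n2 _).1 hsv))
  · have h3 := (h2 _).1 ((n1 v).1 hv)
    rw [e1] at h3
    exact hn1 (hcontra _ ((n2 _).1 hsv) h3)

/-- **`So` is the only 2-subgroup `T ≥ So` of `G` which normalises `Z₁`** (`|Z₁| ≥ 3`). -/
theorem le_So {T : Subgroup G} (hT2 : IsPGroup 2 T) (hT : So ≤ T)
    (hTZ : ∀ t ∈ T, ∀ v ∈ V₁ ⊓ centralizer (So : Set G),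
      t * v * t⁻¹ ∈ V₁ ⊓ centralizer (So : Set G)) : T ≤ So := by
  by_contra hcon
  have : Fact (Nat.Prime 2) := ⟨Nat.prime_two⟩
  obtain ⟨Q, hQ⟩ := hT2.exists_le_sylow
  have h1 : Nat.card T ∣ Nat.card (S : Subgroup G) := by
    have h2 : Nat.card (Q : Subgroup G) = Nat.card (S : Subgroup G) := by
      rw [Q.card_eq_multiplicity, S.card_eq_multiplicity]
    rw [← h2]
    exact Subgroup.card_dvd_of_le hQ
  have h3 := Half.card_mul_relIndex hT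
  have h4 : So.relIndex T ∣ 2 := by
    rw [h.card, ← h3, mul_comm 2] at h1
    exact Nat.dvd_of_mul_dvd_mul_left Nat.card_pos h1
  have h5 : So.relIndex T ≠ 1 := fun h5 => hcon (relIndex_eq_one.mp h5)
  have h6 : So.relIndex T = 2 := ((Nat.dvd_prime Nat.prime_two).1 h4).resolve_left h5
  have h7 : T = (Q : Subgroup G) := by
    refine eq_of_le_of_card_ge hQ ?_
    rw [Q.card_eq_multiplicity, ← S.card_eq_multiplicity, h.card, ← h3, h6, mul_comm]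
  subst h7
  exact no_sylow h τ hT hTZ

end

end Cfsg.Agent.Omega.IId.TriangleQ
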