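import Cfsg.Agent.Omega.IId.LineAct
import Cfsg.Agent.Omega.IId.TriangleQ

/-!
# `k = 2` natural factors: the tori `Tor`

`M : NatK F S P (zl S P) ⊥ k`.

* `cent_le_line` : `C_{V_i}(S_i) ≤ line M i` (`S_i = stab M i`);
* `exists_torus` : `N_G(S_i) ∩ N_G(V_i) ∩ C_G(V_j : j ≠ i)`-ish elements are transitive on `C_{V_i}(S_i)#`
  (`exists_torus`: the diagonal elements of `SL₂(F)` with entries fixed by the field automorphisms induced by
  `S_i`, Frattini);
* `tor_of` : the structure `TriangleQ.Tor` for `k = 2`;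
* `zc_le_two` : if `k = 2` and `N_S(V_i)` is not a Sylow 2-subgroup of `N_G(line M i)`, then `|Ω₁Z(S)| ≤ 2`.
-/

set_option autoImplicit false

namespace Cfsg.Agent.Omega.IId

open Subgroup Cfsg Cfsg.Agent.ZN Cfsg.Agent.ZN.ChoiceBase
open Cfsg.Agent.Omega.MinPar Cfsg.Agent.Omega.FFThm
open Cfsg.Agent.MinSimple.VModule (le_normalizer_zl mem_normalizer_of_map_le)
open Cfsg.Agent.Lib.SL2Mat
open Cfsg.Agent.Omega.NatPair (ap ap_mul ap_one ap_inv_ap ap_ap_inv exists_ap ap_add)

universe u

variable {G : Type u} [Group G] {F : Type} [Field F] {P : Subgroup G}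

section tor

variable {S : Subgroup G} {k : ℕ} (M : NatK F S P (zl S P) ⊥ k)

/-- The elements `up b` of the factor `i` are induced by elements of `stab M i`. -/
theorem exists_unip (hSP : S ≤ P) (i : Fin k) (b : F) :
    ∃ u ∈ stab M i, u ∈ grp M {i} ∧ ActsSL M.e (zl S P) ⊥ u (Function.update 1 i (up b)) := by
  classical
  obtain ⟨u, hu, h1⟩ := M.unip (Function.update 0 i b)
  have e : (fun j => up ((Function.update 0 i b : Fin k → F) j)) =
      (Function.update 1 i (up b) : Fin k → Matrix.SpecialLinearGroup (Fin 2) F) := by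
    funext j
    by_cases hj : j = i
    · subst hj
      rw [Function.update_self, Function.update_self]
    · rw [Function.update_of_ne hj, Function.update_of_ne hj, Pi.zero_apply, up_zero, Pi.one_apply]
  rw [e] at h1
  have h2 : u ∈ grp M {i} := ⟨hSP hu, _, h1, fun j hj => Function.update_of_ne hj _ _⟩
  exact ⟨u, ⟨hu, grp_normalizes M {i} {i} h2⟩, h2, h1⟩

/-- `C_{V_i}(S_i) ≤ line M i`. -/
theorem cent_le_line (hSP : S ≤ P) (i : Fin k) :
    fac M i ⊓ centralizer (stab M i : Set G) ≤ line M i := by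
  rintro v ⟨hv, hc⟩
  rw [mem_line]
  refine ⟨hv, ?_⟩
  obtain ⟨u, hu, -, h1⟩ := exists_unip M hSP i 1
  have h2 := mem_centralizer_iff.1 hc u hu
  have h3 := h1.1 v hv.1 i
  have e : u * v * u⁻¹ = v := by rw [h2]; group
  rw [e, Function.update_self] at h3
  have h4 := congrFun h3 0
  rw [NatPair.ap_zero', up_00, up_01, one_mul, one_mul] at h4
  exact left_eq_add.1 h4

theorem normalizer_cent {A X : Subgroup G} {g : G} (h1 : g ∈ normalizer (A : Set G))
    (h2 : g ∈ normalizer (X : Set G)) : g ∈ normalizer ((A ⊓ centralizer (X : Set G) : Subgroup G) : Set G) := by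
  have key : ∀ g, g ∈ normalizer (A : Set G) → g ∈ normalizer (X : Set G) →
      ∀ v ∈ A ⊓ centralizer (X : Set G), g * v * g⁻¹ ∈ A ⊓ centralizer (X : Set G) := by
    rintro g h1 h2 v ⟨hv, hc⟩
    refine ⟨(mem_normalizer_iff.1 h1 v).1 hv, mem_centralizer_iff.2 fun y hy => ?_⟩
    have h3 := (mem_normalizer_iff.1 (inv_mem h2) y).1 hy
    rw [inv_inv] at h3
    have h4 := mem_centralizer_iff.1 hc _ h3
    calc y * (g * v * g⁻¹) = g * (g⁻¹ * y * g * v) * g⁻¹ := by group
      _ = g * v * g⁻¹ * y := by rw [h4]; group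
  rw [mem_normalizer_iff]
  intro v
  refine ⟨key g h1 h2 v, fun hv => ?_⟩
  have h3 := key g⁻¹ (inv_mem h1) (inv_mem h2) _ hv
  have e : g⁻¹ * (g * v * g⁻¹) * g⁻¹⁻¹ = v := by group
  rwa [e] at h3

/-- **The torus**: `N(S_i) ∩ N(V_i)` is transitive on `C_{V_i}(S_i)#`, by elements which centralise the
elements of `V_j`, `j ≠ i`, centralised by `S_i`. -/
theorem exists_torus [Finite G] (hSP : S ≤ P) (hS2 : IsPGroup 2 S) (hSyl : ¬ 2 ∣ S.relIndex P) (i : Fin k)
    {v w : G} (hv : v ∈ fac M i ⊓ centralizer (stab M i : Set G)) (hv1 : v ≠ 1)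
    (hw : w ∈ fac M i ⊓ centralizer (stab M i : Set G)) (hw1 : w ≠ 1) :
    ∃ a ∈ normalizer (stab M i : Set G) ⊓ normalizer (fac M i : Set G) ⊓
      centralizer ((part M {i}ᶜ ⊓ centralizer (stab M i : Set G) : Subgroup G) : Set G),
      a * v * a⁻¹ = w := by
  classical
  have hvl := (mem_line M).1 (cent_le_line M hSP i hv)
  have hwl := (mem_line M).1 (cent_le_line M hSP i hw)
  have hx : M.e v i 0 ≠ 0 := by
    intro h0
    exact hv1 ((fac_eq_one M hv.1).1 (NatPair.ext2 h0 hvl.2))
  have hy : M.e w i 0 ≠ 0 := by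
    intro h0
    exact hw1 ((fac_eq_one M hw.1).1 (NatPair.ext2 h0 hwl.2))
  set l : F := M.e w i 0 / M.e v i 0 with hl
  have hl0 : l ≠ 0 := div_ne_zero hy hx
  obtain ⟨g, hg, h1⟩ := M.lift (Function.update 1 i (dg l hl0))
  have hgrp : g ∈ grp M {i} := ⟨hg, _, h1, fun j hj => Function.update_of_ne hj _ _⟩
  have hgN : g ∈ normalizer (fac M i : Set G) := grp_normalizes M {i} {i} hgrp
  have hgv : g * v * g⁻¹ = w := by
    refine ext_fac M ((mem_normalizer_iff.1 hgN v).1 hv.1) hw.1 ?_
    rw [h1.1 v hv.1.1 i, Function.update_self]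
    apply NatPair.ext2
    · rw [NatPair.ap_zero', dg, mk_00, mk_01, hl, zero_mul, add_zero, div_mul_cancel₀ _ hx]
    · rw [NatPair.ap_one', dg, mk_10, mk_11, hvl.2, hwl.2, zero_mul, mul_zero, add_zero]
  -- `Y = S_i C_P(V)`
  set Y : Subgroup G := stab M i ⊔ grp M ∅ with hY
  have hnE : grp M ∅ ≤ normalizer (fac M i : Set G) := grp_normalizes M ∅ {i}
  have hYP : Y ≤ P := sup_le ((stab_le M i).trans hSP) (grp_le M _)
  have hYN : Y ≤ normalizer (fac M i : Set G) := sup_le (stab_normalizes M i) hnE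
  -- `[t, g] ∈ Y` for `t ∈ S_i`
  have hcom : ∀ t ∈ stab M i, g * t * g⁻¹ ∈ Y := by
    have key : ∀ t ∈ stab M i, t * g * t⁻¹ * g⁻¹ ∈ Y := by
      intro t ht
      have h2 : t * g * t⁻¹ ∈ grp M {i} :=
        (mem_normalizer_iff.1 (stab_normalizes_grp M hSP i ht) g).1 hgrp
      obtain ⟨h2P, B, hB, hB1⟩ := h2
      have hfix : t * g * t⁻¹ * v * (t * g * t⁻¹)⁻¹ = w := by
        have e1 : t⁻¹ * v * t = v := by
          have := mem_centralizer_iff.1 hv.2 t⁻¹ (inv_mem ht)
          calc t⁻¹ * v * t = v * t⁻¹ * t := by rw [this]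
            _ = v := by group
        have e2 : t * w * t⁻¹ = w := by
          have := mem_centralizer_iff.1 hw.2 t ht
          rw [this]; group
        calc t * g * t⁻¹ * v * (t * g * t⁻¹)⁻¹ = t * (g * (t⁻¹ * v * t) * g⁻¹) * t⁻¹ := by group
          _ = w := by rw [e1, hgv, e2]
      have h3 := hB.1 v hv.1.1 i
      rw [hfix] at h3
      have h4 := congrFun h3 0
      have h5 := congrFun h3 1
      rw [NatPair.ap_zero', hvl.2, mul_zero, add_zero] at h4
      rw [NatPair.ap_one', hvl.2, hwl.2, mul_zero, add_zero] at h5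
      have h6 : ent (B i) 1 0 = 0 := (mul_eq_zero.1 h5.symm).resolve_right hx
      have h7 : ent (B i) 0 0 = l := by rw [hl, h4, mul_div_assoc, div_self hx, mul_one]
      have h8 := det_eq (B i)
      rw [h6, h7, mul_zero, sub_zero] at h8
      have h9 : ent (B i) 1 1 = l⁻¹ := eq_inv_of_mul_eq_one_right h8
      obtain ⟨β, hβ⟩ : ∃ β : F, β = ent (B i) 0 1 * l := ⟨_, rfl⟩
      have hBi : B i = up β * dg l hl0 := by
        apply ext_ent
        · rw [ent_mul, up_00, up_01, dg, mk_00, mk_10, h7]; ring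
        · rw [ent_mul, up_00, up_01, dg, mk_01, mk_11, hβ]
          field_simp
          ring
        · rw [ent_mul, up_10, up_11, dg, mk_00, mk_10, h6]; ring
        · rw [ent_mul, up_10, up_11, dg, mk_01, mk_11, h9]; ring
      obtain ⟨u, hu, hug, h10⟩ := exists_unip M hSP i β
      -- `u⁻¹ (t g t⁻¹) g⁻¹` acts trivially
      have h11 : u⁻¹ * (t * g * t⁻¹) * g⁻¹ ∈ grp M ∅ := by
        have h12 := acts_mul (mul_mem (inv_mem hug.1) h2P |> fun _ => inv_mem hg)
          (acts_mul h2P (acts_inv hug.1 h10) hB) (acts_inv hg h1)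
        refine ⟨mul_mem (mul_mem (inv_mem hug.1) h2P) (inv_mem hg), _, h12, fun j _ => ?_⟩
        rw [Pi.mul_apply, Pi.mul_apply, Pi.inv_apply, Pi.inv_apply]
        by_cases hj : j = i
        · subst hj
          rw [Function.update_self, Function.update_self, hBi]
          group
        · rw [Function.update_of_ne hj, Function.update_of_ne hj, hB1 j hj, Pi.one_apply]
          group
      have e : t * g * t⁻¹ * g⁻¹ = u * (u⁻¹ * (t * g * t⁻¹) * g⁻¹) := by group
      rw [e]
      exact mul_mem (mem_sup_left hu) (mem_sup_right h11)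
    intro t ht
    have h2 := key t⁻¹ (inv_mem ht)
    have e : g * t * g⁻¹ = t * (t⁻¹ * g * t⁻¹⁻¹ * g⁻¹) := by group
    rw [e]
    exact mul_mem (mem_sup_left ht) h2
  have hst2 : IsPGroup 2 (stab M i) := hS2.to_le (stab_le M i)
  obtain ⟨c, hc, hcS⟩ := Lib.GoldschmidtFusion.exists_conj_le_in (p := 2) hst2
    (not_dvd_stab M hSP hSyl i le_sup_left hYP hYN : ¬ 2 ∣ (stab M i).relIndex Y)
    (show (stab M i).map (MulAut.conj g).toMonoidHom ≤ Y by
      rintro _ ⟨t, ht, rfl⟩
      exact hcom t ht) (hst2.map _)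
  -- `Y` centralises `C_V(S_i)`
  have hYc : ∀ y ∈ Y, ∀ x ∈ zl S P, x ∈ centralizer (stab M i : Set G) → y * x = x * y := by
    intro y hy x hx hxc
    have h2 : Y ≤ centralizer ({x} : Set G) := by
      refine sup_le ?_ ?_
      · intro t ht
        rw [mem_centralizer_iff]
        intro x' hx'
        rw [Set.mem_singleton_iff.1 hx']
        exact (mem_centralizer_iff.1 hxc t ht).symm
      · intro t ht
        rw [mem_centralizer_iff]
        intro x' hx'
        rw [Set.mem_singleton_iff.1 hx']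
        exact (grp_comm M (Set.disjoint_left.2 fun _ h => h.elim) ht
          (show x ∈ part M Set.univ by rw [part_univ]; exact hx)).symm
    exact (mem_centralizer_iff.1 (h2 hy) x rfl).symm
  have hcv : c * w * c⁻¹ = w := by
    rw [hYc c hc w hw.1.1 hw.2]; group
  have hcgS : ∀ t ∈ stab M i, c * g * t * (c * g)⁻¹ ∈ stab M i := by
    intro t ht
    have h2 : c * (g * t * g⁻¹) * c⁻¹ ∈ stab M i := hcS ⟨g * t * g⁻¹, ⟨t, ht, rfl⟩, rfl⟩
    have e : c * g * t * (c * g)⁻¹ = c * (g * t * g⁻¹) * c⁻¹ := by group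
    rw [e]; exact h2
  refine ⟨c * g, mem_inf.2 ⟨mem_inf.2 ⟨?_, mul_mem (hYN hc) hgN⟩, ?_⟩, ?_⟩
  · apply mem_normalizer_of_map_le
    rintro _ ⟨t, ht, rfl⟩
    exact hcgS t ht
  · rw [mem_centralizer_iff]
    rintro x ⟨hx, hxc⟩
    have h2 : g * x = x * g := grp_comm M (by
      rw [Set.disjoint_left]; intro a ha hb; exact hb ha) hgrp hx
    have h3 := hYc c hc x hx.1 hxc
    calc x * (c * g) = x * c * g := by group
      _ = c * (x * g) := by rw [← h3]; group
      _ = c * g * x := by rw [← h2]; group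
  · calc c * g * v * (c * g)⁻¹ = c * (g * v * g⁻¹) * c⁻¹ := by group
      _ = w := by rw [hgv, hcv]

end tor

section two

variable [Finite G] [Finite F] [CharP F 2]

/-- **The tori**, `k = 2`, `|Ω₁Z(S)| > 2`. -/
theorem tor_of (hc : IsCharacteristicTwoType G) {S : Sylow 2 G} (hP : IsParS (S : Subgroup G) P)
    (M : NatK F (S : Subgroup G) P (zl (S : Subgroup G) P) ⊥ 2) {i j : Fin 2} (hij : i ≠ j)
    (hz : 2 < Nat.card (zc (S : Subgroup G))) :
    TriangleQ.Tor (stab M i) (fac M i) (fac M j)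
      (normalizer (stab M i : Set G) ⊓ normalizer (fac M i : Set G) ⊓
        centralizer ((fac M j ⊓ centralizer (stab M i : Set G) : Subgroup G) : Set G))
      (normalizer (stab M i : Set G) ⊓ normalizer (fac M j : Set G) ⊓
        centralizer ((fac M i ⊓ centralizer (stab M i : Set G) : Subgroup G) : Set G)) := by
  have hSP : (S : Subgroup G) ≤ P := hP.isLoc.le
  have hSyl : ¬ 2 ∣ (S : Subgroup G).relIndex P := MinSimple.Basic.not_dvd_relIndex S hSP
  have h := two_of hc hP M hij
  have hst : stab M i = stab M j := stab_eq M hSP hij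
  exact
  { n1 := inf_le_left.trans inf_le_left
    n2 := inf_le_left.trans inf_le_left
    a1 := fun a ha v hv => (mem_normalizer_iff.1 (normalizer_cent ha.1.2 ha.1.1) v).1 hv
    a2 := fun a ha v hv => (mem_normalizer_iff.1 (normalizer_cent ha.1.2 ha.1.1) v).1 hv
    t1 := fun v hv hv1 w hw hw1 => by
      have h1 := exists_torus M hSP S.isPGroup' hSyl i hv hv1 hw hw1
      rw [compl_eq hij] at h1
      exact h1
    t2 := fun v hv hv1 w hw hw1 => by
      rw [hst] at hv hw ⊢
      have h1 := exists_torus M hSP S.isPGroup' hSyl j hv hv1 hw hw1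
      rw [compl_eq hij.symm] at h1
      exact h1
    c12 := fun a ha v hv => (mem_centralizer_iff.1 ha.2 v hv).symm
    c21 := fun a ha v hv => (mem_centralizer_iff.1 ha.2 v hv).symm
    big1 := lt_of_lt_of_le hz h.z1
    big2 := lt_of_lt_of_le hz h.z2 }

/-- **If `N_S(V_i)` is not a Sylow 2-subgroup of `N_G(R)`, `R = line M i`, then `|Ω₁Z(S)| ≤ 2`.** -/
theorem zc_le_two (hc : IsCharacteristicTwoType G) {S : Sylow 2 G} (hP : IsParS (S : Subgroup G) P)
    (M : NatK F (S : Subgroup G) P (zl (S : Subgroup G) P) ⊥ 2) (i : Fin 2)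
    (h2 : 2 ∣ (stab M i).relIndex (normalizer (line M i : Set G))) :
    Nat.card (zc (S : Subgroup G)) ≤ 2 := by
  by_contra hz
  push Not at hz
  obtain ⟨j, hij⟩ : ∃ j : Fin 2, i ≠ j := ⟨i + 1, by omega⟩
  have hSP : (S : Subgroup G) ≤ P := hP.isLoc.le
  have hR : stab M i ≤ normalizer (line M i : Set G) := stab_normalizes_line M hSP i
  have h := two_of hc hP M hij
  have τ := tor_of hc hP M hij hz
  have : Fact (Nat.Prime 2) := ⟨Nat.prime_two⟩
  -- a 2-subgroup of `N(R)` bigger than `S_i`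
  have hst2 : IsPGroup 2 (stab M i) := S.isPGroup'.to_le (stab_le M i)
  have hst2' : IsPGroup 2 ((stab M i).subgroupOf (normalizer (line M i : Set G))) :=
    hst2.comap_of_injective (Subgroup.subtype _) (Subgroup.subtype_injective _)
  obtain ⟨Q, hQ⟩ := hst2'.exists_le_sylow
  set Q' : Subgroup G := (Q : Subgroup (normalizer (line M i : Set G))).map (Subgroup.subtype _) with hQ'
  have hQ'N : Q' ≤ normalizer (line M i : Set G) := by
    rintro _ ⟨x, -, rfl⟩
    exact x.2
  have hQ'2 : IsPGroup 2 Q' := Q.isPGroup'.map _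
  have hle : stab M i ≤ Q' := by
    intro x hx
    exact ⟨⟨x, hR hx⟩, hQ (mem_subgroupOf.2 hx), rfl⟩
  have hlt : stab M i < Q' := by
    refine lt_of_le_of_ne hle fun h0 => ?_
    have h3 : (stab M i).subgroupOf (normalizer (line M i : Set G)) =
        (Q : Subgroup (normalizer (line M i : Set G))) := by
      rw [h0, hQ']
      exact Subgroup.comap_map_eq_self_of_injective (Subgroup.subtype_injective _) _
    have h4 : (stab M i).relIndex (normalizer (line M i : Set G)) =
        (Q : Subgroup (normalizer (line M i : Set G))).index := by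
      rw [relIndex, h3]
    rw [h4] at h2
    exact Q.not_dvd_index h2
  have hlt' := Lib.GoldschmidtFusion.lt_inf_normalizer hQ'2 hlt
  refine hlt'.not_ge (TriangleQ.le_So h τ (hQ'2.to_le inf_le_left) hlt'.le fun t ht v hv => ?_)
  have e : fac M i ⊓ centralizer (stab M i : Set G) = line M i ⊓ centralizer (stab M i : Set G) :=
    le_antisymm (le_inf (cent_le_line M hSP i) inf_le_right)
      (inf_le_inf_right _ (line_le M i))
  rw [e] at hv ⊢
  exact (mem_normalizer_iff.1 (normalizer_cent (hQ'N ht.1) ht.2) v).1 hv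

end two

end Cfsg.Agent.Omega.IId
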