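import Cfsg.Agent.Omega.IId.Two
import Cfsg.Agent.Omega.NO3S.Main

/-!
# II.d, the triangle (helper113 #13363, helper612 #13524), `|Z| = 2`

`S` a Sylow 2-subgroup of `G` (of characteristic 2 type), `So ≤ S` of index 2, `V₁, V₂ ≤ So` elementary
abelian, swapped by `S - So`, `Lᵢ` transitive on `Vᵢ#` and trivial on `V₃₋ᵢ` (`Two`). `|Ω₁Z(S)| = 2`,
`V₁`, `V₁^g` do not commute and meet nontrivially, `1 ≠ v ∈ C_{V₁}(So)`, and `So` is not a Sylow 2-subgroup of
`C_G(v)`: `So ≤ T ≤ C_G(v)`, `T` a Sylow 2-subgroup of `G` (`Tri`).  Then `N_G(So)` induces `S₃` on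
`Y = Ω₁Z(So)`, `⟨Y^{C_G(v)}⟩` is abelian and `⟨C_G(v), N_G(Y)⟩` is nonlocal.

* `KK u = {g ∈ C_G(u) : [O₂(C_G(u)), g] ≤ ⟨u⟩}`, `KK_conj`, `KK_le_o2`;
* `Tri.nonLocF` : LEMMA F of helper612 #13793 (nonlocality from `[V₁, K_v] ≠ 1`, any partner);
* `Tri.exists_hyp`, `Tri.exists_hypF` : there is `P ∈ P*(T)` with `NO3S.Hyp T P` and `|V_P| = 4`;
* `Tri.known`, `Tri.knownF` : `G` is known by the leaf NO-3S, `q = 2` (`Cfsg.Agent.Omega.NO3S.Two K`).
-/

set_option autoImplicit false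
set_option linter.unusedSectionVars false

namespace Cfsg.Agent.Omega.IId.Triangle

open Subgroup Cfsg Cfsg.Agent.Omega.MinPar Cfsg.Agent.Omega.Frame
open Cfsg.Agent.ZN (o2 zc zl)
open Cfsg.Agent.Omega.FrameNOFF Cfsg.Agent.Omega.NO3S Cfsg.Agent.Omega.IId.Two
open Cfsg.Agent.MinSimple.VModule
open scoped Pointwise

universe u

variable {G : Type u} [Group G]

/-! ### The groups `K_u` -/

section kk

/-- `K_u = {g ∈ C_G(u) : [O₂(C_G(u)), g] ≤ ⟨u⟩}`. -/
def KK (u : G) : Subgroup G where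
  carrier := {g | g * u = u * g ∧
    ∀ x ∈ ZN.o2 (centralizer ({u} : Set G)), g * x * g⁻¹ * x⁻¹ ∈ zpowers u}
  one_mem' := ⟨by simp, fun x _ => by simp⟩
  mul_mem' := by
    rintro g k ⟨hg, hg2⟩ ⟨hk, hk2⟩
    refine ⟨by rw [mul_assoc, hk, ← mul_assoc, hg, mul_assoc], fun x hx => ?_⟩
    have h1 : ∀ y ∈ zpowers u, g * y * g⁻¹ = y := by
      rintro _ ⟨n, rfl⟩
      exact mul_inv_eq_iff_eq_mul.2 ((show Commute g u from hg).zpow_right n).eq
    have e : g * k * x * (g * k)⁻¹ * x⁻¹ =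
        (g * (k * x * k⁻¹ * x⁻¹) * g⁻¹) * (g * x * g⁻¹ * x⁻¹) := by group
    rw [e, h1 _ (hk2 x hx)]
    exact mul_mem (hk2 x hx) (hg2 x hx)
  inv_mem' := by
    rintro g ⟨hg, hg2⟩
    have hg' : g⁻¹ * u = u * g⁻¹ := ((show Commute g u from hg).inv_left).eq
    refine ⟨hg', fun x hx => ?_⟩
    have h1 : ∀ y ∈ zpowers u, g⁻¹ * y * g = y := by
      rintro _ ⟨n, rfl⟩
      have h2 := ((show Commute g⁻¹ u from hg').zpow_right n).eq
      calc g⁻¹ * u ^ n * g = u ^ n * g⁻¹ * g := by rw [h2]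
        _ = u ^ n := by group
    have e : g⁻¹ * x * g⁻¹⁻¹ * x⁻¹ = g⁻¹ * (g * x * g⁻¹ * x⁻¹)⁻¹ * g := by group
    rw [e, h1 _ (inv_mem (hg2 x hx))]
    exact inv_mem (hg2 x hx)

theorem mem_KK {u g : G} : g ∈ KK u ↔ g * u = u * g ∧
    ∀ x ∈ ZN.o2 (centralizer ({u} : Set G)), g * x * g⁻¹ * x⁻¹ ∈ zpowers u := Iff.rfl

theorem mem_zpowers_iff_of_sq {u x : G} (hu : u * u = 1) :
    x ∈ zpowers u ↔ x = 1 ∨ x = u := by
  constructor
  · rintro ⟨n, rfl⟩
    rcases Int.even_or_odd n with ⟨k, rfl⟩ | ⟨k, rfl⟩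
    · left
      show u ^ (k + k) = 1
      rw [← two_mul, zpow_mul, zpow_ofNat, pow_two, hu, one_zpow]
    · right
      show u ^ (2 * k + 1) = u
      rw [zpow_add, zpow_mul, zpow_ofNat, pow_two, hu, one_zpow, one_mul, zpow_one]
  · rintro (rfl | rfl)
    · exact one_mem _
    · exact mem_zpowers _

theorem mem_cent {u x : G} : x ∈ centralizer ({u} : Set G) ↔ x * u = u * x := by
  rw [mem_centralizer_iff]
  constructor
  · intro h
    exact (h u rfl).symm
  · rintro h y rfl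
    exact h.symm

theorem cent_conj (h u : G) : centralizer ({h * u * h⁻¹} : Set G) =
    (centralizer ({u} : Set G)).map (MulAut.conj h).toMonoidHom := by
  ext x
  rw [mem_cent]
  constructor
  · intro hx
    refine ⟨h⁻¹ * x * h, mem_cent.2 ?_, by simp [mul_assoc]⟩
    calc h⁻¹ * x * h * u = h⁻¹ * (x * (h * u * h⁻¹)) * h := by group
      _ = u * (h⁻¹ * x * h) := by rw [hx]; group
  · rintro ⟨y, hy, rfl⟩
    have hy' := mem_cent.1 hy
    show h * y * h⁻¹ * (h * u * h⁻¹) = h * u * h⁻¹ * (h * y * h⁻¹)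
    calc h * y * h⁻¹ * (h * u * h⁻¹) = h * (y * u) * h⁻¹ := by group
      _ = h * u * h⁻¹ * (h * y * h⁻¹) := by rw [hy']; group

theorem o2_cent_conj (h u : G) : ZN.o2 (centralizer ({h * u * h⁻¹} : Set G)) =
    (ZN.o2 (centralizer ({u} : Set G))).map (MulAut.conj h).toMonoidHom := by
  rw [cent_conj]
  exact o2_map_equiv (MulAut.conj h) _

theorem KK_conj {h u k : G} (hk : k ∈ KK u) : h * k * h⁻¹ ∈ KK (h * u * h⁻¹) := by
  obtain ⟨h1, h2⟩ := hk
  refine ⟨?_, ?_⟩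
  · calc h * k * h⁻¹ * (h * u * h⁻¹) = h * (k * u) * h⁻¹ := by group
      _ = h * u * h⁻¹ * (h * k * h⁻¹) := by rw [h1]; group
  · intro x hx
    rw [o2_cent_conj] at hx
    obtain ⟨y, hy, rfl⟩ := hx
    obtain ⟨n, hn⟩ := h2 y hy
    refine ⟨n, ?_⟩
    show (h * u * h⁻¹) ^ n = h * k * h⁻¹ * (h * y * h⁻¹) * (h * k * h⁻¹)⁻¹ * (h * y * h⁻¹)⁻¹
    have hn' : u ^ n = k * y * k⁻¹ * y⁻¹ := hn
    rw [conj_zpow, hn']
    group

theorem isPGroup_two_of' {K : Subgroup G} [Finite K]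
    (h : ∀ k ∈ K, ∀ n : ℕ, Odd n → k ^ n = 1 → k = 1) : IsPGroup 2 K := by
  rcases Nat.eq_two_pow_or_exists_odd_prime_and_dvd (Nat.card K) with ⟨m, hm⟩ | ⟨p, hp, hdvd, hodd⟩
  · exact IsPGroup.of_card hm
  · exfalso
    have : Fact p.Prime := ⟨hp⟩
    obtain ⟨x, hx⟩ := exists_prime_orderOf_dvd_card' p hdvd
    have h1 := h x x.2 p hodd (by
      have h2 := pow_orderOf_eq_one x
      rw [hx] at h2
      have h3 := congrArg Subtype.val h2
      simpa using h3)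
    have h2 : x = 1 := Subtype.ext h1
    rw [h2, orderOf_one] at hx
    exact hp.one_lt.ne hx

/-- `K_u ≤ O₂(C_G(u))` if `C_G(u)` has characteristic 2. -/
theorem KK_le_o2 [Finite G] {u : G} (hu : u * u = 1)
    (hc : centralizer ({u} : Set G) ⊓ centralizer (ZN.o2 (centralizer ({u} : Set G)) : Set G) ≤
      ZN.o2 (centralizer ({u} : Set G))) : KK u ≤ ZN.o2 (centralizer ({u} : Set G)) := by
  apply le_o2 (show KK u ≤ centralizer ({u} : Set G) from fun g hg => mem_cent.2 (mem_KK.1 hg).1)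
  · apply isPGroup_two_of'
    rintro k ⟨hk1, hk2⟩ n hn hkn
    have hcen : ∀ x ∈ ZN.o2 (centralizer ({u} : Set G)), k * x * k⁻¹ = x := by
      intro x hx
      rcases (mem_zpowers_iff_of_sq hu).1 (hk2 x hx) with h1 | h1
      · exact mul_inv_eq_one.1 h1
      · -- `k x k⁻¹ = u x`
        have h2 : k * x * k⁻¹ = u * x := mul_inv_eq_iff_eq_mul.1 h1
        have h3 : ∀ j : ℕ, k ^ j * x * (k ^ j)⁻¹ = u ^ j * x := by
          intro j
          induction j with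
          | zero => simp
          | succ j ih =>
            have h4 : k * u ^ j = u ^ j * k := (show Commute k u from hk1).pow_right j
            calc k ^ (j + 1) * x * (k ^ (j + 1))⁻¹ = k * (k ^ j * x * (k ^ j)⁻¹) * k⁻¹ := by
                  rw [pow_succ' k j]; group
              _ = (k * u ^ j) * x * k⁻¹ := by rw [ih]; group
              _ = u ^ j * (k * x * k⁻¹) := by rw [h4]; group
              _ = u ^ (j + 1) * x := by rw [h2, pow_succ]; group
        have h4 := h3 n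
        rw [hkn] at h4
        have h5 : x = u ^ n * x := by simpa using h4
        obtain ⟨m, rfl⟩ := hn
        have h6 : u ^ (2 * m + 1) = u := by
          rw [pow_add, pow_mul, pow_two, hu, one_pow, one_mul, pow_one]
        rw [h6] at h5
        rw [h2, ← h5]
    have hkQ : k ∈ ZN.o2 (centralizer ({u} : Set G)) :=
      hc ⟨mem_cent.2 hk1, mem_centralizer_iff.2 fun y hy =>
        (mul_inv_eq_iff_eq_mul.1 (hcen y hy)).symm⟩
    obtain ⟨m, hm⟩ := o2_isPGroup (centralizer ({u} : Set G)) ⟨k, hkQ⟩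
    have hm' : k ^ 2 ^ m = 1 := by simpa using congrArg Subtype.val hm
    have h3 : orderOf k ∣ n := orderOf_dvd_of_pow_eq_one hkn
    have h4 : orderOf k ∣ 2 ^ m := orderOf_dvd_of_pow_eq_one hm'
    have h5 : Nat.Coprime n (2 ^ m) := (Nat.Coprime.pow_right m (Nat.coprime_two_right.2 hn))
    exact orderOf_eq_one_iff.1 (Nat.dvd_one.1 (h5 ▸ Nat.dvd_gcd h3 h4))
  · apply le_normalizer_of
    intro c hcu k hk
    have h1 := KK_conj (h := c) hk
    have h2 : c * u * c⁻¹ = u := mul_inv_eq_iff_eq_mul.2 (mem_cent.1 hcu)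
    rwa [h2] at h1

/-- The computation of LEMMA F: `[x, y]` acts as the transvection with the functional of `y` and the centre
of `x`. -/
theorem comm_claim {A : Subgroup G} (hA : ∀ a ∈ A, ∀ b ∈ A, a * b = b * a) {v w x y : G}
    (hv : v ∈ A) (hw : w ∈ A) (hv1 : v ≠ 1) (hv2 : v * v = 1) (hw2 : w * w = 1)
    (hxv : x * v = v * x) (hyw : y * w = w * y) (hyv : y * v = v * y)
    (hxA : ∀ a ∈ A, x * a * x⁻¹ = a ∨ x * a * x⁻¹ = a * v)
    (hyA : ∀ a ∈ A, y * a * y⁻¹ = a ∨ y * a * y⁻¹ = a * w) (hxw : x * w ≠ w * x)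
    {a : G} (ha : a ∈ A) :
    x * y * x⁻¹ * y⁻¹ * a = a * (x * y * x⁻¹ * y⁻¹) ↔ y * a = a * y := by
  have cx : ∀ p q : G, x * (p * q) * x⁻¹ = (x * p * x⁻¹) * (x * q * x⁻¹) := fun p q => by group
  have cy : ∀ p q : G, y * (p * q) * y⁻¹ = (y * p * y⁻¹) * (y * q * y⁻¹) := fun p q => by group
  have xv : x * v * x⁻¹ = v := mul_inv_eq_iff_eq_mul.2 hxv
  have yv : y * v * y⁻¹ = v := mul_inv_eq_iff_eq_mul.2 hyv
  have yw : y * w * y⁻¹ = w := mul_inv_eq_iff_eq_mul.2 hyw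
  have xw : x * w * x⁻¹ = w * v := (hxA w hw).resolve_left fun h => hxw (mul_inv_eq_iff_eq_mul.1 h)
  have hw1 : w ≠ 1 := by
    rintro rfl
    exact hxw (by simp)
  have hvw := hA v hv w hw
  have hav := hA a ha v hv
  have haw := hA a ha w hw
  -- `y a y⁻¹ = b` determines `y⁻¹ a y`, and the same for `x`
  have inv_of : ∀ g p q : G, g * p * g⁻¹ = q → g⁻¹ * q * g = p := by
    intro g p q h
    rw [← h]; group
  have hc : ∀ d e f : G, y⁻¹ * a * y = d → x⁻¹ * d * x = e → y * e * y⁻¹ = f →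
      x * y * x⁻¹ * y⁻¹ * a * (x * y * x⁻¹ * y⁻¹)⁻¹ = x * f * x⁻¹ := by
    rintro d e f rfl rfl rfl
    group
  rcases hyA a ha with h1 | h1
  · refine iff_of_true ?_ (mul_inv_eq_iff_eq_mul.1 h1)
    have h2 : y⁻¹ * a * y = a := inv_of y a a h1
    rw [← mul_inv_eq_iff_eq_mul]
    rcases hxA a ha with h3 | h3
    · rw [hc a a a h2 (inv_of x a a h3) h1, h3]
    · have h4 : x * (a * v) * x⁻¹ = a := by rw [cx, h3, xv, mul_assoc, hv2, mul_one]
      have h5 : y * (a * v) * y⁻¹ = a * v := by rw [cy, h1, yv]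
      rw [hc a (a * v) (a * v) h2 (inv_of x _ _ h4) h5, h4]
  · refine iff_of_false ?_ ?_
    · have h2 : y * (a * w) * y⁻¹ = a := by rw [cy, h1, yw, mul_assoc, hw2, mul_one]
      have h2' := inv_of y _ _ h2
      rw [← mul_inv_eq_iff_eq_mul]
      rcases hxA a ha with h3 | h3
      · have h4 : x * (a * w * v) * x⁻¹ = a * w := by
          rw [cx, cx, h3, xw, xv]
          calc a * (w * v) * v = a * w * (v * v) := by group
            _ = a * w := by rw [hv2, mul_one]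
        have h5 : y * (a * w * v) * y⁻¹ = a * v := by
          rw [cy, cy, h1, yw, yv]
          calc a * w * w * v = a * (w * w) * v := by group
            _ = a * v := by rw [hw2, mul_one]
        rw [hc _ _ _ h2' (inv_of x _ _ h4) h5, cx, h3, xv]
        intro h6
        exact hv1 (mul_eq_left.1 h6)
      · have h4 : x * (a * w) * x⁻¹ = a * w := by
          rw [cx, h3, xw]
          calc a * v * (w * v) = a * (v * w) * v := by group
            _ = a * w * (v * v) := by rw [hvw]; group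
            _ = a * w := by rw [hv2, mul_one]
        rw [hc _ _ _ h2' (inv_of x _ _ h4) h2, h3]
        intro h6
        exact hv1 (mul_eq_left.1 h6)
    · intro h2
      apply hw1
      have h3 : y * a * y⁻¹ = a := mul_inv_eq_iff_eq_mul.2 h2
      rw [h3] at h1
      exact mul_eq_left.1 h1.symm

end kk

/-- The triangle: `So` is not a Sylow 2-subgroup of `C_G(v)`. -/
structure Tri [Finite G] (S T : Sylow 2 G) (So V₁ V₂ L₁ L₂ : Subgroup G) (s v : G) : Prop
    extends IId.Two (S : Subgroup G) So V₁ V₂ L₁ L₂ where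
  zcS : Nat.card (zc (S : Subgroup G)) = 2
  sS : s ∈ (S : Subgroup G)
  sSo : s ∉ So
  vV : v ∈ V₁
  v1 : v ≠ 1
  vSo : ∀ x ∈ So, x * v = v * x
  SoT : So ≤ (T : Subgroup G)
  Tv : ∀ x ∈ (T : Subgroup G), x * v = v * x

namespace Tri

variable [Finite G] {S T : Sylow 2 G} {So V₁ V₂ L₁ L₂ : Subgroup G} {s v : G}
  (h : Tri S T So V₁ V₂ L₁ L₂ s v)

include h

theorem two : ∀ a ∈ (S : Subgroup G), ∀ b ∈ (S : Subgroup G), a ∉ So → b ∉ So → a⁻¹ * b ∈ So :=
  two_cosets h.SoS h.card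

theorem card_T : Nat.card (T : Subgroup G) = Nat.card (S : Subgroup G) := by
  have : Fact (Nat.Prime 2) := ⟨Nat.prime_two⟩
  rw [T.card_eq_multiplicity, S.card_eq_multiplicity]

theorem twoT : ∀ a ∈ (T : Subgroup G), ∀ b ∈ (T : Subgroup G), a ∉ So → b ∉ So → a⁻¹ * b ∈ So :=
  two_cosets h.SoT (h.card_T.trans h.card)

theorem ss : s * s ∈ So := by
  have h1 := h.two s⁻¹ (inv_mem h.sS) s h.sS (fun h1 => h.sSo (inv_mem_iff.1 h1)) h.sSo
  rwa [inv_inv] at h1

theorem conjS {x : G} (hx : x ∈ So) : s * x * s⁻¹ ∈ So := conj_mem_of_two h.SoS h.two h.sS hx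

theorem conjS' {x : G} (hx : x ∈ So) : s⁻¹ * x * s ∈ So := by
  have h1 := conj_mem_of_two h.SoS h.two (inv_mem h.sS) hx
  rwa [inv_inv] at h1

theorem wV : s * v * s⁻¹ ∈ V₂ := h.sw1 s h.sS h.sSo v h.vV

theorem w1 : s * v * s⁻¹ ≠ 1 := by
  intro h1
  apply h.v1
  have h2 : v = s⁻¹ * (s * v * s⁻¹) * s := by group
  rw [h2, h1]; group

theorem wSo {x : G} (hx : x ∈ So) : x * (s * v * s⁻¹) = s * v * s⁻¹ * x := by
  have h1 := h.vSo _ (h.conjS' hx)
  calc x * (s * v * s⁻¹) = s * (s⁻¹ * x * s * v) * s⁻¹ := by group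
    _ = s * (v * (s⁻¹ * x * s)) * s⁻¹ := by rw [h1]
    _ = s * v * s⁻¹ * x := by group

theorem v_zc : v ∈ zc So := mem_zc.2 ⟨h.V1So h.vV, h.vSo, h.q1 v h.vV⟩

theorem w_zc : s * v * s⁻¹ ∈ zc So := mem_zc.2 ⟨h.V2So h.wV, fun _ hy => h.wSo hy, h.q2 _ h.wV⟩

theorem sws : s * (s * v * s⁻¹) * s⁻¹ = v := by
  have h1 := h.vSo _ h.ss
  calc s * (s * v * s⁻¹) * s⁻¹ = s * s * v * (s * s)⁻¹ := by group
    _ = v := by rw [h1]; group

theorem vw : v ≠ s * v * s⁻¹ := by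
  intro h1
  apply h.v1
  apply h.inf v h.vV
  rw [h1]
  exact h.wV

theorem vv : v * v = 1 := by rw [← pow_two]; exact h.q1 v h.vV

theorem ww : s * v * s⁻¹ * (s * v * s⁻¹) = 1 := by rw [← pow_two]; exact h.q2 _ h.wV

theorem vwc : v * (s * v * s⁻¹) = s * v * s⁻¹ * v := h.c12 v h.vV _ h.wV

theorem zne : v * (s * v * s⁻¹) ≠ 1 := by
  intro h1
  apply h.vw
  exact mul_right_cancel (h1.trans h.ww.symm)

theorem zS : v * (s * v * s⁻¹) ∈ zc (S : Subgroup G) := by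
  refine mem_zc.2 ⟨mul_mem (h.SoS (h.V1So h.vV)) (h.SoS (h.V2So h.wV)), ?_, ?_⟩
  · have key : ∀ y ∈ So, y * (v * (s * v * s⁻¹)) = v * (s * v * s⁻¹) * y := by
      intro y hy
      calc y * (v * (s * v * s⁻¹)) = (y * v) * (s * v * s⁻¹) := by group
        _ = v * (y * (s * v * s⁻¹)) := by rw [h.vSo y hy]; group
        _ = v * (s * v * s⁻¹) * y := by rw [h.wSo hy]; group
    have ks : s * (v * (s * v * s⁻¹)) = v * (s * v * s⁻¹) * s := by
      calc s * (v * (s * v * s⁻¹)) = (s * v * s⁻¹) * (s * (s * v * s⁻¹) * s⁻¹) * s := by group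
        _ = v * (s * v * s⁻¹) * s := by rw [h.sws, h.vwc]
    intro y hy
    by_cases hyS : y ∈ So
    · exact key y hyS
    · have h1 := key _ (h.two s h.sS y hy h.sSo hyS)
      calc y * (v * (s * v * s⁻¹)) = s * (s⁻¹ * y * (v * (s * v * s⁻¹))) := by group
        _ = s * (v * (s * v * s⁻¹)) * (s⁻¹ * y) := by rw [h1]; group
        _ = v * (s * v * s⁻¹) * y := by rw [ks]; group
  · rw [pow_two]
    calc v * (s * v * s⁻¹) * (v * (s * v * s⁻¹)) = v * ((s * v * s⁻¹) * v) * (s * v * s⁻¹) := by group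
      _ = (v * v) * ((s * v * s⁻¹) * (s * v * s⁻¹)) := by rw [← h.vwc]; group
      _ = 1 := by rw [h.vv, h.ww, one_mul]

theorem zcS_cases {x : G} (hx : x ∈ zc (S : Subgroup G)) : x = 1 ∨ x = v * (s * v * s⁻¹) :=
  eq_or_eq_of_card_two h.zcS h.zS h.zne hx

/-- (1) `Ω₁Z(So)` is a four-group. -/
theorem zcSo_cases {x : G} (hx : x ∈ zc So) :
    x = 1 ∨ x = v ∨ x = s * v * s⁻¹ ∨ x = v * (s * v * s⁻¹) := by
  -- the elements fixed by `s`
  have key : ∀ y ∈ zc So, s * y * s⁻¹ = y → y = 1 ∨ y = v * (s * v * s⁻¹) := by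
    intro y hy hys
    obtain ⟨hy1, hy2, hy3⟩ := mem_zc.1 hy
    apply h.zcS_cases
    refine mem_zc.2 ⟨h.SoS hy1, ?_, hy3⟩
    intro a ha
    by_cases haS : a ∈ So
    · exact hy2 a haS
    · have h1 := hy2 _ (h.two s h.sS a ha h.sSo haS)
      have h2 : s * y = y * s := mul_inv_eq_iff_eq_mul.1 hys
      calc a * y = s * (s⁻¹ * a * y) := by group
        _ = (s * y) * (s⁻¹ * a) := by rw [h1]; group
        _ = y * a := by rw [h2]; group
  have hs : ∀ y ∈ zc So, s * y * s⁻¹ ∈ zc So := by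
    intro y hy
    have h1 : s ∈ normalizer (So : Set G) := by
      rw [mem_normalizer_iff]
      intro a
      refine ⟨fun ha => h.conjS ha, fun ha => ?_⟩
      have h2 := h.conjS' ha
      have h3 : s⁻¹ * (s * a * s⁻¹) * s = a := by group
      rwa [h3] at h2
    exact (mem_normalizer_iff.1 (normalizer_le_normalizer_zc _ h1) y).1 hy
  have hcc := zc_comm So
  have hsq : ∀ y ∈ zc So, y * y = 1 := fun y hy => by rw [← pow_two]; exact zc_sq _ y hy
  have hN : ∀ y ∈ zc So, y * (s * y * s⁻¹) = 1 ∨ y * (s * y * s⁻¹) = v * (s * v * s⁻¹) := by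
    intro y hy
    apply key _ (mul_mem hy (hs y hy))
    have h1 : s * s * y = y * (s * s) := (mem_zc.1 hy).2.1 _ h.ss
    calc s * (y * (s * y * s⁻¹)) * s⁻¹ = (s * y * s⁻¹) * (s * s * y * (s * s)⁻¹) := by group
      _ = (s * y * s⁻¹) * y := by rw [h1]; group
      _ = y * (s * y * s⁻¹) := (hcc _ hy _ (hs y hy)).symm
  have hfix : ∀ y ∈ zc So, y * (s * y * s⁻¹) = 1 → y = 1 ∨ y = v * (s * v * s⁻¹) := by
    intro y hy h1
    apply key y hy
    have h2 := hsq y hy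
    rw [← h2] at h1
    exact mul_left_cancel h1
  rcases hN x hx with h1 | h1
  · rcases hfix x hx h1 with h2 | h2
    · exact Or.inl h2
    · exact Or.inr (Or.inr (Or.inr h2))
  · have hxv : x * v ∈ zc So := mul_mem hx h.v_zc
    have h2 : x * v * (s * (x * v) * s⁻¹) = 1 := by
      calc x * v * (s * (x * v) * s⁻¹) = x * (v * (s * x * s⁻¹)) * (s * v * s⁻¹) := by group
        _ = x * (s * x * s⁻¹) * (v * (s * v * s⁻¹)) := by
            rw [hcc v h.v_zc _ (hs x hx)]; group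
        _ = v * (s * v * s⁻¹) * (v * (s * v * s⁻¹)) := by rw [h1]
        _ = 1 := by rw [← pow_two]; exact zc_sq _ _ h.zS
    have hxx : x = x * v * v := by rw [mul_assoc, h.vv, mul_one]
    rcases hfix _ hxv h2 with h3 | h3
    · right; left
      rw [hxx, h3, one_mul]
    · right; right; left
      rw [hxx, h3, h.vwc, mul_assoc, h.vv, mul_one]

/-! ### The Sylow subgroup `T` -/

theorem zcT_card : Nat.card (zc (T : Subgroup G)) = 2 :=
  (Half.card_zc_of_card_eq S T.isPGroup' h.card_T).trans h.zcS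

theorem vT : v ∈ zc (T : Subgroup G) := mem_zc.2 ⟨h.SoT (h.V1So h.vV), h.Tv, h.q1 v h.vV⟩

theorem zcT_cases {x : G} (hx : x ∈ zc (T : Subgroup G)) : x = 1 ∨ x = v :=
  eq_or_eq_of_card_two h.zcT_card h.vT h.v1 hx

theorem mem_CZ {x : G} : x ∈ CZ (T : Subgroup G) ↔ x * v = v * x := by
  rw [mem_centralizer_iff]
  constructor
  · intro h1
    exact (h1 v h.vT).symm
  · intro h1 y hy
    rcases h.zcT_cases hy with rfl | rfl
    · rw [one_mul, mul_one]
    · exact h1.symm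

theorem exists_t : ∃ t ∈ (T : Subgroup G), t ∉ So := exists_not_mem h.SoT (h.card_T.trans h.card)

theorem T_zc {t x : G} (ht : t ∈ (T : Subgroup G)) (hx : x ∈ zc So) : t * x * t⁻¹ ∈ zc So := by
  have h1 : (T : Subgroup G) ≤ normalizer (So : Set G) :=
    le_normalizer_of fun k hk y hy => conj_mem_of_two h.SoT h.twoT hk hy
  exact (mem_normalizer_iff.1 (normalizer_le_normalizer_zc _ (h1 ht)) x).1 hx

/-- `t ∈ T - So` moves `v₂` to `v₁v₂`. -/
theorem t_w {t : G} (ht : t ∈ (T : Subgroup G)) (htS : t ∉ So) :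
    t * (s * v * s⁻¹) * t⁻¹ = v * (s * v * s⁻¹) := by
  have htv : t * v * t⁻¹ = v := by rw [h.Tv t ht]; group
  rcases h.zcSo_cases (h.T_zc ht h.w_zc) with h1 | h1 | h1 | h1
  · exfalso
    apply h.w1
    have h2 : s * v * s⁻¹ = t⁻¹ * (t * (s * v * s⁻¹) * t⁻¹) * t := by group
    rw [h2, h1]; group
  · exfalso
    apply h.vw
    have h2 : t * (s * v * s⁻¹) = t * v := mul_right_cancel (h1.trans htv.symm)
    exact (mul_left_cancel h2).symm
  · exfalso
    have h2 : s * v * s⁻¹ ∈ zc (T : Subgroup G) := by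
      refine mem_zc.2 ⟨h.SoT (h.V2So h.wV), ?_, h.q2 _ h.wV⟩
      intro y hy
      by_cases hyS : y ∈ So
      · exact h.wSo hyS
      · have h3 := h.wSo (h.twoT t ht y hy htS hyS)
        have h4 : t * (s * v * s⁻¹) = s * v * s⁻¹ * t := mul_inv_eq_iff_eq_mul.1 h1
        calc y * (s * v * s⁻¹) = t * (t⁻¹ * y * (s * v * s⁻¹)) := by group
          _ = t * (s * v * s⁻¹) * (t⁻¹ * y) := by rw [h3]; group
          _ = s * v * s⁻¹ * y := by rw [h4]; group
    rcases h.zcT_cases h2 with h3 | h3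
    · exact h.w1 h3
    · exact h.vw h3.symm
  · exact h1

variable (hG : IsCharacteristicTwoType G)

omit h in
theorem _root_.Cfsg.Agent.Omega.IId.Triangle.sylow_ne_bot_of {T : Sylow 2 G} {v : G}
    (hv : v ∈ (T : Subgroup G)) (hv1 : v ≠ 1) : (T : Subgroup G) ≠ ⊥ := by
  intro h0
  rw [h0, mem_bot] at hv
  exact hv1 hv

theorem T_ne : (T : Subgroup G) ≠ ⊥ := sylow_ne_bot_of (h.SoT (h.V1So h.vV)) h.v1

include hG

theorem char2 : CZ (T : Subgroup G) ⊓ centralizer (ZN.o2 (CZ (T : Subgroup G)) : Set G) ≤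
    ZN.o2 (CZ (T : Subgroup G)) :=
  (isLoc_centralizer_zc T h.T_ne).char2 T hG

theorem half' : V₂ ≤ ZN.o2 (CZ (T : Subgroup G)) ∧
    ZN.o2 (CZ (T : Subgroup G)) ≤ centralizer (V₂ : Set G) :=
  h.toTwo.half h.vV h.v1 (fun _ hx => h.mem_CZ.1 hx) (h.char2 hG)
    (h.SoT.trans (le_centralizer_zc _)) (fun l hl => h.mem_CZ.2 (h.L21 l hl v h.vV))

/-- `O₂(C_G(v)) ≤ So`. -/
theorem o2_le_So : ZN.o2 (CZ (T : Subgroup G)) ≤ So := by
  intro x hx
  by_contra hxS
  have hxT : x ∈ (T : Subgroup G) :=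
    le_of_le_normalizer T (o2_isPGroup _) ((le_centralizer_zc _).trans (le_normalizer_o2 _)) hx
  have h1 := h.t_w hxT hxS
  have h2 := mem_centralizer_iff.1 ((h.half' hG).2 hx) _ h.wV
  rw [← h2, mul_inv_cancel_right] at h1
  exact h.v1 (mul_eq_right.1 h1.symm)

/-- `Y = Ω₁Z(So) ≤ Ω₁Z(O₂(C_G(v)))`. -/
theorem zc_le_zc : zc So ≤ zc (ZN.o2 (CZ (T : Subgroup G))) := by
  intro x hx
  obtain ⟨h1, h2, h3⟩ := mem_zc.1 hx
  have h4 : ∀ y ∈ ZN.o2 (CZ (T : Subgroup G)), y * x = x * y := fun y hy => h2 y (h.o2_le_So hG hy)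
  refine mem_zc.2 ⟨?_, h4, h3⟩
  apply h.char2 hG
  refine ⟨h.mem_CZ.2 (zc_comm _ x hx v h.v_zc), mem_centralizer_iff.2 h4⟩

theorem exists_P : ∃ P : Subgroup G, IsParS (T : Subgroup G) P ∧ P ≤ normalizer (zc So : Set G) := by
  have hT : (T : Subgroup G) ≤ normalizer (zc So : Set G) :=
    le_normalizer_of fun k hk y hy => h.T_zc hk hy
  have hzp : IsPGroup 2 (zc So) := (T.isPGroup'.to_le h.SoT).to_le (zc_le _)
  have hz1 : zc So ≠ ⊥ := by
    intro h0
    have h1 := h.v_zc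
    rw [h0, mem_bot] at h1
    exact h.v1 h1
  have hloc : IsLoc (T : Subgroup G) (normalizer (zc So : Set G)) :=
    isLoc_normalizer T hzp hz1 hT
  have hs : s ∈ normalizer (zc So : Set G) := by
    have h1 : s ∈ normalizer (So : Set G) := by
      rw [mem_normalizer_iff]
      intro a
      refine ⟨fun ha => h.conjS ha, fun ha => ?_⟩
      have h2 := h.conjS' ha
      have h3 : s⁻¹ * (s * a * s⁻¹) * s = a := by group
      rwa [h3] at h2
    exact normalizer_le_normalizer_zc _ h1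
  have hnot : ¬ normalizer (zc So : Set G) ≤ normalizer (zc (T : Subgroup G) : Set G) := by
    intro h1
    have h2 := (mem_normalizer_iff.1 (h1 hs) v).1 h.vT
    rcases h.zcT_cases h2 with h3 | h3
    · exact h.w1 h3
    · exact h.vw h3.symm
  obtain ⟨P, hP, hPL, hPn⟩ := hloc.exists_not_le T
    (inf_le_right.trans (normalizer_le_normalizer_zc _)) hnot
  exact ⟨P, ⟨hP, hPn⟩, hPL⟩

section par

variable {P : Subgroup G} (hP : IsParS (T : Subgroup G) P) (hPY : P ≤ normalizer (zc So : Set G))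

include hP hPY

omit hG in
theorem exists_p : ∃ p ∈ P, p * v * p⁻¹ = s * v * s⁻¹ := by
  obtain ⟨p, hp, hpv⟩ : ∃ p ∈ P, p * v * p⁻¹ ≠ v := by
    by_contra hcon
    push Not at hcon
    apply hP.not_zc
    apply le_normalizer_of
    intro k hk x hx
    rcases h.zcT_cases hx with rfl | rfl
    · rw [mul_one, mul_inv_cancel]; exact one_mem _
    · rw [hcon k hk]; exact hx
  have h1 := (mem_normalizer_iff.1 (hPY hp) v).1 h.v_zc
  rcases h.zcSo_cases h1 with h2 | h2 | h2 | h2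
  · exfalso
    apply h.v1
    have h3 : v = p⁻¹ * (p * v * p⁻¹) * p := by group
    rw [h3, h2]; group
  · exact absurd h2 hpv
  · exact ⟨p, hp, h2⟩
  · obtain ⟨t, ht, htS⟩ := h.exists_t
    refine ⟨t⁻¹ * p, mul_mem (inv_mem (hP.isLoc.le ht)) hp, ?_⟩
    have h3 := h.t_w ht htS
    rw [← h2] at h3
    have h4 : s * v * s⁻¹ = t⁻¹ * (p * v * p⁻¹) * t := by rw [← h3]; group
    rw [h4]; group

omit hG in
theorem zl_eq : zl (T : Subgroup G) P = zc So := by
  apply le_antisymm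
  · apply zl_le _ hPY
    intro x hx
    rcases h.zcT_cases hx with rfl | rfl
    · exact one_mem _
    · exact h.v_zc
  · obtain ⟨p, hp, hpv⟩ := h.exists_p hP hPY
    have hv : v ∈ zl (T : Subgroup G) P := zc_le_zl _ _ h.vT
    have hw : s * v * s⁻¹ ∈ zl (T : Subgroup G) P := by
      rw [← hpv]
      exact (mem_normalizer_iff.1 (le_normalizer_zl _ _ hp) v).1 hv
    intro x hx
    rcases h.zcSo_cases hx with rfl | rfl | rfl | rfl
    · exact one_mem _
    · exact hv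
    · exact hw
    · exact mul_mem hv hw

omit hP hPY hG in
theorem card_zcSo : Nat.card (zc So) = 4 := by
  classical
  have h1 : (zc So : Set G) = (({1, v, s * v * s⁻¹, v * (s * v * s⁻¹)} : Finset G) : Set G) := by
    ext x
    rw [SetLike.mem_coe, Finset.mem_coe, Finset.mem_insert, Finset.mem_insert, Finset.mem_insert,
      Finset.mem_singleton]
    constructor
    · exact fun hx => h.zcSo_cases hx
    · rintro (rfl | rfl | rfl | rfl)
      · exact one_mem _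
      · exact h.v_zc
      · exact h.w_zc
      · exact mul_mem h.v_zc h.w_zc
  have h2 : Nat.card (zc So) = (zc So : Set G).ncard := Nat.card_coe_set_eq _
  rw [h2, h1, Set.ncard_coe_finset, Finset.card_insert_of_notMem, Finset.card_insert_of_notMem,
    Finset.card_insert_of_notMem, Finset.card_singleton]
  · rw [Finset.mem_singleton]
    intro h3
    exact h.v1 (mul_eq_right.1 h3.symm)
  · rw [Finset.mem_insert, Finset.mem_singleton]
    rintro (h3 | h3)
    · exact h.vw h3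
    · exact h.w1 (mul_eq_left.1 h3.symm)
  · rw [Finset.mem_insert, Finset.mem_insert, Finset.mem_singleton]
    rintro (h3 | h3 | h3)
    · exact h.v1 h3.symm
    · exact h.w1 h3.symm
    · exact h.zne h3.symm

/-- `W = ⟨Y^C⟩` is abelian. -/
theorem WW_comm : WW (T : Subgroup G) P ≤ centralizer (WW (T : Subgroup G) P : Set G) := by
  have h1 : WW (T : Subgroup G) P ≤ zc (ZN.o2 (CZ (T : Subgroup G))) := by
    refine NoFF.Lines.W_le fun Q hQ c hc => ?_
    rw [Set.mem_singleton_iff.1 hQ]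
    have h2 : zl (T : Subgroup G) P ≤ zc (ZN.o2 (CZ (T : Subgroup G))) := by
      rw [h.zl_eq hP hPY]
      exact h.zc_le_zc hG
    rintro _ ⟨x, hx, rfl⟩
    have h3 := normalizer_le_normalizer_zc _ (le_normalizer_o2 _ hc)
    exact (mem_normalizer_iff.1 h3 x).1 (h2 hx)
  intro x hx
  rw [mem_centralizer_iff]
  intro y hy
  exact zc_comm _ y (h1 hy) x (h1 hx)

/-- `⟨P, C_G(v)⟩` is nonlocal. -/
theorem nonLoc {g r : G} (hr : r ∈ V₁) (hr1 : r ≠ 1) (hrg : g⁻¹ * r * g ∈ V₁)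
    (hne : ∃ a ∈ V₁, ∃ b ∈ V₁, a * (g * b * g⁻¹) ≠ g * b * g⁻¹ * a) :
    NonLoc P (CZ (T : Subgroup G)) := by
  intro U hU hPU hCU
  by_contra hU1
  set H := normalizer (U : Set G) with hH
  have hloc : IsLoc (T : Subgroup G) H := isLoc_normalizer T hU hU1 (hP.isLoc.le.trans hPU)
  have hvA : v ∈ zc (ZN.o2 H) := by
    have h1 : ∀ y ∈ ZN.o2 H, y * v = v * y := fun y hy => h.Tv y (hloc.o2_le T hy)
    refine mem_zc.2 ⟨?_, h1, h.q1 v h.vV⟩
    apply hloc.char2 T hG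
    exact ⟨hloc.le (h.SoT (h.V1So h.vV)), mem_centralizer_iff.2 h1⟩
  have hHA : H ≤ normalizer (zc (ZN.o2 H) : Set G) :=
    (le_normalizer_o2 H).trans (normalizer_le_normalizer_zc _)
  -- `L₁ ≤ C_G(v₂) ≤ H`
  obtain ⟨p, hp, hpv⟩ := h.exists_p hP hPY
  have hL1 : L₁ ≤ H := by
    intro l hl
    have h1 : p⁻¹ * l * p ∈ CZ (T : Subgroup G) := by
      apply h.mem_CZ.2
      have h2 := h.L12 l hl _ h.wV
      rw [← hpv] at h2
      calc p⁻¹ * l * p * v = p⁻¹ * (l * (p * v * p⁻¹)) * p := by group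
        _ = v * (p⁻¹ * l * p) := by rw [h2]; group
    have h2 : l = p * (p⁻¹ * l * p) * p⁻¹ := by group
    rw [h2]
    exact mul_mem (mul_mem (hPU hp) (hCU h1)) (inv_mem (hPU hp))
  have hV1 : ∀ x ∈ V₁, x ∈ zc (ZN.o2 H) := by
    intro x hx
    by_cases hx1 : x = 1
    · rw [hx1]; exact one_mem _
    obtain ⟨l, hl, rfl⟩ := h.t1 v h.vV h.v1 x hx hx1
    exact (mem_normalizer_iff.1 (hHA (hL1 hl)) v).1 hvA
  -- an element `l ∈ L₁` with `r^l = v`
  obtain ⟨l, hl, hlr⟩ := h.t1 r hr hr1 v h.vV h.v1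
  have hgr1 : g⁻¹ * r * g ≠ 1 := by
    intro h1
    apply hr1
    have h2 : r = g * (g⁻¹ * r * g) * g⁻¹ := by group
    rw [h2, h1]; group
  obtain ⟨e, he, her⟩ := h.t1 v h.vV h.v1 _ hrg hgr1
  have hx : l * g * e ∈ CZ (T : Subgroup G) := by
    apply h.mem_CZ.2
    calc l * g * e * v = l * (g * (e * v * e⁻¹) * g⁻¹) * g * e := by group
      _ = l * r * g * e := by rw [her]; group
      _ = (l * r * l⁻¹) * (l * g * e) := by group
      _ = v * (l * g * e) := by rw [hlr]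
  have hgH : g ∈ H := by
    have h1 : g = l⁻¹ * (l * g * e) * e⁻¹ := by group
    rw [h1]
    exact mul_mem (mul_mem (inv_mem (hL1 hl)) (hCU hx)) (inv_mem (hL1 he))
  obtain ⟨a, ha, b, hb, hab⟩ := hne
  apply hab
  exact zc_comm _ a (hV1 a ha) _ ((mem_normalizer_iff.1 (hHA hgH) b).1 (hV1 b hb))

omit hP hPY hG in
theorem o2_cent_z (hG : IsCharacteristicTwoType G) :
    ZN.o2 (centralizer ({v * (s * v * s⁻¹)} : Set G)) ≤ So := by
  obtain ⟨t, ht, htS⟩ := h.exists_t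
  have h1 : v * (s * v * s⁻¹) = (t * s) * v * (t * s)⁻¹ := by
    rw [← h.t_w ht htS]; group
  have h2 : CZ (T : Subgroup G) = centralizer ({v} : Set G) := by
    ext x
    rw [h.mem_CZ, mem_cent]
  rw [h1, o2_cent_conj, ← h2]
  rintro _ ⟨x, hx, rfl⟩
  have h3 := h.o2_le_So hG hx
  show (t * s) * x * (t * s)⁻¹ ∈ So
  have h4 : (t * s) * x * (t * s)⁻¹ = t * (s * x * s⁻¹) * t⁻¹ := by group
  rw [h4]
  exact conj_mem_of_two h.SoT h.twoT ht (h.conjS h3)

/-- LEMMA F (helper612 #13793): `⟨P, C_G(v)⟩` is nonlocal if `[V₁, K_v] ≠ 1`. -/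
theorem nonLocF (hK : ∃ a ∈ V₁, ∃ k ∈ KK v, k * a ≠ a * k) : NonLoc P (CZ (T : Subgroup G)) := by
  intro U hU hPU hCU
  by_contra hU1
  set H := normalizer (U : Set G) with hH
  have hCZ : CZ (T : Subgroup G) = centralizer ({v} : Set G) := by
    ext x
    rw [h.mem_CZ, mem_cent]
  have hloc : IsLoc (T : Subgroup G) H := isLoc_normalizer T hU hU1 (hP.isLoc.le.trans hPU)
  have hvA : v ∈ zc (ZN.o2 H) := by
    have h1 : ∀ y ∈ ZN.o2 H, y * v = v * y := fun y hy => h.Tv y (hloc.o2_le T hy)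
    refine mem_zc.2 ⟨?_, h1, h.q1 v h.vV⟩
    apply hloc.char2 T hG
    exact ⟨hloc.le (h.SoT (h.V1So h.vV)), mem_centralizer_iff.2 h1⟩
  have hHA : H ≤ normalizer (zc (ZN.o2 H) : Set G) :=
    (le_normalizer_o2 H).trans (normalizer_le_normalizer_zc _)
  have hA : ∀ {k a : G}, k ∈ H → a ∈ zc (ZN.o2 H) → k * a * k⁻¹ ∈ zc (ZN.o2 H) :=
    fun hk ha => (mem_normalizer_iff.1 (hHA hk) _).1 ha
  have hcent : ∀ k ∈ H, ∀ x, x * (k * v * k⁻¹) = k * v * k⁻¹ * x → x ∈ H := by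
    intro k hk x hx
    have h1 : k⁻¹ * x * k ∈ H := by
      apply hCU
      apply h.mem_CZ.2
      calc k⁻¹ * x * k * v = k⁻¹ * (x * (k * v * k⁻¹)) * k := by group
        _ = v * (k⁻¹ * x * k) := by rw [hx]; group
    have h2 : x = k * (k⁻¹ * x * k) * k⁻¹ := by group
    rw [h2]
    exact mul_mem (mul_mem hk h1) (inv_mem hk)
  obtain ⟨p, hp, hpv⟩ := h.exists_p hP hPY
  have hpH : p ∈ H := hPU hp
  have hL1 : L₁ ≤ H := by
    intro l hl
    apply hcent p hpH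
    rw [hpv]
    exact h.L12 l hl _ h.wV
  have hV1 : ∀ x ∈ V₁, x ∈ zc (ZN.o2 H) := by
    intro x hx
    by_cases hx1 : x = 1
    · rw [hx1]; exact one_mem _
    obtain ⟨l, hl, rfl⟩ := h.t1 v h.vV h.v1 x hx hx1
    exact hA (hL1 hl) hvA
  have hwA : s * v * s⁻¹ ∈ zc (ZN.o2 H) := by rw [← hpv]; exact hA hpH hvA
  obtain ⟨t, ht, htS⟩ := h.exists_t
  have htH : t ∈ H := hloc.le ht
  have hsH : s ∈ H := by
    apply hcent (t * p) (mul_mem htH hpH)
    have h1 : t * p * v * (t * p)⁻¹ = v * (s * v * s⁻¹) := by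
      rw [← h.t_w ht htS, ← hpv]; group
    rw [h1]
    exact (mem_zc.1 h.zS).2.1 s h.sS
  have hts : (t * s) * v * (t * s)⁻¹ = v * (s * v * s⁻¹) := by
    rw [← h.t_w ht htS]; group
  -- `A ≤ O₂(C_G(u))` for the `H`-conjugates `u` of `v`
  have hAu : ∀ k ∈ H, zc (ZN.o2 H) ≤ ZN.o2 (centralizer ({k * v * k⁻¹} : Set G)) := by
    intro k hk
    refine (zc_le _).trans (le_o2 ?_ (o2_isPGroup _) ?_)
    · intro x hx
      exact mem_cent.2 ((mem_zc.1 (hA hk hvA)).2.1 x hx)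
    · intro x hx
      exact le_normalizer_o2 _ (hcent k hk x (mem_cent.1 hx))
  have hsq : ∀ k, (k * v * k⁻¹) * (k * v * k⁻¹) = 1 := by
    intro k
    calc (k * v * k⁻¹) * (k * v * k⁻¹) = k * (v * v) * k⁻¹ := by group
      _ = 1 := by rw [h.vv]; group
  have hact : ∀ k ∈ H, ∀ x ∈ KK (k * v * k⁻¹), ∀ a ∈ zc (ZN.o2 H),
      x * a * x⁻¹ = a ∨ x * a * x⁻¹ = a * (k * v * k⁻¹) := by
    intro k hk x hx a ha
    rcases (mem_zpowers_iff_of_sq (hsq k)).1 (hx.2 a (hAu k hk ha)) with h1 | h1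
    · exact Or.inl (mul_inv_eq_one.1 h1)
    · right
      rw [mul_inv_eq_iff_eq_mul.1 h1]
      exact zc_comm _ _ (hA hk hvA) a ha
  -- `K_z` centralises `V₁`
  have hzc2 : centralizer ({v * (s * v * s⁻¹)} : Set G) ⊓
      centralizer (ZN.o2 (centralizer ({v * (s * v * s⁻¹)} : Set G)) : Set G) ≤
        ZN.o2 (centralizer ({v * (s * v * s⁻¹)} : Set G)) := by
    have h1 : IsLoc (S : Subgroup G) (centralizer ({v * (s * v * s⁻¹)} : Set G)) :=
      isLoc_centralizer S (zc_sq _ _ h.zS) h.zne fun y hy =>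
        mem_cent.2 ((mem_zc.1 h.zS).2.1 y hy)
    exact h1.char2 S hG
  have hzz : v * (s * v * s⁻¹) * (v * (s * v * s⁻¹)) = 1 := by rw [← hts]; exact hsq _
  have hKz : ∀ k ∈ KK (v * (s * v * s⁻¹)), ∀ a ∈ V₁, k * a * k⁻¹ = a := by
    intro k hk a ha
    have h1 : k ∈ So := h.o2_cent_z hG (KK_le_o2 hzz hzc2 hk)
    have h2 : k * a * k⁻¹ ∈ V₁ := h.So1 k h1 a ha
    have h3 : a ∈ ZN.o2 (centralizer ({v * (s * v * s⁻¹)} : Set G)) := by
      rw [← hts]; exact hAu _ (mul_mem htH hsH) (hV1 a ha)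
    rcases (mem_zpowers_iff_of_sq hzz).1 (hk.2 a h3) with h4 | h4
    · exact mul_inv_eq_one.1 h4
    · exfalso
      have h5 : v * (s * v * s⁻¹) ∈ V₁ := by rw [← h4]; exact mul_mem h2 (inv_mem ha)
      have h6 : s * v * s⁻¹ ∈ V₁ := (mul_mem_cancel_left h.vV).1 h5
      exact h.w1 (h.inf _ h6 h.wV)
  -- the elements `a₀`, `x`
  obtain ⟨a₀, ha₀, x, hx, hxa⟩ := hK
  have ha₀1 : a₀ ≠ 1 := by
    rintro rfl
    exact hxa (by simp)
  obtain ⟨y, hy, hya⟩ := h.t1 v h.vV h.v1 a₀ ha₀ ha₀1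
  have hyH : y ∈ H := hL1 hy
  set w₀ := a₀ * (s * v * s⁻¹) with hw₀
  have hyz : y * (v * (s * v * s⁻¹)) * y⁻¹ = w₀ := by
    have h1 := h.L12 y hy _ h.wV
    calc y * (v * (s * v * s⁻¹)) * y⁻¹ = (y * v * y⁻¹) * (y * (s * v * s⁻¹)) * y⁻¹ := by group
      _ = w₀ := by rw [h1, hya, hw₀]; group
  have hw₀A : w₀ ∈ zc (ZN.o2 H) := mul_mem (hV1 a₀ ha₀) hwA
  have hkw : (y * (t * s)) * v * (y * (t * s))⁻¹ = w₀ := by
    rw [← hyz, ← hts]; group
  have hkH : y * (t * s) ∈ H := mul_mem hyH (mul_mem htH hsH)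
  -- `K_{w₀}` centralises `V₁`
  have hKw : ∀ k ∈ KK w₀, ∀ a ∈ V₁, k * a = a * k := by
    intro k hk a ha
    have h1 : y⁻¹ * k * y ∈ KK (v * (s * v * s⁻¹)) := by
      have h2 := KK_conj (h := y⁻¹) hk
      have h3 : y⁻¹ * w₀ * y⁻¹⁻¹ = v * (s * v * s⁻¹) := by rw [← hyz]; group
      rwa [h3, inv_inv] at h2
    have h2 : y⁻¹ * a * y ∈ V₁ := by
      have h3 := h.L1 y⁻¹ (inv_mem hy) a ha
      rwa [inv_inv] at h3
    have h3 := hKz _ h1 _ h2
    have h4 : y⁻¹ * (k * a * k⁻¹) * y = y⁻¹ * a * y := by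
      rw [← h3]; group
    have h5 : k * a * k⁻¹ = a := mul_left_cancel (mul_right_cancel h4)
    exact mul_inv_eq_iff_eq_mul.1 h5
  -- `x` centralises `v₂`
  have hxQ : x ∈ So := by
    apply h.o2_le_So hG
    rw [hCZ]
    apply KK_le_o2 h.vv _ hx
    rw [← hCZ]
    exact h.char2 hG
  have hxw : x * w₀ ≠ w₀ * x := by
    intro h1
    apply hxa
    have h2 := h.wSo hxQ
    have h3 : x * a₀ * (s * v * s⁻¹) = a₀ * x * (s * v * s⁻¹) := by
      calc x * a₀ * (s * v * s⁻¹) = x * w₀ := by rw [hw₀]; group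
        _ = a₀ * ((s * v * s⁻¹) * x) := by rw [h1, hw₀]; group
        _ = a₀ * x * (s * v * s⁻¹) := by rw [← h2]; group
    exact mul_right_cancel h3
  -- the families of kernels
  let Fam : G → Set (Set G) := fun u =>
    {X | ∃ k ∈ KK u, X = {a | a ∈ zc (ZN.o2 H) ∧ k * a = a * k}}
  have hvv1 : (1 : G) * v * 1⁻¹ = v := by group
  have hsub : Fam w₀ ⊆ Fam v := by
    rintro _ ⟨y', hy', rfl⟩
    have hy'v : y' * v = v * y' := hKw y' hy' v h.vV
    refine ⟨x * y' * x⁻¹ * y'⁻¹, ?_, ?_⟩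
    · have h1 := KK_conj (h := y') (inv_mem hx)
      have h2 : y' * v * y'⁻¹ = v := mul_inv_eq_iff_eq_mul.2 hy'v
      rw [h2] at h1
      have h3 : x * y' * x⁻¹ * y'⁻¹ = x * (y' * x⁻¹ * y'⁻¹) := by group
      rw [h3]
      exact mul_mem hx h1
    · ext a
      simp only [Set.mem_ofPred_eq]
      refine and_congr_right fun ha => ?_
      refine (comm_claim (zc_comm _) hvA hw₀A h.v1 h.vv (by rw [← hkw]; exact hsq _) hx.1 hy'.1 hy'v
        ?_ ?_ hxw ha).symm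
      · intro b hb
        have h1 := hact 1 (one_mem _) x (by rw [hvv1]; exact hx) b hb
        rwa [hvv1] at h1
      · intro b hb
        have h1 := hact _ hkH y' (by rw [hkw]; exact hy') b hb
        rwa [hkw] at h1
  have hcard : (Fam w₀).ncard = (Fam v).ncard := by
    have h1 : Fam w₀ = (fun X : Set G => (fun a => (y * (t * s)) * a * (y * (t * s))⁻¹) '' X) '' Fam v := by
      ext X
      constructor
      · rintro ⟨k, hk, rfl⟩
        refine ⟨{a | a ∈ zc (ZN.o2 H) ∧ ((y * (t * s))⁻¹ * k * (y * (t * s))) * a =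
          a * ((y * (t * s))⁻¹ * k * (y * (t * s)))}, ⟨_, ?_, rfl⟩, ?_⟩
        · have h2 := KK_conj (h := (y * (t * s))⁻¹) hk
          have h3 : (y * (t * s))⁻¹ * w₀ * (y * (t * s))⁻¹⁻¹ = v := by rw [← hkw]; group
          rwa [h3, inv_inv] at h2
        · ext b
          simp only [Set.mem_image, Set.mem_ofPred_eq]
          constructor
          · rintro ⟨a, ⟨ha, hka⟩, rfl⟩
            refine ⟨hA hkH ha, ?_⟩
            calc k * (y * (t * s) * a * (y * (t * s))⁻¹)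
                = (y * (t * s)) * ((y * (t * s))⁻¹ * k * (y * (t * s)) * a) * (y * (t * s))⁻¹ := by
                  group
              _ = y * (t * s) * a * (y * (t * s))⁻¹ * k := by rw [hka]; group
          · rintro ⟨hb, hkb⟩
            refine ⟨(y * (t * s))⁻¹ * b * (y * (t * s)), ⟨?_, ?_⟩, by group⟩
            · have h2 := hA (inv_mem hkH) hb
              rwa [inv_inv] at h2
            · calc (y * (t * s))⁻¹ * k * (y * (t * s)) * ((y * (t * s))⁻¹ * b * (y * (t * s)))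
                  = (y * (t * s))⁻¹ * (k * b) * (y * (t * s)) := by group
                _ = (y * (t * s))⁻¹ * b * (y * (t * s)) * ((y * (t * s))⁻¹ * k * (y * (t * s))) := by
                  rw [hkb]; group
      · rintro ⟨_, ⟨k, hk, rfl⟩, rfl⟩
        refine ⟨(y * (t * s)) * k * (y * (t * s))⁻¹, ?_, ?_⟩
        · have h2 := KK_conj (h := y * (t * s)) hk
          rwa [hkw] at h2
        · ext b
          simp only [Set.mem_image, Set.mem_ofPred_eq]
          constructor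
          · rintro ⟨a, ⟨ha, hka⟩, rfl⟩
            refine ⟨hA hkH ha, ?_⟩
            calc (y * (t * s)) * k * (y * (t * s))⁻¹ * (y * (t * s) * a * (y * (t * s))⁻¹)
                = (y * (t * s)) * (k * a) * (y * (t * s))⁻¹ := by group
              _ = _ := by rw [hka]; group
          · rintro ⟨hb, hkb⟩
            refine ⟨(y * (t * s))⁻¹ * b * (y * (t * s)), ⟨?_, ?_⟩, by group⟩
            · have h2 := hA (inv_mem hkH) hb
              rwa [inv_inv] at h2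
            · calc k * ((y * (t * s))⁻¹ * b * (y * (t * s)))
                  = (y * (t * s))⁻¹ * ((y * (t * s)) * k * (y * (t * s))⁻¹ * b) * (y * (t * s)) := by
                    group
                _ = (y * (t * s))⁻¹ * b * (y * (t * s)) * k := by rw [hkb]; group
    rw [h1]
    apply Set.ncard_image_of_injective
    exact Set.image_injective.2 fun a b hab => mul_left_cancel (mul_right_cancel hab)
  have heq : Fam w₀ = Fam v := Set.eq_of_subset_of_ncard_le hsub hcard.ge (Set.toFinite _)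
  have hxF : {a | a ∈ zc (ZN.o2 H) ∧ x * a = a * x} ∈ Fam v := ⟨x, hx, rfl⟩
  rw [← heq] at hxF
  obtain ⟨y', hy', hyy⟩ := hxF
  have h1 : w₀ ∈ {a | a ∈ zc (ZN.o2 H) ∧ x * a = a * x} := by
    rw [hyy]
    exact ⟨hw₀A, hy'.1⟩
  exact hxw h1.2

end par

end Tri

/-- **The triangle leads to NO-3S with `|V_P| = 4`.** -/
theorem Tri.exists_hyp [Finite G] {S T : Sylow 2 G} {So V₁ V₂ L₁ L₂ : Subgroup G} {s v : G}
    (h : Tri S T So V₁ V₂ L₁ L₂ s v) (hG : Ctx G) (hF : Full (S : Subgroup G))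
    {g r : G} (hr : r ∈ V₁) (hr1 : r ≠ 1) (hrg : g⁻¹ * r * g ∈ V₁)
    (hne : ∃ a ∈ V₁, ∃ b ∈ V₁, a * (g * b * g⁻¹) ≠ g * b * g⁻¹ * a) :
    ∃ P : Subgroup G, Hyp T P ∧ Nat.card (zl (T : Subgroup G) P) = 4 ∧
      P ≤ normalizer (zc So : Set G) := by
  obtain ⟨P, hP, hPY⟩ := h.exists_P hG.char2
  have hc : Nat.card (zl (T : Subgroup G) P) = 4 := by
    rw [h.zl_eq hP hPY, h.card_zcSo]
  exact ⟨P, Hyp.of_four hG hP (h.nonLoc hG.char2 hP hPY hr hr1 hrg hne) hc (full_conj hF)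
    (h.WW_comm hG.char2 hP hPY), hc, hPY⟩

/-- **The triangle leads to NO-3S with `|V_P| = 4`**, any partner: `[V₁, K_v] ≠ 1`. -/
theorem Tri.exists_hypF [Finite G] {S T : Sylow 2 G} {So V₁ V₂ L₁ L₂ : Subgroup G} {s v : G}
    (h : Tri S T So V₁ V₂ L₁ L₂ s v) (hG : Ctx G) (hF : Full (S : Subgroup G))
    (hK : ∃ a ∈ V₁, ∃ k ∈ KK v, k * a ≠ a * k) :
    ∃ P : Subgroup G, Hyp T P ∧ Nat.card (zl (T : Subgroup G) P) = 4 ∧
      P ≤ normalizer (zc So : Set G) := by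
  obtain ⟨P, hP, hPY⟩ := h.exists_P hG.char2
  have hc : Nat.card (zl (T : Subgroup G) P) = 4 := by
    rw [h.zl_eq hP hPY, h.card_zcSo]
  exact ⟨P, Hyp.of_four hG hP (h.nonLocF hG.char2 hP hPY hK) hc (full_conj hF)
    (h.WW_comm hG.char2 hP hPY), hc, hPY⟩

/-- **The triangle**, any partner, conclusion through the leaf NO-3S. -/
theorem Tri.knownF {K : Cls.{u}} (hK : Cfsg.Agent.Omega.NO3S.Two K) [Finite G] (hKG : K G)
    {S T : Sylow 2 G} {So V₁ V₂ L₁ L₂ : Subgroup G} {s v : G} (h : Tri S T So V₁ V₂ L₁ L₂ s v)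
    (hG : Ctx G) (hF : Full (S : Subgroup G)) (hV : ∃ a ∈ V₁, ∃ k ∈ KK v, k * a ≠ a * k) :
    IsKnownSimple' G := by
  obtain ⟨P, hP, hc, -⟩ := h.exists_hypF hG hF hV
  exact hK G hKG T P hP hc

/-- **The triangle**, conclusion through the leaf NO-3S. -/
theorem Tri.known {K : Cls.{u}} (hK : Cfsg.Agent.Omega.NO3S.Two K) [Finite G] (hKG : K G) {S T : Sylow 2 G}
    {So V₁ V₂ L₁ L₂ : Subgroup G} {s v : G} (h : Tri S T So V₁ V₂ L₁ L₂ s v) (hG : Ctx G)
    (hF : Full (S : Subgroup G)) {g r : G} (hr : r ∈ V₁) (hr1 : r ≠ 1) (hrg : g⁻¹ * r * g ∈ V₁)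
    (hne : ∃ a ∈ V₁, ∃ b ∈ V₁, a * (g * b * g⁻¹) ≠ g * b * g⁻¹ * a) : IsKnownSimple' G := by
  obtain ⟨P, hP, hc, -⟩ := h.exists_hyp hG hF hr hr1 hrg hne
  exact hK G hKG T P hP hc

/-- Alias of `Two.le_normalizer_of`. -/
theorem le_normalizer_of {K V : Subgroup G} (h : ∀ k ∈ K, ∀ v ∈ V, k * v * k⁻¹ ∈ V) :
    K ≤ normalizer (V : Set G) := Two.le_normalizer_of h

end Cfsg.Agent.Omega.IId.Triangle
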