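import Cfsg.Agent.Omega.IId.LineAct
import Cfsg.Agent.Omega.IId.Triangle
import Cfsg.Agent.Omega.IId.TriangleQ

/-!
# II.d, CASE 2: the structure `Tri` and `|Z| = 2 ⟹ q = 2` (helper113 #14389)

`h : Two S So V₁ V₂ L₁ L₂`, `C_{V₁}(So) ≤ R ≤ V₁`, `T` a 2-subgroup of `N_G(R)` with `So < T`.

* `card_fix_eq` : `|C_{V₁}(So)| = |Ω₁Z(S)|`;
* `exists_tri` : if `|Ω₁Z(S)| = 2`, then `Tri` holds for a Sylow 2-subgroup `T` of `G`, `So ≤ T ≤ N_G(R)`;
* `card_line_dvd` : if moreover the elements of `L₁ ∩ N_G(R)` are transitive on `R#`, then `|R|` divides 2.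
-/

set_option autoImplicit false
set_option linter.unusedSectionVars false

namespace Cfsg.Agent.Omega.IId.TriOf

open Subgroup Cfsg Cfsg.Agent.Omega.MinPar Cfsg.Agent.Omega.IId.Two
open Cfsg.Agent.ZN (o2 zc zl)
open Cfsg.Agent.Omega.IId.Triangle (Tri)
open Cfsg.Agent.MinSimple.VModule

universe u

variable {G : Type u} [Group G]

/-- Orbits and stabilisers for a conjugation action with orbit `R w`. -/
theorem card_eq_mul [Finite G] {X R : Subgroup G} {w : G} (h1 : ∀ g ∈ X, g * w * g⁻¹ * w⁻¹ ∈ R)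
    (h2 : ∀ r ∈ R, ∃ g ∈ X, g * w * g⁻¹ = r * w) :
    Nat.card X = Nat.card R * Nat.card (X ⊓ centralizer ({w} : Set G) : Subgroup G) := by
  let f : X → R := fun g => ⟨g * w * (g : G)⁻¹ * w⁻¹, h1 g g.2⟩
  have hf : Function.Surjective f := by
    intro r
    obtain ⟨g, hg, h3⟩ := h2 r r.2
    refine ⟨⟨g, hg⟩, Subtype.ext ?_⟩
    change g * w * g⁻¹ * w⁻¹ = r
    rw [h3, mul_inv_cancel_right]
  have hff : ∀ x y : X, f x = f y ↔ (x⁻¹ * y : X) ∈ (centralizer ({w} : Set G)).subgroupOf X := by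
    intro x y
    rw [mem_subgroupOf, mem_centralizer_singleton_iff]
    constructor
    · intro h
      have h3 : (x : G) * w * (x : G)⁻¹ * w⁻¹ = (y : G) * w * (y : G)⁻¹ * w⁻¹ := congrArg Subtype.val h
      have h4 := mul_right_cancel h3
      change (x : G)⁻¹ * y * w = w * ((x : G)⁻¹ * y)
      calc (x : G)⁻¹ * y * w = (x : G)⁻¹ * (y * w * (y : G)⁻¹) * y := by group
        _ = w * ((x : G)⁻¹ * y) := by rw [← h4]; group
    · intro h
      have h3 : (x : G)⁻¹ * y * w = w * ((x : G)⁻¹ * y) := h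
      refine Subtype.ext ?_
      change (x : G) * w * (x : G)⁻¹ * w⁻¹ = (y : G) * w * (y : G)⁻¹ * w⁻¹
      congr 1
      calc (x : G) * w * (x : G)⁻¹ = x * (w * ((x : G)⁻¹ * y)) * (y : G)⁻¹ := by group
        _ = y * w * (y : G)⁻¹ := by rw [← h3]; group
  let q : X ⧸ ((centralizer ({w} : Set G)).subgroupOf X) → R :=
    fun z => Quotient.liftOn' z f fun x y hxy => (hff x y).2 (QuotientGroup.leftRel_apply.1 hxy)
  have hq : Function.Bijective q := by
    constructor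
    · intro z w
      induction z using QuotientGroup.induction_on with | _ x =>
      induction w using QuotientGroup.induction_on with | _ y =>
      intro h
      exact QuotientGroup.eq.2 ((hff x y).1 h)
    · intro j
      obtain ⟨x, hx⟩ := hf j
      exact ⟨(QuotientGroup.mk x : X ⧸ ((centralizer ({w} : Set G)).subgroupOf X)), hx⟩
  have h5 : (X ⊓ centralizer ({w} : Set G) : Subgroup G).relIndex X = Nat.card R := by
    rw [inf_relIndex_left, relIndex, index, Nat.card_congr (Equiv.ofBijective q hq)]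
  rw [← Half.card_mul_relIndex (inf_le_left : X ⊓ centralizer ({w} : Set G) ≤ X), h5, mul_comm]

section

variable [Finite G] {S : Sylow 2 G} {So V₁ V₂ L₁ L₂ : Subgroup G}
  (h : IId.Two (S : Subgroup G) So V₁ V₂ L₁ L₂)

include h

theorem mul_conj_mem {s : G} (hs : s ∈ (S : Subgroup G)) (hsS : s ∉ So) {y : G}
    (hy : y ∈ V₁ ⊓ centralizer (So : Set G)) : y * (s * y * s⁻¹) ∈ zc (S : Subgroup G) := by
  have two := two_cosets h.SoS h.card
  have hss : s * s ∈ So := by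
    have h1 := two s⁻¹ (inv_mem hs) s hs (fun h1 => hsS (inv_mem_iff.1 h1)) hsS
    rwa [inv_inv] at h1
  have hyc : ∀ a ∈ So, a * y = y * a := fun a ha => mem_centralizer_iff.1 hy.2 a ha
  have hys : s * y * s⁻¹ ∈ V₂ := h.sw1 s hs hsS y hy.1
  have hysc : ∀ a ∈ So, a * (s * y * s⁻¹) = s * y * s⁻¹ * a := fun a ha =>
    mem_centralizer_iff.1 (TriangleQ.conj_cent h hs hy.2) a ha
  have hcomm : y * (s * y * s⁻¹) = s * y * s⁻¹ * y := h.c12 y hy.1 _ hys
  have hSo : ∀ a ∈ So, a * (y * (s * y * s⁻¹)) = y * (s * y * s⁻¹) * a := by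
    intro a ha
    calc a * (y * (s * y * s⁻¹)) = a * y * (s * y * s⁻¹) := by group
      _ = y * (a * (s * y * s⁻¹)) := by rw [hyc a ha]; group
      _ = y * (s * y * s⁻¹) * a := by rw [hysc a ha]; group
  have hsc : s * (y * (s * y * s⁻¹)) = y * (s * y * s⁻¹) * s := by
    calc s * (y * (s * y * s⁻¹)) = s * y * s⁻¹ * (s * s * y) * s⁻¹ := by group
      _ = s * y * s⁻¹ * (y * (s * s)) * s⁻¹ := by rw [hyc _ hss]
      _ = s * y * s⁻¹ * y * s := by group
      _ = y * (s * y * s⁻¹) * s := by rw [← hcomm]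
  refine mem_zc.2 ⟨h.SoS (mul_mem (h.V1So hy.1) (h.V2So hys)), ?_, ?_⟩
  · intro a ha
    by_cases haS : a ∈ So
    · exact hSo a haS
    · have h2 := hSo _ (two s hs a ha hsS haS)
      calc a * (y * (s * y * s⁻¹)) = s * (s⁻¹ * a * (y * (s * y * s⁻¹))) := by group
        _ = s * (y * (s * y * s⁻¹)) * (s⁻¹ * a) := by rw [h2]; group
        _ = y * (s * y * s⁻¹) * a := by rw [hsc]; group
  · have h3 := h.q1 y hy.1
    have h4 := h.q2 _ hys
    calc (y * (s * y * s⁻¹)) ^ 2 = y * (s * y * s⁻¹ * y) * (s * y * s⁻¹) := by rw [pow_two]; group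
      _ = y * (y * (s * y * s⁻¹)) * (s * y * s⁻¹) := by rw [hcomm]
      _ = y ^ 2 * (s * y * s⁻¹) ^ 2 := by rw [pow_two, pow_two]; group
      _ = 1 := by rw [h3, h4, one_mul]

/-- `|C_{V₁}(So)| = |Ω₁Z(S)|` -/
theorem card_fix_eq : Nat.card (V₁ ⊓ centralizer (So : Set G) : Subgroup G) =
    Nat.card (zc (S : Subgroup G)) := by
  refine le_antisymm ?_ h.z1
  obtain ⟨s, hs, hsS⟩ := exists_not_mem h.SoS h.card
  refine Nat.card_le_card_of_injective
    (fun y => ⟨(y : G) * (s * y * s⁻¹), mul_conj_mem h hs hsS y.2⟩) ?_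
  intro x y hxy
  have h1 : (x : G) * (s * x * s⁻¹) = (y : G) * (s * y * s⁻¹) := congrArg Subtype.val hxy
  have hx := x.2.1
  have hy := y.2.1
  have h2 : (y : G)⁻¹ * x = s * y * s⁻¹ * (s * x * s⁻¹)⁻¹ := by
    calc (y : G)⁻¹ * x = (y : G)⁻¹ * (x * (s * x * s⁻¹)) * (s * x * s⁻¹)⁻¹ := by group
      _ = s * y * s⁻¹ * (s * x * s⁻¹)⁻¹ := by rw [h1]; group
  have h3 : (y : G)⁻¹ * x ∈ V₂ := by
    rw [h2]
    exact mul_mem (h.sw1 s hs hsS _ hy) (inv_mem (h.sw1 s hs hsS _ hx))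
  have h4 := h.inf _ (mul_mem (inv_mem hy) hx) h3
  exact Subtype.ext (inv_mul_eq_one.1 h4).symm

/-- The 2-part of `|G|`. -/
theorem card_le_of_two_group {T : Subgroup G} (hT : IsPGroup 2 T) : Nat.card T ∣ 2 * Nat.card So := by
  rw [← h.card]
  obtain ⟨Q, hQ⟩ := hT.exists_le_sylow
  have h1 : Nat.card (Q : Subgroup G) = Nat.card (S : Subgroup G) := by
    have : Fact (Nat.Prime 2) := ⟨Nat.prime_two⟩
    rw [Q.card_eq_multiplicity, S.card_eq_multiplicity]
  rw [← h1]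
  exact card_dvd_of_le hQ

/-- A 2-group over `So`, not contained in `So`, is a Sylow 2-subgroup of `G`. -/
theorem exists_sylow {T : Subgroup G} (hT : IsPGroup 2 T) (hSoT : So ≤ T) (hne : ¬ T ≤ So) :
    ∃ Q : Sylow 2 G, (Q : Subgroup G) = T := by
  obtain ⟨Q, hQ⟩ := hT.exists_le_sylow
  refine ⟨Q, (eq_of_le_of_card_ge hQ ?_).symm⟩
  have h1 : Nat.card (Q : Subgroup G) = Nat.card (S : Subgroup G) := by
    have : Fact (Nat.Prime 2) := ⟨Nat.prime_two⟩
    rw [Q.card_eq_multiplicity, S.card_eq_multiplicity]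
  rw [h1, h.card]
  obtain ⟨m, hm⟩ := card_dvd_of_le hSoT
  have h2 : 0 < Nat.card So := Nat.card_pos
  have h3 : 0 < Nat.card T := Nat.card_pos
  have h4 : m ≠ 1 := by
    rintro rfl
    rw [mul_one] at hm
    exact hne (eq_of_le_of_card_ge hSoT hm.le).symm.le
  have h5 : m ≠ 0 := by
    rintro rfl
    omega
  have h6 : 2 ≤ m := by omega
  rw [hm, mul_comm]
  exact Nat.mul_le_mul_left _ h6

/-- **The structure `Tri`.** -/
theorem exists_tri (hz : Nat.card (zc (S : Subgroup G)) = 2) {R T : Subgroup G}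
    (hRV : R ≤ V₁) (hR : V₁ ⊓ centralizer (So : Set G) ≤ R) (hT : IsPGroup 2 T) (hSoT : So ≤ T)
    (hTR : T ≤ normalizer (R : Set G)) (hne : ¬ T ≤ So) :
    ∃ (Q : Sylow 2 G) (s v : G), (Q : Subgroup G) = T ∧ Tri S Q So V₁ V₂ L₁ L₂ s v := by
  obtain ⟨Q, hQ⟩ := exists_sylow h hT hSoT hne
  obtain ⟨s, hs, hsS⟩ := exists_not_mem h.SoS h.card
  have h1 := card_fix_eq h
  rw [hz] at h1
  obtain ⟨v, hv1, -⟩ := (Nat.card_eq_two_iff' (1 : (V₁ ⊓ centralizer (So : Set G) : Subgroup G))).1 h1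
  have hv1' : (v : G) ≠ 1 := fun h2 => hv1 (Subtype.ext h2)
  have hvc : ∀ x ∈ So, x * (v : G) = v * x := fun x hx => mem_centralizer_iff.1 v.2.2 x hx
  have hcT : Nat.card T = 2 * Nat.card So := by
    rw [← h.card, ← hQ]
    have : Fact (Nat.Prime 2) := ⟨Nat.prime_two⟩
    rw [Q.card_eq_multiplicity, S.card_eq_multiplicity]
  refine ⟨Q, s, v, hQ, ?_⟩
  refine { h with
    zcS := hz
    sS := hs
    sSo := hsS
    vV := v.2.1
    v1 := hv1'
    vSo := hvc
    SoT := hQ ▸ hSoT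
    Tv := ?_ }
  intro x hx
  rw [hQ] at hx
  have h2 : x * v * x⁻¹ ∈ R := (mem_normalizer_iff.1 (hTR hx) _).1 (hR v.2)
  have h3 : x * (v : G) * x⁻¹ ∈ V₁ ⊓ centralizer (So : Set G) := by
    refine ⟨hRV h2, mem_centralizer_iff.2 fun y hy => ?_⟩
    have h4 : x⁻¹ * y * x ∈ So := by
      have := conj_mem_of_two hSoT (two_cosets hSoT hcT) (inv_mem hx) hy
      rwa [inv_inv] at this
    calc y * (x * v * x⁻¹) = x * (x⁻¹ * y * x * v) * x⁻¹ := by group
      _ = x * v * x⁻¹ * y := by rw [hvc _ h4]; group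
  rcases eq_or_eq_of_card_two h1 v.2 hv1' h3 with h4 | h4
  · exfalso
    apply hv1'
    calc (v : G) = x⁻¹ * (x * v * x⁻¹) * x := by group
      _ = 1 := by rw [h4]; group
  · exact mul_inv_eq_iff_eq_mul.1 h4

end

/-- **`|Z| = 2` forces `q = 2`** (helper113 #14389). -/
theorem card_line_dvd [Finite G] {S T : Sylow 2 G} {So V₁ V₂ L₁ L₂ : Subgroup G} {s v : G}
    (h : Tri S T So V₁ V₂ L₁ L₂ s v) {R : Subgroup G} (hRV : R ≤ V₁)
    (hTR : (T : Subgroup G) ≤ normalizer (R : Set G))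
    (htor : ∀ r ∈ R, r ≠ 1 → ∃ l ∈ L₁, l ∈ normalizer (R : Set G) ∧ l * v * l⁻¹ = r) :
    Nat.card R ∣ 2 := by
  obtain ⟨t, ht, htS⟩ := h.exists_t
  have htw := h.t_w ht htS
  set w := s * v * s⁻¹ with hw
  have hwV : w ∈ V₂ := h.wV
  let X : Subgroup G :=
    { carrier := {g | g ∈ normalizer (R : Set G) ∧ g * w * g⁻¹ * w⁻¹ ∈ R}
      one_mem' := ⟨one_mem _, by simp⟩
      mul_mem' := by
        rintro a b ⟨ha, ha'⟩ ⟨hb, hb'⟩
        refine ⟨mul_mem ha hb, ?_⟩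
        have e : a * b * w * (a * b)⁻¹ * w⁻¹ = (a * (b * w * b⁻¹ * w⁻¹) * a⁻¹) * (a * w * a⁻¹ * w⁻¹) := by
          group
        rw [e]
        exact mul_mem ((mem_normalizer_iff.1 ha _).1 hb') ha'
      inv_mem' := by
        rintro a ⟨ha, ha'⟩
        refine ⟨inv_mem ha, ?_⟩
        have e : a⁻¹ * w * a⁻¹⁻¹ * w⁻¹ = a⁻¹ * (a * w * a⁻¹ * w⁻¹)⁻¹ * a⁻¹⁻¹ := by group
        rw [e]
        exact (mem_normalizer_iff.1 (inv_mem ha) _).1 (inv_mem ha') }
  have hX : ∀ g, g ∈ X ↔ g ∈ normalizer (R : Set G) ∧ g * w * g⁻¹ * w⁻¹ ∈ R := fun _ => Iff.rfl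
  have hcomm : ∀ r ∈ R, r * w = w * r := fun r hr => h.c12 r (hRV hr) w hwV
  have h1 := card_eq_mul (X := X) (R := R) (w := w) (fun g hg => ((hX g).1 hg).2) (by
    intro r hr
    by_cases hr1 : r = 1
    · refine ⟨1, one_mem _, ?_⟩
      rw [hr1]; group
    obtain ⟨l, hl, hlR, hlr⟩ := htor r hr hr1
    have hlw : l * w = w * l := h.L12 l hl w hwV
    have e : l * t * w * (l * t)⁻¹ = r * w := by
      calc l * t * w * (l * t)⁻¹ = l * (t * w * t⁻¹) * l⁻¹ := by group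
        _ = l * v * l⁻¹ * (l * w * l⁻¹) := by rw [htw]; group
        _ = r * w := by rw [hlr, hlw, mul_inv_cancel_right]
    refine ⟨l * t, (hX _).2 ⟨mul_mem hlR (hTR ht), ?_⟩, e⟩
    rw [e, mul_inv_cancel_right]
    exact hr)
  have hSo : So ≤ X ⊓ centralizer ({w} : Set G) := by
    intro x hx
    have h2 : x * w = w * x := h.wSo hx
    refine ⟨(hX x).2 ⟨hTR (h.SoT hx), ?_⟩, mem_centralizer_singleton_iff.2 h2⟩
    rw [h2, mul_inv_cancel_right, mul_inv_cancel]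
    exact one_mem _
  have h2 : Nat.card R * Nat.card So ∣ Nat.card X := by
    rw [h1]
    exact mul_dvd_mul_left _ (card_dvd_of_le hSo)
  have hpR : IsPGroup 2 R := S.isPGroup'.to_le (hRV.trans (h.V1So.trans h.SoS))
  have hpSo : IsPGroup 2 So := S.isPGroup'.to_le h.SoS
  have : Fact (Nat.Prime 2) := ⟨Nat.prime_two⟩
  obtain ⟨a, ha⟩ := IsPGroup.iff_card.1 hpR
  obtain ⟨b, hb⟩ := IsPGroup.iff_card.1 hpSo
  have h3 : 2 ^ (a + b) ∣ Nat.card G := by
    rw [pow_add, ← ha, ← hb]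
    exact h2.trans X.card_subgroup_dvd_card
  have h4 : 2 ^ (a + b) ∣ Nat.card (S : Subgroup G) := by
    rw [S.card_eq_multiplicity]
    exact (pow_dvd_pow_iff (by norm_num) (by norm_num)).2
      ((Nat.Prime.pow_dvd_iff_le_factorization Nat.prime_two Nat.card_pos.ne').1 h3)
  have h5 : Nat.card R * Nat.card So ∣ 2 * Nat.card So := by
    rw [← h.card, ha, hb, ← pow_add]
    exact h4
  exact Nat.dvd_of_mul_dvd_mul_right Nat.card_pos h5

end Cfsg.Agent.Omega.IId.TriOf
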