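import Cfsg.Agent.Omega.IId.Match
import Cfsg.Agent.Omega.IId.TriOf
import Cfsg.Agent.Omega.IId.TorOf

/-!
# II.d, `q = 2`: the supply `[V_i, K_v] ≠ 1` (helper612 #13793 (S), helper593 #14067)

`M : NatK F S P (zl S P) ⊥ k`, `|F| = 2`, `line M i = {1, v}`, `K_v = {g ∈ C_G(v) : [O₂(C_G(v)), g] ≤ ⟨v⟩}`
(`Triangle.KK v`).

* `mem_line_two`, `comm_mem_line` : `[V_i, stab M i] ≤ line M i`;
* `o2_cent_le_stab` : `k ≤ 2`: `O₂(C_G(v)) ≤ stab M i` (whether or not `stab M i` is a Sylow 2-subgroup of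
  `C_G(v)`);
* `fac_le_KK` : `k ≤ 2`: `fac M i ≤ K_v`;
* `supply` : for a pair in normal position with `[V, V'] = line M i = {1, v}`, `k' ≤ 2` natural factors on the
  other side: `[V_i, K_v] ≠ 1`.
-/

set_option autoImplicit false
set_option linter.unusedSectionVars false

namespace Cfsg.Agent.Omega.IId

open Subgroup Pointwise Cfsg Cfsg.Agent.ZN Cfsg.Agent.ZN.ChoiceBase
open Cfsg.Agent.Omega.MinPar Cfsg.Agent.Omega.Frame Cfsg.Agent.Omega.FFThm Cfsg.Agent.Omega.FrameMulti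
open Cfsg.Agent.Lib.SL2Mat
open Cfsg.Agent.Omega.IId.Triangle (KK)
open Cfsg.Agent.Omega.NatPair (ap)
open scoped commutatorElement

universe u

variable {G : Type u} [Group G] {F : Type} [Field F] {P : Subgroup G}

section line

variable {S : Subgroup G} {k : ℕ} (M : NatK F S P (zl S P) ⊥ k)

/-- In a field of order 2 the only nonzero element is `1`. -/
theorem eq_one_of_card_two (hF : Nat.card F = 2) {x : F} (hx : x ≠ 0) : x = 1 := by
  obtain ⟨y, -, hu⟩ := (Nat.card_eq_two_iff' (0 : F)).1 hF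
  exact (hu x hx).trans (hu 1 one_ne_zero).symm

variable [Finite F]

/-- `line M i = {1, v}` -/
theorem mem_line_two (hF : Nat.card F = 2) {i : Fin k} {v x : G} (hv : v ∈ line M i) (hv1 : v ≠ 1)
    (hx : x ∈ line M i) : x = 1 ∨ x = v :=
  Two.eq_or_eq_of_card_two ((card_line M i).trans hF) hv hv1 hx

theorem line_eq_zpowers (hF : Nat.card F = 2) {i : Fin k} {v : G} (hv : v ∈ line M i) (hv1 : v ≠ 1) :
    line M i = zpowers v := by
  refine le_antisymm (fun x hx => ?_) ((zpowers_le).2 hv)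
  rcases mem_line_two M hF hv hv1 hx with rfl | rfl
  · exact one_mem _
  · exact mem_zpowers _

/-- `stab M i` centralises `line M i`. -/
theorem stab_comm_line (hSP : S ≤ P) (hF : Nat.card F = 2) {i : Fin k} {v x : G} (hv : v ∈ line M i)
    (hx : x ∈ stab M i) : x * v = v * x := by
  by_cases hv1 : v = 1
  · rw [hv1, one_mul, mul_one]
  · have h1 := (mem_normalizer_iff.1 (stab_normalizes_line M hSP i hx) v).1 hv
    rcases mem_line_two M hF hv hv1 h1 with h2 | h2
    · exfalso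
      apply hv1
      have e : v = x⁻¹ * (x * v * x⁻¹) * x := by group
      rw [e, h2]; group
    · exact mul_inv_eq_iff_eq_mul.1 h2

/-- `[V_i, stab M i] ≤ line M i`. -/
theorem comm_mem_line (hSP : S ≤ P) (hF : Nat.card F = 2) {i : Fin k} {a x : G} (ha : a ∈ fac M i)
    (hx : x ∈ stab M i) : a * x * a⁻¹ * x⁻¹ ∈ line M i := by
  have h1 : x * a⁻¹ * x⁻¹ ∈ fac M i := (mem_normalizer_iff.1 hx.2 _).1 (inv_mem ha)
  have h2 : x * a * x⁻¹ ∈ fac M i := (mem_normalizer_iff.1 hx.2 _).1 ha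
  have e : a * x * a⁻¹ * x⁻¹ = a * (x * a * x⁻¹)⁻¹ := by group
  rw [e, mem_line]
  refine ⟨mul_mem ha (inv_mem h2), ?_⟩
  have hsg : sg M (hSP hx.1) i = i := (mem_normalizer_fac_iff M (hSP hx.1)).1 hx.2
  have h3 := e_conj_line M hSP hx.1 ha.1 i
  rw [hsg] at h3
  rw [M.mul a ha.1 _ (inv_mem h2.1), e_inv M h2.1, Pi.add_apply, Pi.add_apply, Pi.neg_apply, Pi.neg_apply]
  by_cases h0 : M.e a i 1 = 0
  · rw [h0, h3.2 h0]; ring
  · rw [eq_one_of_card_two hF h0, eq_one_of_card_two hF (fun h4 => h0 (h3.1 h4))]; ring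

end line

section o2

variable [Finite G] [Finite F] [CharP F 2] {S : Sylow 2 G}

omit [Finite F] [CharP F 2] in
/-- A 2-group `A ≤ N`, not a Sylow 2-subgroup of `N`, is properly contained in a 2-subgroup of `N`. -/
theorem exists_bigger {A N : Subgroup G} (hA : IsPGroup 2 A) (hAN : A ≤ N) (h2 : 2 ∣ A.relIndex N) :
    ∃ T : Subgroup G, IsPGroup 2 T ∧ A ≤ T ∧ T ≤ N ∧ ¬ T ≤ A := by
  have : Fact (Nat.Prime 2) := ⟨Nat.prime_two⟩
  have h1 : IsPGroup 2 (A.subgroupOf N) := hA.comap_of_injective (Subgroup.subtype _) (Subgroup.subtype_injective _)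
  obtain ⟨Q, hQ⟩ := h1.exists_le_sylow
  refine ⟨(Q : Subgroup N).map N.subtype, Q.isPGroup'.map _, ?_, ?_, fun hcon => ?_⟩
  · intro x hx
    exact ⟨⟨x, hAN hx⟩, hQ (mem_subgroupOf.2 hx), rfl⟩
  · rintro _ ⟨x, -, rfl⟩
    exact x.2
  · have h3 : A.subgroupOf N = (Q : Subgroup N) := by
      refine le_antisymm hQ fun x hx => ?_
      exact mem_subgroupOf.2 (hcon ⟨x, hx, rfl⟩)
    rw [relIndex, h3] at h2
    exact Q.not_dvd_index h2

omit [CharP F 2] in
/-- `C_G(v) = N_G(line M i)`. -/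
theorem normalizer_line_eq {S : Subgroup G} {k : ℕ} (M : NatK F S P (zl S P) ⊥ k) (hF : Nat.card F = 2)
    {i : Fin k} {v : G} (hv : v ∈ line M i) (hv1 : v ≠ 1) :
    normalizer (line M i : Set G) = centralizer ({v} : Set G) := by
  ext x
  rw [Triangle.mem_cent]
  constructor
  · intro hx
    rcases mem_line_two M hF hv hv1 ((mem_normalizer_iff.1 hx v).1 hv) with h2 | h2
    · exfalso
      apply hv1
      have e : v = x⁻¹ * (x * v * x⁻¹) * x := by group
      rw [e, h2]; group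
    · exact mul_inv_eq_iff_eq_mul.1 h2
  · intro hx
    have h1 : x * v * x⁻¹ = v := mul_inv_eq_iff_eq_mul.2 hx
    have h3 : x⁻¹ * v * x = v := by
      calc x⁻¹ * v * x = x⁻¹ * (v * x) := by group
        _ = v := by rw [← hx]; group
    rw [mem_normalizer_iff]
    intro y
    constructor
    · intro hy
      rcases mem_line_two M hF hv hv1 hy with rfl | rfl
      · rw [mul_one, mul_inv_cancel]; exact one_mem _
      · rw [h1]; exact hv
    · intro hy
      have e : y = x⁻¹ * (x * y * x⁻¹) * x := by group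
      rcases mem_line_two M hF hv hv1 hy with h2 | h2
      · rw [e, h2, mul_one, inv_mul_cancel]; exact one_mem _
      · rw [e, h2, h3]; exact hv

/-- **`O₂(C_G(v)) ≤ stab M i`**, `line M i = {1, v}`, `k ≤ 2`. -/
theorem o2_cent_le_stab (hc : IsCharacteristicTwoType G) (hP : IsParS (S : Subgroup G) P) {k : ℕ}
    (M : NatK F (S : Subgroup G) P (zl (S : Subgroup G) P) ⊥ k) (hk1 : 1 ≤ k) (hk2 : k ≤ 2)
    (hF : Nat.card F = 2) {i : Fin k} {v : G} (hv : v ∈ line M i) (hv1 : v ≠ 1) :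
    ZN.o2 (centralizer ({v} : Set G)) ≤ stab M i := by
  have hSP : (S : Subgroup G) ≤ P := hP.isLoc.le
  have hst : stab M i ≤ centralizer ({v} : Set G) := fun x hx =>
    Triangle.mem_cent.2 (stab_comm_line M hSP hF hv hx)
  have hst2 : IsPGroup 2 (stab M i) := S.isPGroup'.to_le (stab_le M i)
  by_cases hd : 2 ∣ (stab M i).relIndex (centralizer ({v} : Set G))
  swap
  · exact Cfsg.Agent.MinSimple.VModule.o2_le_of_sylow hst2 hd
  rcases Nat.lt_or_ge k 2 with h1 | h1
  · -- one factor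
    exfalso
    have h2 : k = 1 := by omega
    subst h2
    have h3 : stab M i = (S : Subgroup G) := by
      refine le_antisymm (stab_le M i) (le_inf le_rfl fun x hx => ?_)
      rw [mem_normalizer_fac_iff M (hSP hx)]
      exact Subsingleton.elim _ _
    rw [h3] at hd hst
    exact MinSimple.Basic.not_dvd_relIndex S hst hd
  · have h2 : k = 2 := by omega
    subst h2
    obtain ⟨j, hij⟩ : ∃ j : Fin 2, i ≠ j := ⟨i + 1, by omega⟩
    have h := two_of hc hP M hij
    obtain ⟨T, hT2, hT, hTN, hTne⟩ := exists_bigger hst2 hst hd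
    have hfix : fac M i ⊓ centralizer (stab M i : Set G) ≤ line M i := cent_le_line M hSP i
    have hvf : v ∈ fac M i ⊓ centralizer (stab M i : Set G) :=
      ⟨line_le M i hv, mem_centralizer_iff.2 fun t ht => stab_comm_line M hSP hF hv ht⟩
    have hz : Nat.card (zc (S : Subgroup G)) = 2 := by
      rw [← TriOf.card_fix_eq h]
      refine le_antisymm ?_ ?_
      · calc Nat.card (fac M i ⊓ centralizer (stab M i : Set G) : Subgroup G) ≤ Nat.card (line M i) :=
            Subgroup.card_le_of_le hfix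
          _ = 2 := (card_line M i).trans hF
      · have : Nontrivial (fac M i ⊓ centralizer (stab M i : Set G) : Subgroup G) :=
          ⟨⟨v, hvf⟩, 1, fun h => hv1 (congrArg Subtype.val h)⟩
        exact Finite.one_lt_card
    rw [← normalizer_line_eq M hF hv hv1] at hTN
    obtain ⟨Q, s, w, hQ, ht⟩ := TriOf.exists_tri h hz (line_le M i) hfix hT2 hT hTN hTne
    have hw : w = v := by
      have h3 : w ∈ line M i := hfix ⟨ht.vV, mem_centralizer_iff.2 fun t ht' => ht.vSo t ht'⟩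
      exact (mem_line_two M hF hv hv1 h3).resolve_left ht.v1
    subst hw
    have h4 := ht.o2_le_So hc
    have h5 : Cfsg.Agent.Omega.FrameNOFF.CZ (Q : Subgroup G) = centralizer ({w} : Set G) := by
      ext x
      rw [ht.mem_CZ, Triangle.mem_cent]
    rwa [h5] at h4

/-- **`fac M i ≤ K_v`**, `line M i = {1, v}`, `k ≤ 2`. -/
theorem fac_le_KK (hc : IsCharacteristicTwoType G) (hP : IsParS (S : Subgroup G) P) {k : ℕ}
    (M : NatK F (S : Subgroup G) P (zl (S : Subgroup G) P) ⊥ k) (hk1 : 1 ≤ k) (hk2 : k ≤ 2)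
    (hF : Nat.card F = 2) {i : Fin k} {v : G} (hv : v ∈ line M i) (hv1 : v ≠ 1) :
    fac M i ≤ KK v := by
  have hSP : (S : Subgroup G) ≤ P := hP.isLoc.le
  intro a ha
  refine Triangle.mem_KK.2 ⟨comm M ha.1 (line_le M i hv).1, fun x hx => ?_⟩
  rw [← line_eq_zpowers M hF hv hv1]
  exact comm_mem_line M hSP hF ha (o2_cent_le_stab hc hP M hk1 hk2 hF hv hv1 hx)

end o2

section supply

variable [Finite G] [Finite F] {F' : Type} [Field F'] [Finite F'] [CharP F' 2]

/-- The partner of the factor `i`: `[V, V'] = line M i`. -/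
theorem exists_partner (hc : IsCharacteristicTwoType G) {S S' : Sylow 2 G} {P P' : Subgroup G}
    (h : Pair S S' P P') (hT : NoOver (zl (S : Subgroup G) P) P)
    (hT' : NoOver (zl (S' : Subgroup G) P') P') {k k' : ℕ}
    (M : NatK F (S : Subgroup G) P (zl (S : Subgroup G) P) ⊥ k)
    (M' : NatK F' (S' : Subgroup G) P' (zl (S' : Subgroup G) P') ⊥ k') (hk' : 0 < k') {i : Fin k}
    (hR : ⁅zl (S : Subgroup G) P, zl (S' : Subgroup G) P'⁆ = line M i) :
    ∃ j, line M i = line M' j ∧ Nat.card F' = Nat.card F ∧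
      ∃ a ∈ fac M i, ∃ b ∈ fac M' j, b * a ≠ a * b := by
  obtain ⟨I, hI⟩ := exists_ind M h.le (h.off hc hT')
  obtain ⟨I', hI'⟩ := exists_ind M' h.le' (h.symm.off hc hT)
  have hVP : zl (S' : Subgroup G) P' ≤ P := h.le.trans h.star.le
  have hVP' : zl (S : Subgroup G) P ≤ P' := h.le'.trans h.star'.le
  have hcomm := hI.commutator_eq hVP
  have hi : i ∈ I := by
    obtain ⟨j, hj⟩ := lines_ne_bot (M := M) (hcomm ▸ h.ne)
    have h1 : line M j ≤ line M i := by
      rw [← hR, hcomm]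
      exact lines_mono M (Set.singleton_subset_iff.2 hj)
    rw [← line_inj h1]
    exact hj
  obtain ⟨j, -, hl, hact⟩ := exists_match hI hI' hVP hVP' hk' hi
  refine ⟨j, hl, ?_, ?_⟩
  · rw [← card_line M' j, ← hl, card_line M i]
  · obtain ⟨a, ha, hae⟩ := exists_fac M i ![0, 1]
    obtain ⟨c, hcj, -, hca⟩ := hact a ha (by rw [hae]; exact one_ne_zero)
    obtain ⟨b, hb, hbe⟩ := exists_fac M' j ![0, 1]
    refine ⟨a, ha, b, hb, fun h0 => ?_⟩
    have h1 := (e_comm hb.1 (hVP' ha.1) hca j).2.1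
    have h2 : ⁅b, a⁆ = 1 := commutatorElement_eq_one_iff_mul_comm.2 h0
    rw [h2, e_one, hbe] at h1
    apply hcj
    have h3 : (0 : F') = -(c j * 1) := h1
    rw [mul_one] at h3
    exact neg_eq_zero.1 h3.symm

/-- **The supply (S)**: `[V_i, K_v] ≠ 1`. -/
theorem supply (hc : IsCharacteristicTwoType G) {S S' : Sylow 2 G} {P P' : Subgroup G}
    (h : Pair S S' P P') (hT : NoOver (zl (S : Subgroup G) P) P)
    (hT' : NoOver (zl (S' : Subgroup G) P') P') {k k' : ℕ}
    (M : NatK F (S : Subgroup G) P (zl (S : Subgroup G) P) ⊥ k)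
    (M' : NatK F' (S' : Subgroup G) P' (zl (S' : Subgroup G) P') ⊥ k') (hk' : 1 ≤ k') (hk2 : k' ≤ 2)
    {i : Fin k} (hR : ⁅zl (S : Subgroup G) P, zl (S' : Subgroup G) P'⁆ = line M i)
    (hF : Nat.card F = 2) {v : G} (hv : v ∈ line M i) (hv1 : v ≠ 1) :
    ∃ a ∈ fac M i, ∃ b ∈ KK v, b * a ≠ a * b := by
  obtain ⟨j, hl, hcard, a, ha, b, hb, hne⟩ := exists_partner hc h hT hT' M M' hk' hR
  refine ⟨a, ha, b, ?_, hne⟩
  exact fac_le_KK hc h.star' M' hk' hk2 (hcard.trans hF) (hl ▸ hv) hv1 hb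

end supply

end Cfsg.Agent.Omega.IId
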