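import Cfsg.Agent.Omega.IId.MatchSym

/-!
# `WrTwo` from THEOREM C (corollary of #15545, helper610)

`CC M` : the conclusion of THEOREM C for `M : NatK F S P (zl S P) ⊥ k`: `fac M l` centralises `O₂(N_G(line M i))` for
`l ≠ i`.

* `cor_nat` : natural factors on both sides, `CC M`: `|[V, V']| = q`;
* `cor_sym` : natural factors against even-subset modules, `CC M`: `|[V, V']| = q`;
* `ThmC`, `wrTwo_of` : THEOREM C for all `P ∈ P*(S)` implies `WrTwo K`.
-/

set_option autoImplicit false

namespace Cfsg.Agent.Omega.IId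

open Subgroup Pointwise Cfsg Cfsg.Agent.ZN Cfsg.Agent.ZN.ChoiceBase
open Cfsg.Agent.Omega.MinPar Cfsg.Agent.Omega.Frame Cfsg.Agent.Omega.FFThm Cfsg.Agent.Omega.FrameMulti
open Cfsg.Agent.Omega.Half (Amb amb_of_loc)
open Cfsg.Agent.Omega.Half.SymA
open Cfsg.Agent.Lib.SL2Mat
open scoped commutatorElement Classical

universe u

section defs

variable {G : Type u} [Group G] {F : Type} [Field F] {S P : Subgroup G} {k : ℕ}

/-- The conclusion of THEOREM C. -/
def CC (M : NatK F S P (zl S P) ⊥ k) : Prop :=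
  ∀ i l, l ≠ i → fac M l ≤ centralizer (o2 (normalizer (line M i : Set G)) : Set G)

variable (M : NatK F S P (zl S P) ⊥ k)

theorem exists_line (i : Fin k) : ∃ z ∈ line M i, z ≠ 1 := by
  by_contra hcon
  push Not at hcon
  exact line_ne_bot (M := M) i ((eq_bot_iff_forall _).2 hcon)

/-- the lines lie in `O₂(N_G(line M i))` -/
theorem CC.line_le_o2 [Finite G] [Finite F] [CharP F 2] (hc : IsCharacteristicTwoType G) {M : NatK F S P (zl S P) ⊥ k}
    (hC : CC M) {i j : Fin k} (hij : j ≠ i) : line M j ≤ o2 (normalizer (line M i : Set G)) := by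
  have h2 : IsPGroup 2 (line M i) := by
    rintro ⟨x, hx⟩
    exact ⟨1, Subtype.ext (by
      change x ^ 2 ^ 1 = 1
      rw [pow_one, pow_two, sq M hx.1.1])⟩
  refine le_trans (le_inf ?_ ((line_le M j).trans (hC i j hij)))
    (MinSimple.Basic.char2_normalizer hc h2 (line_ne_bot i))
  intro v hv
  rw [mem_normalizer_iff]
  have key : ∀ x ∈ zl S P, v * x * v⁻¹ = x := fun x hx => by
    rw [comm M hv.1.1 hx]
    group
  intro x
  constructor
  · intro hx
    rw [key x hx.1.1]
    exact hx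
  · intro hx
    have h3 : v * x * v⁻¹ ∈ zl S P := hx.1.1
    have h4 : x ∈ zl S P := by
      have h5 := mul_mem (mul_mem (inv_mem hv.1.1) h3) hv.1.1
      have h6 : v⁻¹ * (v * x * v⁻¹) * v = x := by group
      rwa [h6] at h5
    rwa [key x h4] at hx

end defs

section cor

variable {G : Type u} [Group G] [Finite G] {F : Type} [Field F] [Finite F] [CharP F 2] {k k' : ℕ}

/-- **Corollary of THEOREM C**, natural factors on both sides. -/
theorem cor_nat {F' : Type} [Field F'] (hc : IsCharacteristicTwoType G) {S S' : Sylow 2 G} {P P' : Subgroup G}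
    (h : Pair S S' P P')
    (hT : NoOver (zl (S : Subgroup G) P) P) (hT' : NoOver (zl (S' : Subgroup G) P') P')
    (M : NatK F (S : Subgroup G) P (zl (S : Subgroup G) P) ⊥ k)
    (M' : NatK F' (S' : Subgroup G) P' (zl (S' : Subgroup G) P') ⊥ k') (hk' : 1 ≤ k') (hC : CC M) :
    Nat.card ↥⁅zl (S : Subgroup G) P, zl (S' : Subgroup G) P'⁆ = Nat.card F := by
  obtain ⟨I, hI⟩ := exists_ind M h.le (h.off hc hT')
  obtain ⟨I', hI'⟩ := exists_ind M' h.le' (h.symm.off hc hT)
  have hVP : zl (S' : Subgroup G) P' ≤ P := h.le.trans h.star.le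
  have hVP' : zl (S : Subgroup G) P ≤ P' := h.le'.trans h.star'.le
  have hcomm := hI.commutator_eq hVP
  obtain ⟨i, hi⟩ : I.Nonempty := lines_ne_bot (M := M) (hcomm ▸ h.ne)
  by_cases hex : ∃ j ∈ I, j ≠ i
  swap
  · push Not at hex
    have hIi : I = {i} := by
      ext x
      exact ⟨fun hx => hex x hx, fun hx => by rw [show x = i from hx]; exact hi⟩
    rw [hcomm, hIi]
    exact card_line M i
  exfalso
  obtain ⟨j, hj, hji⟩ := hex
  obtain ⟨i', -, hli, -⟩ := exists_match hI hI' hVP hVP' (by omega) hi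
  obtain ⟨j', -, hlj, hact⟩ := exists_match hI hI' hVP hVP' (by omega) hj
  have hij' : j' ≠ i' := by
    rintro rfl
    exact hji (line_inj (M := M) (hlj.trans hli.symm).le)
  set W := o2 (normalizer (line M i : Set G)) with hW
  -- `z ∈ W`
  obtain ⟨z, hz, hz1⟩ := exists_line M j
  have hzW : z ∈ W := hC.line_le_o2 hc hji hz
  have hz' : z ∈ fac M' j' := line_le M' j' (hlj ▸ hz)
  -- `fac M' j' ≤ W`
  have hfac : ∀ a ∈ fac M' j', a ≠ 1 → a ∈ W := by
    intro a ha ha1
    obtain ⟨g, hg, hga⟩ := exists_grp M' hz' ha hz1 ha1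
    have hgN : g ∈ normalizer (line M i : Set G) := by
      have hdisj : Disjoint ({j'} : Set (Fin k')) {i'} := Set.disjoint_singleton.2 hij'
      have hcent : ∀ x ∈ line M i, g * x * g⁻¹ = x := by
        intro x hx
        have hx' : x ∈ fac M' i' := line_le M' i' (hli ▸ hx)
        rw [grp_comm M' hdisj hg hx']
        group
      rw [mem_normalizer_iff]
      intro x
      constructor
      · intro hx
        rw [hcent x hx]
        exact hx
      · intro hx
        have h1 := hcent _ hx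
        have h2 : x = g * x * g⁻¹ := by
          have h3 : g * (g * x * g⁻¹) = (g * x * g⁻¹) * g := by
            calc g * (g * x * g⁻¹) = (g * (g * x * g⁻¹) * g⁻¹) * g := by group
              _ = (g * x * g⁻¹) * g := by rw [h1]
          have h4 : g * x * g⁻¹ = x := by
            have h5 : g * (g * x * g⁻¹) = g * x := by rw [h3]; group
            exact mul_left_cancel h5
          exact h4.symm
        rw [h2]
        exact hx
    rw [← hga]
    exact (mem_normalizer_iff.1 (Cfsg.Agent.ZN.ChoiceSit.le_normalizer_o2 _ hgN) z).1 hzW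
  -- a noncommuting pair
  obtain ⟨v, hv, hve⟩ := exists_fac M j ![0, 1]
  obtain ⟨c, hcj, -, hca⟩ := hact v hv (by rw [hve]; exact one_ne_zero)
  obtain ⟨a, ha, hae⟩ := exists_fac M' j' ![0, 1]
  have hne : v * a ≠ a * v := by
    intro h0
    have h1 := (e_comm ha.1 (hVP' hv.1) hca j').2.1
    have h2 : ⁅a, v⁆ = 1 := commutatorElement_eq_one_iff_mul_comm.2 h0.symm
    rw [h2, e_one, hae] at h1
    apply hcj
    have h3 : (0 : F') = -(c j' * 1) := h1
    rw [mul_one] at h3
    exact (neg_eq_zero.1 h3.symm)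
  apply hne
  have ha1 : a ≠ 1 := by
    intro h0
    rw [h0, e_one] at hae
    exact zero_ne_one (congrFun hae 1)
  exact (mem_centralizer_iff.1 (hC i j hji hv) a (hfac a ha ha1)).symm

/-- **Corollary of THEOREM C**, natural factors against even-subset modules. -/
theorem cor_sym {m' : ℕ} (hm' : 1 ≤ m') (hc : IsCharacteristicTwoType G) {S S' : Sylow 2 G} {P P' : Subgroup G}
    (h : Pair S S' P P')
    (hT : NoOver (zl (S : Subgroup G) P) P) (hT' : NoOver (zl (S' : Subgroup G) P') P')
    (M : NatK F (S : Subgroup G) P (zl (S : Subgroup G) P) ⊥ k)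
    (M' : SymK (S' : Subgroup G) P' (zl (S' : Subgroup G) P') ⊥ k' m') (hC : CC M) :
    Nat.card ↥⁅zl (S : Subgroup G) P, zl (S' : Subgroup G) P'⁆ = Nat.card F := by
  obtain ⟨I, hI⟩ := exists_ind M h.le (h.off hc hT')
  have hVP : zl (S' : Subgroup G) P' ≤ P := h.le.trans h.star.le
  have hVP' : zl (S : Subgroup G) P ≤ P' := h.le'.trans h.star'.le
  have hcomm := hI.commutator_eq hVP
  have hX : Mix M M' I := ⟨h, hc, hm', h.symm.off hc hT, hI⟩
  obtain ⟨i, hi⟩ : I.Nonempty := lines_ne_bot (M := M) (hcomm ▸ h.ne)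
  by_cases hex : ∃ j ∈ I, j ≠ i
  swap
  · push Not at hex
    have hIi : I = {i} := by
      ext x
      exact ⟨fun hx => hex x hx, fun hx => by rw [show x = i from hx]; exact hi⟩
    rw [hcomm, hIi]
    exact card_line M i
  exfalso
  obtain ⟨j, hj, hji⟩ := hex
  obtain ⟨v₀, hv₀, hve₀⟩ := exists_fac M i ![0, 1]
  obtain ⟨v₁, hv₁, hve₁⟩ := exists_fac M j ![0, 1]
  obtain ⟨p₀, q₀, hpq₀, -, hp₀, hq₀, -, hz₀⟩ := hX.exists_pair hi hv₀ (by rw [hve₀]; exact one_ne_zero)
  obtain ⟨p₁, q₁, hpq₁, hpq₁', hp₁, hq₁, hact₁, hz₁⟩ := hX.exists_pair hj hv₁ (by rw [hve₁]; exact one_ne_zero)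
  set W := o2 (normalizer (line M i : Set G)) with hW
  obtain ⟨z, hz, hz1⟩ := exists_line M i
  obtain ⟨z', hz', hz1'⟩ := exists_line M j
  have hE := hz₀ z hz hz1
  have hE' := hz₁ z' hz' hz1'
  have hlineV' : ∀ l ∈ I, line M l ≤ zl (S' : Subgroup G) P' := by
    intro l hl
    refine le_trans ?_ (commutator_le_right' h)
    rw [hcomm]
    exact lines_mono M (Set.singleton_subset_iff.2 hl)
  have hzV' : z ∈ zl (S' : Subgroup G) P' := hlineV' i hi hz
  have hzV'' : z' ∈ zl (S' : Subgroup G) P' := hlineV' j hj hz'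
  have hzz : z ≠ z' := by
    rintro rfl
    apply hz1
    have h1 : z ∈ fac M i ⊓ fac M j := ⟨line_le M i hz, line_le M j hz'⟩
    rwa [fac_inf M (Ne.symm hji), mem_bot] at h1
  -- the two pairs are disjoint
  have hinv : ∀ r, E M' z (Equiv.swap p₁ q₁ r) = E M' z r := by
    intro r
    have h1 := hact₁ z hzV' r
    have h2 : v₁ * z * v₁⁻¹ = z := by
      rw [comm M hv₁.1 hz.1.1]
      group
    rwa [h2] at h1
  have hdis : E M' z q₁ = 0 := by
    have h1 := hinv q₁
    rw [Equiv.swap_apply_right] at h1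
    rcases zmod2 (E M' z q₁) with h3 | h3
    · exact h3
    · exfalso
      have h2 : E M' z p₁ = 1 := h1.trans h3
      apply hzz
      apply inj M' hzV' hzV''
      intro r
      rw [hE, hE']
      rw [hE] at h2 h3
      have h4 : p₁ = p₀ ∨ p₁ = q₀ := by
        by_contra hcon
        push Not at hcon
        rw [if_neg hcon.1, if_neg hcon.2] at h2
        exact zero_ne_one h2
      have h5 : q₁ = p₀ ∨ q₁ = q₀ := by
        by_contra hcon
        push Not at hcon
        rw [if_neg hcon.1, if_neg hcon.2] at h3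
        exact zero_ne_one h3
      rcases h4 with h4 | h4 <;> rcases h5 with h5 | h5
      · exact absurd (h4.trans h5.symm) hpq₁
      · rw [h4, h5]
      · rw [h4, h5, add_comm]
      · exact absurd (h4.trans h5.symm) hpq₁
  -- the lift of the transposition `(q₁, 0)`
  obtain ⟨g, hg, hgs⟩ := exists_swap (M := M') (p := q₁) (q := (q₁.1, 0)) rfl
  have hE0 : E M' z (q₁.1, 0) = 0 := by
    rw [hE, if_neg, if_neg]
    · rfl
    · intro h4
      exact hq₀ (congrArg Prod.snd h4).symm
    · intro h4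
      exact hp₀ (congrArg Prod.snd h4).symm
  have hgz : g * z * g⁻¹ = z := by
    apply inj M' (hX.amb'.conj_mem hg hzV') hzV'
    intro r
    have h1 := hgs z hzV' (Equiv.swap q₁ (q₁.1, 0) r)
    rw [Equiv.swap_apply_self] at h1
    rw [h1]
    by_cases hr : r = q₁
    · rw [hr, Equiv.swap_apply_left, hE0, hdis]
    · by_cases hr' : r = (q₁.1, 0)
      · rw [hr', Equiv.swap_apply_right, hE0, hdis]
      · rw [Equiv.swap_apply_of_ne_of_ne hr hr']
  have hline : ∀ x ∈ line M i, x = 1 ∨ x = z := by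
    intro x hx
    by_cases hx1 : x = 1
    · exact Or.inl hx1
    · right
      exact inj M' (hlineV' i hi hx) hzV' fun r => by rw [hz₀ x hx hx1, hE]
  have hgN : g ∈ normalizer (line M i : Set G) := by
    refine mem_normalizer_of_cj_le fun x hx => ?_
    rw [mem_cj] at hx
    rcases hline _ hx with h1 | h1
    · have : x = 1 := by
        have h2 : g * (g⁻¹ * x * g) * g⁻¹ = x := by group
        rw [h1] at h2
        rw [← h2]
        group
      rw [this]
      exact one_mem _
    · have : x = z := by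
        have h2 : g * (g⁻¹ * x * g) * g⁻¹ = x := by group
        rw [h1, hgz] at h2
        exact h2.symm
      rw [this]
      exact hz
  -- `w ∈ W`
  have hw : g * z' * g⁻¹ ∈ W :=
    (mem_normalizer_iff.1 (Cfsg.Agent.ZN.ChoiceSit.le_normalizer_o2 _ hgN) z').1 (hC.line_le_o2 hc hji hz')
  have hEw : ∀ r, E M' (g * z' * g⁻¹) r = E M' z' (Equiv.swap q₁ (q₁.1, 0) r) := by
    intro r
    have h1 := hgs z' hzV'' (Equiv.swap q₁ (q₁.1, 0) r)
    rwa [Equiv.swap_apply_self] at h1
  have h3 := mem_centralizer_iff.1 (hC i j hji hv₁) _ hw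
  have h4 := hact₁ _ (hX.amb'.conj_mem hg hzV'') p₁
  have h5 : v₁ * (g * z' * g⁻¹) * v₁⁻¹ = g * z' * g⁻¹ := by rw [← h3]; group
  have hp0 : p₁ ≠ (q₁.1, 0) := by
    intro h6
    exact hp₁ (congrArg Prod.snd h6)
  have hq0 : ((q₁.1, 0) : Pt k' m') ≠ q₁ := by
    intro h6
    exact hq₁ (congrArg Prod.snd h6).symm
  rw [h5, Equiv.swap_apply_left, hEw, hEw, Equiv.swap_apply_left, Equiv.swap_apply_of_ne_of_ne hpq₁ hp0, hE',
    hE', if_neg hp0.symm, if_neg hq0, if_pos rfl, if_neg hpq₁] at h4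
  exact zero_ne_one h4

end cor

/-- **THEOREM C** (#15545). -/
def ThmC : Prop :=
  ∀ (G : Type u) [Group G] [Finite G] (_ : IsCharacteristicTwoType G) (S : Sylow 2 G) (P : Subgroup G)
    (_ : IsParS (S : Subgroup G) P) (F : Type) [Field F] [Finite F] [CharP F 2] (k : ℕ)
    (M : NatK F (S : Subgroup G) P (zl (S : Subgroup G) P) ⊥ k), CC M

/-- `WrTwo` from THEOREM C. -/
theorem wrTwo_of (hC : ThmC.{u}) (K : Cls.{u}) : WrTwo K := by
  intro G _ _ S S' hH P P' h F F' _ _ _ _ _ _ k k' M M' hk hk' hne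
  exact hne (cor_nat hH.ctx.char2 h (hH.typed' h).1.noOver (hH.typed' h).2.noOver M M' hk'
    (hC G hH.ctx.char2 S P h.star F k M))

end Cfsg.Agent.Omega.IId
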