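import Cfsg.Agent.Omega.IId.TwoK
import Cfsg.Agent.Omega.IId.M4.HypCj

/-!
# II.d: `WrBig K` from its parts `q = 2` and `q ≥ 4` (assembler: helper36)

* `WrBigTwo`  : `P` has `k > 2` natural factors over `𝔽₂`, `P'` has `k' ≥ 1` over `𝔽₂`, `|[V, V']| = 2`;
* `WrBigFour` : the same with `|F| = |F'| = |[V, V']| ≥ 4`.
(If only `P'` has more than two factors the members are exchanged.)
-/

set_option autoImplicit false

namespace Cfsg.Agent.Omega.IId

open Subgroup Pointwise Cfsg Cfsg.Agent.ZN.ChoiceBase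
open Cfsg.Agent.ZN (o2 zc zl)
open Cfsg.Agent.Omega.MinPar Cfsg.Agent.Omega.Frame Cfsg.Agent.Omega.FFThm Cfsg.Agent.Omega.FrameMulti

universe u

section leaves

variable (K : Cls.{u})

/-- `WrBig`, `q = 2`, `k > 2`. (heads: helper610, helper309) -/
def WrBigTwo : Prop :=
  ∀ (G : Type u) [Group G] [Finite G] (S S' : Sylow 2 G), Hyp K S → ∀ (P P' : Subgroup G), Pair S S' P P' →
    ∀ (F F' : Type) [Field F] [Finite F] [CharP F 2] [Field F'] [Finite F'] [CharP F' 2] (k k' : ℕ)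
      (_ : NatK F (S : Subgroup G) P (zl (S : Subgroup G) P) ⊥ k)
      (_ : NatK F' (S' : Subgroup G) P' (zl (S' : Subgroup G) P') ⊥ k'), 2 < k → 1 ≤ k' →
      Nat.card F = 2 → Nat.card F' = 2 →
      Nat.card ↥⁅zl (S : Subgroup G) P, zl (S' : Subgroup G) P'⁆ = 2 → IsKnownSimple' G

/-- `WrBig`, `q ≥ 4`, `k > 2`. (head: helper540) -/
def WrBigFour : Prop :=
  ∀ (G : Type u) [Group G] [Finite G] (S S' : Sylow 2 G), Hyp K S → ∀ (P P' : Subgroup G), Pair S S' P P' →
    ∀ (F F' : Type) [Field F] [Finite F] [CharP F 2] [Field F'] [Finite F'] [CharP F' 2] (k k' : ℕ)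
      (_ : NatK F (S : Subgroup G) P (zl (S : Subgroup G) P) ⊥ k)
      (_ : NatK F' (S' : Subgroup G) P' (zl (S' : Subgroup G) P') ⊥ k'), 2 < k → 1 ≤ k' →
      4 ≤ Nat.card F → Nat.card F' = Nat.card F →
      Nat.card ↥⁅zl (S : Subgroup G) P, zl (S' : Subgroup G) P'⁆ = Nat.card F → IsKnownSimple' G

variable {K}

/-- **`WrBig K` from its parts.** -/
theorem wrBig_of (h2 : WrBigTwo K) (h4 : WrBigFour K) : WrBig K := by
  have key : ∀ (G : Type u) [Group G] [Finite G] (S S' : Sylow 2 G), Hyp K S → ∀ (P P' : Subgroup G),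
      Pair S S' P P' →
      ∀ (F F' : Type) [Field F] [Finite F] [CharP F 2] [Field F'] [Finite F'] [CharP F' 2] (k k' : ℕ)
        (_ : NatK F (S : Subgroup G) P (zl (S : Subgroup G) P) ⊥ k)
        (_ : NatK F' (S' : Subgroup G) P' (zl (S' : Subgroup G) P') ⊥ k'), 2 < k → 1 ≤ k' →
        Nat.card F' = Nat.card F →
        Nat.card ↥⁅zl (S : Subgroup G) P, zl (S' : Subgroup G) P'⁆ = Nat.card F → IsKnownSimple' G := by
    intro G _ _ S S' hH P P' hp F F' _ _ _ _ _ _ k k' M M' hk hk' hF hc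
    rcases FrameFF.two_le_card (F := F) with hq | hq
    · exact h2 G S S' hH P P' hp F F' k k' M M' hk hk' hq (hF.trans hq) (hc.trans hq)
    · exact h4 G S S' hH P P' hp F F' k k' M M' hk hk' hq hF hc
  intro G _ _ S S' hH P P' hp F F' _ _ _ _ _ _ k k' M M' hk hk' hb hc
  obtain ⟨t1, t2⟩ := hH.typed' hp
  obtain ⟨-, -, -, -, -, -, hF, -⟩ := TwoK.matching hH.ctx.char2 hp t1.noOver t2.noOver M M'
  rcases hb with hb | hb
  · exact key G S S' hH P P' hp F F' k k' M M' hb hk' hF.symm hc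
  · refine key G S' S (hH.conj S') P' P hp.symm F' F k' k M' M hb (by omega) hF ?_
    rw [commutator_comm, hc, hF]

end leaves

end Cfsg.Agent.Omega.IId
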