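import Cfsg.Agent.Omega.Half.Basic
import Cfsg.Agent.Involutions.NormalFour

/-!
# LEMMA NL (helper963, bb OMEGA #17249): nonlocality for free

`G` of characteristic 2 type, `1 ≠ R ≤ A`, `A` a 2-group, `C_G(R) ≤ H ≤ N_G(R)`, `A ≤ O₂(H)`, `[A, O₂(H)] ≤ R`,
`D ≤ N_G(A)` irreducible on `A`.

* `nonLoc_mixed` : two such groups `A`, `B` with `R ≤ [A, B]`, `D'` irreducible on `B`: no nontrivial 2-group is
  normalised by `H`, `D` and `D'` (no Sylow hypothesis);
* `Cor.nonLoc` : `R ≤ [A, A^c]` for some `c ∈ H`: `NonLoc H D`;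
* `cor_four`, `nonLoc_four` : `A` a four-group, `H = C_G(v)`.
-/

set_option autoImplicit false
set_option linter.unusedSectionVars false

namespace Cfsg.Agent.Omega.IId.NLFree

open Subgroup Cfsg Cfsg.Agent.ZN Cfsg.Agent.Omega.MinPar Cfsg.Agent.Omega
open Cfsg.Agent.MinSimple.VModule (o2_le o2_isPGroup le_normalizer_o2 le_o2)

universe u

variable {G : Type u} [Group G]

/-! ### Generalities -/

theorem isPGroup_of_odd [Finite G] {X : Subgroup G} (h : ∀ x ∈ X, Odd (orderOf x) → x = 1) : IsPGroup 2 X := by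
  rintro ⟨x, hx⟩
  have hpos : 0 < orderOf x := orderOf_pos x
  obtain ⟨k, m, hm, e⟩ := Nat.exists_eq_two_pow_mul_odd hpos.ne'
  refine ⟨k, Subtype.ext (h _ (X.pow_mem hx _) ?_)⟩
  have h1 : orderOf (x ^ 2 ^ k) = m := by
    rw [orderOf_pow_of_dvd (by positivity) (by rw [e]; exact dvd_mul_right _ _), e]
    exact Nat.mul_div_cancel_left _ (by positivity)
  show Odd (orderOf (x ^ 2 ^ k))
  rw [h1]
  exact hm

theorem eq_one_of_odd {X : Subgroup G} (h : IsPGroup 2 X) {x : G} (hx : x ∈ X) (ho : Odd (orderOf x)) : x = 1 := by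
  obtain ⟨k, hk⟩ := h ⟨x, hx⟩
  have hk' : x ^ 2 ^ k = 1 := congrArg Subtype.val hk
  have h1 := orderOf_dvd_of_pow_eq_one hk'
  have h2 : Nat.Coprime (orderOf x) (2 ^ k) := Nat.Coprime.pow_right k (Nat.coprime_two_right.2 ho)
  exact orderOf_eq_one_iff.1 (Nat.Coprime.eq_one_of_dvd h2 h1)

/-- odd order elements stabilising a chain of length 2 of a 2-group -/
theorem comm_of_odd {c w : G} (hc : Odd (orderOf c)) {P : Subgroup G} (hP : IsPGroup 2 P)
    (h : c * w * c⁻¹ * w⁻¹ ∈ P) (h2 : c * (c * w * c⁻¹ * w⁻¹) = c * w * c⁻¹ * w⁻¹ * c) : c * w = w * c := by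
  set t := c * w * c⁻¹ * w⁻¹ with ht
  have hk : ∀ k : ℕ, c ^ k * w * (c ^ k)⁻¹ = t ^ k * w := by
    intro k
    induction k with
    | zero => simp
    | succ k ih =>
      have hct : c * t ^ k = t ^ k * c := (show Commute c t from h2).pow_right k
      calc c ^ (k + 1) * w * (c ^ (k + 1))⁻¹ = c * (c ^ k * w * (c ^ k)⁻¹) * c⁻¹ := by
            rw [pow_succ']; group
        _ = (c * t ^ k) * w * c⁻¹ := by rw [ih]; group
        _ = t ^ k * (c * w * c⁻¹ * w⁻¹) * w := by rw [hct]; group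
        _ = t ^ (k + 1) * w := by rw [← ht, pow_succ]
  have h1 := hk (orderOf c)
  rw [pow_orderOf_eq_one] at h1
  have h3 : t ^ orderOf c = 1 := by
    have h4 : w = t ^ orderOf c * w := by
      calc w = 1 * w * 1⁻¹ := by group
        _ = _ := h1
    have h5 : t ^ orderOf c * w = 1 * w := by rw [one_mul]; exact h4.symm
    exact mul_right_cancel h5
  have h6 : t = 1 := by
    apply eq_one_of_odd hP h
    exact Odd.of_dvd_nat hc (orderOf_dvd_of_pow_eq_one h3)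
  have h7 : c * w * c⁻¹ * w⁻¹ = 1 := by rw [← ht]; exact h6
  calc c * w = c * w * c⁻¹ * w⁻¹ * (w * c) := by group
    _ = w * c := by rw [h7, one_mul]

/-- a fixed point of `S` on `Q/M` -/
theorem exists_fix_mod [Finite G] {S M Q : Subgroup G} (hS : IsPGroup 2 S) (hMS : M ≤ S) (hQS : Q ≤ S)
    (hM : S ≤ normalizer (M : Set G)) (hQ : S ≤ normalizer (Q : Set G)) (hQM : ¬ Q ≤ M) :
    ∃ x ∈ Q, x ∉ M ∧ ∀ s ∈ S, s * x * s⁻¹ * x⁻¹ ∈ M := by
  have hp : Fact (Nat.Prime 2) := ⟨Nat.prime_two⟩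
  have hMn : (M.subgroupOf S).Normal := (normal_subgroupOf_iff_le_normalizer hMS).2 hM
  have hQn : (Q.subgroupOf S).Normal := (normal_subgroupOf_iff_le_normalizer hQS).2 hQ
  let p := QuotientGroup.mk' (M.subgroupOf S)
  have hp1 : Function.Surjective p := QuotientGroup.mk'_surjective _
  have hpk : ∀ y : S, p y = 1 → (y : G) ∈ M := fun y hy => (QuotientGroup.eq_one_iff y).1 hy
  have hN : ((Q.subgroupOf S).map p).Normal := hQn.map p hp1
  have hne : (Q.subgroupOf S).map p ≠ ⊥ := by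
    intro h0
    apply hQM
    intro x hx
    have hxS := hQS hx
    have h1 : p ⟨x, hxS⟩ ∈ (Q.subgroupOf S).map p := ⟨⟨x, hxS⟩, hx, rfl⟩
    rw [h0, mem_bot] at h1
    exact hpk _ h1
  have hSp : IsPGroup 2 (S ⧸ M.subgroupOf S) := hS.of_surjective p hp1
  obtain ⟨y, hy, hyc, hyo⟩ := Involutions.NormalFour.exists_mem_center_of_normal hSp _ hne
  obtain ⟨⟨x, hxS⟩, hx, rfl⟩ := hy
  refine ⟨x, hx, ?_, ?_⟩
  · intro hxM
    have h1 : p ⟨x, hxS⟩ = 1 := (QuotientGroup.eq_one_iff _).2 hxM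
    rw [h1, orderOf_one] at hyo
    omega
  · intro s hs
    have h1 := (mem_center_iff.1 hyc) (p ⟨s, hs⟩)
    have h2 : p (⟨s, hs⟩ * ⟨x, hxS⟩ * ⟨s, hs⟩⁻¹ * ⟨x, hxS⟩⁻¹) = 1 := by
      rw [map_mul, map_mul, map_mul, map_inv, map_inv, h1]
      group
    exact hpk _ h2

theorem le_normalizer_of {K V : Subgroup G} (h : ∀ k ∈ K, ∀ v ∈ V, k * v * k⁻¹ ∈ V) :
    K ≤ normalizer (V : Set G) := by
  intro k hk
  rw [mem_normalizer_iff]
  intro v
  refine ⟨fun hv => h k hk v hv, fun hv => ?_⟩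
  have h1 := h k⁻¹ (inv_mem hk) _ hv
  have e : k⁻¹ * (k * v * k⁻¹) * k⁻¹⁻¹ = v := by group
  rwa [e] at h1

theorem conj_mem_of {K V : Subgroup G} (h : K ≤ normalizer (V : Set G)) {k v : G} (hk : k ∈ K) (hv : v ∈ V) :
    k * v * k⁻¹ ∈ V := (mem_normalizer_iff.1 (h hk) v).1 hv

theorem le_normalizer_cent {K V : Subgroup G} (h : K ≤ normalizer (V : Set G)) :
    K ≤ normalizer ((centralizer (V : Set G) : Subgroup G) : Set G) := by
  apply le_normalizer_of
  intro k hk c hc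
  rw [mem_centralizer_iff] at hc ⊢
  intro y hy
  have h2 := conj_mem_of h (inv_mem hk) hy
  have h3 := hc _ h2
  rw [inv_inv] at h3
  calc y * (k * c * k⁻¹) = k * (k⁻¹ * y * k * c) * k⁻¹ := by group
    _ = k * (c * (k⁻¹ * y * k)) * k⁻¹ := by rw [h3]
    _ = k * c * k⁻¹ * y := by group

theorem comm_of_mem_cent {V : Subgroup G} {c v : G} (hc : c ∈ centralizer (V : Set G)) (hv : v ∈ V) :
    v * c = c * v := mem_centralizer_iff.1 hc v hv

/-! ### The abstract lemma -/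

/-- The data of one side. -/
structure Cor (R A H D : Subgroup G) : Prop where
  RA : R ≤ A
  R1 : R ≠ ⊥
  pA : IsPGroup 2 A
  cH : centralizer (R : Set G) ≤ H
  HR : H ≤ normalizer (R : Set G)
  AQ : A ≤ o2 H
  com : ∀ a ∈ A, ∀ x ∈ o2 H, a * x * a⁻¹ * x⁻¹ ∈ R
  DA : D ≤ normalizer (A : Set G)
  irr : ∀ X : Subgroup G, D ≤ normalizer (X : Set G) → A ⊓ X ≠ ⊥ → A ≤ X

namespace Cor

variable [Finite G] {R A H D K : Subgroup G}

theorem A1 (h : Cor R A H D) : A ≠ ⊥ := fun h0 => h.R1 (le_bot_iff.1 (h0 ▸ h.RA))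

theorem AH (h : Cor R A H D) : A ≤ H := h.AQ.trans (o2_le _)

/-- `K ∩ H ≤ C(A)` if `A ≤ K`. -/
theorem inf_le_cent (h : Cor R A H D) (hK : IsPGroup 2 K) (hHK : H ≤ normalizer (K : Set G))
    (hDK : D ≤ normalizer (K : Set G)) : K ⊓ H ≤ centralizer (A : Set G) := by
  have h1 : K ⊓ H ≤ o2 H := by
    refine le_o2 inf_le_right (hK.to_le inf_le_left) ?_
    exact Half.le_normalizer_inf hHK le_normalizer
  have h2 : K ⊓ H ≤ normalizer (A : Set G) := by
    apply le_normalizer_of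
    intro k hk a ha
    have h3 := h.RA (h.com a ha k (h1 hk))
    have h4 : k * a * k⁻¹ = (a⁻¹ * (a * k * a⁻¹ * k⁻¹))⁻¹ := by group
    rw [h4]
    exact inv_mem (mul_mem (inv_mem ha) h3)
  have h3 : D ≤ normalizer ((K ⊓ normalizer (A : Set G) : Subgroup G) : Set G) :=
    Half.le_normalizer_inf hDK (h.DA.trans le_normalizer)
  obtain ⟨v, hv, hv1, hvc⟩ := Half.exists_fixed h.pA h.A1
    (hK.to_le (inf_le_left : K ⊓ normalizer (A : Set G) ≤ K)) inf_le_right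
  have h4 : A ⊓ centralizer ((K ⊓ normalizer (A : Set G) : Subgroup G) : Set G) ≠ ⊥ := by
    intro h0
    have h5 : v ∈ A ⊓ centralizer ((K ⊓ normalizer (A : Set G) : Subgroup G) : Set G) := by
      refine ⟨hv, mem_centralizer_iff.2 fun y hy => ?_⟩
      exact mul_inv_eq_iff_eq_mul.1 (hvc y hy)
    rw [h0, mem_bot] at h5
    exact hv1 h5
  have h5 := h.irr _ (le_normalizer_cent h3) h4
  intro k hk
  rw [mem_centralizer_iff]
  intro a ha
  exact (comm_of_mem_cent (h5 ha) (⟨hk.1, h2 hk⟩ : k ∈ K ⊓ normalizer (A : Set G))).symm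

/-- `C_K(R) ≤ C(A)` if `A ∩ K = 1`. -/
theorem cent_R_le (h : Cor R A H D) (hK : IsPGroup 2 K) (hHK : H ≤ normalizer (K : Set G))
    (hAK : A ⊓ K = ⊥) : K ⊓ centralizer (R : Set G) ≤ centralizer (A : Set G) := by
  have h1 : K ⊓ centralizer (R : Set G) ≤ o2 H := by
    refine le_o2 (inf_le_right.trans h.cH) (hK.to_le inf_le_left) ?_
    exact Half.le_normalizer_inf hHK (le_normalizer_cent h.HR)
  intro k hk
  rw [mem_centralizer_iff]
  intro a ha
  have h2 := h.RA (h.com a ha k (h1 hk))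
  have h3 : a * k * a⁻¹ * k⁻¹ ∈ K := mul_mem (conj_mem_of hHK (h.AH ha) hk.1) (inv_mem hk.1)
  have h4 : a * k * a⁻¹ * k⁻¹ ∈ A ⊓ K := ⟨h2, h3⟩
  rw [hAK, mem_bot] at h4
  calc a * k = a * k * a⁻¹ * k⁻¹ * (k * a) := by group
    _ = k * a := by rw [h4, one_mul]

/-- The centralisers agree. -/
theorem cent_eq (h : Cor R A H D) (hK : IsPGroup 2 K) (hHK : H ≤ normalizer (K : Set G))
    (hAK : A ⊓ K = ⊥) : K ⊓ centralizer (A : Set G) = K ⊓ centralizer (R : Set G) :=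
  le_antisymm (fun _ hx => ⟨hx.1, centralizer_le h.RA hx.2⟩)
    fun _ hx => ⟨hx.1, h.cent_R_le hK hHK hAK hx⟩

theorem cent_ne (h : Cor R A H D) (hK : IsPGroup 2 K) (hK1 : K ≠ ⊥) (hHK : H ≤ normalizer (K : Set G))
    (hAK : A ⊓ K = ⊥) : K ⊓ centralizer (A : Set G) ≠ ⊥ := by
  rw [h.cent_eq hK hHK hAK]
  obtain ⟨v, hv, hv1, hvc⟩ := Half.exists_fixed hK hK1 (h.pA.to_le h.RA) ((h.RA.trans h.AH).trans hHK)
  intro h0
  have h5 : v ∈ K ⊓ centralizer (R : Set G) :=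
    ⟨hv, mem_centralizer_iff.2 fun y hy => mul_inv_eq_iff_eq_mul.1 (hvc y hy)⟩
  rw [h0, mem_bot] at h5
  exact hv1 h5

end Cor

/-- **LEMMA NL, mixed form**: `A`, `B ≤ O₂(H)`, both with `[·, O₂(H)] ≤ R`, `R ≤ [A, B]`; `D` irreducible on `A`,
`D'` irreducible on `B`: no nontrivial 2-group is normalised by `H`, `D` and `D'`. -/
theorem nonLoc_mixed [Finite G] (hG : IsCharacteristicTwoType G) {R A B H D D' : Subgroup G}
    (h : Cor R A H D) (h' : Cor R B H D')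
    (hgen : R ≤ closure {x | ∃ a ∈ A, ∃ b ∈ B, x = a * b * a⁻¹ * b⁻¹}) {U : Subgroup G}
    (hU : IsPGroup 2 U) (hHU : H ≤ normalizer (U : Set G)) (hDU : D ≤ normalizer (U : Set G))
    (hDU' : D' ≤ normalizer (U : Set G)) : U = ⊥ := by
  by_contra hU1
  have hdis : ∀ K : Subgroup G, IsPGroup 2 K → H ≤ normalizer (K : Set G) → D ≤ normalizer (K : Set G) →
      D' ≤ normalizer (K : Set G) → A ⊓ K = ⊥ := by
    intro K hK hHK hDK hDK'
    by_contra hne
    have hAK := h.irr K hDK hne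
    have h1 := h.inf_le_cent hK hHK hDK
    have h2 : B ⊓ K ≠ ⊥ := by
      intro h0
      apply h.R1
      rw [eq_bot_iff, ← h0]
      exact le_inf h'.RA (h.RA.trans hAK)
    have hBK := h'.irr K hDK' h2
    apply h.R1
    rw [eq_bot_iff]
    refine hgen.trans ?_
    rw [closure_le]
    rintro x ⟨a, ha, b, hb, rfl⟩
    have h3 := comm_of_mem_cent (h1 ⟨hBK hb, h'.AH hb⟩) ha
    rw [SetLike.mem_coe, mem_bot, h3]
    group
  have hdis' : ∀ K : Subgroup G, IsPGroup 2 K → H ≤ normalizer (K : Set G) → D ≤ normalizer (K : Set G) →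
      D' ≤ normalizer (K : Set G) → B ⊓ K = ⊥ := by
    intro K hK hHK hDK hDK'
    by_contra hne
    have hBK := h'.irr K hDK' hne
    apply h.R1
    rw [eq_bot_iff, ← hdis K hK hHK hDK hDK']
    exact le_inf h.RA (h'.RA.trans hBK)
  -- a maximal `K₀`
  let s : Set (Subgroup G) := {X | IsPGroup 2 X ∧ X ≠ ⊥ ∧ X ≤ centralizer (R : Set G) ∧
    H ≤ normalizer (X : Set G) ∧ D ≤ normalizer (X : Set G) ∧ D' ≤ normalizer (X : Set G)}
  have key : ∀ K : Subgroup G, IsPGroup 2 K → K ≠ ⊥ → H ≤ normalizer (K : Set G) →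
      D ≤ normalizer (K : Set G) → D' ≤ normalizer (K : Set G) → K ⊓ centralizer (R : Set G) ∈ s := by
    intro K hK hK1 hHK hDK hDK'
    have hd := hdis K hK hHK hDK hDK'
    have hd' := hdis' K hK hHK hDK hDK'
    refine ⟨hK.to_le inf_le_left, ?_, inf_le_right, ?_, ?_, ?_⟩
    · rw [← h.cent_eq hK hHK hd]
      exact h.cent_ne hK hK1 hHK hd
    · exact Half.le_normalizer_inf hHK (le_normalizer_cent h.HR)
    · rw [← h.cent_eq hK hHK hd]
      exact Half.le_normalizer_inf hDK (le_normalizer_cent h.DA)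
    · rw [← h'.cent_eq hK hHK hd']
      exact Half.le_normalizer_inf hDK' (le_normalizer_cent h'.DA)
  obtain ⟨K₀, hK₀⟩ := (Set.toFinite s).exists_maximal ⟨_, key U hU hU1 hHU hDU hDU'⟩
  obtain ⟨hp0, h01, h0R, hH0, hD0, hD0'⟩ := hK₀.prop
  have hBQ : B ≤ o2 H := h'.AQ
  have h0A : K₀ ≤ centralizer (A : Set G) := fun x hx =>
    h.cent_R_le hp0 hH0 (hdis K₀ hp0 hH0 hD0 hD0') ⟨hx, h0R hx⟩
  have h0B : K₀ ≤ centralizer (B : Set G) := fun x hx =>
    h'.cent_R_le hp0 hH0 (hdis' K₀ hp0 hH0 hD0 hD0') ⟨hx, h0R hx⟩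
  set M := normalizer (K₀ : Set G) with hM
  set K := o2 M with hKdef
  have hK2 : IsPGroup 2 K := o2_isPGroup M
  have hMK : M ≤ normalizer (K : Set G) := le_normalizer_o2 M
  have hK0K : K₀ ≤ K := le_o2 le_normalizer hp0 le_rfl
  have hK1 : K ≠ ⊥ := fun h0 => h01 (le_bot_iff.1 (h0 ▸ hK0K))
  have hHK : H ≤ normalizer (K : Set G) := hH0.trans hMK
  have hDK : D ≤ normalizer (K : Set G) := hD0.trans hMK
  have hDK' : D' ≤ normalizer (K : Set G) := hD0'.trans hMK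
  have hd := hdis K hK2 hHK hDK hDK'
  have hcR : K ⊓ centralizer (R : Set G) ≤ K₀ :=
    hK₀.le_of_ge (key K hK2 hK1 hHK hDK hDK') (le_inf hK0K h0R)
  -- `C = C(K₀)`
  set C := centralizer (K₀ : Set G) with hC
  have hCM : C ≤ M := by
    intro x hx
    rw [hM, mem_normalizer_iff]
    intro y
    constructor
    · intro hy
      have := comm_of_mem_cent hx hy
      rw [← this, mul_inv_cancel_right]; exact hy
    · intro hy
      have h1 := comm_of_mem_cent hx hy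
      have h2 : y = x * y * x⁻¹ := by
        calc y = x⁻¹ * (x * y * x⁻¹ * x) := by group
          _ = x⁻¹ * (x * (x * y * x⁻¹)) := by rw [h1]
          _ = x * y * x⁻¹ := by group
      rw [h2]; exact hy
  have hMC : M ≤ normalizer (C : Set G) := le_normalizer_cent le_rfl
  have hAC : A ≤ C := by
    intro a ha
    rw [hC, mem_centralizer_iff]
    intro y hy
    exact (comm_of_mem_cent (h0A hy) ha).symm
  have hBC : B ≤ C := by
    intro a ha
    rw [hC, mem_centralizer_iff]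
    intro y hy
    exact (comm_of_mem_cent (h0B hy) ha).symm
  -- `L = C_K(K₀)` is not contained in `K₀`
  have hL : ¬ K ⊓ C ≤ K₀ := by
    intro hL
    have hchar : M ⊓ centralizer (K : Set G) ≤ K := by
      rintro x ⟨hxM, hxc⟩
      have h1 := hG.2 K₀ hp0 h01
      have h2 : (⟨x, hxM⟩ : normalizer (K₀ : Set G)) ∈
          centralizer (pCore 2 (normalizer (K₀ : Set G)) : Set _) := by
        rw [mem_centralizer_iff]
        intro q hq
        refine Subtype.ext ?_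
        have h3 : (q : G) ∈ K := ⟨q, hq, rfl⟩
        exact comm_of_mem_cent hxc h3
      exact ⟨_, h1 h2, rfl⟩
    have hC2 : IsPGroup 2 C := by
      apply isPGroup_of_odd
      intro x hx ho
      have h1 : x ∈ centralizer (K : Set G) := by
        rw [mem_centralizer_iff]
        intro k hk
        have h2 : x * k * x⁻¹ * k⁻¹ ∈ K ⊓ C := by
          refine mem_inf.2 ⟨mul_mem (conj_mem_of (hCM.trans hMK) hx hk) (inv_mem hk), ?_⟩
          have h3 : k * x⁻¹ * k⁻¹ ∈ C := conj_mem_of ((o2_le M).trans hMC) hk (inv_mem hx)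
          have h4 : x * k * x⁻¹ * k⁻¹ = x * (k * x⁻¹ * k⁻¹) := by group
          rw [h4]
          exact mul_mem hx h3
        have h5 := comm_of_mem_cent hx (hL h2)
        exact (comm_of_odd ho hK2 h2.1 h5.symm).symm
      exact eq_one_of_odd hK2 (hchar ⟨hCM hx, h1⟩) ho
    have h1 : C ≤ K := le_o2 hCM hC2 hMC
    apply h.A1
    rw [← hd]
    exact (inf_eq_left.2 (hAC.trans h1)).symm
  -- a fixed coset
  have hQM : o2 H ≤ M := (o2_le H).trans hH0
  have hLn : M ≤ normalizer ((K ⊓ C : Subgroup G) : Set G) := Half.le_normalizer_inf hMK hMC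
  have hZn : M ≤ normalizer ((K₀ ⊓ C : Subgroup G) : Set G) := Half.le_normalizer_inf le_rfl hMC
  set P := K ⊔ o2 H with hP
  have hPM : P ≤ M := sup_le (o2_le M) hQM
  have hP2 : IsPGroup 2 P := by
    rw [hP]
    exact IsPGroup.to_sup_of_normal_left' hK2 (o2_isPGroup H) ((hQM).trans hMK)
  obtain ⟨w, hw, hw0, hwc⟩ := exists_fix_mod (S := P) (M := K₀ ⊓ C) (Q := K ⊓ C) hP2
    ((inf_le_left.trans hK0K).trans le_sup_left) (inf_le_left.trans le_sup_left)
    (hPM.trans hZn) (hPM.trans hLn) (fun h1 => hL (h1.trans inf_le_left))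
  apply hw0
  refine ⟨hcR ⟨hw.1, ?_⟩, hw.2⟩
  -- `w` centralises `R`
  have hcl : closure {x | ∃ a ∈ A, ∃ b ∈ B, x = a * b * a⁻¹ * b⁻¹} ≤ centralizer ({w} : Set G) := by
    rw [closure_le]
    rintro x ⟨a, ha, b, hb, rfl⟩
    rw [SetLike.mem_coe, mem_centralizer_singleton_iff]
    have ha' : a * w * a⁻¹ * w⁻¹ ∈ K₀ ⊓ C := hwc a (mem_sup_right (h.AQ ha))
    have hb' : b * w * b⁻¹ * w⁻¹ ∈ K₀ ⊓ C := hwc b (mem_sup_right (hBQ hb))
    set za := a * w * a⁻¹ * w⁻¹ with hza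
    set zb := b * w * b⁻¹ * w⁻¹ with hzb
    -- commutation with the elements of `K₀`
    have ca : ∀ z ∈ K₀, z * a = a * z := fun z hz => comm_of_mem_cent (hAC ha) hz
    have cb : ∀ z ∈ K₀, z * b = b * z := fun z hz => comm_of_mem_cent (hBC hb) hz
    have cw : ∀ z ∈ K₀, z * w = w * z := fun z hz => comm_of_mem_cent hw.2 hz
    have cz : ∀ z ∈ K₀, ∀ y ∈ K₀ ⊓ C, z * y = y * z := fun z hz y hy => comm_of_mem_cent hy.2 hz
    -- `w⁻¹ a w = a z`, `z ∈ K₀ ∩ C`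
    have ea : w * a * w⁻¹ = za⁻¹ * a := by rw [hza]; group
    have eb : w * b * w⁻¹ = zb⁻¹ * b := by rw [hzb]; group
    have haa : Commute za⁻¹ a := (show Commute za a from ca _ ha'.1).inv_left
    have hab : Commute za⁻¹ b := (show Commute za b from cb _ ha'.1).inv_left
    have hba : Commute zb⁻¹ a := (show Commute zb a from ca _ hb'.1).inv_left
    have hbb : Commute zb⁻¹ b := (show Commute zb b from cb _ hb'.1).inv_left
    have hzz : Commute za⁻¹ zb⁻¹ :=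
      ((show Commute za zb from cz _ ha'.1 _ hb').inv_left).inv_right
    have e1 : w * (a * b * a⁻¹ * b⁻¹) * w⁻¹ = a * b * a⁻¹ * b⁻¹ := by
      calc w * (a * b * a⁻¹ * b⁻¹) * w⁻¹
          = (w * a * w⁻¹) * (w * b * w⁻¹) * (w * a * w⁻¹)⁻¹ * (w * b * w⁻¹)⁻¹ := by group
        _ = (za⁻¹ * a) * (zb⁻¹ * b) * (za⁻¹ * a)⁻¹ * (zb⁻¹ * b)⁻¹ := by rw [ea, eb]
        _ = (za⁻¹ * a) * (zb⁻¹ * b) * (a * za⁻¹)⁻¹ * (b * zb⁻¹)⁻¹ := by rw [haa.eq, hbb.eq]
        _ = (za⁻¹ * a) * (zb⁻¹ * b) * za * a⁻¹ * zb * b⁻¹ := by group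
        _ = a * b * a⁻¹ * b⁻¹ := by
          have s1 : (za⁻¹ * a) * (zb⁻¹ * b) * za = a * zb⁻¹ * b := by
            have t1 : Commute za⁻¹ (a * (zb⁻¹ * b)) := haa.mul_right (hzz.mul_right hab)
            calc (za⁻¹ * a) * (zb⁻¹ * b) * za = (za⁻¹ * (a * (zb⁻¹ * b))) * za := by group
              _ = ((a * (zb⁻¹ * b)) * za⁻¹) * za := by rw [t1.eq]
              _ = a * zb⁻¹ * b := by group
          rw [s1]
          have t2 : Commute zb⁻¹ (b * a⁻¹) := hbb.mul_right hba.inv_right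
          calc a * zb⁻¹ * b * a⁻¹ * zb * b⁻¹ = a * (zb⁻¹ * (b * a⁻¹)) * zb * b⁻¹ := by group
            _ = a * ((b * a⁻¹) * zb⁻¹) * zb * b⁻¹ := by rw [t2.eq]
            _ = a * b * a⁻¹ * b⁻¹ := by group
    calc a * b * a⁻¹ * b⁻¹ * w = (w * (a * b * a⁻¹ * b⁻¹) * w⁻¹) * w := by rw [e1]
      _ = w * (a * b * a⁻¹ * b⁻¹) := by group
  show w ∈ centralizer (R : Set G)
  rw [mem_centralizer_iff]
  intro r hr
  exact mem_centralizer_singleton_iff.1 (hcl (hgen hr))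

/-! ### `B = A^c` -/

theorem mem_cj {A : Subgroup G} {c x : G} :
    x ∈ A.map (MulAut.conj c).toMonoidHom ↔ c⁻¹ * x * c ∈ A := by
  constructor
  · rintro ⟨a, ha, rfl⟩
    have e : c⁻¹ * (MulAut.conj c).toMonoidHom a * c = a := by
      show c⁻¹ * (c * a * c⁻¹) * c = a
      group
    rw [e]; exact ha
  · intro hx
    refine ⟨_, hx, ?_⟩
    show c * (c⁻¹ * x * c) * c⁻¹ = x
    group

theorem cj_le_normalizer_iff {A X : Subgroup G} {c : G} :
    A.map (MulAut.conj c).toMonoidHom ≤ normalizer (X : Set G) ↔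
      A ≤ normalizer ((X.map (MulAut.conj c⁻¹).toMonoidHom : Subgroup G) : Set G) := by
  constructor
  · intro h
    apply le_normalizer_of
    intro k hk v hv
    rw [mem_cj, inv_inv] at hv ⊢
    have h1 : c * k * c⁻¹ ∈ A.map (MulAut.conj c).toMonoidHom := ⟨k, hk, rfl⟩
    have h2 := conj_mem_of h h1 hv
    have e : c * (k * v * k⁻¹) * c⁻¹ = c * k * c⁻¹ * (c * v * c⁻¹) * (c * k * c⁻¹)⁻¹ := by group
    rw [e]; exact h2
  · intro h
    apply le_normalizer_of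
    rintro _ ⟨k, hk, rfl⟩ v hv
    have h1 : c⁻¹ * v * c ∈ X.map (MulAut.conj c⁻¹).toMonoidHom := by
      rw [mem_cj, inv_inv]
      have e : c * (c⁻¹ * v * c) * c⁻¹ = v := by group
      rw [e]; exact hv
    have h2 := conj_mem_of h hk h1
    rw [mem_cj, inv_inv] at h2
    have e : c * (k * (c⁻¹ * v * c) * k⁻¹) * c⁻¹ = c * k * c⁻¹ * v * (c * k * c⁻¹)⁻¹ := by group
    rw [e] at h2
    exact h2

/-- conjugation by `c ∈ H` -/
theorem Cor.cj [Finite G] {R A H D : Subgroup G} (h : Cor R A H D) {c : G} (hc : c ∈ H) :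
    Cor R (A.map (MulAut.conj c).toMonoidHom) H (D.map (MulAut.conj c).toMonoidHom) where
  RA := by
    intro r hr
    rw [mem_cj]
    have := conj_mem_of h.HR (inv_mem hc) hr
    rw [inv_inv] at this
    exact h.RA this
  R1 := h.R1
  pA := h.pA.map _
  cH := h.cH
  HR := h.HR
  AQ := by
    rintro _ ⟨b, hb, rfl⟩
    exact conj_mem_of (le_normalizer_o2 H) hc (h.AQ hb)
  com := by
    rintro _ ⟨a, ha, rfl⟩ x hx
    have hx' : c⁻¹ * x * c ∈ o2 H := by
      have := conj_mem_of (le_normalizer_o2 H) (inv_mem hc) hx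
      rwa [inv_inv] at this
    have h1 := conj_mem_of h.HR hc (h.com a ha _ hx')
    have e : c * (a * (c⁻¹ * x * c) * a⁻¹ * (c⁻¹ * x * c)⁻¹) * c⁻¹ =
        c * a * c⁻¹ * x * (c * a * c⁻¹)⁻¹ * x⁻¹ := by group
    rw [e] at h1
    exact h1
  DA := by
    rw [cj_le_normalizer_iff]
    have e : ((A.map (MulAut.conj c).toMonoidHom).map (MulAut.conj c⁻¹).toMonoidHom : Subgroup G) = A := by
      ext x
      rw [mem_cj, mem_cj, inv_inv]
      have e : c⁻¹ * (c * x * c⁻¹) * c = x := by group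
      rw [e]
    rw [e]
    exact h.DA
  irr := by
    intro X hX hne
    rw [cj_le_normalizer_iff] at hX
    have h1 : A ⊓ X.map (MulAut.conj c⁻¹).toMonoidHom ≠ ⊥ := by
      obtain ⟨a, ⟨haA, haX⟩, ha1⟩ := (Subgroup.bot_or_exists_ne_one _).resolve_left hne
      have haA' : c⁻¹ * a * c ∈ A := mem_cj.1 haA
      have haX' : a ∈ X := haX
      intro h0
      have h2 : c⁻¹ * a * c ∈ A ⊓ X.map (MulAut.conj c⁻¹).toMonoidHom := by
        refine ⟨haA', ?_⟩
        show c⁻¹ * a * c ∈ X.map (MulAut.conj c⁻¹).toMonoidHom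
        rw [mem_cj, inv_inv]
        have e : c * (c⁻¹ * a * c) * c⁻¹ = a := by group
        rw [e]; exact haX'
      rw [h0, mem_bot] at h2
      apply ha1
      calc a = c * (c⁻¹ * a * c) * c⁻¹ := by group
        _ = 1 := by rw [h2]; group
    have h2 := h.irr _ hX h1
    rintro _ ⟨b, hb, rfl⟩
    have h3 := h2 hb
    rw [mem_cj, inv_inv] at h3
    exact h3

/-- **LEMMA NL**: `R ≤ [A, A^c]`, `c ∈ H`. -/
theorem Cor.nonLoc [Finite G] (hG : IsCharacteristicTwoType G) {R A H D : Subgroup G} (h : Cor R A H D)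
    {c : G} (hc : c ∈ H)
    (hgen : R ≤ closure {x | ∃ a ∈ A, ∃ b ∈ A, x = a * (c * b * c⁻¹) * a⁻¹ * (c * b * c⁻¹)⁻¹}) :
    NonLoc H D := by
  intro U hU hHU hDU
  refine nonLoc_mixed hG h (h.cj hc) (hgen.trans (closure_mono ?_)) hU hHU hDU ?_
  · rintro x ⟨a, ha, b, hb, rfl⟩
    exact ⟨a, ha, c * b * c⁻¹, ⟨b, hb, rfl⟩, rfl⟩
  · rintro _ ⟨d, hd, rfl⟩
    have h1 := mul_mem (mul_mem (hHU hc) (hDU hd)) (inv_mem (hHU hc))
    exact h1

/-! ### `q = 2` -/

/-- `A` is a four-group. -/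
theorem cor_four [Finite G] {A D : Subgroup G} {v : G} (hv1 : v ≠ 1) (hvA : v ∈ A)
    (hsq : ∀ a ∈ A, a * a = 1)
    (hAQ : A ≤ o2 (centralizer ({v} : Set G)))
    (hcom : ∀ a ∈ A, ∀ x ∈ o2 (centralizer ({v} : Set G)), a * x * a⁻¹ * x⁻¹ = 1 ∨ a * x * a⁻¹ * x⁻¹ = v)
    (hDA : D ≤ normalizer (A : Set G))
    (htr : ∀ a ∈ A, ∀ b ∈ A, a ≠ 1 → b ≠ 1 → ∃ d ∈ D, d * a * d⁻¹ = b) :
    Cor (zpowers v) A (centralizer ({v} : Set G)) D where
  RA := zpowers_le.2 hvA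
  R1 := fun h0 => hv1 (zpowers_eq_bot.1 h0)
  pA := fun a => ⟨1, Subtype.ext (by
    show (a : G) ^ 2 ^ 1 = 1
    rw [pow_one, pow_two]; exact hsq _ a.2)⟩
  cH := centralizer_le (Set.singleton_subset_iff.2 (mem_zpowers v))
  HR := by
    intro x hx
    have h1 := mem_centralizer_singleton_iff.1 hx
    have h2 : x * v * x⁻¹ = v := by rw [h1, mul_inv_cancel_right]
    rw [mem_normalizer_iff]
    intro y
    constructor
    · rintro ⟨n, rfl⟩
      refine ⟨n, ?_⟩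
      show v ^ n = x * v ^ n * x⁻¹
      rw [← conj_zpow, h2]
    · rintro ⟨n, hn⟩
      refine ⟨n, ?_⟩
      have hn' : v ^ n = x * y * x⁻¹ := hn
      show v ^ n = y
      have h3 : x⁻¹ * v ^ n * x = v ^ n := by
        have h4 : x * v ^ n * x⁻¹ = v ^ n := by rw [← conj_zpow, h2]
        calc x⁻¹ * v ^ n * x = x⁻¹ * (x * v ^ n * x⁻¹) * x := by rw [h4]
          _ = v ^ n := by group
      calc v ^ n = x⁻¹ * v ^ n * x := h3.symm
        _ = x⁻¹ * (x * y * x⁻¹) * x := by rw [hn']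
        _ = y := by group
  AQ := hAQ
  com := by
    intro a ha x hx
    rcases hcom a ha x hx with h1 | h1
    · rw [h1]; exact one_mem _
    · rw [h1]; exact mem_zpowers v
  DA := hDA
  irr := by
    intro X hX hne
    obtain ⟨a, ⟨haA, haX⟩, ha1⟩ := (Subgroup.bot_or_exists_ne_one _).resolve_left hne
    intro b hb
    rcases eq_or_ne b 1 with rfl | hb1
    · exact one_mem _
    obtain ⟨d, hd, rfl⟩ := htr a haA b hb ha1 hb1
    exact conj_mem_of hX hd haX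

/-- **LEMMA NL, `q = 2`**. -/
theorem nonLoc_four [Finite G] (hG : IsCharacteristicTwoType G) {A D : Subgroup G} {v : G} (hv1 : v ≠ 1)
    (hvA : v ∈ A) (hsq : ∀ a ∈ A, a * a = 1) (hAQ : A ≤ o2 (centralizer ({v} : Set G)))
    (hcom : ∀ a ∈ A, ∀ x ∈ o2 (centralizer ({v} : Set G)), a * x * a⁻¹ * x⁻¹ = 1 ∨ a * x * a⁻¹ * x⁻¹ = v)
    (hDA : D ≤ normalizer (A : Set G))
    (htr : ∀ a ∈ A, ∀ b ∈ A, a ≠ 1 → b ≠ 1 → ∃ d ∈ D, d * a * d⁻¹ = b)
    {c : G} (hc : c * v = v * c) (hnc : ∃ a ∈ A, ∃ b ∈ A, a * (c * b * c⁻¹) ≠ (c * b * c⁻¹) * a) :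
    NonLoc (centralizer ({v} : Set G)) D := by
  have h := cor_four hv1 hvA hsq hAQ hcom hDA htr
  have hcH : c ∈ centralizer ({v} : Set G) := mem_centralizer_singleton_iff.2 hc
  refine h.nonLoc hG hcH ?_
  rw [zpowers_le]
  obtain ⟨a, ha, b, hb, hne⟩ := hnc
  apply Subgroup.subset_closure
  refine ⟨a, ha, b, hb, ?_⟩
  have h1 : c * b * c⁻¹ ∈ o2 (centralizer ({v} : Set G)) :=
    conj_mem_of (le_normalizer_o2 _) hcH (hAQ hb)
  rcases hcom a ha _ h1 with h2 | h2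
  · exfalso
    apply hne
    calc a * (c * b * c⁻¹) = a * (c * b * c⁻¹) * a⁻¹ * (c * b * c⁻¹)⁻¹ * ((c * b * c⁻¹) * a) := by group
      _ = (c * b * c⁻¹) * a := by rw [h2, one_mul]
  · exact h2.symm

end Cfsg.Agent.Omega.IId.NLFree
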