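import Cfsg.Agent.Omega.IId.BtsOf

/-!
# II.d, CASE 1: LEMMA Z (helper330 #16276)

`V = V₁ × V₂` (`Two S So V₁ V₂ L₁ L₂`), `Rᵢ ≤ Vᵢ` normalised by `So`, `So` a Sylow 2-subgroup of `N_G(Rᵢ)`.

* `lemZ` : `So, L₁, L₂ ≤ M`, `C_M(O₂(M)) ≤ O₂(M)` ⟹ `O₂(M) ≤ So` and `V₁, V₂ ≤ Z(O₂(M))`;
* `lemZ_normalizer` : the same for `M = N_G(K)`, `K ≠ 1` a 2-group, `G` of characteristic 2 type.

It replaces `S ∈ Syl₂(G)` in the places where one needs `V₁ ≤ Z(O₂(N_G(C_X)))` (#14148 (9.2)).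
-/

set_option autoImplicit false
set_option linter.unusedSectionVars false

namespace Cfsg.Agent.Omega.IId.LemZ

open Subgroup Cfsg Cfsg.Agent.ZN Cfsg.Agent.Omega.MinPar
open Cfsg.Agent.MinSimple.VModule (mem_zc zc_le)
open Cfsg.Agent.Omega.BTwo (exists_mem_zc)

universe u

variable {G : Type u} [Group G]

/-- conjugation of an element centralising `O₂(M)` -/
theorem conj_cen {M : Subgroup G} {x r : G} (hx : x ∈ M) (hr : ∀ u ∈ ZN.o2 M, r * u = u * r) :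
    ∀ u ∈ ZN.o2 M, x * r * x⁻¹ * u = u * (x * r * x⁻¹) := by
  intro u hu
  have h0 : x⁻¹ * u * x ∈ ZN.o2 M := by
    have h1 := (mem_normalizer_iff.1 (MinSimple.VModule.le_normalizer_o2 M (inv_mem hx)) u).1 hu
    rwa [inv_inv] at h1
  have h1 := hr _ h0
  calc x * r * x⁻¹ * u = x * (r * (x⁻¹ * u * x)) * x⁻¹ := by group
    _ = x * (x⁻¹ * u * x * r) * x⁻¹ := by rw [h1]
    _ = u * (x * r * x⁻¹) := by group

variable [Finite G] {S : Sylow 2 G} {So V₁ V₂ L₁ L₂ : Subgroup G}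

/-- a nontrivial element of `V₁` centralising `O₂(M)`: all of `V₁` centralises `O₂(M)` -/
theorem all_cen (h : IId.Two (S : Subgroup G) So V₁ V₂ L₁ L₂) {M : Subgroup G} (hL₁ : L₁ ≤ M) {r : G}
    (hr : r ∈ V₁) (hr1 : r ≠ 1) (hru : ∀ u ∈ ZN.o2 M, r * u = u * r) :
    ∀ v ∈ V₁, ∀ u ∈ ZN.o2 M, v * u = u * v := by
  intro v hv
  by_cases hv1 : v = 1
  · intro u _
    rw [hv1, one_mul, mul_one]
  · obtain ⟨l, hl, rfl⟩ := h.t1 r hr hr1 v hv hv1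
    exact conj_cen (hL₁ hl) hru

/-- a product `c d` centralising `O₂(M)`, `1 ≠ c ∈ V₁`, `d ∈ V₂`: `V₁` centralises `O₂(M)` -/
theorem all_cen_mul (h : IId.Two (S : Subgroup G) So V₁ V₂ L₁ L₂) {M : Subgroup G} (hL₁ : L₁ ≤ M) {c d : G}
    (hc : c ∈ V₁) (hd : d ∈ V₂) (hc1 : c ≠ 1) (hu : ∀ u ∈ ZN.o2 M, c * d * u = u * (c * d)) :
    ∀ v ∈ V₁, ∀ u ∈ ZN.o2 M, v * u = u * v := by
  obtain ⟨y, hy, hy1, hyc⟩ := TriangleQ.exists_third h.big1 c
  obtain ⟨l, hl, hly⟩ := h.t1 c hc hc1 y hy hy1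
  have h1 : ∀ u ∈ ZN.o2 M, c⁻¹ * y * u = u * (c⁻¹ * y) := by
    have h2 := conj_cen (hL₁ hl) hu
    have h3 : l * (c * d) * l⁻¹ = y * d := by
      rw [← hly]
      calc l * (c * d) * l⁻¹ = l * c * l⁻¹ * (l * d * l⁻¹) := by group
        _ = l * c * l⁻¹ * d := by rw [h.L12 l hl d hd]; group
    have hcd : c⁻¹ * y * d = d * (c⁻¹ * y) := h.c12 _ (mul_mem (inv_mem hc) hy) d hd
    have h4 : c⁻¹ * y = (c * d)⁻¹ * (l * (c * d) * l⁻¹) := by
      rw [h3]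
      calc c⁻¹ * y = d⁻¹ * (d * (c⁻¹ * y)) := by group
        _ = d⁻¹ * (c⁻¹ * y * d) := by rw [hcd]
        _ = (c * d)⁻¹ * (y * d) := by group
    intro u hu'
    rw [h4]
    have h5 := hu u hu'
    have h6 : (c * d)⁻¹ * u = u * (c * d)⁻¹ := by
      calc (c * d)⁻¹ * u = (c * d)⁻¹ * (u * (c * d)) * (c * d)⁻¹ := by group
        _ = (c * d)⁻¹ * (c * d * u) * (c * d)⁻¹ := by rw [h5]
        _ = u * (c * d)⁻¹ := by group
    calc (c * d)⁻¹ * (l * (c * d) * l⁻¹) * u = (c * d)⁻¹ * (l * (c * d) * l⁻¹ * u) := by group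
      _ = (c * d)⁻¹ * u * (l * (c * d) * l⁻¹) := by rw [h2 u hu']; group
      _ = u * ((c * d)⁻¹ * (l * (c * d) * l⁻¹)) := by rw [h6]; group
  refine all_cen h hL₁ (mul_mem (inv_mem hc) hy) ?_ h1
  intro h2
  exact hyc (inv_mul_eq_one.1 h2).symm

/-- **LEMMA Z** -/
theorem lemZ (h : IId.Two (S : Subgroup G) So V₁ V₂ L₁ L₂)
    {R₁ R₂ : Subgroup G} (hR₁ : R₁ ≤ V₁) (hR₂ : R₂ ≤ V₂)
    (hSoR₁ : So ≤ normalizer (R₁ : Set G)) (hSoR₂ : So ≤ normalizer (R₂ : Set G))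
    (hSyl₁ : ∀ T : Subgroup G, IsPGroup 2 T → So ≤ T → T ≤ normalizer (R₁ : Set G) → T ≤ So)
    (hSyl₂ : ∀ T : Subgroup G, IsPGroup 2 T → So ≤ T → T ≤ normalizer (R₂ : Set G) → T ≤ So)
    {M : Subgroup G} (hSo : So ≤ M) (hL₁ : L₁ ≤ M) (hL₂ : L₂ ≤ M)
    (hM : M ⊓ centralizer (ZN.o2 M : Set G) ≤ ZN.o2 M) :
    ZN.o2 M ≤ So ∧ V₁ ≤ ZN.o2 M ⊓ centralizer (ZN.o2 M : Set G) ∧
      V₂ ≤ ZN.o2 M ⊓ centralizer (ZN.o2 M : Set G) := by
  have hfact : Fact (Nat.Prime 2) := ⟨Nat.prime_two⟩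
  set U : Subgroup G := ZN.o2 M with hU
  have hMU : M ≤ normalizer (U : Set G) := MinSimple.VModule.le_normalizer_o2 M
  have hU2 : IsPGroup 2 U := MinSimple.VModule.o2_isPGroup M
  have hSo2 : IsPGroup 2 So := S.isPGroup'.to_le h.SoS
  have hSoN₁ : So ≤ normalizer (V₁ : Set G) := Two.le_normalizer_of h.So1
  have hSoN₂ : So ≤ normalizer (V₂ : Set G) := Two.le_normalizer_of h.So2
  have ne_bot : ∀ V : Subgroup G, 2 < Nat.card V → V ≠ ⊥ := by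
    intro V hV h0
    rw [h0, card_bot] at hV
    omega
  -- it is enough to show `U ≤ So`
  suffices hUS : U ≤ So by
    obtain ⟨c, hc1, hc2, hc3⟩ := exists_mem_zc hSo2 (ne_bot V₁ h.big1) h.V1So hSoN₁
    obtain ⟨d, hd1, hd2, hd3⟩ := exists_mem_zc hSo2 (ne_bot V₂ h.big2) h.V2So hSoN₂
    have h1 := all_cen h hL₁ hc1 hc2 fun u hu => ((mem_zc.1 hc3).2.1 u (hUS hu)).symm
    have h2 := all_cen h.symm hL₂ hd1 hd2 fun u hu => ((mem_zc.1 hd3).2.1 u (hUS hu)).symm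
    have h3 : V₁ ≤ centralizer (U : Set G) := fun v hv => by
      rw [mem_centralizer_iff]
      exact fun u hu => (h1 v hv u hu).symm
    have h4 : V₂ ≤ centralizer (U : Set G) := fun v hv => by
      rw [mem_centralizer_iff]
      exact fun u hu => (h2 v hv u hu).symm
    exact ⟨hUS, fun v hv => mem_inf.2 ⟨hM (mem_inf.2 ⟨hSo (h.V1So hv), h3 hv⟩), h3 hv⟩,
      fun v hv => mem_inf.2 ⟨hM (mem_inf.2 ⟨hSo (h.V2So hv), h4 hv⟩), h4 hv⟩⟩
  by_contra hUS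
  -- `W = U So` is a Sylow 2-subgroup of `G`
  set W : Subgroup G := U ⊔ So with hW
  have hW2 : IsPGroup 2 W := hU2.to_sup_of_normal_left' hSo2 (hSo.trans hMU)
  have hSoW : So ≤ W := le_sup_right
  have hcard : Nat.card W = 2 * Nat.card So := by
    obtain ⟨Q, hQ⟩ := hW2.exists_le_sylow
    have h1 : Nat.card W ∣ 2 * Nat.card So := by
      rw [← h.card]
      have h2 : Nat.card (Q : Subgroup G) = Nat.card (S : Subgroup G) := by
        rw [Q.card_eq_multiplicity, S.card_eq_multiplicity]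
      rw [← h2]
      exact Subgroup.card_dvd_of_le hQ
    have h3 := Half.card_mul_relIndex hSoW
    rw [← h3, mul_comm 2] at h1
    have h4 : So.relIndex W ∣ 2 := Nat.dvd_of_mul_dvd_mul_left Nat.card_pos h1
    have h5 : So.relIndex W ≠ 1 := fun h5 =>
      hUS (le_sup_left.trans (relIndex_eq_one.mp h5))
    rw [← h3, ((Nat.dvd_prime Nat.prime_two).1 h4).resolve_left h5, mul_comm]
  have hWn : W ≤ normalizer (So : Set G) :=
    Two.le_normalizer_of fun k hk y hy => Two.conj_mem_of_two hSoW (Two.two_cosets hSoW hcard) hk hy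
  have hSone : So ≠ ⊥ := fun h0 => ne_bot V₁ h.big1 (le_bot_iff.1 (h.V1So.trans h0.le))
  obtain ⟨a, haSo, ha1, haW⟩ := exists_mem_zc hW2 hSone hSoW hWn
  obtain ⟨-, haW2, haq⟩ := mem_zc.1 haW
  have haz : a ∈ zc So := mem_zc.2 ⟨haSo, fun x hx => haW2 x (hSoW hx), haq⟩
  have haU : ∀ u ∈ U, a * u = u * a := fun u hu => (haW2 u (le_sup_left (a := U) hu)).symm
  obtain ⟨c, hc1, d, hd, rfl⟩ := TriangleQ.zc_prod h haz
  -- `Vᵢ` centralises `U` for some `i`: `W ≤ N_G(Rᵢ)`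
  by_cases hc0 : c = 1
  · have hd1 : d ≠ 1 := fun hd0 => ha1 (by rw [hc0, hd0, one_mul])
    have h2 := all_cen h.symm hL₂ hd.1 hd1 (fun u hu => by
      have := haU u hu
      rwa [hc0, one_mul] at this)
    have hWR : W ≤ normalizer (R₂ : Set G) := by
      refine sup_le ?_ hSoR₂
      intro u hu
      apply centralizer_le_normalizer
      rw [mem_centralizer_iff]
      exact fun v hv => h2 v (hR₂ hv) u hu
    exact hUS (le_sup_left.trans (hSyl₂ W hW2 hSoW hWR))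
  · have h2 := all_cen_mul h hL₁ hc1.1 hd.1 hc0 haU
    have hWR : W ≤ normalizer (R₁ : Set G) := by
      refine sup_le ?_ hSoR₁
      intro u hu
      apply centralizer_le_normalizer
      rw [mem_centralizer_iff]
      exact fun v hv => h2 v (hR₁ hv) u hu
    exact hUS (le_sup_left.trans (hSyl₁ W hW2 hSoW hWR))

/-- **LEMMA Z** for `M = N_G(K)` -/
theorem lemZ_normalizer (hG : IsCharacteristicTwoType G) (h : IId.Two (S : Subgroup G) So V₁ V₂ L₁ L₂)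
    {R₁ R₂ : Subgroup G} (hR₁ : R₁ ≤ V₁) (hR₂ : R₂ ≤ V₂)
    (hSoR₁ : So ≤ normalizer (R₁ : Set G)) (hSoR₂ : So ≤ normalizer (R₂ : Set G))
    (hSyl₁ : ∀ T : Subgroup G, IsPGroup 2 T → So ≤ T → T ≤ normalizer (R₁ : Set G) → T ≤ So)
    (hSyl₂ : ∀ T : Subgroup G, IsPGroup 2 T → So ≤ T → T ≤ normalizer (R₂ : Set G) → T ≤ So)
    {K : Subgroup G} (hK : IsPGroup 2 K) (hK1 : K ≠ ⊥) (hSo : So ≤ normalizer (K : Set G))
    (hL₁ : L₁ ≤ normalizer (K : Set G)) (hL₂ : L₂ ≤ normalizer (K : Set G)) :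
    ZN.o2 (normalizer (K : Set G)) ≤ So ∧
      V₁ ≤ ZN.o2 (normalizer (K : Set G)) ⊓ centralizer (ZN.o2 (normalizer (K : Set G)) : Set G) ∧
      V₂ ≤ ZN.o2 (normalizer (K : Set G)) ⊓ centralizer (ZN.o2 (normalizer (K : Set G)) : Set G) :=
  lemZ h hR₁ hR₂ hSoR₁ hSoR₂ hSyl₁ hSyl₂ hSo hL₁ hL₂ (MinSimple.Basic.char2_normalizer hG hK hK1)

end Cfsg.Agent.Omega.IId.LemZ
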