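import Cfsg.Agent.ZN.ChoiceBase
import Cfsg.Agent.ZN.Facts

/-!
# THEOREM J for all `q` (OMEGA, II.d; helper895 #13722, last line of (3); helper766 #14072 (F9))

The version of `ThmJ.lean` in lines instead of points.  `V₁`, `V₂` are the two factors of
`V = V₁ × V₂`, `𝓛₁`, `𝓛₂` their sets of `F_q`-lines, `H R` is `N_G(R)` or `C_G(R)`,
`N_R := ⟨V₂^{H(R)}⟩` for `R ∈ 𝓛₁` and `N_{R₂} := ⟨V₁^{H(R₂)}⟩` for `R₂ ∈ 𝓛₂`.

* `Side H V₁ V₂ 𝓛₁` : the facts on the lines `R` of `V₁`;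
* `inf_le_FF` (0), `EE_inf_FF` (1), `two` (2), `three` (3), `four` (4);
* `thmJ` : `N_R ∩ N_{R₂} = R R₂`, or some `x ∈ N_{R₂}` satisfies `1 ≠ [x, N_R] ≤ R₂`.
-/

set_option autoImplicit false

namespace Cfsg.Agent.Omega.IId.ThmJQ

open Subgroup Cfsg Cfsg.Agent.ZN Cfsg.Agent.ZN.ChoiceBase

universe u

variable {G : Type u} [Group G]

/-- `H R` is `N_G(R)` or `C_G(R)`: an equivariant function with `C_G(R) ≤ H R`. -/
structure Loc (H : Subgroup G → Subgroup G) : Prop where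
  eqv : ∀ (g : G) (R : Subgroup G), cj g (H R) = H (cj g R)
  cen_le : ∀ R : Subgroup G, centralizer (R : Set G) ≤ H R

theorem loc_normalizer : Loc (fun R : Subgroup G => normalizer (R : Set G)) :=
  ⟨fun g R => cj_normalizer g R, fun _ => centralizer_le_normalizer _⟩

theorem loc_centralizer : Loc (fun R : Subgroup G => centralizer (R : Set G)) :=
  ⟨fun g R => cj_centralizer g R, fun _ => le_rfl⟩

/-- `N_R = ⟨U^{H(R)}⟩`. -/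
def NN (H : Subgroup G → Subgroup G) (U R : Subgroup G) : Subgroup G := ⨆ c : H R, cj (c : G) U

variable {H : Subgroup G → Subgroup G}

theorem le_NN (U R : Subgroup G) : U ≤ NN H U R := by
  have h : cj ((1 : H R) : G) U ≤ NN H U R := le_iSup (fun c : H R => cj (c : G) U) 1
  rwa [Subgroup.coe_one, cj_one] at h

theorem Loc.mem {hH : Loc H} {g c : G} {R : Subgroup G} : g * c * g⁻¹ ∈ H (cj g R) ↔ c ∈ H R := by
  rw [← hH.eqv, mem_cj]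
  have e : g⁻¹ * (g * c * g⁻¹) * g = c := by group
  rw [e]

theorem cj_NN (hH : Loc H) (g : G) (U R : Subgroup G) : cj g (NN H U R) = NN H (cj g U) (cj g R) := by
  apply le_antisymm
  · have h1 : cj g (NN H U R) = ⨆ c : H R, cj g (cj (c : G) U) := Subgroup.map_iSup _ _
    rw [h1]
    refine iSup_le fun c => ?_
    have hc : g * (c : G) * g⁻¹ ∈ H (cj g R) := (Loc.mem (hH := hH)).2 c.2
    have h2 := le_iSup (fun c : H (cj g R) => cj (c : G) (cj g U)) ⟨_, hc⟩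
    have e : cj (g * (c : G) * g⁻¹) (cj g U) = cj g (cj (c : G) U) := by
      rw [cj_cj, cj_cj]
      have e2 : g * (c : G) * g⁻¹ * g = g * c := by group
      rw [e2]
    rw [← e]
    exact h2
  · refine iSup_le fun c => ?_
    obtain ⟨c, hc0⟩ := c
    have hc : g⁻¹ * c * g ∈ H R := by
      rw [← hH.eqv, mem_cj] at hc0
      exact hc0
    have h2 := cj_mono g (le_iSup (fun c : H R => cj (c : G) U) ⟨_, hc⟩)
    have e : cj g (cj (g⁻¹ * c * g) U) = cj c (cj g U) := by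
      rw [cj_cj, cj_cj]
      have e2 : g * (g⁻¹ * c * g) = c * g := by group
      rw [e2]
    rw [← e]
    exact h2

/-- An element of `H R` normalises `N_R`. -/
theorem H_le_normalizer_NN (U R : Subgroup G) : H R ≤ normalizer (NN H U R : Set G) := by
  intro x hx
  rw [mem_normalizer_iff_cj]
  have h1 : cj x (NN H U R) = ⨆ c : H R, cj x (cj (c : G) U) := Subgroup.map_iSup _ _
  rw [h1]
  apply le_antisymm
  · refine iSup_le fun c => ?_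
    rw [cj_cj]
    exact le_iSup (fun c : H R => cj (c : G) U) (⟨x, hx⟩ * c)
  · refine iSup_le fun c => ?_
    have h2 := le_iSup (fun c : H R => cj x (cj (c : G) U)) (⟨x, hx⟩⁻¹ * c)
    have e : cj x (cj (((⟨x, hx⟩⁻¹ * c : H R)) : G) U) = cj (c : G) U := by
      rw [cj_cj]
      congr 2
      simp
    rw [← e]
    exact h2

theorem NN_le {U K R : Subgroup G} (hU : U ≤ K) (hK : H R ≤ normalizer (K : Set G)) :
    NN H U R ≤ K := by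
  refine iSup_le fun c => ?_
  have h1 := cj_mono (c : G) hU
  rwa [cj_eq_of_mem_normalizer (hK c.2)] at h1

theorem cj_NN_of (hH : Loc H) {g : G} {U R : Subgroup G} (hU : g ∈ normalizer (U : Set G)) :
    cj g (NN H U R) = NN H U (cj g R) := by
  rw [cj_NN hH, cj_eq_of_mem_normalizer hU]

/-! ### The facts on one side -/

/-- The facts on the lines of `V₁` (see the header). -/
structure Side (H : Subgroup G → Subgroup G) (V₁ V₂ : Subgroup G) (L : Set (Subgroup G)) :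
    Prop where
  le : ∀ R ∈ L, R ≤ V₁
  in_o2 : ∀ R ∈ L, V₂ ≤ o2 (H R)
  cent : ∀ R ∈ L, o2 (H R) ≤ centralizer (V₂ : Set G)
  self : ∀ R ∈ L, V₁ ≤ o2 (H R)
  tv : ∀ R ∈ L, ∀ R' ∈ L, ∀ R'' ∈ L, R' ≠ R → R'' ≠ R → ∃ w ∈ o2 (H R),
    (∀ x ∈ o2 (H R), w * x * w⁻¹ * x⁻¹ ∈ R) ∧ cj w R' = R''
  onto : ∀ R ∈ L, ∀ R' ∈ L, ∀ w ∈ o2 (H R), (∀ x ∈ o2 (H R), w * x * w⁻¹ * x⁻¹ ∈ R) →
    cj w R' ≠ R' → ∀ r ∈ R, ∃ r' ∈ R', w * r' * w⁻¹ * r'⁻¹ = r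
  three : ∀ R ∈ L, ∀ R' ∈ L, ∃ R'' ∈ L, R'' ≠ R ∧ R'' ≠ R'
  mem : ∀ R ∈ L, R ≤ NN H V₂ R

/-- `F = ⋂ N_R`, `R ∈ 𝓛₁`. -/
def FF (H : Subgroup G → Subgroup G) (L : Set (Subgroup G)) (V₂ : Subgroup G) : Subgroup G :=
  ⨅ (R : Subgroup G) (_ : R ∈ L), NN H V₂ R

theorem mem_FF {L : Set (Subgroup G)} {V₂ : Subgroup G} {x : G} :
    x ∈ FF H L V₂ ↔ ∀ R ∈ L, x ∈ NN H V₂ R := by
  simp only [FF, mem_iInf]

namespace Side

variable {V₁ V₂ : Subgroup G} {L : Set (Subgroup G)} (h : Side H V₁ V₂ L)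

section

include h

theorem NN_le_o2 {R : Subgroup G} (hR : R ∈ L) : NN H V₂ R ≤ o2 (H R) :=
  NN_le (h.in_o2 R hR) (le_normalizer_o2 _)

/-- `O₂(H R)` centralises `N_R`. -/
theorem o2_le_cent_NN {R : Subgroup G} (hR : R ∈ L) :
    o2 (H R) ≤ centralizer (NN H V₂ R : Set G) := by
  rw [Subgroup.le_centralizer_iff]
  refine NN_le (Subgroup.le_centralizer_iff.1 (h.cent R hR)) ?_
  intro x hx
  rw [mem_normalizer_iff_cj, cj_centralizer, cj_eq_of_mem_normalizer (le_normalizer_o2 _ hx)]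

theorem NN_le_cent_two {R : Subgroup G} (hR : R ∈ L) :
    NN H V₂ R ≤ centralizer (V₂ : Set G) :=
  (h.NN_le_o2 hR).trans (h.cent R hR)

theorem NN_le_cent_one {R : Subgroup G} (hR : R ∈ L) :
    NN H V₂ R ≤ centralizer (V₁ : Set G) :=
  Subgroup.le_centralizer_iff.1 ((h.self R hR).trans (h.o2_le_cent_NN hR))

end

/-- An element centralising `V₁` lies in all `H R`. -/
theorem mem_H (hH : Loc H) (h : Side H V₁ V₂ L) {R : Subgroup G} (hR : R ∈ L) {x : G}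
    (hx : x ∈ centralizer (V₁ : Set G)) : x ∈ H R :=
  hH.cen_le R (centralizer_le (SetLike.coe_subset_coe.2 (h.le R hR)) hx)

theorem norm_NN (hH : Loc H) (h : Side H V₁ V₂ L) {R : Subgroup G} (hR : R ∈ L) {x : G}
    (hx : x ∈ centralizer (V₁ : Set G)) : x ∈ normalizer (NN H V₂ R : Set G) :=
  H_le_normalizer_NN V₂ R (h.mem_H hH hR hx)

theorem norm_FF (hH : Loc H) (h : Side H V₁ V₂ L) {x : G} (hx : x ∈ centralizer (V₁ : Set G)) :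
    x ∈ normalizer (FF H L V₂ : Set G) := by
  rw [mem_normalizer_iff]
  intro y
  simp only [mem_FF]
  exact forall₂_congr fun R hR => mem_normalizer_iff.1 (h.norm_NN hH hR hx) y

/-- (0) `N_R ∩ N_{R'} ≤ F`. -/
theorem inf_le_FF (hH : Loc H) (h : Side H V₁ V₂ L) {R R' : Subgroup G} (hR : R ∈ L) (hR' : R' ∈ L)
    (hne : R' ≠ R) : NN H V₂ R ⊓ NN H V₂ R' ≤ FF H L V₂ := by
  intro x hx
  rw [mem_FF]
  intro R'' hR''
  by_cases he : R'' = R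
  · rw [he]
    exact hx.1
  obtain ⟨w, hw, -, hwR⟩ := h.tv R hR R' hR' R'' hR'' hne he
  have h2 : w * x * w⁻¹ = x := by
    rw [← mem_centralizer_iff.1 (h.o2_le_cent_NN hR hw) x hx.1]
    group
  have h3 : x ∈ cj w (NN H V₂ R') := by
    rw [← h2]
    exact mem_map_of_mem _ hx.2
  have hwn : w ∈ normalizer (V₂ : Set G) := centralizer_le_normalizer _ (h.cent R hR hw)
  rwa [cj_NN_of hH hwn, hwR] at h3

/-- (2) of the paper, first half: `C_{N_{R₂}}(N_R) ≤ O₂(H R)`. -/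
theorem le_o2_of_cent (hH : Loc H) {R₂ W R : Subgroup G} (hR₂ : R₂ ≤ V₂) (hR : R ≤ V₁)
    (hW : W = NN H V₁ R₂) (hW2 : IsPGroup 2 W) (hWc : W ≤ centralizer (V₁ : Set G)) :
    W ⊓ centralizer (NN H V₂ R : Set G) ≤ o2 (H R) := by
  subst hW
  set F : Subgroup G := centralizer (NN H V₂ R : Set G) ⊓ H R with hF
  have hFq : F ≤ H R₂ := by
    refine inf_le_left.trans (le_trans ?_ (hH.cen_le R₂))
    exact centralizer_le (SetLike.coe_subset_coe.2 (hR₂.trans (le_NN V₂ R)))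
  have hFn : F ≤ normalizer (NN H V₁ R₂ : Set G) := hFq.trans (H_le_normalizer_NN V₁ R₂)
  have h1 : NN H V₁ R₂ ⊓ F ≤ o2 F := by
    refine le_o2 inf_le_right (hW2.to_le inf_le_left) ?_
    intro x hx
    rw [mem_normalizer_iff_cj, cj_inf, cj_eq_of_mem_normalizer (hFn hx),
      cj_eq_of_mem_normalizer (le_normalizer hx)]
  have h2 : H R ≤ normalizer (F : Set G) := by
    intro x hx
    rw [mem_normalizer_iff_cj, hF, cj_inf, cj_centralizer,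
      cj_eq_of_mem_normalizer (H_le_normalizer_NN V₂ R hx),
      cj_eq_of_mem_normalizer (le_normalizer hx)]
  have h3 : o2 F ≤ o2 (H R) := by
    refine le_o2 ((o2_le F).trans inf_le_right) (isPGroup_o2 F) ?_
    exact h2.trans (normalizer_le_normalizer_o2 F)
  intro x hx
  refine h3 (h1 ⟨hx.1, hx.2, ?_⟩)
  exact hH.cen_le R (centralizer_le (SetLike.coe_subset_coe.2 hR) (hWc hx.1))

end Side

/-! ### Both sides -/

/-- The set-up of THEOREM J. -/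
structure Ctx (H : Subgroup G → Subgroup G) (V₁ V₂ : Subgroup G) (L₁ L₂ : Set (Subgroup G)) :
    Prop where
  loc : Loc H
  s1 : Side H V₁ V₂ L₁
  s2 : Side H V₂ V₁ L₂
  bot : FF H L₁ V₂ ⊓ FF H L₂ V₁ = ⊥

namespace Ctx

variable {V₁ V₂ : Subgroup G} {L₁ L₂ : Set (Subgroup G)} (h : Ctx H V₁ V₂ L₁ L₂)

/-- `V₁ ≤ E`. -/
theorem le_EE : V₁ ≤ FF H L₂ V₁ := fun _ hx => mem_FF.2 fun _ _ => le_NN V₁ _ hx

include h

theorem symm : Ctx H V₂ V₁ L₂ L₁ := ⟨h.loc, h.s2, h.s1, by rw [inf_comm]; exact h.bot⟩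

theorem mem_o2 {R R₂ : Subgroup G} {j : G} (hR : R ∈ L₁) (hR₂ : R₂ ∈ L₂) (hj : j ∈ NN H V₁ R₂)
    (hjc : j ∈ centralizer (NN H V₂ R : Set G)) : j ∈ o2 (H R) :=
  Side.le_o2_of_cent h.loc (h.s2.le R₂ hR₂) (h.s1.le R hR) rfl
    ((isPGroup_o2 _).to_le (h.s2.NN_le_o2 hR₂)) (h.s2.NN_le_cent_two hR₂) ⟨hj, hjc⟩

/-- An element of `N_{R'}` centralised by some `w ∈ O₂(H R)` with `R'^w ≠ R'` is in `F`. -/
theorem mem_FF_of_fix {R R' R'' : Subgroup G} {w t : G} (hR : R ∈ L₁) (hR' : R' ∈ L₁)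
    (hR'' : R'' ∈ L₁) (hne : R'' ≠ R') (hw : w ∈ o2 (H R)) (hwR : cj w R' = R'')
    (ht : t ∈ NN H V₂ R') (hwt : w * t * w⁻¹ = t) : t ∈ FF H L₁ V₂ := by
  have h3 : t ∈ cj w (NN H V₂ R') := by
    rw [← hwt]
    exact mem_map_of_mem _ ht
  have hwn : w ∈ normalizer (V₂ : Set G) := centralizer_le_normalizer _ (h.s1.cent R hR hw)
  rw [cj_NN_of h.loc hwn, hwR] at h3
  exact h.s1.inf_le_FF h.loc hR' hR'' hne ⟨ht, h3⟩

/-- The core of (2) and (3): `t ∈ N_{R'} ∩ O₂(H R)`, `R' ≠ R`: some `t r'` is in `F`, `r' ∈ R'`. -/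
theorem exists_mul {R R' : Subgroup G} {t : G} (hR : R ∈ L₁) (hR' : R' ∈ L₁) (hne : R' ≠ R)
    (ht : t ∈ NN H V₂ R') (hto : t ∈ o2 (H R)) : ∃ r ∈ R', t * r ∈ FF H L₁ V₂ := by
  obtain ⟨R'', hR'', h1, h2⟩ := h.s1.three R hR R' hR'
  obtain ⟨w, hw, hwx, hwR⟩ := h.s1.tv R hR R' hR' R'' hR'' hne h1
  obtain ⟨r, hr, hrw⟩ := h.s1.onto R hR R' hR' w hw hwx (by rw [hwR]; exact h2) _ (hwx t hto)
  refine ⟨r⁻¹, inv_mem hr, ?_⟩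
  refine h.mem_FF_of_fix hR hR' hR'' h2 hw hwR
    (mul_mem ht (h.s1.mem R' hR' (inv_mem hr))) ?_
  -- `w t w⁻¹ = c t`, `w r w⁻¹ = c r`, `c = [w, t] = [w, r]`; `t` commutes with `V₁`
  have hrV : r ∈ V₁ := h.s1.le R' hR' hr
  have htr : r * t = t * r := mem_centralizer_iff.1 (h.s1.NN_le_cent_one hR' ht) r hrV
  have e1 : w * t * w⁻¹ = w * r * w⁻¹ * r⁻¹ * t := by
    rw [hrw]
    group
  have e2 : w * (t * r⁻¹) * w⁻¹ = w * t * w⁻¹ * (w * r * w⁻¹)⁻¹ := by group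
  have h3 : w * r * w⁻¹ * r⁻¹ ∈ V₁ := by
    rw [hrw]
    exact h.s1.le R hR (hwx t hto)
  have h4 : w * r * w⁻¹ ∈ V₁ := by
    have := mul_mem h3 hrV
    simpa using this
  have h5 : w * r * w⁻¹ * r⁻¹ * t = t * (w * r * w⁻¹ * r⁻¹) :=
    mem_centralizer_iff.1 (h.s1.NN_le_cent_one hR' ht) _ h3
  have h6 : r⁻¹ * (w * r * w⁻¹)⁻¹ = (w * r * w⁻¹)⁻¹ * r⁻¹ := by
    -- `V₁` is abelian: it is centralised by `N_{R'} ≥ R'`
    have h7 : r ∈ centralizer (V₁ : Set G) := h.s1.NN_le_cent_one hR' (h.s1.mem R' hR' hr)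
    have h8 := mem_centralizer_iff.1 h7 _ h4
    rw [← mul_inv_rev, ← mul_inv_rev, h8]
  rw [e2, e1, h5]
  calc t * (w * r * w⁻¹ * r⁻¹) * (w * r * w⁻¹)⁻¹
      = t * (w * r * w⁻¹) * (r⁻¹ * (w * r * w⁻¹)⁻¹) := by group
    _ = t * (w * r * w⁻¹) * ((w * r * w⁻¹)⁻¹ * r⁻¹) := by rw [h6]
    _ = t * r⁻¹ := by group

/-- (2) `E ∩ N_{R'} = R'`. -/
theorem two {R' : Subgroup G} {t : G} (hR' : R' ∈ L₁) (hL₂ : L₂.Nonempty)
    (htE : t ∈ FF H L₂ V₁) (ht : t ∈ NN H V₂ R') : t ∈ R' := by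
  obtain ⟨R, hR, hne', -⟩ := h.s1.three R' hR' R' hR'
  have hne : R' ≠ R := hne'.symm
  obtain ⟨R₂, hR₂⟩ := hL₂
  -- `t` centralises `N_R`
  have htc : t ∈ centralizer (NN H V₂ R : Set G) := by
    rw [mem_centralizer_iff]
    intro y hy
    have hyE : y ∈ normalizer (FF H L₂ V₁ : Set G) :=
      h.s2.norm_FF h.loc (h.s1.NN_le_cent_two hR hy)
    have hyN : y ∈ normalizer (NN H V₂ R' : Set G) :=
      h.s1.norm_NN h.loc hR' (h.s1.NN_le_cent_one hR hy)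
    have htN : t ∈ normalizer (NN H V₂ R : Set G) :=
      h.s1.norm_NN h.loc hR (h.s1.NN_le_cent_one hR' ht)
    have h1 : y * t * y⁻¹ * t⁻¹ ∈ FF H L₂ V₁ :=
      mul_mem ((mem_normalizer_iff.1 hyE t).1 htE) (inv_mem htE)
    have h2 : y * t * y⁻¹ * t⁻¹ ∈ NN H V₂ R' :=
      mul_mem ((mem_normalizer_iff.1 hyN t).1 ht) (inv_mem ht)
    have h3 : y * t * y⁻¹ * t⁻¹ ∈ NN H V₂ R := by
      have e : y * t * y⁻¹ * t⁻¹ = y * (t * y⁻¹ * t⁻¹) := by group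
      rw [e]
      exact mul_mem hy ((mem_normalizer_iff.1 htN y⁻¹).1 (inv_mem hy))
    have h4 : y * t * y⁻¹ * t⁻¹ ∈ FF H L₁ V₂ ⊓ FF H L₂ V₁ :=
      ⟨h.s1.inf_le_FF h.loc hR hR' hne ⟨h3, h2⟩, h1⟩
    rw [h.bot, mem_bot] at h4
    exact mul_inv_eq_iff_eq_mul.1 (mul_inv_eq_one.1 h4)
  have hto : t ∈ o2 (H R) := h.mem_o2 hR hR₂ (mem_FF.1 htE R₂ hR₂) htc
  obtain ⟨r, hr, hrF⟩ := h.exists_mul hR hR' hne ht hto
  have h5 : t * r ∈ FF H L₁ V₂ ⊓ FF H L₂ V₁ :=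
    ⟨hrF, mul_mem htE (le_EE (h.s1.le R' hR' hr))⟩
  rw [h.bot, mem_bot] at h5
  rw [eq_inv_of_mul_eq_one_left h5]
  exact inv_mem hr

/-- (3) `C_{N_R ∩ N_{R₂}}(N_{R'}) ≤ R R₂`. -/
theorem three {R R' R₂ : Subgroup G} {j : G} (hR : R ∈ L₁) (hR' : R' ∈ L₁) (hne : R ≠ R')
    (hR₂ : R₂ ∈ L₂) (hj : j ∈ NN H V₂ R) (hj' : j ∈ NN H V₁ R₂)
    (hjc : j ∈ centralizer (NN H V₂ R' : Set G)) : j ∈ R ⊔ R₂ := by
  have hjo : j ∈ o2 (H R') := h.mem_o2 hR' hR₂ hj' hjc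
  obtain ⟨r, hr, hrF⟩ := h.exists_mul hR' hR hne hj hjo
  have h6 : j * r ∈ R₂ := h.symm.two hR₂ ⟨R, hR⟩ hrF
    (mul_mem hj' (le_NN V₁ R₂ (h.s1.le R hR hr)))
  have e : j = j * r * r⁻¹ := by group
  rw [e]
  exact mul_mem (mem_sup_right h6) (mem_sup_left (inv_mem hr))

/-- (4) `[N_R ∩ N_{R₂}, N_{R'}] ≤ R₂`. -/
theorem four {R R' R₂ : Subgroup G} {j y : G} (hR : R ∈ L₁) (hR' : R' ∈ L₁) (hne : R' ≠ R)
    (hR₂ : R₂ ∈ L₂) (hj : j ∈ NN H V₂ R) (hj' : j ∈ NN H V₁ R₂) (hy : y ∈ NN H V₂ R') :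
    j * y * j⁻¹ * y⁻¹ ∈ R₂ := by
  have hyN : y ∈ normalizer (NN H V₂ R : Set G) :=
    h.s1.norm_NN h.loc hR (h.s1.NN_le_cent_one hR' hy)
  have hjN : j ∈ normalizer (NN H V₂ R' : Set G) :=
    h.s1.norm_NN h.loc hR' (h.s1.NN_le_cent_one hR hj)
  have hyq : y ∈ normalizer (NN H V₁ R₂ : Set G) :=
    h.s2.norm_NN h.loc hR₂ (h.s1.NN_le_cent_two hR' hy)
  have e : j * y * j⁻¹ * y⁻¹ = j * (y * j⁻¹ * y⁻¹) := by group
  have h1 : j * y * j⁻¹ * y⁻¹ ∈ NN H V₂ R := by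
    rw [e]
    exact mul_mem hj ((mem_normalizer_iff.1 hyN j⁻¹).1 (inv_mem hj))
  have h2 : j * y * j⁻¹ * y⁻¹ ∈ NN H V₂ R' :=
    mul_mem ((mem_normalizer_iff.1 hjN y).1 hy) (inv_mem hy)
  have h3 : j * y * j⁻¹ * y⁻¹ ∈ NN H V₁ R₂ := by
    rw [e]
    exact mul_mem hj' ((mem_normalizer_iff.1 hyq j⁻¹).1 (inv_mem hj'))
  exact h.symm.two hR₂ ⟨R, hR⟩ (h.s1.inf_le_FF h.loc hR hR' hne ⟨h1, h2⟩) h3

/-- **THEOREM J**, steps (0)–(4), all `q`: `N_R ∩ N_{R₂} = R R₂`, or some `x ∈ N_{R₂}` satisfies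
`1 ≠ [x, N_R] ≤ R₂`. -/
theorem thmJ (htr : ∀ R ∈ L₁, ∀ R' ∈ L₁,
      ∃ l ∈ centralizer (V₂ : Set G) ⊓ normalizer (V₁ : Set G), cj l R' = R)
    {R R₂ : Subgroup G} (hR : R ∈ L₁) (hR₂ : R₂ ∈ L₂) :
    NN H V₂ R ⊓ NN H V₁ R₂ = R ⊔ R₂ ∨
    ∃ x ∈ NN H V₁ R₂, (∀ y ∈ NN H V₂ R, x * y * x⁻¹ * y⁻¹ ∈ R₂) ∧
      ∃ y ∈ NN H V₂ R, x * y * x⁻¹ * y⁻¹ ≠ 1 := by
  by_cases hle : NN H V₂ R ⊓ NN H V₁ R₂ ≤ R ⊔ R₂
  · left
    refine le_antisymm hle (sup_le (le_inf (h.s1.mem R hR) ?_) (le_inf ?_ (h.s2.mem R₂ hR₂)))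
    · exact (h.s1.le R hR).trans (le_NN V₁ R₂)
    · exact (h.s2.le R₂ hR₂).trans (le_NN V₂ R)
  right
  obtain ⟨j, ⟨hj, hj'⟩, hj1⟩ := SetLike.not_le_iff_exists.1 hle
  obtain ⟨R', hR', hne, -⟩ := h.s1.three R hR R hR
  obtain ⟨l, ⟨hl, hl'⟩, hlp⟩ := htr R hR R' hR'
  have hlq : ∀ a ∈ R₂, l * a * l⁻¹ = a := by
    intro a ha
    rw [← mem_centralizer_iff.1 hl a (h.s2.le R₂ hR₂ ha)]
    group
  have hlR₂ : cj l R₂ = R₂ := by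
    rw [← mem_normalizer_iff_cj]
    exact centralizer_le_normalizer _ (centralizer_le (SetLike.coe_subset_coe.2 (h.s2.le R₂ hR₂)) hl)
  have hN : cj l (NN H V₂ R') = NN H V₂ R := by
    rw [cj_NN_of h.loc (centralizer_le_normalizer _ hl), hlp]
  have hNq : cj l (NN H V₁ R₂) = NN H V₁ R₂ := by rw [cj_NN_of h.loc hl', hlR₂]
  -- by (3), `j` does not centralise `N_{R'}`
  have hjc : ¬ j ∈ centralizer (NN H V₂ R' : Set G) := fun hjc =>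
    hj1 (h.three hR hR' hne.symm hR₂ hj hj' hjc)
  refine ⟨l * j * l⁻¹, ?_, ?_, ?_⟩
  · rw [← hNq]
    exact mem_map_of_mem _ hj'
  · intro y hy
    have hy' : l⁻¹ * y * l ∈ NN H V₂ R' := by
      rw [← mem_cj, hN]
      exact hy
    have e : l * j * l⁻¹ * y * (l * j * l⁻¹)⁻¹ * y⁻¹ =
        l * (j * (l⁻¹ * y * l) * j⁻¹ * (l⁻¹ * y * l)⁻¹) * l⁻¹ := by group
    have h7 := h.four hR hR' hne hR₂ hj hj' hy'
    rw [e, hlq _ h7]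
    exact h7
  · by_contra hcon
    push Not at hcon
    apply hjc
    rw [mem_centralizer_iff]
    intro y hy
    have hy' : l * y * l⁻¹ ∈ NN H V₂ R := by
      rw [← hN]
      exact mem_map_of_mem _ hy
    have h7 := hcon _ hy'
    have e : l * j * l⁻¹ * (l * y * l⁻¹) * (l * j * l⁻¹)⁻¹ * (l * y * l⁻¹)⁻¹ =
        l * (j * y * j⁻¹ * y⁻¹) * l⁻¹ := by group
    rw [e] at h7
    have h8 : j * y * j⁻¹ * y⁻¹ = 1 := by
      have h9 : l * (j * y * j⁻¹ * y⁻¹) = l := by simpa using mul_inv_eq_one.1 h7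
      exact mul_eq_left.1 h9
    exact (mul_inv_eq_iff_eq_mul.1 (mul_inv_eq_one.1 h8)).symm

end Ctx

/-! ### (1) `E ∩ F = 1` -/

theorem cj_FF (hH : Loc H) (g : G) (L : Set (Subgroup G)) (V₂ : Subgroup G) :
    cj g (FF H L V₂) = FF H {R | cj g⁻¹ R ∈ L} (cj g V₂) := by
  ext x
  rw [mem_cj, mem_FF, mem_FF]
  constructor
  · intro h R hR
    have h1 := h (cj g⁻¹ R) hR
    rwa [← mem_cj, cj_NN hH, cj_cj_inv] at h1
  · intro h R hR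
    have h1 := h (cj g R) (by rw [Set.mem_ofPred_eq, cj_inv_cj]; exact hR)
    rwa [← cj_NN hH, mem_cj] at h1

/-- (1) `E ∩ F = 1`: `S` permutes the pairs `(V₁, 𝓛₁)`, `(V₂, 𝓛₂)` and every nontrivial normal
subgroup of `S` contains some `v₁v₂`, `v_i ∈ V_i`, `v₂ ≠ 1`. -/
theorem EE_inf_FF (hH : Loc H) {V₁ V₂ S : Subgroup G} {L₁ L₂ : Set (Subgroup G)}
    (h1 : Side H V₁ V₂ L₁) (h2 : Side H V₂ V₁ L₂)
    (hmv : ∀ v ∈ V₂, v ≠ 1 → ∃ R ∈ L₂, ∃ w ∈ o2 (H R), w * v * w⁻¹ ≠ v)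
    {R : Subgroup G} (hR : R ∈ L₁) (hS : o2 (H R) ≤ S)
    (hact : ∀ s ∈ S, (cj s V₁ = V₁ ∧ cj s V₂ = V₂ ∧ (∀ R, cj s⁻¹ R ∈ L₁ ↔ R ∈ L₁) ∧
        (∀ R, cj s⁻¹ R ∈ L₂ ↔ R ∈ L₂)) ∨
      (cj s V₁ = V₂ ∧ cj s V₂ = V₁ ∧ (∀ R, cj s⁻¹ R ∈ L₁ ↔ R ∈ L₂) ∧
        (∀ R, cj s⁻¹ R ∈ L₂ ↔ R ∈ L₁)))
    (hz : ∀ X ≤ S, X ≠ ⊥ → S ≤ normalizer (X : Set G) →
      ∃ v₁ ∈ V₁, ∃ v₂ ∈ V₂, v₂ ≠ 1 ∧ v₁ * v₂ ∈ X) :
    FF H L₁ V₂ ⊓ FF H L₂ V₁ = ⊥ := by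
  by_contra hne
  have hle : FF H L₁ V₂ ⊓ FF H L₂ V₁ ≤ S := fun x hx =>
    hS (h1.NN_le_o2 hR (mem_FF.1 hx.1 R hR))
  have hn : S ≤ normalizer ((FF H L₁ V₂ ⊓ FF H L₂ V₁ : Subgroup G) : Set G) := by
    intro s hs
    rw [mem_normalizer_iff_cj, cj_inf, cj_FF hH, cj_FF hH]
    rcases hact s hs with ⟨e1, e2, e3, e4⟩ | ⟨e1, e2, e3, e4⟩
    · have e5 : {R | cj s⁻¹ R ∈ L₁} = L₁ := Set.ext e3
      have e6 : {R | cj s⁻¹ R ∈ L₂} = L₂ := Set.ext e4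
      rw [e1, e2, e5, e6]
    · have e5 : {R | cj s⁻¹ R ∈ L₁} = L₂ := Set.ext e3
      have e6 : {R | cj s⁻¹ R ∈ L₂} = L₁ := Set.ext e4
      rw [e1, e2, e5, e6, inf_comm]
  obtain ⟨v₁, hv₁, v₂, hv₂, hv₂1, hzm⟩ := hz _ hle hne hn
  obtain ⟨R₂, hR₂, w, hw, hw'⟩ := hmv v₂ hv₂ hv₂1
  have hwz : w * (v₁ * v₂) * w⁻¹ = v₁ * v₂ := by
    rw [← mem_centralizer_iff.1 (h2.o2_le_cent_NN hR₂ hw) _ (mem_FF.1 hzm.2 R₂ hR₂)]
    group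
  have hwv : w * v₁ * w⁻¹ = v₁ := by
    rw [← mem_centralizer_iff.1 (h2.cent R₂ hR₂ hw) _ hv₁]
    group
  have e : w * (v₁ * v₂) * w⁻¹ = w * v₁ * w⁻¹ * (w * v₂ * w⁻¹) := by group
  rw [e, hwv] at hwz
  exact hw' (mul_left_cancel hwz)

/-! ### From one line to all lines -/

/-- The facts at one line `R₀` and a group `Λ ≤ C(V₂) ∩ N(V₁)` transitive on the lines suffice. -/
theorem Side.of_line (hH : Loc H) {V₁ V₂ Λ R₀ : Subgroup G} {L : Set (Subgroup G)}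
    (hΛ : Λ ≤ centralizer (V₂ : Set G) ⊓ normalizer (V₁ : Set G))
    (hΛL : ∀ l ∈ Λ, ∀ R ∈ L, cj l R ∈ L) (htr : ∀ R ∈ L, ∃ l ∈ Λ, cj l R₀ = R)
    (hle : ∀ R ∈ L, R ≤ V₁) (hthree : ∀ R ∈ L, ∀ R' ∈ L, ∃ R'' ∈ L, R'' ≠ R ∧ R'' ≠ R')
    (h1 : V₂ ≤ o2 (H R₀)) (h2 : o2 (H R₀) ≤ centralizer (V₂ : Set G)) (h3 : V₁ ≤ o2 (H R₀))
    (h4 : ∀ R' ∈ L, ∀ R'' ∈ L, R' ≠ R₀ → R'' ≠ R₀ → ∃ w ∈ o2 (H R₀),
      (∀ x ∈ o2 (H R₀), w * x * w⁻¹ * x⁻¹ ∈ R₀) ∧ cj w R' = R'')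
    (h5 : ∀ R' ∈ L, ∀ w ∈ o2 (H R₀), (∀ x ∈ o2 (H R₀), w * x * w⁻¹ * x⁻¹ ∈ R₀) →
      cj w R' ≠ R' → ∀ r ∈ R₀, ∃ r' ∈ R', w * r' * w⁻¹ * r'⁻¹ = r)
    (h6 : R₀ ≤ NN H V₂ R₀) : Side H V₁ V₂ L := by
  have key : ∀ R ∈ L, ∃ l ∈ Λ, cj l V₁ = V₁ ∧ cj l V₂ = V₂ ∧ cj l R₀ = R ∧
      o2 (H R) = cj l (o2 (H R₀)) := by
    intro R hR
    obtain ⟨l, hl, e⟩ := htr R hR
    refine ⟨l, hl, cj_eq_of_mem_normalizer (hΛ hl).2,
      cj_eq_of_mem_normalizer (centralizer_le_normalizer _ (hΛ hl).1), e, ?_⟩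
    rw [← e, ← hH.eqv]
    exact pCore_cj l _
  have conj : ∀ (l w x : G), l * w * l⁻¹ * x * (l * w * l⁻¹)⁻¹ * x⁻¹ =
      l * (w * (l⁻¹ * x * l) * w⁻¹ * (l⁻¹ * x * l)⁻¹) * l⁻¹ := fun l w x => by group
  refine ⟨hle, ?_, ?_, ?_, ?_, ?_, hthree, ?_⟩
  · intro R hR
    obtain ⟨l, hl, e1, e2, e3, e4⟩ := key R hR
    rw [e4, ← e2]
    exact cj_mono l h1
  · intro R hR
    obtain ⟨l, hl, e1, e2, e3, e4⟩ := key R hR
    rw [e4, ← e2, ← cj_centralizer]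
    exact cj_mono l h2
  · intro R hR
    obtain ⟨l, hl, e1, e2, e3, e4⟩ := key R hR
    rw [e4]
    nth_rewrite 1 [← e1]
    exact cj_mono l h3
  · intro R hR R' hR' R'' hR'' hne hne'
    obtain ⟨l, hl, e1, e2, e3, e4⟩ := key R hR
    have h7 : ∀ T : Subgroup G, T ≠ R → cj l⁻¹ T ≠ R₀ := by
      intro T hT e
      apply hT
      rw [← e3, ← e, cj_cj_inv]
    obtain ⟨w, hw, hwx, hwR⟩ := h4 _ (hΛL l⁻¹ (inv_mem hl) R' hR') _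
      (hΛL l⁻¹ (inv_mem hl) R'' hR'') (h7 R' hne) (h7 R'' hne')
    refine ⟨l * w * l⁻¹, by rw [e4]; exact mem_map_of_mem _ hw, ?_, ?_⟩
    · intro x hx
      rw [e4, mem_cj] at hx
      rw [conj, ← e3]
      exact mem_map_of_mem _ (hwx _ hx)
    · rw [← cj_cj, ← cj_cj, hwR, cj_cj_inv]
  · intro R hR R' hR' w hw hwx hne r hr
    obtain ⟨l, hl, e1, e2, e3, e4⟩ := key R hR
    rw [e4, mem_cj] at hw
    rw [← e3, mem_cj] at hr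
    have hwx' : ∀ x ∈ o2 (H R₀), l⁻¹ * w * l * x * (l⁻¹ * w * l)⁻¹ * x⁻¹ ∈ R₀ := by
      intro x hx
      have h8 := hwx (l * x * l⁻¹) (by rw [e4]; exact mem_map_of_mem _ hx)
      rw [← e3, mem_cj] at h8
      have e : l⁻¹ * (w * (l * x * l⁻¹) * w⁻¹ * (l * x * l⁻¹)⁻¹) * l =
          l⁻¹ * w * l * x * (l⁻¹ * w * l)⁻¹ * x⁻¹ := by group
      rwa [e] at h8
    have hne' : cj (l⁻¹ * w * l) (cj l⁻¹ R') ≠ cj l⁻¹ R' := by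
      intro e
      apply hne
      have h9 := congrArg (cj l) e
      rw [cj_cj, cj_cj, cj_cj_inv] at h9
      have e10 : l * (l⁻¹ * w * l) * l⁻¹ = w := by group
      rwa [e10] at h9
    obtain ⟨r', hr', e5⟩ := h5 _ (hΛL l⁻¹ (inv_mem hl) R' hR') _ hw hwx' hne' _ hr
    refine ⟨l * r' * l⁻¹, ?_, ?_⟩
    · rw [mem_cj] at hr'
      have e : l⁻¹⁻¹ * r' * l⁻¹ = l * r' * l⁻¹ := by group
      rwa [e] at hr'
    · have e : w * (l * r' * l⁻¹) * w⁻¹ * (l * r' * l⁻¹)⁻¹ =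
          l * (l⁻¹ * w * l * r' * (l⁻¹ * w * l)⁻¹ * r'⁻¹) * l⁻¹ := by group
      rw [e, e5]
      group
  · intro R hR
    obtain ⟨l, hl, e1, e2, e3, e4⟩ := key R hR
    have h7 : cj l R₀ ≤ cj l (NN H V₂ R₀) := cj_mono l h6
    rwa [cj_NN hH, e2, e3] at h7

end Cfsg.Agent.Omega.IId.ThmJQ
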