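import Cfsg.Agent.Omega.IId.MixedK
import Cfsg.Agent.StdRank2.OutField

/-!
# A 2-group acting semilinearly on a line

`R ≅ (F, +)`, `|F| = 2^n`, a 2-group `A` acts on `R` by maps `x ↦ c σ(x)`.  Then
`|R| = |C_R(A)| ^ |A : C_A(R)|` and `A / C_A(R)` is cyclic.
-/

set_option autoImplicit false

namespace Cfsg.Agent.Omega.IId.SemiLine

open Subgroup

variable {G : Type*} [Group G]

/-- coordinates on `R` -/
structure LineF (F : Type*) [Field F] (R : Subgroup G) where
  e : F → G
  add : ∀ x y, e (x + y) = e x * e y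
  inj : Function.Injective e
  mem : ∀ g, g ∈ R ↔ ∃ x, e x = g

namespace LineF

variable {F : Type*} [Field F] {R : Subgroup G} (L : LineF F R)

/-- `a` acts semilinearly on `R`. -/
def Semi (a : G) : Prop := ∃ (c : F) (σ : F ≃+* F), ∀ x, a * L.e x * a⁻¹ = L.e (c * σ x)

theorem e_mem (x : F) : L.e x ∈ R := (L.mem _).2 ⟨x, rfl⟩

theorem e_zero : L.e 0 = 1 := by
  have h := L.add 0 0
  rw [add_zero] at h
  exact (mul_eq_left.1 h.symm)

include L in
theorem card : Nat.card R = Nat.card F := by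
  refine (Nat.card_congr (Equiv.ofBijective (fun x : F => (⟨L.e x, L.e_mem x⟩ : R)) ⟨?_, ?_⟩)).symm
  · intro x y hxy
    exact L.inj (congrArg Subtype.val hxy)
  · rintro ⟨g, hg⟩
    obtain ⟨x, rfl⟩ := (L.mem g).1 hg
    exact ⟨x, rfl⟩

theorem comm (x y : F) : L.e x * L.e y = L.e y * L.e x := by
  rw [← L.add, ← L.add, add_comm]

theorem c_ne_zero {a : G} {c : F} {σ : F ≃+* F} (h : ∀ x, a * L.e x * a⁻¹ = L.e (c * σ x)) :
    c ≠ 0 := by
  rintro rfl
  have h1 := h 1
  rw [zero_mul, L.e_zero] at h1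
  have h2 : L.e 1 = 1 := by
    calc L.e 1 = a⁻¹ * (a * L.e 1 * a⁻¹) * a := by group
      _ = 1 := by rw [h1]; group
  rw [← L.e_zero] at h2
  exact one_ne_zero (L.inj h2)

theorem semi_mul {a b : G} {c d : F} {σ τ : F ≃+* F} (ha : ∀ x, a * L.e x * a⁻¹ = L.e (c * σ x))
    (hb : ∀ x, b * L.e x * b⁻¹ = L.e (d * τ x)) (x : F) :
    a * b * L.e x * (a * b)⁻¹ = L.e (c * σ d * σ (τ x)) := by
  calc a * b * L.e x * (a * b)⁻¹ = a * (b * L.e x * b⁻¹) * a⁻¹ := by group
    _ = _ := by rw [hb, ha, map_mul, mul_assoc]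

theorem semi_unique {a : G} {c d : F} {σ τ : F → F} (hσ1 : σ 1 = 1) (hτ1 : τ 1 = 1)
    (hc : c ≠ 0) (ha : ∀ x, a * L.e x * a⁻¹ = L.e (c * σ x))
    (hb : ∀ x, a * L.e x * a⁻¹ = L.e (d * τ x)) : c = d ∧ ∀ x, σ x = τ x := by
  have h1 : c = d := by
    have := L.inj ((ha 1).symm.trans (hb 1))
    rwa [hσ1, hτ1, mul_one, mul_one] at this
  refine ⟨h1, fun x => ?_⟩
  have := L.inj ((ha x).symm.trans (hb x))
  rw [← h1] at this
  exact mul_left_cancel₀ hc this

section main

variable (A : Subgroup G) (h : ∀ a ∈ A, L.Semi a)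

/-- the scalar -/
noncomputable def cc (a : A) : F := (h a a.2).choose

/-- the field automorphism -/
noncomputable def sg (a : A) : F ≃+* F := (h a a.2).choose_spec.choose

theorem spec (a : A) (x : F) : (a : G) * L.e x * (a : G)⁻¹ = L.e (L.cc A h a * L.sg A h a x) :=
  (h a a.2).choose_spec.choose_spec x

/-- the homomorphism to `Aut F` -/
noncomputable def hom : A →* RingAut F where
  toFun := L.sg A h
  map_one' := by
    ext x
    have h1 := L.spec A h 1
    have h2 : ∀ x : F, ((1 : A) : G) * L.e x * ((1 : A) : G)⁻¹ = L.e (1 * id x) := fun x => by simp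
    exact (L.semi_unique (map_one _) rfl (L.c_ne_zero h1) h1 h2).2 x
  map_mul' := by
    intro a b
    ext x
    have h1 := L.spec A h (a * b)
    have h2 : ∀ x : F, ((a * b : A) : G) * L.e x * ((a * b : A) : G)⁻¹ =
        L.e (L.cc A h a * L.sg A h a (L.cc A h b) * L.sg A h a (L.sg A h b x)) := fun x => by
      rw [Subgroup.coe_mul]
      exact L.semi_mul (L.spec A h a) (L.spec A h b) x
    exact (L.semi_unique (map_one _) (by rw [map_one, map_one]) (L.c_ne_zero h1) h1 h2).2 x

theorem hom_apply (a : A) : L.hom A h a = L.sg A h a := rfl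

/-- elements acting linearly act trivially if they are 2-elements. -/
theorem trivial_of_sg [Finite F] [CharP F 2] (hA : IsPGroup 2 A) {a : A} (ha : L.hom A h a = 1)
    (x : F) : (a : G) * L.e x = L.e x * a := by
  have h1 : ∀ x, (a : G) * L.e x * (a : G)⁻¹ = L.e (L.cc A h a * x) := fun x => by
    rw [L.spec A h a]
    congr 2
    rw [hom_apply] at ha
    rw [ha]; rfl
  have h2 : ∀ (n : ℕ) (x : F), ((a : G) ^ n) * L.e x * ((a : G) ^ n)⁻¹ = L.e (L.cc A h a ^ n * x) := by
    intro n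
    induction n with
    | zero => intro x; simp
    | succ n ih =>
      intro x
      rw [pow_succ]
      calc (a : G) ^ n * a * L.e x * ((a : G) ^ n * a)⁻¹ =
          (a : G) ^ n * ((a : G) * L.e x * (a : G)⁻¹) * ((a : G) ^ n)⁻¹ := by group
        _ = _ := by rw [h1, ih, pow_succ, mul_assoc]
  obtain ⟨k, hk⟩ := hA a
  have hk' : (a : G) ^ 2 ^ k = 1 := by
    have := congrArg Subtype.val hk
    simpa using this
  have h3 : L.cc A h a ^ 2 ^ k = 1 := by
    have := h2 (2 ^ k) 1
    rw [hk'] at this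
    have h4 := L.inj (this.symm.trans (by simp : (1 : G) * L.e 1 * (1 : G)⁻¹ = L.e 1))
    rwa [mul_one] at h4
  have h4 : L.cc A h a = 1 := by
    -- `x ↦ x ^ 2 ^ k` is injective in characteristic two
    have : Function.Injective (fun x : F => x ^ 2 ^ k) := by
      have h5 := (iterateFrobenius F 2 k).injective
      intro x y hxy
      exact h5 hxy
    exact this (by simp only [h3, one_pow])
  have h5 := h1 x
  rw [h4, one_mul] at h5
  exact MixedK.conj_comm h5

include h in
/-- a nonzero fixed vector of a 2-group -/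
theorem exists_fixed [Finite F] [CharP F 2] (hA : IsPGroup 2 A) :
    ∃ x₀ : F, x₀ ≠ 0 ∧ ∀ a : A, (a : G) * L.e x₀ * (a : G)⁻¹ = L.e x₀ := by
  have : Fact (Nat.Prime 2) := ⟨Nat.prime_two⟩
  let act : MulAction A F :=
    { smul := fun a x => L.cc A h a * L.sg A h a x
      one_smul := fun x => by
        apply L.inj
        change L.e (L.cc A h 1 * L.sg A h 1 x) = L.e x
        rw [← L.spec A h 1]; simp
      mul_smul := fun a b x => by
        apply L.inj
        change L.e (L.cc A h (a * b) * L.sg A h (a * b) x) =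
          L.e (L.cc A h a * L.sg A h a (L.cc A h b * L.sg A h b x))
        rw [← L.spec A h (a * b), ← L.spec A h a, ← L.spec A h b, Subgroup.coe_mul]
        group }
  have hdvd : 2 ∣ Nat.card F := by
    have : Fintype F := Fintype.ofFinite F
    obtain ⟨n, hn⟩ := FiniteField.card F 2
    rw [Nat.card_eq_fintype_card, hn.2]
    exact dvd_pow_self 2 n.ne_zero
  have h0 : (0 : F) ∈ MulAction.fixedPoints A F := by
    intro a
    change L.cc A h a * L.sg A h a 0 = 0
    rw [map_zero, mul_zero]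
  obtain ⟨b, hb, hb0⟩ := hA.exists_fixed_point_of_prime_dvd_card_of_fixed_point F hdvd h0
  refine ⟨b, hb0.symm, fun a => ?_⟩
  rw [L.spec A h a]
  congr 1
  exact hb a

include L h in
/-- **the count** -/
theorem card_eq [Finite F] [CharP F 2] (hA : IsPGroup 2 A) :
    Nat.card R = Nat.card ↥(R ⊓ centralizer (A : Set G)) ^
      (A ⊓ centralizer (R : Set G)).relIndex A := by
  obtain ⟨x₀, hx₀, hfix⟩ := L.exists_fixed A h hA
  set H := (L.hom A h).range with hH
  have : Finite (RingAut F) := by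
    have : Finite (F → F) := inferInstance
    exact Finite.of_injective (fun σ : RingAut F => (σ : F → F)) (fun σ τ hst => by
      ext x; exact congrFun hst x)
  have : Fintype H := Fintype.ofFinite H
  -- the fixed field
  have h1 := FixedPoints.finrank_eq_card H F
  have h2 : Nat.card F = Nat.card (FixedPoints.subfield H F) ^ Fintype.card H := by
    rw [← h1]
    exact Module.natCard_eq_pow_finrank
  -- `C_R(A) = x₀ * Fix`
  have hsg : ∀ (a : A) (t : F), (a : G) * L.e (x₀ * t) * (a : G)⁻¹ = L.e (x₀ * L.sg A h a t) := by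
    intro a t
    have h3 := hfix a
    rw [L.spec A h a] at h3 ⊢
    have h4 := L.inj h3
    rw [map_mul, ← mul_assoc, h4]
  have h3 : Nat.card ↥(R ⊓ centralizer (A : Set G)) = Nat.card (FixedPoints.subfield H F) := by
    symm
    refine Nat.card_congr (Equiv.ofBijective (fun t : FixedPoints.subfield H F =>
      (⟨L.e (x₀ * (t : F)), ?_⟩ : ↥(R ⊓ centralizer (A : Set G)))) ⟨?_, ?_⟩)
    · refine mem_inf.2 ⟨L.e_mem _, mem_centralizer_iff.2 fun a ha => ?_⟩
      apply MixedK.conj_comm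
      have h5 := hsg ⟨a, ha⟩ (t : F)
      change a * L.e (x₀ * (t : F)) * a⁻¹ = _ at h5
      rw [h5]
      congr 2
      exact t.2 ⟨L.hom A h ⟨a, ha⟩, ⟨_, rfl⟩⟩
    · intro s t hst
      have h5 := L.inj (congrArg Subtype.val hst)
      exact Subtype.ext (mul_left_cancel₀ hx₀ h5)
    · rintro ⟨g, hg⟩
      obtain ⟨hgR, hgA⟩ := mem_inf.1 hg
      obtain ⟨x, rfl⟩ := (L.mem g).1 hgR
      refine ⟨⟨x₀⁻¹ * x, ?_⟩, ?_⟩
      · rintro ⟨_, ⟨a, rfl⟩⟩
        have h5 := hsg a (x₀⁻¹ * x)
        have h6 : x₀ * (x₀⁻¹ * x) = x := by rw [← mul_assoc, mul_inv_cancel₀ hx₀, one_mul]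
        rw [h6] at h5
        have h7 : (a : G) * L.e x * (a : G)⁻¹ = L.e x :=
          MixedK.comm_conj (mem_centralizer_iff.1 hgA a a.2)
        rw [h7] at h5
        have h8 := L.inj h5
        change L.sg A h a (x₀⁻¹ * x) = x₀⁻¹ * x
        rw [eq_inv_mul_iff_mul_eq₀ hx₀]
        exact h8.symm
      · apply Subtype.ext
        change L.e (x₀ * (x₀⁻¹ * x)) = L.e x
        rw [← mul_assoc, mul_inv_cancel₀ hx₀, one_mul]
  -- `|H| = |A : C_A(R)|`
  have hker : (L.hom A h).ker = (A ⊓ centralizer (R : Set G)).subgroupOf A := by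
    ext a
    rw [MonoidHom.mem_ker, mem_subgroupOf, mem_inf]
    constructor
    · intro ha
      refine ⟨a.2, mem_centralizer_iff.2 fun r hr => ?_⟩
      obtain ⟨x, rfl⟩ := (L.mem r).1 hr
      exact (L.trivial_of_sg A h hA ha x).symm
    · rintro ⟨-, ha⟩
      rw [hom_apply]
      ext x
      have h1' := L.spec A h a
      have h2' : ∀ x : F, (a : G) * L.e x * (a : G)⁻¹ = L.e (1 * id x) := fun x => by
        rw [one_mul]
        exact MixedK.comm_conj (mem_centralizer_iff.1 ha _ (L.e_mem x)).symm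
      exact (L.semi_unique (map_one _) rfl (L.c_ne_zero h1') h1' h2').2 x
  have h4 : Fintype.card H = (A ⊓ centralizer (R : Set G)).relIndex A := by
    rw [relIndex, ← hker, ← Nat.card_eq_fintype_card, index]
    exact (Nat.card_congr (QuotientGroup.quotientKerEquivRange (L.hom A h)).toEquiv).symm
  rw [L.card, h2, h3, h4]

include L h in
/-- `A / C_A(R)` is cyclic. -/
theorem exists_gen [Finite F] [CharP F 2] (hA : IsPGroup 2 A) :
    ∃ a ∈ A, ∀ b ∈ A, ∃ n : ℤ, ∀ r ∈ R, (a ^ n * b) * r = r * (a ^ n * b) := by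
  have hcyc : IsCyclic (RingAut F) := Cfsg.Agent.StdRank2.OutField.isCyclic
  obtain ⟨⟨_, ⟨a, rfl⟩⟩, hg⟩ := (inferInstance : IsCyclic (L.hom A h).range).exists_generator
  refine ⟨a, a.2, fun b hb => ?_⟩
  obtain ⟨n, hn⟩ := hg ⟨L.hom A h ⟨b, hb⟩, ⟨_, rfl⟩⟩
  refine ⟨-n, fun r hr => ?_⟩
  obtain ⟨x, rfl⟩ := (L.mem r).1 hr
  have h1 : L.hom A h (a ^ (-n) * ⟨b, hb⟩) = 1 := by
    have h2 : L.hom A h a ^ n = L.hom A h ⟨b, hb⟩ := congrArg Subtype.val hn
    rw [map_mul, map_zpow, ← h2, ← zpow_add, neg_add_cancel, zpow_zero]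
  have h3 := L.trivial_of_sg A h hA h1 x
  simpa using h3

end main

end LineF

end Cfsg.Agent.Omega.IId.SemiLine
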