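import Cfsg.Agent.Omega.IId.OneJ
import Cfsg.Agent.Omega.IId.CaseAGL
import Cfsg.Agent.Omega.TV.Dich

/-!
# II.d, `q = 2`, CASE 1, case A : `[N₁, N₂] = 1` is impossible

helper64 (bb #14186, #14872; #12430 (A)).  `N₁ = nc v₁ {v₂}`, `N₂ = nc v₂ {v₁}`.

* `One.allTv` : every transvection of `N₁` is induced by `C(v₁)` (the hyperbolic line is excluded by `n1`);
* `One.caseA` : `One`, `NonLoc (C(v₁)) (C(v₂))` and `[N₁, N₂] = 1` are contradictory.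
-/

set_option autoImplicit false
set_option linter.dupNamespace false
set_option linter.unusedSectionVars false

namespace Cfsg.Agent.Omega.IId.One

open Subgroup Cfsg Cfsg.Agent.ZN Cfsg.Agent.ZN.ChoiceBase
open Cfsg.Agent.Omega.TV Cfsg.Agent.Omega.MinPar Cfsg.Agent.Omega.IId.CaseA
open Cfsg.Agent.Omega.IId.Two (le_normalizer_of)

universe u

variable {G : Type u} [Group G] [Finite G] {T V₁ V₂ L₁ L₂ : Subgroup G} {v₁ v₂ s : G}

namespace Base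

variable (h : Base T V₁ V₂ L₁ L₂ v₁ v₂ s)
include h

/-- a normal 2-subgroup of `M` centralizing `N₂` lies in `O₂(C(v₂))` -/
theorem le_Q2 {X : Subgroup G} (hX : IsPGroup 2 X) (hX2 : X ≤ cz v₂) (hM : cz v₁ ⊓ cz v₂ ≤ normalizer (X : Set G))
    (hc : ∀ x ∈ X, ∀ y ∈ nc v₂ {v₁}, x * y = y * x) : X ≤ ZN.o2 (cz v₂) := by
  set F := cz v₂ ⊓ centralizer (nc v₂ {v₁} : Set G) with hF
  have hXF : X ≤ F := le_inf hX2 fun x hx => mem_centralizer_iff.2 fun y hy => (hc x hx y hy).symm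
  have hFM : F ≤ cz v₁ ⊓ cz v₂ := by
    have := h.symm.F1_le
    rwa [inf_comm (cz v₂) (cz v₁)] at this
  have h1 : X ≤ ZN.o2 F := ZN.le_o2 hXF hX (hFM.trans hM)
  have h2 : ZN.o2 F ≤ ZN.o2 (cz v₂) := ZN.le_o2 ((ZN.o2_le F).trans inf_le_left) (ZN.isPGroup_o2 F)
    (h.symm.F1_norm.trans (ZN.normalizer_le_normalizer_o2 F))
  exact h1.trans h2

theorem N1_le_Q2 (hcom : ∀ x ∈ nc v₁ {v₂}, ∀ y ∈ nc v₂ {v₁}, x * y = y * x) :
    nc v₁ {v₂} ≤ ZN.o2 (cz v₂) :=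
  h.le_Q2 (h.pT.to_le h.N1_le_T) (h.N1_le_T.trans h.T_le2) (inf_le_left.trans (le_normalizer_nc _ _)) hcom

end Base

namespace One

variable (h : One T V₁ V₂ L₁ L₂ v₁ v₂ s)
include h

theorem hcom_symm (hcom : ∀ x ∈ nc v₁ {v₂}, ∀ y ∈ nc v₂ {v₁}, x * y = y * x) :
    ∀ x ∈ nc v₂ {v₁}, ∀ y ∈ nc v₁ {v₂}, x * y = y * x := fun x hx y hy => (hcom y hy x hx).symm

theorem tvKk (hcom : ∀ x ∈ nc v₁ {v₂}, ∀ y ∈ nc v₂ {v₁}, x * y = y * x) {k n : G} (hk : k ∈ Kk v₂)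
    (hn : n ∈ nc v₁ {v₂}) : k * n * k⁻¹ = n ∨ k * n * k⁻¹ = n * v₂ := by
  rcases Kk_conj h.vq2 hk (h.N1_le_Q2 hcom hn) with e | e
  · exact Or.inl e
  · right
    rw [e]
    exact h.N1_comm h.v2_mem_N1 hn

/-- every transvection of `N₁` is induced by `C(v₁)` -/
theorem allTv (hcom : ∀ x ∈ nc v₁ {v₂}, ∀ y ∈ nc v₂ {v₁}, x * y = y * x) :
    AllTv (cz v₁) (nc v₁ {v₂}) := by
  obtain ⟨w, hw, u, hu, hwu⟩ := h.k2
  have hu1 : u ≠ 1 := by rintro rfl; exact hwu (by simp)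
  have hu2 : u ≠ v₂ := by
    rintro rfl
    exact hwu (mem_cz.1 (Kk_le _ hw))
  obtain ⟨l, hl, hlu⟩ := h.t2 v₂ h.vV2 h.v2 u hu hu1
  have hmov : w * u * w⁻¹ ≠ u := fun e => hwu (mul_inv_eq_iff_eq_mul.1 e)
  have hv1c : ∀ c ∈ cz v₁, c * v₁ * c⁻¹ = v₁ := fun c hc => by rw [mem_cz.1 hc, mul_inv_cancel_right]
  rcases h.gsys.dich (h.symm.Kk_le_T.trans h.T_le hw) (fun n hn => h.tvKk hcom hw hn)
      ⟨l, h.L2_le hl, hlu.symm⟩ hmov h.pT (fun x hx => by rw [h.Tv2 x hx, mul_inv_cancel_right])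
      (fun x hx => h.symm.T_conj1 hx hu) h.T_le (fun n hn hfix => by
        have hfix' : ∀ t ∈ T, t * n = n * t := fun t ht => mul_inv_eq_iff_eq_mul.1 (hfix t ht)
        rcases h.N1_fix hn hfix' with e | e | e | e
        · exact ⟨1, one_mem _, fun c _ => by simp, Or.inl e⟩
        · exact ⟨v₁, by rw [e] at hn; exact hn, hv1c, Or.inl e⟩
        · exact ⟨1, one_mem _, fun c _ => by simp, Or.inr (by rw [e, mul_one])⟩
        · refine ⟨v₁, ?_, hv1c, Or.inr (by rw [e, h.vc])⟩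
          have h1 := mul_mem hn h.v2_mem_N1
          rwa [e, mul_assoc, h.vq2, mul_one] at h1)
    with h1 | h1
  · exfalso
    apply h.n1
    have hle : nc v₁ {v₂} ≤ V₂ := by
      intro x hx
      rcases h1 x hx with rfl | rfl | rfl | rfl
      · exact one_mem _
      · exact h.vV2
      · exact hu
      · exact mul_mem h.vV2 hu
    have heq : nc v₁ {v₂} = V₂ := le_antisymm hle h.V2_le_N1
    have := le_normalizer_nc v₁ {v₂}
    rwa [heq] at this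
  · exact h1

/-- `N₂ ≤ Kk v₁` -/
theorem N2_le_Kk (hcom : ∀ x ∈ nc v₁ {v₂}, ∀ y ∈ nc v₂ {v₁}, x * y = y * x) : nc v₂ {v₁} ≤ Kk v₁ := by
  have h2 := h.symm.allTv (h.hcom_symm hcom)
  obtain ⟨w, hw, r, hr, hwr⟩ := h.k1
  have hr1 : r ≠ 1 := by rintro rfl; exact hwr (by simp)
  have hr2 : r ≠ v₁ := by rintro rfl; exact hwr (mem_cz.1 (Kk_le _ hw))
  have hsq : ∀ x ∈ nc v₂ {v₁}, x * x = 1 := fun x hx => h.symm.N1_sq hx
  intro y hy
  by_cases hy1 : y = 1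
  · rw [hy1]; exact one_mem _
  by_cases hy2 : y = v₁
  · rw [hy2]; exact h.V1_le_Kk h.vV1
  obtain ⟨t, ht, e1, e2⟩ := move hsq h2 (U := one2 v₁ h.vq1) (by
    rintro g hg
    rcases mem_one2.1 hg with rfl | rfl
    exacts [one_mem _, h.symm.v2_mem_N1]) (h.V1_le_N2 hr) hy (fun e => (mem_one2.1 e).elim hr1 hr2)
    (fun e => (mem_one2.1 e).elim hy1 hy2)
  have ht1 : t ∈ cz v₁ := mem_cz.2 (mul_inv_eq_iff_eq_mul.1 (e1 v₁ (mem_one2.2 (Or.inr rfl))))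
  rw [← e2]
  exact (mem_normalizer_iff.1 (le_normalizer_Kk v₁ ht1) r).1 (h.V1_le_Kk hr)

theorem half (hnl : NonLoc (cz v₁) (cz v₂))
    (hcom : ∀ x ∈ nc v₁ {v₂}, ∀ y ∈ nc v₂ {v₁}, x * y = y * x) :
    Half (cz v₁) (cz v₂) (nc v₁ {v₂}) (nc v₂ {v₁}) (Kk v₂) v₁ v₂ := by
  have hN2 := h.N2_le_Kk hcom
  refine
    { sqN := fun x hx => h.N1_sq hx
      sqB := fun x hx => h.symm.N1_sq hx
      tvN := h.allTv hcom
      tvB := h.symm.allTv (h.hcom_symm hcom)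
      norN := fun c hc n hn => (mem_normalizer_iff.1 (le_normalizer_nc v₁ _ hc) n).1 hn
      norB := fun c hc n hn => (mem_normalizer_iff.1 (le_normalizer_nc v₂ _ hc) n).1 hn
      v₂N := h.v2_mem_N1
      v₁B := h.symm.v2_mem_N1
      ne₁ := h.v1
      ne₂ := h.v2
      C₁ := fun c hc => by rw [mem_cz.1 hc, mul_inv_cancel_right]
      D₂ := fun c hc => by rw [mem_cz.1 hc, mul_inv_cancel_right]
      CD := fun c _ e => mem_cz.2 (mul_inv_eq_iff_eq_mul.1 e)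
      DC := fun c _ e => mem_cz.2 (mul_inv_eq_iff_eq_mul.1 e)
      KC := h.symm.Kk_le_T.trans h.T_le
      KD := Kk_le v₂
      norK := fun d hd k hk => (mem_normalizer_iff.1 (le_normalizer_Kk v₂ hd) k).1 hk
      cenK := ?_
      tvK := fun k hk n hn => h.tvKk hcom hk hn
      movK := ?_
      comm := ?_
      hJ := ?_
      nl := ?_ }
  · intro k hk b hb
    rw [h.symm.Q_N1 (h.symm.Kk_le_Q hk) hb, mul_inv_cancel_right]
  · obtain ⟨w, hw, u, hu, hwu⟩ := h.k2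
    exact ⟨w, hw, u, h.V2_le_N1 hu, fun e => hwu (mul_inv_eq_iff_eq_mul.1 e)⟩
  · intro c hc b hb b' hb'
    have h1 : c * b' * c⁻¹ ∈ ZN.o2 (cz v₁) :=
      h.Kk_le_Q ((mem_normalizer_iff.1 (le_normalizer_Kk v₁ hc) b').1 (hN2 hb'))
    rcases Kk_conj h.vq1 (hN2 hb) h1 with e | e
    · exact Or.inl (mul_inv_eq_iff_eq_mul.1 e)
    · right
      have e1 := mul_inv_eq_iff_eq_mul.1 e
      have e2 : v₁ * (c * b' * c⁻¹) = c * b' * c⁻¹ * v₁ := (mem_cz.1 (ZN.o2_le _ h1)).symm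
      have e3 : v₁ * b = b * v₁ := (mem_cz.1 ((Kk_le v₁) (hN2 hb))).symm
      rw [e1, e2, mul_assoc (c * b' * c⁻¹) v₁ b, e3, ← mul_assoc]
  · obtain ⟨w, hw, r, hr, hwr⟩ := h.k1
    have hr1 : r ≠ 1 := by rintro rfl; exact hwr (by simp)
    have hr2 : r ≠ v₁ := by rintro rfl; exact hwr (mem_cz.1 (Kk_le _ hw))
    obtain ⟨w', hw', u, hu, hwu⟩ := h.k2
    have hu1 : u ≠ 1 := by rintro rfl; exact hwu (by simp)
    have hu2 : u ≠ v₂ := by rintro rfl; exact hwu (mem_cz.1 (Kk_le _ hw'))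
    obtain ⟨l, hl, hlu⟩ := h.t2 v₂ h.vV2 h.v2 u hu hu1
    refine ⟨l, h.L2_le hl, by rwa [hlu], r, h.V1_le_N2 hr, hr1, hr2, ?_⟩
    have : l⁻¹ * r * l = r := by
      rw [mul_assoc, ← h.L21 l hl r hr, inv_mul_cancel_left]
    rw [this]
    exact h.V1_le_N2 hr
  · by_contra hcon
    push Not at hcon
    have h1 : nc v₂ {v₁} = ⊥ := by
      refine hnl _ (h.pT.to_le h.symm.N1_le_T) ?_ (le_normalizer_nc v₂ {v₁})
      exact le_normalizer_of hcon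
    have h2 := h.symm.v2_mem_N1
    rw [h1, mem_bot] at h2
    exact h.v1 h2

/-- **CASE A** : `[N₁, N₂] = 1` is impossible. -/
theorem caseA (hnl : NonLoc (cz v₁) (cz v₂))
    (hcom : ∀ x ∈ nc v₁ {v₂}, ∀ y ∈ nc v₂ {v₁}, x * y = y * x) : False := by
  have hcom' := h.hcom_symm hcom
  have h1 := h.half hnl hcom
  have h2 := h.symm.half hnl.symm hcom'
  have hinf : nc v₁ {v₂} ⊓ nc v₂ {v₁} = ⊥ := by
    by_contra hne
    have hz : v₁ * v₂ ∈ nc v₁ {v₂} ⊓ nc v₂ {v₁} := by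
      apply h.z_mem (X := nc v₁ {v₂} ⊓ nc v₂ {v₁})
      · exact inf_le_left.trans h.N1_le_T
      · exact fun t ht x hx => Subgroup.mem_inf.2 ⟨h.T_N1 ht hx.1, h.T_N2 ht hx.2⟩
      · exact fun x hx => Subgroup.mem_inf.2 ⟨h.s_N2 hx.2, h.s_N1 hx.1⟩
      · exact fun x hx => h.N1_sq hx.1
      · exact hne
    have hv1 : v₁ ∈ nc v₁ {v₂} := by
      have h3 := mul_mem hz.1 h.v2_mem_N1
      rwa [mul_assoc, h.vq2, mul_one] at h3
    obtain ⟨c, hc, e⟩ := h1.ex hv1 h.v1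
    apply h.ne
    have h4 := h1.C₁ _ (inv_mem hc)
    rw [← e] at h4
    have h5 : c⁻¹ * (c * v₂ * c⁻¹) * c⁻¹⁻¹ = v₂ := by group
    rw [h5] at h4
    rw [← e, ← h4]
  have hN : ∀ g ∈ nc v₁ {v₂}, g ∈ nc v₂ {v₁} → g = 1 := fun g hg hg' => by
    have : g ∈ nc v₁ {v₂} ⊓ nc v₂ {v₁} := Subgroup.mem_inf.2 ⟨hg, hg'⟩
    rwa [hinf, mem_bot] at this
  have hN2 := h.N2_le_Kk hcom
  have hN1 := h.symm.N2_le_Kk hcom'
  refine h1.false h2 hN hN1 hN2 ?_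
  intro hW c hc b hb k hk
  -- `W₁ ≤ Q₂`
  have hWle : nc v₁ (nc v₂ {v₁} : Set G) ≤ ZN.o2 (cz v₂) := by
    have hK : nc v₁ (nc v₂ {v₁} : Set G) ≤ Kk v₁ := nc_le hN2 (le_normalizer_Kk v₁)
    have hT := hK.trans h.Kk_le_T
    refine h.le_Q2 (h.pT.to_le hT) (hT.trans h.T_le2) (inf_le_left.trans (le_normalizer_nc _ _)) ?_
    intro x hx y hy
    have h3 : nc v₁ (nc v₂ {v₁} : Set G) ≤ cz y := by
      rw [nc, closure_le]
      rintro _ ⟨g, hg, a, ha, rfl⟩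
      exact mem_cz.2 (mul_inv_eq_iff_eq_mul.1 (hW g hg a ha y hy))
    exact mem_cz.1 (h3 hx)
  have h4 : c * b * c⁻¹ ∈ ZN.o2 (cz v₂) := hWle (conj_mem_nc hc hb)
  rcases Kk_conj h.vq2 hk h4 with e | e
  · exact Or.inl e
  · right
    rw [e]
    exact (mem_cz.1 (ZN.o2_le _ h4)).symm

end One

end Cfsg.Agent.Omega.IId.One
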