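import Cfsg.Agent.Omega.IId.Cv.Four
import Cfsg.Agent.Omega.IId.Cv.IdT
import Cfsg.Agent.Omega.IId.Cv.OneD
import Cfsg.Agent.Omega.IId.M4.Main
import Cfsg.Agent.Omega.IId.BigFour.NoBig
import Cfsg.Agent.Omega.IId.M4.IdOf
import Cfsg.Agent.Omega.HOne.ResOf
import Cfsg.Agent.Omega.HOne.OfKD
import Cfsg.Agent.Omega.HOne.StFour
import Cfsg.Agent.Omega.HOneEnd.KnownCut

/-!
# II.d: the chain over `T` (`q ≥ 4`), every socket plugged (assembler: helper36)

* `chainT : Cv.ChainT`; `chainM4 : M4.ChainM4 K`;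
* `noTwoEnt` : the unmixed case of `WrMain4` is impossible;
* `noBigEnt` : the same for more than two factors.
-/

set_option autoImplicit false

namespace Cfsg.Agent.Omega.IId.ChainPlug

open Cfsg Cfsg.Agent.Omega.Frame Cfsg.Agent.Omega.HOne.TLift Cfsg.Agent.Omega.Lie.End

universe u

/-- the K-facts of LAYER -/
theorem kr : Lie.LayerMain.KRows.{u} := HOne.StFour.kRows'

theorem kd : KDT.{u} := HOne.StFour.kdT'

theorem res : ResT.{u} := HOne.StFour.resT'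

/-- **The chain over `T`.** -/
theorem chainT : Cv.ChainT.{u} :=
  Cv.chainT_of kr (frT kd) dT (rsT kSideX kd) (nvT kd) res HOneQ.GaT.gaT

theorem chainM4 (K : Cls.{u}) : M4.ChainM4 K := by
  intro G _ _ S P F _ _ _ M i j N h
  obtain ⟨G₀, U, v, h1, h2, -⟩ := ent_out h kr (frT kd) dT (rsT kSideX kd) (nvT kd) res HOneQ.GaT.gaT
  exact ⟨G₀, U, v, h1, h2⟩

/-- `BigFour.NoTwoEnt K` -/
theorem noTwoEnt (K : Cls.{u}) : BigFour.NoTwoEnt K :=
  M4.noEnt FFBr.ffthm (chainM4 K) M4.idM4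

/-- `BigFour.NoBigEnt K` -/
theorem noBigEnt (K : Cls.{u}) : BigFour.NoBigEnt K :=
  BigFour.noBigEnt kr (frT kd) dT (rsT kSideX kd) (nvT kd) res HOneQ.GaT.gaT

end Cfsg.Agent.Omega.IId.ChainPlug
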