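import Cfsg.Agent.Omega.IId.BtsOf
import Cfsg.Agent.Omega.IId.ThmJ
import Cfsg.Agent.Omega.S5.Mod
import Cfsg.Agent.Omega.NatPair.PreMod

/-!
# The exceptional case of LEMMA NORM (`q = 4`, `A₇` on `2⁴`) is impossible for unmixed pairs (helper540)

* `core` : group-theoretic form: `R` a four-group of `V`, `r ∈ R#` centralised by `So ≤ N(R)`, `O₂(C_G(r)) ≤ So`,
  every `v ∈ V - R` lies with `r` in an `N_G(V)`-conjugate of `R`, `N(V) ∩ N(R)` transitive on `R#`, and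
  `[V, V^c] ⊄ ⟨r⟩` for some `c ∈ N_G(R)`: contradiction;
* `exc_false` : the same from `PreMod.Exc`;
* `o2_le_So` : in a pair of blocks (`Two`), `O₂(C_G(r)) ≤ So` for all `r ∈ C_{V₁}(So)#` (all `q`);
* `exc_false_two` : no exceptional factor in CASE 1 of II.d.
-/

set_option autoImplicit false
set_option linter.unusedSectionVars false

namespace Cfsg.Agent.Omega.IId.ExcKill

open Subgroup Cfsg Cfsg.Agent.ZN Cfsg.Agent.Omega.MinPar Cfsg.Agent.Omega.NatPair
open Cfsg.Agent.Lib.SL2Mat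

universe u

variable {G : Type u} [Group G]

/-- the action of `q` on a four-group, `q` fixes `r` -/
theorem four_comm {R : Subgroup G} (hc : Nat.card R = 4) (h2 : ∀ x ∈ R, x * x = 1) {r q v : G} (hr : r ∈ R)
    (hr1 : r ≠ 1) (hv : v ∈ R) (hq : q * v * q⁻¹ ∈ R) (hqr : q * r = r * q) :
    v * q * v⁻¹ * q⁻¹ = 1 ∨ v * q * v⁻¹ * q⁻¹ = r := by
  have hrr : r⁻¹ = r := inv_eq_of_mul_eq_one_left (h2 r hr)
  by_cases hv1 : v = 1
  · left
    rw [hv1]
    group
  by_cases hvr : r = v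
  · left
    rw [← hvr, ← hqr]
    group
  have e0 : v * q * v⁻¹ * q⁻¹ = v * (q * v * q⁻¹)⁻¹ := by group
  rcases ThmJ.four_cases hc h2 hr hr1 hv hv1 hvr hq with h | h | h | h
  · exact absurd (show v = 1 by
      have e : v = q⁻¹ * (q * v * q⁻¹) * q := by group
      rw [e, h]; group) hv1
  · exact absurd (show r = v by
      have e : v = q⁻¹ * (q * v * q⁻¹) * q := by group
      rw [e, h, mul_assoc, ← hqr, ← mul_assoc, inv_mul_cancel, one_mul]) hvr
  · left
    rw [e0, h, mul_inv_cancel]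
  · right
    rw [e0, h, mul_inv_rev, ← mul_assoc, mul_inv_cancel, one_mul, hrr]

/-- **The core.** -/
theorem core [Finite G] (hG : IsCharacteristicTwoType G) {V R So : Subgroup G} {r : G} (hRV : R ≤ V) (hr : r ∈ R)
    (hr1 : r ≠ 1) (hR4 : Nat.card R = 4) (hVc : ∀ x ∈ V, ∀ y ∈ V, x * y = y * x) (h2 : ∀ x ∈ V, x * x = 1)
    (hSoR : ∀ s ∈ So, ∀ x ∈ R, s * x * s⁻¹ ∈ R) (hQ : ZN.o2 (centralizer ({r} : Set G)) ≤ So)
    (hfuse : ∀ v ∈ V, v ∉ R → ∃ g ∈ normalizer (V : Set G), g⁻¹ * r * g ∈ R ∧ g⁻¹ * v * g ∈ R)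
    (htr : ∀ x ∈ R, x ≠ 1 → ∃ d ∈ normalizer (V : Set G), d ∈ normalizer (R : Set G) ∧ d * r * d⁻¹ = x)
    (hc : ∃ c, c⁻¹ * r * c ∈ R ∧ ∃ v ∈ V, ∃ w ∈ V, v * (c * w * c⁻¹) * v⁻¹ * (c * w * c⁻¹)⁻¹ ≠ 1 ∧
      v * (c * w * c⁻¹) * v⁻¹ * (c * w * c⁻¹)⁻¹ ≠ r) : False := by
  set H : Subgroup G := centralizer ({r} : Set G) with hH
  have hmC : ∀ {y : G}, y ∈ H ↔ y * r = r * y := by
    intro y
    rw [hH, mem_centralizer_singleton_iff]
  have hQH : ZN.o2 H ≤ H := MinSimple.VModule.o2_le H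
  have hn : ∀ {c q : G}, c ∈ H → q ∈ ZN.o2 H → c⁻¹ * q * c ∈ ZN.o2 H := fun {c q} hc hq => by
    have := (mem_normalizer_iff.1 (MinSimple.VModule.le_normalizer_o2 H (inv_mem hc)) q).1 hq
    rwa [inv_inv] at this
  have hn' : ∀ {c q : G}, c ∈ H → q ∈ ZN.o2 H → c * q * c⁻¹ ∈ ZN.o2 H := fun {c q} hc hq =>
    (mem_normalizer_iff.1 (MinSimple.VModule.le_normalizer_o2 H hc) q).1 hq
  -- adjusting to `C_G(r)`
  have adj : ∀ g : G, g⁻¹ * r * g ∈ R → ∃ d ∈ normalizer (V : Set G), d ∈ normalizer (R : Set G) ∧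
      g * d ∈ H := by
    intro g hg
    have hg1 : g⁻¹ * r * g ≠ 1 := by
      intro h
      apply hr1
      have e : r = g * (g⁻¹ * r * g) * g⁻¹ := by group
      rw [e, h]; group
    obtain ⟨d, hd, hd', hdr⟩ := htr _ hg hg1
    refine ⟨d, hd, hd', hmC.2 ?_⟩
    have e : g * d * r * (g * d)⁻¹ = r := by
      have e1 : g * d * r * (g * d)⁻¹ = g * (d * r * d⁻¹) * g⁻¹ := by group
      rw [e1, hdr]; group
    calc g * d * r = g * d * r * (g * d)⁻¹ * (g * d) := by group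
      _ = r * (g * d) := by rw [e]
  -- (2)
  have key : ∀ v ∈ V, ∀ q ∈ ZN.o2 H, v * q * v⁻¹ * q⁻¹ = 1 ∨ v * q * v⁻¹ * q⁻¹ = r := by
    intro v hv q hq
    have hqr : q * r = r * q := hmC.1 (hQH hq)
    by_cases hvR : v ∈ R
    · exact four_comm hR4 (fun x hx => h2 x (hRV hx)) hr hr1 hvR (hSoR q (hQ hq) v hvR) hqr
    · obtain ⟨g, hgV, hgr, hgv⟩ := hfuse v hv hvR
      obtain ⟨d, hd, hd', hgd⟩ := adj g hgr
      set n := g * d with hnn
      have hnr : n⁻¹ * r * n = r := by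
        rw [mul_assoc, ← hmC.1 hgd, ← mul_assoc, inv_mul_cancel, one_mul]
      have hnv : n⁻¹ * v * n ∈ R := by
        have e : n⁻¹ * v * n = d⁻¹ * (g⁻¹ * v * g) * d := by rw [hnn]; group
        rw [e]
        have := (mem_normalizer_iff.1 (inv_mem hd') _).1 hgv
        rwa [inv_inv] at this
      have hnq := hn hgd hq
      have h3 := four_comm hR4 (fun x hx => h2 x (hRV hx)) hr hr1 hnv
        (hSoR _ (hQ hnq) _ hnv) (hmC.1 (hQH hnq))
      have e : v * q * v⁻¹ * q⁻¹ =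
          n * ((n⁻¹ * v * n) * (n⁻¹ * q * n) * (n⁻¹ * v * n)⁻¹ * (n⁻¹ * q * n)⁻¹) * n⁻¹ := by group
      rcases h3 with h3 | h3
      · left
        rw [e, h3]; group
      · right
        rw [e, h3, hmC.1 hgd]; group
  -- (3)
  have hVQ : V ≤ ZN.o2 H := by
    intro v hv
    refine S5.Mod.le_o2_of_comm hG (by rw [pow_two]; exact h2 r (hRV hr)) hr1 (hVc v hv r (hRV hr)) ?_
    exact fun q hq => key v hv q hq
  -- (4)
  obtain ⟨c, hcr, v, hv, w, hw, hne1, hner⟩ := hc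
  obtain ⟨d, hd, hd', hcd⟩ := adj c hcr
  have hw2 : c * w * c⁻¹ ∈ ZN.o2 H := by
    have hdw : d⁻¹ * w * d ∈ V := by
      have := (mem_normalizer_iff.1 (inv_mem hd) w).1 hw
      rwa [inv_inv] at this
    have e : c * w * c⁻¹ = (c * d) * (d⁻¹ * w * d) * (c * d)⁻¹ := by group
    rw [e]
    exact hn' hcd (hVQ hdw)
  rcases key v hv _ hw2 with h | h
  · exact hne1 h
  · exact hner h

/-! ### `PreMod` -/

section mod

variable {F : Type*} [Field F] {V : Subgroup G} (M : PreMod F V)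

/-- `N(V) ∩ N(line w)` is transitive on `(line w)#` -/
theorem exists_tor {w : Fin 2 → F} {r x : G} (hr : r ∈ M.line w) (hr1 : r ≠ 1) (hx : x ∈ M.line w)
    (hx1 : x ≠ 1) : ∃ d ∈ normalizer (V : Set G), d ∈ normalizer (M.line w : Set G) ∧ d * r * d⁻¹ = x := by
  obtain ⟨a, rfl⟩ := hr
  obtain ⟨b, rfl⟩ := hx
  have ha : a • w ≠ 0 := fun h => hr1 (by rw [h, M.e_zero])
  have hb : b • w ≠ 0 := fun h => hx1 (by rw [h, M.e_zero])
  have ha0 : a ≠ 0 := fun h => ha (by rw [h, zero_smul])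
  have hb0 : b ≠ 0 := fun h => hb (by rw [h, zero_smul])
  obtain ⟨A, hA⟩ := exists_ap ha hb
  obtain ⟨g, hg⟩ := M.lift A
  have hAw : ap A w = (a⁻¹ * b) • w := by
    have h1 : ap A w = a⁻¹ • ap A (a • w) := by rw [ap_smul, smul_smul, inv_mul_cancel₀ ha0, one_smul]
    rw [h1, hA, smul_smul]
  have hab : a⁻¹ * b ≠ 0 := mul_ne_zero (inv_ne_zero ha0) hb0
  refine ⟨g, M.mem_normalizer hg, ?_, by rw [hg, hA]⟩
  rw [mem_normalizer_iff]
  intro y
  rw [PreMod.mem_line, PreMod.mem_line]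
  constructor
  · rintro ⟨t, rfl⟩
    refine ⟨t * (a⁻¹ * b), ?_⟩
    rw [hg, ap_smul, hAw, smul_smul]
  · rintro ⟨t, ht⟩
    refine ⟨t * (a⁻¹ * b)⁻¹, ?_⟩
    have h1 : g * M.e ((t * (a⁻¹ * b)⁻¹) • w) * g⁻¹ = g * y * g⁻¹ := by
      rw [hg, ap_smul, hAw, smul_smul, mul_assoc, inv_mul_cancel₀ hab, mul_one, ht]
    exact mul_left_cancel (mul_right_cancel h1)

/-- **The exceptional case is impossible if `⁅V, V^c⁆ ≥ line w`, `c ∈ N_G(line w)`, and `O₂(C_G(r)) ≤ So`.** -/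
theorem exc_false [Finite G] [Finite F] [CharP F 2] (hG : IsCharacteristicTwoType G) {So : Subgroup G}
    (hSo2 : IsPGroup 2 So) (hE : M.Exc So) {w : Fin 2 → F} (hw : w ≠ 0)
    (hSoR : So ≤ normalizer (M.line w : Set G))
    (hQ : ∀ r ∈ V, r ≠ 1 → (∀ s ∈ So, s * r = r * s) → ZN.o2 (centralizer ({r} : Set G)) ≤ So)
    {c : G} (hc : c ∈ normalizer (M.line w : Set G)) (hR : M.line w ≤ ⁅V, cj c V⁆) : False := by
  have h4 : Nat.card (M.line w) = 4 := by rw [M.card_line hw, hE.card]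
  have hlV := M.line_le w
  have hl2 : IsPGroup 2 (M.line w) := by
    rintro ⟨x, hx⟩
    refine ⟨1, Subtype.ext ?_⟩
    change x ^ 2 ^ 1 = 1
    rw [pow_one, pow_two]
    exact M.sq (hlV hx)
  have hne : M.line w ≠ ⊥ := by
    intro h
    rw [h, card_bot] at h4
    omega
  obtain ⟨r, hr, hr1, hrc⟩ := Half.exists_fixed hl2 hne hSo2 hSoR
  have hrc' : ∀ s ∈ So, s * r = r * s := fun s hs => mul_inv_eq_iff_eq_mul.1 (hrc s hs)
  have hrr : r * r = 1 := M.sq (hlV hr)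
  refine core hG hlV hr hr1 h4 (fun x hx y hy => M.comm hx hy) (fun x hx => M.sq hx)
    (fun s hs x hx => (mem_normalizer_iff.1 (hSoR hs) x).1 hx) (hQ r (hlV hr) hr1 hrc') ?_ ?_ ?_
  · intro v hv hvR
    obtain ⟨g, hg, h1, h2⟩ := hE.fuse w hw r hr hr1 v hv hvR
    exact ⟨g, hg, mem_cj.1 h1, mem_cj.1 h2⟩
  · intro x hx hx1
    exact exists_tor M hr hr1 hx hx1
  · refine ⟨c, ?_, ?_⟩
    · have := (mem_normalizer_iff.1 (inv_mem hc) r).1 hr
      rwa [inv_inv] at this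
    · by_contra hcon
      push Not at hcon
      have h5 : ⁅V, cj c V⁆ ≤ zpowers r := by
        rw [commutator_le]
        intro v hv y hy
        have hy' := mem_cj.1 hy
        by_cases h6 : v * (c * (c⁻¹ * y * c) * c⁻¹) * v⁻¹ * (c * (c⁻¹ * y * c) * c⁻¹)⁻¹ = 1
        · have e : c * (c⁻¹ * y * c) * c⁻¹ = y := by group
          rw [e] at h6
          rw [commutatorElement_def, h6]
          exact one_mem _
        · have h7 := hcon v hv _ hy' h6
          have e : c * (c⁻¹ * y * c) * c⁻¹ = y := by group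
          rw [e] at h7
          rw [commutatorElement_def, h7]
          exact mem_zpowers r
      have h6 := card_le_of_le (hR.trans h5)
      rw [h4, Nat.card_zpowers] at h6
      have h7 := orderOf_le_of_pow_eq_one (n := 2) (by norm_num) (by rw [pow_two]; exact hrr : r ^ 2 = 1)
      omega

end mod

/-! ### `O₂(C_G(r)) ≤ So` -/

/-- In a pair of blocks, `O₂(C_G(r)) ≤ So` for the elements `r ≠ 1` of `C_{V₁}(So)` (all `q`). -/
theorem o2_le_So [Finite G] (hG : IsCharacteristicTwoType G) {S : Sylow 2 G} {So V₁ V₂ L₁ L₂ : Subgroup G}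
    (h : IId.Two (S : Subgroup G) So V₁ V₂ L₁ L₂) {r : G} (hr : r ∈ V₁) (hr1 : r ≠ 1)
    (hrS : ∀ x ∈ So, x * r = r * x) : ZN.o2 (centralizer ({r} : Set G)) ≤ So := by
  have hfact : Fact (Nat.Prime 2) := ⟨Nat.prime_two⟩
  set H : Subgroup G := centralizer ({r} : Set G) with hH
  have hmC : ∀ {y : G}, y ∈ H ↔ y * r = r * y := by
    intro y
    rw [hH, mem_centralizer_singleton_iff]
  have hr2 : r ^ 2 = 1 := h.q1 r hr
  have hSoH : So ≤ H := fun x hx => hmC.2 (hrS x hx)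
  have hL₂H : L₂ ≤ H := fun l hl => hmC.2 (h.L21 l hl r hr)
  have hc2 : H ⊓ centralizer (ZN.o2 H : Set G) ≤ ZN.o2 H := MinSimple.Basic.char2_centralizer hG hr2 hr1
  obtain ⟨hV₂, hQV₂⟩ := h.half hr hr1 (fun x hx => hmC.1 hx) hc2 hSoH hL₂H
  intro q hq
  by_contra hqS
  set T : Subgroup G := So ⊔ ZN.o2 H with hT
  have hT2 : IsPGroup 2 T := by
    refine IsPGroup.to_sup_of_normal_right' (S.isPGroup'.to_le h.SoS) (MinSimple.VModule.o2_isPGroup H) ?_
    exact hSoH.trans (MinSimple.VModule.le_normalizer_o2 H)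
  have hST : So < T := lt_of_le_of_ne le_sup_left (fun e => hqS (e ▸ (le_sup_right : ZN.o2 H ≤ T) hq))
  have hcard : Nat.card T = Nat.card (S : Subgroup G) := by
    refine le_antisymm (Half.card_le_sylow S hT2) ?_
    have h1 := Half.card_mul_relIndex hST.le
    have h2 : 1 < So.relIndex T := by
      rcases Nat.lt_or_ge 1 (So.relIndex T) with h3 | h3
      · exact h3
      · exfalso
        have h4 : So.relIndex T ≠ 0 := by
          intro h5
          rw [h5, mul_zero] at h1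
          exact Nat.card_pos.ne h1
        have h5 : So.relIndex T = 1 := by omega
        exact hST.not_ge (relIndex_eq_one.1 h5)
    have h3 := h.card
    have h4 : 0 < Nat.card So := Nat.card_pos
    nlinarith
  have hz := Half.card_zc_of_card_eq S hT2 hcard
  -- `r` and `C_{V₂}(So)` lie in `Ω₁Z(T)`
  have hTr : ∀ t ∈ T, t * r = r * t := fun t ht =>
    hmC.1 ((sup_le hSoH (MinSimple.VModule.o2_le H) : T ≤ H) ht)
  have hrT : r ∈ zc T := MinSimple.VModule.mem_zc.2 ⟨(le_sup_left : So ≤ T) (h.V1So hr), hTr, hr2⟩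
  have hZT : V₂ ⊓ centralizer (So : Set G) ≤ zc T := by
    intro x hx
    refine MinSimple.VModule.mem_zc.2 ⟨(le_sup_left : So ≤ T) (h.V2So hx.1), ?_, h.q2 x hx.1⟩
    have h1 : T ≤ centralizer ({x} : Set G) := by
      refine sup_le ?_ ?_
      · intro y hy
        rw [mem_centralizer_singleton_iff]
        exact mem_centralizer_iff.1 hx.2 y hy
      · intro y hy
        rw [mem_centralizer_singleton_iff]
        exact (mem_centralizer_iff.1 (hQV₂ hy) x hx.1).symm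
    exact fun y hy => mem_centralizer_singleton_iff.1 (h1 hy)
  have hlt : V₂ ⊓ centralizer (So : Set G) < zc T := by
    refine lt_of_le_of_ne hZT fun e => hr1 (h.inf r hr ?_)
    have : r ∈ V₂ ⊓ centralizer (So : Set G) := by rw [e]; exact hrT
    exact this.1
  have h5 : Nat.card (V₂ ⊓ centralizer (So : Set G) : Subgroup G) < Nat.card (zc T) := by
    rcases lt_or_ge (Nat.card (V₂ ⊓ centralizer (So : Set G) : Subgroup G)) (Nat.card (zc T)) with h6 | h6
    · exact h6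
    · exact absurd (Subgroup.eq_of_le_of_card_ge hZT h6) hlt.ne
  have h6 := h.z2
  omega

/-- **No exceptional factor in CASE 1 of II.d** (unmixed pairs). -/
theorem exc_false_two [Finite G] (hG : IsCharacteristicTwoType G) {S : Sylow 2 G} {So V₁ V₂ L₁ L₂ : Subgroup G}
    (h : IId.Two (S : Subgroup G) So V₁ V₂ L₁ L₂) {F : Type*} [Field F] [Finite F] [CharP F 2]
    (M : PreMod F V₁) (hE : M.Exc So) {w : Fin 2 → F} (hw : w ≠ 0) (hSoR : So ≤ normalizer (M.line w : Set G))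
    {c : G} (hc : c ∈ normalizer (M.line w : Set G)) (hR : M.line w ≤ ⁅V₁, cj c V₁⁆) : False :=
  exc_false M hG (S.isPGroup'.to_le h.SoS) hE hw hSoR (fun _ hr hr1 hrS => o2_le_So hG h hr hr1 hrS) hc hR

end Cfsg.Agent.Omega.IId.ExcKill
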