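import Cfsg.Agent.Omega.IId.Line
import Cfsg.Agent.Omega.IId.Two

/-!
# `k = 2` natural factors: the structure `Two`

`M : NatK F S P (zl S P) ⊥ 2`, `P ∈ P*(S)`: the factors `fac M i`, `fac M j`, `i ≠ j`, the groups `grp M {i}`,
`grp M {j}` and `stab M i` form a `Two`.
-/

set_option autoImplicit false

namespace Cfsg.Agent.Omega.IId

open Subgroup Cfsg Cfsg.Agent.ZN Cfsg.Agent.ZN.ChoiceBase
open Cfsg.Agent.Omega.MinPar Cfsg.Agent.Omega.FFThm
open Cfsg.Agent.MinSimple.VModule (le_normalizer_zl)
open Cfsg.Agent.Lib.SL2Mat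

universe u

variable {G : Type u} [Group G] {F : Type} [Field F] {P : Subgroup G}

theorem compl_eq {i j : Fin 2} (h : i ≠ j) : ({i}ᶜ : Set (Fin 2)) = {j} := by
  ext x
  simp only [Set.mem_compl_iff, Set.mem_singleton_iff]
  omega

section two

variable {S : Subgroup G} (M : NatK F S P (zl S P) ⊥ 2)

theorem stab_normalizes' (hSP : S ≤ P) {i j : Fin 2} (h : i ≠ j) :
    stab M i ≤ normalizer (fac M j : Set G) := by
  have := stab_normalizes_compl M hSP i
  rwa [compl_eq h] at this

theorem sup_fac {i j : Fin 2} (h : i ≠ j) : fac M i ⊔ fac M j = zl S P := by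
  have := part_sup M {i}
  rwa [compl_eq h] at this

theorem stab_eq (hSP : S ≤ P) {i j : Fin 2} (h : i ≠ j) : stab M i = stab M j :=
  le_antisymm (le_inf (stab_le M i) (stab_normalizes' M hSP h))
    (le_inf (stab_le M j) (stab_normalizes' M hSP h.symm))

/-- An element of `S` which does not normalise `fac M i` swaps the factors. -/
theorem swap_fac (hSP : S ≤ P) {i j : Fin 2} (h : i ≠ j) {s : G} (hs : s ∈ S) (hn : s ∉ stab M i) :
    cj s (fac M i) = fac M j := by
  have h1 : sg M (hSP hs) i ≠ i := by
    intro h1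
    apply hn
    exact ⟨hs, (mem_normalizer_fac_iff M (hSP hs)).2 h1⟩
  rw [conj_fac M (hSP hs)]
  congr 1
  omega

/-- The component of an element of `V` in the factor `i`: the other component is in `fac M j`. -/
theorem exists_comp2 {i j : Fin 2} (h : i ≠ j) {v : G} (hv : v ∈ zl S P) :
    ∃ a ∈ fac M i, ∃ b ∈ fac M j, v = a * b := by
  obtain ⟨a, ha, -, h2⟩ := exists_component M hv i
  rw [compl_eq h] at h2
  exact ⟨a, ha, a⁻¹ * v, h2, by group⟩

end two

/-- **The structure `Two`.** -/
theorem two_of [Finite G] [Finite F] [CharP F 2] (hc : IsCharacteristicTwoType G) {S : Sylow 2 G}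
    (hP : IsParS (S : Subgroup G) P) (M : NatK F (S : Subgroup G) P (zl (S : Subgroup G) P) ⊥ 2)
    {i j : Fin 2} (hij : i ≠ j) :
    Two (S : Subgroup G) (stab M i) (fac M i) (fac M j) (grp M {i}) (grp M {j}) := by
  have hSP : (S : Subgroup G) ≤ P := hP.isLoc.le
  have hV : zl (S : Subgroup G) P ≤ (S : Subgroup G) := zl_le_sylow hc S hP.isLoc
  have hVab : ∀ x ∈ zl (S : Subgroup G) P, ∀ y ∈ zl (S : Subgroup G) P, x * y = y * x :=
    fun x hx y hy => comm M hx hy
  have hn : ∀ l, zl (S : Subgroup G) P ≤ normalizer (fac M l : Set G) := by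
    intro l x hx
    rw [mem_normalizer_iff]
    intro y
    constructor
    · intro hy
      rw [hVab x hx y (fac_le M l hy), mul_inv_cancel_right]
      exact hy
    · intro hy
      have h1 : y = x⁻¹ * (x * y * x⁻¹) * x := by group
      rw [h1, hVab x⁻¹ (inv_mem hx) _ (fac_le M l hy), inv_mul_cancel_right]
      exact hy
  have hVS : zl (S : Subgroup G) P ≤ stab M i := le_inf hV (hn i)
  have hdisj : Disjoint ({i} : Set (Fin 2)) {j} := by simpa using hij
  have conjmem : ∀ {H A : Subgroup G}, H ≤ normalizer (A : Set G) →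
      ∀ x ∈ H, ∀ v ∈ A, x * v * x⁻¹ ∈ A := fun h x hx v hv => (mem_normalizer_iff.1 (h hx) v).1 hv
  have hodd : ¬ 2 ∣ (S : Subgroup G).relIndex P := MinSimple.Basic.not_dvd_relIndex S hSP
  have hcard : ∀ l, 2 < Nat.card (fac M l) := by
    intro l
    rw [card_fac]
    rcases FrameFF.two_le_card (F := F) with h | h
    · rw [h]; norm_num
    · nlinarith
  have zz : ∀ l : Fin 2, Nat.card (zc (S : Subgroup G)) ≤
      Nat.card (fac M l ⊓ centralizer (stab M l : Set G) : Subgroup G) := by
    intro l
    have hz : ∀ z : zc (S : Subgroup G), (z : G) ∈ zl (S : Subgroup G) P := fun z =>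
      ChoiceSit.zc_le_zl _ _ z.2
    have hex : ∀ z : zc (S : Subgroup G), ∃ a ∈ fac M l ⊓ centralizer (stab M l : Set G),
        M.e a l = M.e z l := by
      intro z
      obtain ⟨a, ha, h1, -⟩ := exists_component M (hz z) l
      refine ⟨a, ⟨ha, mem_centralizer_iff.2 fun t ht => ?_⟩, h1⟩
      exact component_cent M hSP (hz z) ha h1 ht
        ((MinSimple.VModule.mem_zc.1 z.2).2.1 t ht.1)
    choose f hf hfe using hex
    refine Nat.card_le_card_of_injective (fun z => ⟨f z, hf z⟩) ?_
    intro z w hzw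
    have h1 : f z = f w := congrArg Subtype.val hzw
    have h2 : M.e ((z : G) * (w : G)⁻¹) l = 0 := by
      rw [M.mul _ (hz z) _ (inv_mem (hz w)), e_inv M (hz w), Pi.add_apply, Pi.neg_apply, ← hfe z, ← hfe w,
        h1, add_neg_cancel]
    have h3 : (z : G) * (w : G)⁻¹ = 1 := by
      refine eq_one_of_cent M (mul_mem (hz z) (inv_mem (hz w))) (fun s hs => ?_) h2
      have h4 := (MinSimple.VModule.mem_zc.1 (mul_mem z.2 (inv_mem w.2))).2.1 s hs
      exact h4
    exact Subtype.ext (mul_inv_eq_one.1 h3)
  refine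
    { SoS := stab_le M i
      card := card_stab M hSP i
      V1So := (fac_le M i).trans hVS
      V2So := (fac_le M j).trans hVS
      c1 := fun x hx y hy => hVab x (fac_le M i hx) y (fac_le M i hy)
      c2 := fun x hx y hy => hVab x (fac_le M j hx) y (fac_le M j hy)
      q1 := fun x hx => by rw [pow_two]; exact sq M (fac_le M i hx)
      q2 := fun x hx => by rw [pow_two]; exact sq M (fac_le M j hx)
      c12 := fun x hx y hy => hVab x (fac_le M i hx) y (fac_le M j hy)
      inf := fun x hx hx' => by
        have h1 : x ∈ fac M i ⊓ fac M j := ⟨hx, hx'⟩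
        rwa [fac_inf M hij, mem_bot] at h1
      So1 := conjmem (stab_normalizes M i)
      So2 := conjmem (stab_normalizes' M hSP hij)
      sw1 := fun s hs hn' v hv => by
        rw [← swap_fac M hSP hij hs hn', mem_cj_iff]
        have e : s⁻¹ * (s * v * s⁻¹) * s = v := by group
        rwa [e]
      sw2 := fun s hs hn' v hv => by
        rw [← swap_fac M hSP hij.symm hs (fun h => hn' (by rwa [stab_eq M hSP hij])), mem_cj_iff]
        have e : s⁻¹ * (s * v * s⁻¹) * s = v := by group
        rwa [e]
      L1 := conjmem (grp_normalizes M {i} {i})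
      L2 := conjmem (grp_normalizes M {j} {j})
      L12 := fun l hl v hv => grp_comm M hdisj hl hv
      L21 := fun l hl v hv => grp_comm M hdisj.symm hl hv
      t1 := fun v hv hv1 w hw hw1 => exists_grp M hv hw hv1 hw1
      t2 := fun v hv hv1 w hw hw1 => exists_grp M hv hw hv1 hw1
      o1 := ?_
      o2 := ?_
      z1 := zz i
      z2 := by
        have := zz j
        rwa [← stab_eq M hSP hij] at this
      big1 := hcard i
      big2 := hcard j }
  · exact not_dvd_stab M hSP hodd i le_sup_right (sup_le (grp_le M _) ((stab_le M i).trans hSP))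
      (sup_le (grp_normalizes M _ _) (stab_normalizes M i))
  · exact not_dvd_stab M hSP hodd i le_sup_right (sup_le (grp_le M _) ((stab_le M i).trans hSP))
      (sup_le (grp_normalizes M _ _) (stab_normalizes M i))

end Cfsg.Agent.Omega.IId
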