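import Mathlib

/-!
# The parity lemma (helper774)

`F` acts on an elementary abelian 2-group `A`, `1 ≠ z ∈ C_A(F)`, the orbit `Ω = v^F` is invariant under
multiplication with `z`, `Θ ⊆ Ω` has odd order and product `1`.  Then `4` divides the index of every subgroup
of `F` stabilizing `Θ`.  (Consequence: there are no triangles in II.d.)
-/

set_option autoImplicit false

namespace Cfsg.Agent.Omega.IId.Parity

/-- Pairs `{x, xz}`. -/
theorem pairs {A : Type*} [CommGroup A] [DecidableEq A] (hA : ∀ a : A, a * a = 1) {z : A} (hz : z ≠ 1) :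
    ∀ (n : ℕ) (W : Finset A), W.card = n → (∀ x ∈ W, x * z ∈ W) →
      ∃ k, W.card = 2 * k ∧ ∏ x ∈ W, x = z ^ k := by
  intro n
  induction n using Nat.strong_induction_on with
  | _ n ih =>
    intro W hn hW
    rcases W.eq_empty_or_nonempty with rfl | ⟨x, hx⟩
    · exact ⟨0, by simp, by simp⟩
    · have hxz : x * z ≠ x := fun h => hz (by simpa using h)
      have hxz' : x * z ∈ W.erase x := Finset.mem_erase.2 ⟨hxz, hW x hx⟩
      have hc1 : (W.erase x).card = n - 1 := by rw [Finset.card_erase_of_mem hx, hn]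
      have hc2 : ((W.erase x).erase (x * z)).card = n - 1 - 1 := by
        rw [Finset.card_erase_of_mem hxz', hc1]
      have hpos : 0 < (W.erase x).card := Finset.card_pos.2 ⟨_, hxz'⟩
      have hn2 : 2 ≤ n := by omega
      obtain ⟨k, hk, hp⟩ := ih (n - 1 - 1) (by omega) ((W.erase x).erase (x * z)) hc2 (by
        intro y hy
        rw [Finset.mem_erase, Finset.mem_erase] at hy ⊢
        obtain ⟨h1, h2, h3⟩ := hy
        refine ⟨fun h => h2 (mul_right_cancel h), fun h => h1 ?_, hW y h3⟩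
        rw [← h, mul_assoc, hA z, mul_one])
      refine ⟨k + 1, by omega, ?_⟩
      rw [← Finset.mul_prod_erase W (fun y => y) hx, ← Finset.mul_prod_erase (W.erase x) (fun y => y) hxz',
        hp, ← mul_assoc, ← mul_assoc, hA x, one_mul, pow_succ']

/-- **PARITY LEMMA.** -/
theorem parity {F A : Type*} [Group F] [Finite F] [CommGroup A] (ρ : F → A →* A)
    (h1 : ∀ a, ρ 1 a = a) (hm : ∀ f g a, ρ (f * g) a = ρ f (ρ g a)) (hA : ∀ a : A, a * a = 1)
    {v z : A} (hz : z ≠ 1) (hzF : ∀ f, ρ f z = z) {T : Subgroup F} (h4 : ¬ 4 ∣ T.index)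
    {s : F} (hs : ρ s v = v * z) {Θ : Finset A} (hΘ : ∀ x ∈ Θ, ∃ f, ρ f v = x) (hodd : Odd Θ.card)
    (hprod : ∏ x ∈ Θ, x = 1) (hT : ∀ t ∈ T, ∀ x ∈ Θ, ρ t x ∈ Θ) : False := by
  classical
  have : Fintype F := Fintype.ofFinite F
  have : Fintype (F ⧸ T) := Fintype.ofFinite _
  set W : Finset A := Finset.univ.image (fun f => ρ f v) with hW
  have mW : ∀ x, x ∈ W ↔ ∃ f, ρ f v = x := by intro x; simp [hW]
  obtain ⟨k, hk, hp⟩ := pairs hA hz _ W rfl (by
    intro x hx
    obtain ⟨f, rfl⟩ := (mW x).1 hx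
    exact (mW _).2 ⟨f * s, by rw [hm, hs, map_mul, hzF]⟩)
  have cancel : ∀ f a, ρ f⁻¹ (ρ f a) = a := by intro f a; rw [← hm, inv_mul_cancel, h1]
  have cancel' : ∀ f a, ρ f (ρ f⁻¹ a) = a := by intro f a; rw [← hm, mul_inv_cancel, h1]
  have mem_iff : ∀ (g : F) (y : A), ρ g⁻¹ y ∈ Θ ↔ ρ ((g : F ⧸ T).out)⁻¹ y ∈ Θ := by
    intro g y
    have ht : g⁻¹ * (g : F ⧸ T).out ∈ T := by
      rw [← QuotientGroup.eq]
      exact (QuotientGroup.out_eq' _).symm
    constructor
    · intro h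
      have h2 := hT _ (inv_mem ht) _ h
      rwa [← hm, mul_inv_rev, inv_inv, mul_inv_cancel_right] at h2
    · intro h
      have h2 := hT _ ht _ h
      rwa [← hm, mul_inv_cancel_right] at h2
  set P : F ⧸ T → A → Prop := fun q y => ρ (q.out)⁻¹ y ∈ Θ with hP
  set a : A → ℕ := fun y => (Finset.univ.filter (fun q => P q y)).card with ha
  have aconst : ∀ f y, a (ρ f y) = a y := by
    intro f y
    refine Finset.card_bij' (fun q _ => f⁻¹ • q) (fun q _ => f • q) ?_ ?_ ?_ ?_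
    · intro q hq
      simp only [Finset.mem_filter, Finset.mem_univ, true_and, hP] at hq ⊢
      have e : (f⁻¹ • q : F ⧸ T) = ((f⁻¹ * q.out : F) : F ⧸ T) := by
        conv_lhs => rw [← QuotientGroup.out_eq' q]
        rfl
      rw [e, ← mem_iff, mul_inv_rev, inv_inv, hm]
      exact hq
    · intro q hq
      simp only [Finset.mem_filter, Finset.mem_univ, true_and, hP] at hq ⊢
      have e : (f • q : F ⧸ T) = ((f * q.out : F) : F ⧸ T) := by
        conv_lhs => rw [← QuotientGroup.out_eq' q]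
        rfl
      rw [e, ← mem_iff, mul_inv_rev, hm, cancel]
      exact hq
    · intro q _; simp
    · intro q _; simp
  have ac : ∀ y ∈ W, a y = a v := by
    intro y hy
    obtain ⟨f, rfl⟩ := (mW y).1 hy
    exact aconst f v
  -- products
  have e1 : ∀ q : F ⧸ T, ∏ y ∈ W.filter (P q), y = 1 := by
    intro q
    have : ∏ y ∈ W.filter (P q), y = ∏ x ∈ Θ, ρ q.out x := by
      refine Finset.prod_bij' (fun y _ => ρ (q.out)⁻¹ y) (fun x _ => ρ q.out x) ?_ ?_ ?_ ?_ ?_
      · intro y hy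
        exact (Finset.mem_filter.1 hy).2
      · intro x hx
        obtain ⟨f, rfl⟩ := hΘ x hx
        refine Finset.mem_filter.2 ⟨(mW _).2 ⟨q.out * f, hm _ _ _⟩, ?_⟩
        simp only [hP]
        rw [cancel]; exact hx
      · intro y _; exact cancel' _ _
      · intro x _; exact cancel _ _
      · intro y _; exact (cancel' _ _).symm
    rw [this, ← map_prod, hprod, map_one]
  have c1 : ∀ q : F ⧸ T, (W.filter (P q)).card = Θ.card := by
    intro q
    refine Finset.card_bij' (fun y _ => ρ (q.out)⁻¹ y) (fun x _ => ρ q.out x) ?_ ?_ ?_ ?_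
    · intro y hy
      exact (Finset.mem_filter.1 hy).2
    · intro x hx
      obtain ⟨f, rfl⟩ := hΘ x hx
      refine Finset.mem_filter.2 ⟨(mW _).2 ⟨q.out * f, hm _ _ _⟩, ?_⟩
      simp only [hP]
      rw [cancel]; exact hx
    · intro y _; exact cancel' _ _
    · intro x _; exact cancel _ _
  have e2 : ∏ q : F ⧸ T, ∏ y ∈ W.filter (P q), y = ∏ y ∈ W, y ^ a y := by
    have h2 : ∀ y ∈ W, y ^ a y = ∏ q ∈ Finset.univ.filter (fun q => P q y), y := by
      intro y _
      rw [Finset.prod_const]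
    rw [Finset.prod_congr rfl h2]
    refine Finset.prod_comm' ?_
    intro q y
    simp only [Finset.mem_filter, Finset.mem_univ, true_and]
    tauto
  have c2 : ∑ q : F ⧸ T, (W.filter (P q)).card = ∑ y ∈ W, a y := by
    simp only [Finset.card_eq_sum_ones, ha]
    refine Finset.sum_comm' ?_
    intro q y
    simp only [Finset.mem_filter, Finset.mem_univ, true_and]
    tauto
  have e3 : z ^ (k * a v) = 1 := by
    rw [pow_mul, ← hp, ← Finset.prod_pow]
    rw [← Finset.prod_congr rfl (fun y hy => by rw [ac y hy] : ∀ y ∈ W, y ^ a y = y ^ a v), ← e2]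
    exact Finset.prod_eq_one fun q _ => e1 q
  have c3 : T.index * Θ.card = 2 * k * a v := by
    have h2 : ∑ y ∈ W, a y = W.card * a v := by
      rw [Finset.sum_congr rfl ac, Finset.sum_const, smul_eq_mul]
    rw [← hk, ← h2, ← c2, Finset.sum_congr rfl (fun q _ => c1 q), Finset.sum_const, smul_eq_mul,
      Subgroup.index, Nat.card_eq_fintype_card, Finset.card_univ]
  have hev : Even (k * a v) := by
    by_contra hcon
    rw [Nat.not_even_iff_odd] at hcon
    obtain ⟨j, hj⟩ := hcon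
    rw [hj, pow_succ, pow_mul, pow_two, hA z, one_pow, one_mul] at e3
    exact hz e3
  obtain ⟨j, hj⟩ := hev
  have h5 : 4 ∣ T.index * Θ.card := ⟨j, by rw [c3, mul_assoc, hj]; ring⟩
  have h6 : Nat.Coprime 4 Θ.card := by
    have : Nat.Coprime 2 Θ.card := by
      rw [Nat.coprime_two_left]; exact hodd
    exact Nat.Coprime.pow_left 2 this
  exact h4 (h6.dvd_of_dvd_mul_right h5)

/-- The product of all elements of an elementary abelian 2-group of order divisible by 4 is 1. -/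
theorem prod_eq_one {A : Type*} [CommGroup A] [DecidableEq A] (hA : ∀ a : A, a * a = 1) {W : Finset A}
    (h1 : (1 : A) ∈ W) (hm : ∀ x ∈ W, ∀ y ∈ W, x * y ∈ W) (h4 : 4 ∣ W.card) :
    Odd (W.erase 1).card ∧ ∏ x ∈ W.erase 1, x = 1 := by
  have hpos : 0 < W.card := Finset.card_pos.2 ⟨1, h1⟩
  obtain ⟨j, hj⟩ := h4
  have hc := Finset.card_erase_of_mem h1
  obtain ⟨a, ha⟩ : (W.erase 1).Nonempty := by
    rw [← Finset.card_pos]; omega
  rw [Finset.mem_erase] at ha
  refine ⟨⟨2 * j - 1, by omega⟩, ?_⟩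
  obtain ⟨k, hk, hp⟩ := pairs hA ha.1 _ W rfl fun x hx => hm x hx a ha.2
  have h2 : ∏ x ∈ W, x = 1 := by
    rw [hp, show k = 2 * j by omega, pow_mul, pow_two, hA, one_pow]
  rw [← Finset.mul_prod_erase W (fun x => x) h1, one_mul] at h2
  exact h2

section group

variable {G : Type*} [Group G] [Finite G] {F U T : Subgroup G} {v z s : G}

/-- **PARITY LEMMA in a group**, `Θ` given by a list. -/
theorem false_of_list (hc : ∀ a ∈ U, ∀ b ∈ U, a * b = b * a) (hq : ∀ a ∈ U, a * a = 1)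
    (hn : ∀ f ∈ F, ∀ u ∈ U, f * u * f⁻¹ ∈ U) (hv : v ∈ U) (hz : z ≠ 1) (hzF : ∀ f ∈ F, f * z = z * f)
    (h4 : ¬ 4 ∣ T.relIndex F) (hs : s ∈ F) (hsv : s * v * s⁻¹ = v * z) {L : List G}
    (hL : L.Nodup) (hodd : Odd L.length) (hprod : L.prod = 1) (horb : ∀ x ∈ L, ∃ f ∈ F, f * v * f⁻¹ = x)
    (hT : ∀ t ∈ T, ∀ x ∈ L, t * x * t⁻¹ ∈ L) : False := by
  classical
  have hzU : z ∈ U := by
    have h1 : z = v⁻¹ * (v * z) := by group
    rw [h1, ← hsv]
    exact mul_mem (inv_mem hv) (hn s hs v hv)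
  let : CommGroup U := { (inferInstance : Group U) with
    mul_comm := fun a b => Subtype.ext (hc a a.2 b b.2) }
  let ρ : F → U →* U := fun f =>
    { toFun := fun u => ⟨f * u * (f : G)⁻¹, hn f f.2 u u.2⟩
      map_one' := Subtype.ext (by simp)
      map_mul' := fun a b => Subtype.ext (by simp [mul_assoc]) }
  have hρ : ∀ (f : F) (u : U), ((ρ f u : U) : G) = f * u * (f : G)⁻¹ := fun _ _ => rfl
  have hLU : ∀ x ∈ L, x ∈ U := by
    intro x hx
    obtain ⟨f, hf, rfl⟩ := horb x hx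
    exact hn f hf v hv
  set L' : List U := L.pmap (fun x hx => (⟨x, hx⟩ : U)) hLU with hL'
  have mL : ∀ u : U, u ∈ L' ↔ (u : G) ∈ L := by
    intro u
    rw [hL', List.mem_pmap]
    constructor
    · rintro ⟨x, hx, rfl⟩; exact hx
    · intro h; exact ⟨u, h, rfl⟩
  have hmap : L'.map (Subtype.val : U → G) = L := by
    rw [hL', List.map_pmap]
    exact List.pmap_eq_self.2 fun _ _ => rfl
  have hnd : L'.Nodup := List.Nodup.of_map (Subtype.val : U → G) (by rw [hmap]; exact hL)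
  have hlen : L'.length = L.length := by rw [hL', List.length_pmap]
  refine parity (F := F) (A := U) ρ ?_ ?_ ?_ (v := ⟨v, hv⟩) (z := ⟨z, hzU⟩) ?_ ?_ (T := T.subgroupOf F) h4
    (s := ⟨s, hs⟩) ?_ (Θ := L'.toFinset) ?_ ?_ ?_ ?_
  · intro a; exact Subtype.ext (by rw [hρ]; simp)
  · intro f g a; exact Subtype.ext (by rw [hρ, hρ, hρ]; simp [mul_assoc])
  · intro a; exact Subtype.ext (hq a a.2)
  · intro h; exact hz (congrArg Subtype.val h)
  · intro f
    refine Subtype.ext ?_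
    rw [hρ]
    show (f : G) * z * (f : G)⁻¹ = z
    rw [hzF f f.2, mul_inv_cancel_right]
  · refine Subtype.ext ?_
    rw [hρ]
    exact hsv
  · intro x hx
    obtain ⟨f, hf, h⟩ := horb x ((mL x).1 (List.mem_toFinset.1 hx))
    exact ⟨⟨f, hf⟩, Subtype.ext h⟩
  · rw [List.toFinset_card_of_nodup hnd, hlen]; exact hodd
  · rw [List.prod_toFinset _ hnd, List.map_id']
    apply Subtype.ext
    rw [Subgroup.val_list_prod, hmap, hprod]; rfl
  · intro t ht x hx
    rw [List.mem_toFinset, mL] at hx ⊢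
    exact hT t (Subgroup.mem_subgroupOf.1 ht) x hx

/-- **PARITY LEMMA in a group**, `Θ = V' - 1`. -/
theorem false_of_sub (hc : ∀ a ∈ U, ∀ b ∈ U, a * b = b * a) (hq : ∀ a ∈ U, a * a = 1)
    (hn : ∀ f ∈ F, ∀ u ∈ U, f * u * f⁻¹ ∈ U) (hv : v ∈ U) (hz : z ≠ 1) (hzF : ∀ f ∈ F, f * z = z * f)
    (h4 : ¬ 4 ∣ T.relIndex F) (hs : s ∈ F) (hsv : s * v * s⁻¹ = v * z) {V : Subgroup G}
    (hV4 : 4 ∣ Nat.card V) (horb : ∀ x ∈ V, x ≠ 1 → ∃ f ∈ F, f * v * f⁻¹ = x)
    (hT : ∀ t ∈ T, ∀ x ∈ V, t * x * t⁻¹ ∈ V) : False := by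
  classical
  have hzU : z ∈ U := by
    have h1 : z = v⁻¹ * (v * z) := by group
    rw [h1, ← hsv]
    exact mul_mem (inv_mem hv) (hn s hs v hv)
  have hVU : V ≤ U := by
    intro x hx
    by_cases hx1 : x = 1
    · rw [hx1]; exact one_mem _
    obtain ⟨f, hf, rfl⟩ := horb x hx hx1
    exact hn f hf v hv
  let : CommGroup U := { (inferInstance : Group U) with
    mul_comm := fun a b => Subtype.ext (hc a a.2 b b.2) }
  let ρ : F → U →* U := fun f =>
    { toFun := fun u => ⟨f * u * (f : G)⁻¹, hn f f.2 u u.2⟩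
      map_one' := Subtype.ext (by simp)
      map_mul' := fun a b => Subtype.ext (by simp [mul_assoc]) }
  have hρ : ∀ (f : F) (u : U), ((ρ f u : U) : G) = f * u * (f : G)⁻¹ := fun _ _ => rfl
  have : Fintype U := Fintype.ofFinite _
  have hA : ∀ a : U, a * a = 1 := fun a => Subtype.ext (hq a a.2)
  set W : Finset U := Finset.univ.filter (fun u => (u : G) ∈ V) with hW
  have mW : ∀ u : U, u ∈ W ↔ (u : G) ∈ V := by intro u; simp [hW]
  have hcard : W.card = Nat.card V := by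
    have h1 : W.card = Nat.card (V.subgroupOf U) := by
      rw [Nat.card_eq_fintype_card, Fintype.card_subtype]
      congr 1
    rw [h1]
    exact Nat.card_congr (Subgroup.subgroupOfEquivOfLe hVU).toEquiv
  obtain ⟨ho, hp⟩ := prod_eq_one hA (W := W) ((mW 1).2 (one_mem V))
    (fun x hx y hy => (mW _).2 (mul_mem ((mW x).1 hx) ((mW y).1 hy))) (hcard ▸ hV4)
  refine parity (F := F) (A := U) ρ ?_ ?_ hA (v := ⟨v, hv⟩) (z := ⟨z, hzU⟩) ?_ ?_ (T := T.subgroupOf F) h4
    (s := ⟨s, hs⟩) ?_ (Θ := W.erase 1) ?_ ho hp ?_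
  · intro a; exact Subtype.ext (by rw [hρ]; simp)
  · intro f g a; exact Subtype.ext (by rw [hρ, hρ, hρ]; simp [mul_assoc])
  · intro h; exact hz (congrArg Subtype.val h)
  · intro f
    refine Subtype.ext ?_
    rw [hρ]
    show (f : G) * z * (f : G)⁻¹ = z
    rw [hzF f f.2, mul_inv_cancel_right]
  · refine Subtype.ext ?_
    rw [hρ]
    exact hsv
  · intro x hx
    rw [Finset.mem_erase, mW] at hx
    obtain ⟨f, hf, h⟩ := horb x hx.2 (fun h => hx.1 (Subtype.ext h))
    exact ⟨⟨f, hf⟩, Subtype.ext h⟩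
  · intro t ht x hx
    rw [Finset.mem_erase, mW] at hx ⊢
    refine ⟨fun h => hx.1 ?_, hT t (Subgroup.mem_subgroupOf.1 ht) x hx.2⟩
    have h2 : (x : G) = (t : G)⁻¹ * ((ρ t x : U) : G) * t := by rw [hρ]; group
    rw [h] at h2
    exact Subtype.ext (by rw [h2]; simp)

end group

end Cfsg.Agent.Omega.IId.Parity
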