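import Cfsg.Agent.Omega.IId.Tri
import Cfsg.Agent.Omega.IId.Parity

/-!
# II.d: there is no triangle (helper774)

`v₂ = v^s`, `z = v v₂`, `t ∈ T - So` fixes `v` and moves `v₂` to `z`.  In `F = C_G(z)` the orbit `v^F` lies in
`Ω₁Z(O₂(F))` and is invariant under multiplication with `z` (`v^s = v z`); the conjugate `V₁^t` is
`So`-invariant and `V₁^t - 1 ⊆ v^F` (`L₁^t ≤ F`); `|F : So|` is not divisible by 4.  The parity lemma gives a
contradiction.
-/

set_option autoImplicit false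

namespace Cfsg.Agent.Omega.IId.TriFalse

open Subgroup Cfsg Cfsg.Agent.Omega.MinPar Cfsg.Agent.Omega.Frame
open Cfsg.Agent.ZN (o2 zc zl)
open Cfsg.Agent.Omega.FrameNOFF Cfsg.Agent.Omega.NO3S Cfsg.Agent.Omega.IId.Two
open Cfsg.Agent.MinSimple.VModule
open Cfsg.Agent.Omega.IId.Triangle (Tri)

universe u

variable {G : Type u} [Group G] [Finite G]

/-- A 2-group of order `> 2` has order divisible by 4. -/
theorem four_dvd {V : Subgroup G} (hV : IsPGroup 2 V) (h : 2 < Nat.card V) : 4 ∣ Nat.card V := by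
  have : Fact (Nat.Prime 2) := ⟨Nat.prime_two⟩
  obtain ⟨n, hn⟩ := IsPGroup.iff_card.1 hV
  rw [hn] at h ⊢
  rcases n with _ | _ | n
  · omega
  · omega
  · exact ⟨2 ^ n, by ring⟩

/-- **There is no triangle.** -/
theorem false_of {S T : Sylow 2 G} {So V₁ V₂ L₁ L₂ : Subgroup G} {s v : G}
    (h : Tri S T So V₁ V₂ L₁ L₂ s v) (hG : IsCharacteristicTwoType G) : False := by
  obtain ⟨t, ht, htS⟩ := h.exists_t
  set w := s * v * s⁻¹ with hw
  set z := v * w with hz
  have tw : t * w * t⁻¹ = z := h.t_w ht htS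
  have tv : t * v * t⁻¹ = v := by rw [h.Tv t ht]; group
  have hz1 : z ≠ 1 := h.zne
  have hzS : z ∈ zc (S : Subgroup G) := h.zS
  have hSne : (S : Subgroup G) ≠ ⊥ := by
    intro h0
    rw [h0, mem_zc] at hzS
    exact hz1 (mem_bot.1 hzS.1)
  set F := CZ (S : Subgroup G) with hF
  have mF : ∀ x, x ∈ F ↔ x * z = z * x := by
    intro x
    rw [hF, mem_centralizer_iff]
    constructor
    · intro h1
      exact (h1 z hzS).symm
    · intro h1 y hy
      rcases h.zcS_cases hy with rfl | rfl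
      · rw [one_mul, mul_one]
      · exact h1.symm
  have hF' : F = centralizer ({z} : Set G) := by
    ext x
    rw [mF, Triangle.mem_cent]
  have hloc := isLoc_centralizer_zc S hSne
  have ho : ZN.o2 F ≤ So := by rw [hF']; exact h.o2_cent_z hG
  have hvF : v ∈ F := (mF v).2 (by
    show v * (v * w) = v * w * v
    rw [mul_assoc, h.vwc])
  have hvU : v ∈ zc (ZN.o2 F) := by
    have h1 : ∀ y ∈ ZN.o2 F, y * v = v * y := fun y hy => h.vSo y (ho hy)
    refine mem_zc.2 ⟨?_, h1, h.q1 v h.vV⟩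
    apply hloc.char2 S hG
    exact ⟨hvF, mem_centralizer_iff.2 h1⟩
  have hFU : F ≤ normalizer (zc (ZN.o2 F) : Set G) :=
    (le_normalizer_o2 F).trans (normalizer_le_normalizer_zc _)
  have hSF : (S : Subgroup G) ≤ F := le_centralizer_zc _
  have hidx : ¬ 4 ∣ So.relIndex F := by
    have h1 := Subgroup.relIndex_mul_relIndex So (S : Subgroup G) F h.SoS hSF
    have h2 : So.relIndex (S : Subgroup G) = 2 := by
      have h3 := Half.card_mul_relIndex h.SoS
      rw [h.card, mul_comm 2] at h3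
      exact Nat.eq_of_mul_eq_mul_left Nat.card_pos h3
    have h3 : ¬ 2 ∣ (S : Subgroup G).relIndex F := by
      intro h4
      apply S.not_dvd_index
      exact h4.trans (Subgroup.relIndex_dvd_index_of_le hSF)
    rw [← h1, h2]
    intro h4
    apply h3
    obtain ⟨k, hk⟩ := h4
    exact ⟨k, by omega⟩
  refine Parity.false_of_sub (F := F) (U := zc (ZN.o2 F)) (T := So) (v := v) (z := z) (s := s)
    (V := V₁.map (MulAut.conj t).toMonoidHom) (fun a ha b hb => zc_comm _ a ha b hb) ?_ ?_ hvU hz1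
    (fun f hf => (mF f).1 hf) hidx (hSF h.sS) ?_ ?_ ?_ ?_
  · intro a ha
    rw [← pow_two]
    exact (mem_zc.1 ha).2.2
  · intro f hf u hu
    exact (mem_normalizer_iff.1 (hFU hf) u).1 hu
  · show w = v * (v * w)
    rw [← mul_assoc, h.vv, one_mul]
  · rw [Nat.card_congr (V₁.equivMapOfInjective _ (MulAut.conj t).injective).toEquiv.symm]
    exact four_dvd (S.isPGroup'.to_le (h.V1So.trans h.SoS)) h.big1
  · rintro _ ⟨x, hx, rfl⟩ hx1
    have hx2 : x ≠ 1 := by
      rintro rfl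
      exact hx1 (map_one _)
    obtain ⟨l, hl, e⟩ := h.t1 v h.vV h.v1 x hx hx2
    refine ⟨t * l * t⁻¹, ?_, ?_⟩
    · apply (mF _).2
      have h1 := h.L12 l hl w h.wV
      rw [← tw]
      calc t * l * t⁻¹ * (t * w * t⁻¹) = t * (l * w) * t⁻¹ := by group
        _ = t * w * t⁻¹ * (t * l * t⁻¹) := by rw [h1]; group
    · show t * l * t⁻¹ * v * (t * l * t⁻¹)⁻¹ = t * x * t⁻¹
      have h1 : t⁻¹ * v * t = v := by
        have h2 := h.Tv t ht
        rw [mul_assoc, ← h2]; group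
      calc t * l * t⁻¹ * v * (t * l * t⁻¹)⁻¹ = t * (l * (t⁻¹ * v * t) * l⁻¹) * t⁻¹ := by group
        _ = t * x * t⁻¹ := by rw [h1, e]
  · rintro x hx _ ⟨y, hy, rfl⟩
    have h1 : t⁻¹ * x * t ∈ So := by
      have h2 := conj_mem_of_two h.SoT h.twoT (inv_mem ht) hx
      rwa [inv_inv] at h2
    refine ⟨_, h.So1 _ h1 y hy, ?_⟩
    show t * (t⁻¹ * x * t * y * (t⁻¹ * x * t)⁻¹) * t⁻¹ = x * (t * y * t⁻¹) * x⁻¹
    group

/-- **No triangle** for natural `SL₂(q) ≀ 2`: `stab M i` contains a Sylow 2-subgroup of `N_G(line M i)`. -/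
theorem not_dvd {F : Type} [Field F] [Finite F] [CharP F 2] {P : Subgroup G} (hc : IsCharacteristicTwoType G)
    {S : Sylow 2 G} (hP : IsParS (S : Subgroup G) P)
    (M : FFThm.NatK F (S : Subgroup G) P (zl (S : Subgroup G) P) ⊥ 2) (i : Fin 2) :
    ¬ 2 ∣ (stab M i).relIndex (normalizer (line M i : Set G)) := by
  intro h2
  obtain ⟨j, hij⟩ : ∃ j : Fin 2, i ≠ j := ⟨i + 1, by omega⟩
  obtain ⟨T, s, v, hTR, hvl, hTri, hq⟩ := exists_tri_of hc hP M hij h2
  exact false_of hTri hc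

/-- **`WrTri` holds for every class** (no NO-3S needed). -/
theorem wrTri {K : Cls.{u}} : WrTri K := by
  intro G _ _ S S' hH P P' hp F F' _ _ _ _ _ _ k' M M' hk' hk2 i hi h2
  exact absurd h2 (not_dvd hH.ctx.char2 hp.star M i)

end Cfsg.Agent.Omega.IId.TriFalse
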