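import Cfsg.Agent.Omega.IId.SymMix
import Cfsg.Agent.Omega.IId.TriFalse

/-!
# II.d, `WrSym K` from its sub-leaves

* `Pair.mutual` : a pair in normal position is a mutual pair over `S`;
* `WrSymBig K` : `|F| = 2`, one factor `S_{2^m'+1}`, `k > 2` or `m' > 2`;
* `WrSymMain` : CASE 1: `k = 2`, `|F| = 2`, one `O₄⁻(2)`-module, `[V, V'] = line M i`, `N_S(V_i)` is a Sylow 2-subgroup
  of `C_G(n)`;
* `wrSym_free` : these and `LeafSymWr K` imply `WrSym K`.
-/

set_option autoImplicit false
set_option linter.unusedSectionVars false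

namespace Cfsg.Agent.Omega.IId.Sym

open Subgroup Pointwise Cfsg Cfsg.Agent.ZN.ChoiceBase
open Cfsg.Agent.ZN (o2 zc zl)
open Cfsg.Agent.Omega.MinPar Cfsg.Agent.Omega.FFThm Cfsg.Agent.Omega.Frame
open Cfsg.Agent.Omega.FrameFF (cv Free)
open Cfsg.Agent.Omega.FrameMulti (IsSym IsNat Typed AllTyped LeafSymWr)
open Cfsg.Agent.Omega.S5.Def Cfsg.Agent.Omega.S5.Mod Cfsg.Agent.Omega.S5.TT Cfsg.Agent.Omega.S5.Types
open Cfsg.Agent.MinSimple.VModule (le_normalizer_zl)
open scoped commutatorElement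

universe u

/-! ### The pair over `S` -/

section pair

variable {G : Type u} [Group G] [Finite G]

/-- A pair in normal position is a mutual pair over `S`. -/
theorem exists_mutual {S S' : Sylow 2 G} {P P' : Subgroup G} (hp : Pair S S' P P') :
    ∃ g : G, (S' : Subgroup G) = cj g (S : Subgroup G) ∧ Mutual (S : Subgroup G) (cj g⁻¹ P') P g⁻¹ := by
  obtain ⟨g, hg⟩ := MulAction.exists_smul_eq G S S'
  have h1 : (S' : Subgroup G) = cj g (S : Subgroup G) := by
    rw [← hg]; rfl
  have h2 : cj g⁻¹ (S' : Subgroup G) = (S : Subgroup G) := by rw [h1, cj_inv_cj]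
  have h3 : zl (S : Subgroup G) (cj g⁻¹ P') = cj g⁻¹ (zl (S' : Subgroup G) P') := by
    rw [← zl_cj, h2]
  refine ⟨g, h1, ?_, hp.star, ?_, ?_, ?_⟩
  · have h4 := isParS_cj hp.star' g⁻¹
    rwa [h2] at h4
  · change _ ≤ normalizer ((cj g⁻¹ (zl (S : Subgroup G) P) : Subgroup G) : Set G)
    rw [h3, ← cj_normalizer]
    exact cj_mono _ (hp.le.trans (hp.star.isLoc.le.trans (le_normalizer_zl _ _)))
  · change cj g⁻¹ (zl (S : Subgroup G) P) ≤ _
    rw [h3, ← cj_normalizer]
    exact cj_mono _ (hp.le'.trans (hp.star'.isLoc.le.trans (le_normalizer_zl _ _)))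
  · change ⁅_, cj g⁻¹ (zl (S : Subgroup G) P)⁆ ≠ _
    rw [h3]
    intro h0
    apply hp.ne
    have h5 : cj g⁻¹ ⁅zl (S' : Subgroup G) P', zl (S : Subgroup G) P⁆ = ⊥ := by
      change Subgroup.map _ _ = _
      rw [Subgroup.map_commutator]
      exact h0
    have h6 := congrArg (cj g) h5
    rw [cj_cj_inv] at h6
    rw [commutator_comm, h6]
    exact Subgroup.map_bot _

/-- Both members of a pair are typed. -/
theorem typed_of {S S' : Sylow 2 G} {P P' : Subgroup G} (hT : AllTyped (S : Subgroup G)) (hp : Pair S S' P P') :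
    Typed (S : Subgroup G) P ∧ Typed (S' : Subgroup G) P' := by
  obtain ⟨g, h1, hm⟩ := exists_mutual hp
  obtain ⟨h2, h3⟩ := hT _ _ _ hm
  refine ⟨h3, ?_⟩
  have h4 := typed_cj h2 g
  rw [cj_cj_inv] at h4
  rwa [h1]

end pair

/-! ### The sub-leaves -/

section leaves

variable (K : Cls.{u})

/-- `|F| = 2`, one factor `S_{2^m'+1}`, more than two factors or `m' ≥ 3`. -/
def WrSymBig : Prop :=
  ∀ (G : Type u) [Group G] [Finite G] (S S' : Sylow 2 G), Hyp K S → ∀ (P P' : Subgroup G), Pair S S' P P' →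
    ∀ (F : Type) [Field F] [Finite F] [CharP F 2] (k m' : ℕ)
      (_ : NatK F (S : Subgroup G) P (zl (S : Subgroup G) P) ⊥ k)
      (_ : SymK (S' : Subgroup G) P' (zl (S' : Subgroup G) P') ⊥ 1 m'), 2 ≤ k → 2 ≤ m' → Nat.card F = 2 →
      2 < k ∨ 2 < m' → IsKnownSimple' G

/-- CASE 1: `k = 2`, `|F| = 2`, one `O₄⁻(2)`-module, `[V, V'] = line M i = {1, n}`, `N_S(V_i)` is a Sylow 2-subgroup
of `C_G(n)`. -/
def WrSymMain : Prop :=
  ∀ (G : Type u) [Group G] [Finite G] (S S' : Sylow 2 G), Hyp K S → ∀ (P P' : Subgroup G), Pair S S' P P' →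
    ∀ (F : Type) [Field F] [Finite F] [CharP F 2]
      (M : NatK F (S : Subgroup G) P (zl (S : Subgroup G) P) ⊥ 2)
      (N : FiveMod (zl (S' : Subgroup G) P') P') (i : Fin 2), Nat.card F = 2 → Adapt (S' : Subgroup G) N →
      Ind M (zl (S' : Subgroup G) P') {i} → N.e nn ∈ line M i →
      (∃ a ∈ zl (S : Subgroup G) P, N.Ind a (Equiv.swap 0 1)) →
      (∀ a ∈ zl (S : Subgroup G) P, N.Ind a 1 ∨ N.Ind a (Equiv.swap 0 1)) →
      ¬ 2 ∣ (stab M i).relIndex (centralizer ({N.e nn} : Set G)) → False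

end leaves

/-! ### CASE 2 -/

section tri

variable {G : Type u} [Group G] [Finite G] {S : Sylow 2 G} {P : Subgroup G} {F : Type} [Field F]
  {M : NatK F (S : Subgroup G) P (zl (S : Subgroup G) P) ⊥ 2}

/-- `N_S(V_i)` centralises the line of `V_i`, `q = 2`. -/
theorem stab_line {i : Fin 2} {t v : G} (ht : t ∈ stab M i) (hv : v ∈ line M i) :
    t * v * t⁻¹ ∈ line M i := by
  obtain ⟨hv1, hv2⟩ := (mem_line M).1 hv
  have ht1 : t * v * t⁻¹ ∈ fac M i := (mem_normalizer_iff.1 ht.2 v).1 hv1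
  refine (mem_line M).2 ⟨ht1, ?_⟩
  obtain ⟨σ, hσ⟩ := M.line t ht.1
  have hσi : σ i = i := by
    obtain ⟨w, hw, h1⟩ := exists_fac M i ![0, 1]
    by_contra hne
    have h2 := (mem_normalizer_iff.1 ht.2 w).1 hw
    have h3 : M.e (t * w * t⁻¹) (σ i) = 0 := h2.2 _ hne
    have h4 := (hσ w hw.1 i).1 (by rw [h3]; rfl)
    rw [h1] at h4
    exact one_ne_zero h4
  have h5 := (hσ v hv1.1 i).2 hv2
  rwa [hσi] at h5

theorem line_eq_of_two [Finite F] (hF : Nat.card F = 2) {i : Fin 2} {n v : G} (hn : n ∈ line M i)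
    (hn1 : n ≠ 1) (hv : v ∈ line M i) (hv1 : v ≠ 1) : v = n := by
  have h1 : Nat.card (line M i) = 2 := by rw [card_line, hF]
  exact (Two.eq_or_eq_of_card_two h1 hn hn1 hv).resolve_left hv1

theorem stab_comm [Finite F] (hF : Nat.card F = 2) {i : Fin 2} {n : G}
    (hn : n ∈ line M i) (hn1 : n ≠ 1) {t : G} (ht : t ∈ stab M i) : t * n = n * t := by
  have h1 : t * n * t⁻¹ = n := line_eq_of_two hF hn hn1 (stab_line ht hn) fun h => hn1 (by
    have : n = t⁻¹ * (t * n * t⁻¹) * t := by group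
    rw [this, h]; group)
  exact mul_inv_eq_iff_eq_mul.1 h1

/-- `|Ω₁Z(S)| = 2` if `q = 2`. -/
theorem card_zcS [Finite F] (M : NatK F (S : Subgroup G) P (zl (S : Subgroup G) P) ⊥ 2)
    (hc : IsCharacteristicTwoType G) (hP : IsParS (S : Subgroup G) P)
    (hF : Nat.card F = 2) : Nat.card (ZN.zc (S : Subgroup G)) = 2 := by
  classical
  have hSP := hP.isLoc.le
  have hz : ZN.zc (S : Subgroup G) ≤ zl (S : Subgroup G) P := ZN.ChoiceSit.zc_le_zl _ _
  have hle : Nat.card (ZN.zc (S : Subgroup G)) ≤ Nat.card (line M 0) := by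
    -- the component in the first factor is centralised by the root group, so it lies in the line
    have hex : ∀ z : ZN.zc (S : Subgroup G), ∃ a ∈ line M 0, M.e a 0 = M.e z 0 := by
      intro z
      obtain ⟨a, ha, h1, -⟩ := exists_component M (hz z.2) 0
      refine ⟨a, (mem_line M).2 ⟨ha, ?_⟩, h1⟩
      obtain ⟨t, ht, h2⟩ := M.unip fun _ => 1
      have h3 := h2.1 z (hz z.2) 0
      have h4 : t * (z : G) * t⁻¹ = z := by
        rw [(MinSimple.VModule.mem_zc.1 z.2).2.1 t ht, mul_inv_cancel_right]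
      rw [h4] at h3
      have h5 := congrFun h3 0
      rw [NatPair.ap_zero', Lib.SL2Mat.up_00, Lib.SL2Mat.up_01, one_mul, one_mul, left_eq_add] at h5
      rw [h1]
      exact h5
    choose f hf hfe using hex
    refine Nat.card_le_card_of_injective (fun z => ⟨f z, hf z⟩) ?_
    intro z w hzw
    have h1 : f z = f w := congrArg Subtype.val hzw
    have h2 : M.e ((z : G) * (w : G)⁻¹) 0 = 0 := by
      rw [M.mul _ (hz z.2) _ (inv_mem (hz w.2)), e_inv M (hz w.2), Pi.add_apply, Pi.neg_apply, ← hfe z, ← hfe w,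
        h1, add_neg_cancel]
    have h3 : (z : G) * (w : G)⁻¹ = 1 := by
      refine eq_one_of_cent M (mul_mem (hz z.2) (inv_mem (hz w.2))) (fun s hs => ?_) h2
      exact (MinSimple.VModule.mem_zc.1 (mul_mem z.2 (inv_mem w.2))).2.1 s hs
    exact Subtype.ext (mul_inv_eq_one.1 h3)
  rw [card_line, hF] at hle
  have h1 : 1 < Nat.card (ZN.zc (S : Subgroup G)) := by
    have h2 : ZN.zc (S : Subgroup G) ≠ ⊥ := by
      refine MinSimple.Basic.zc_ne_bot S.isPGroup' fun h0 => ?_
      apply fac_ne_bot M 0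
      rw [eq_bot_iff, ← h0]
      exact (fac_le M 0).trans (zl_le_sylow hc S hP.isLoc)
    exact (Subgroup.one_lt_card_iff_ne_bot _).2 h2
  omega

/-- **The structure `Tri`**, `q = 2`. -/
theorem exists_tri [Finite F] [CharP F 2] (hc : IsCharacteristicTwoType G) (hP : IsParS (S : Subgroup G) P)
    (M : NatK F (S : Subgroup G) P (zl (S : Subgroup G) P) ⊥ 2) (hF : Nat.card F = 2) {i j : Fin 2}
    (hij : i ≠ j) {n : G} (hn : n ∈ line M i) (hn1 : n ≠ 1)
    (h2 : 2 ∣ (stab M i).relIndex (centralizer ({n} : Set G))) :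
    ∃ (T : Sylow 2 G) (s : G),
      Triangle.Tri S T (stab M i) (fac M i) (fac M j) (grp M {i}) (grp M {j}) s n := by
  have hSP := hP.isLoc.le
  have hT := two_of hc hP M hij
  have hst : stab M i ≤ centralizer ({n} : Set G) := fun t ht =>
    mem_centralizer_singleton_iff.2 (stab_comm hF hn hn1 ht)
  obtain ⟨T0, h3, h4, h5, h6⟩ := Half.exists_sylow_le (S.isPGroup'.to_le (stab_le M i)) hst
  have hne : T0 ≠ stab M i := fun h => h6 (h ▸ h2)
  obtain ⟨T, hT1⟩ := h5.exists_le_sylow
  have hcard : Nat.card (S : Subgroup G) ≤ Nat.card T0 := by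
    have h7 := Half.card_mul_relIndex h3
    have h8 : (stab M i).relIndex T0 ≠ 1 := by
      intro h9
      rw [relIndex_eq_one] at h9
      exact hne (le_antisymm h9 h3)
    have h9 : (stab M i).relIndex T0 ≠ 0 := by
      intro h9
      rw [h9, mul_zero] at h7
      exact Nat.card_pos.ne h7
    rw [card_stab M hSP i, ← h7, mul_comm]
    exact Nat.mul_le_mul_left _ (by omega)
  have hT0 : T0 = (T : Subgroup G) := by
    refine eq_of_le_of_card_ge hT1 ?_
    exact (Half.card_le_sylow S T.isPGroup').trans hcard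
  obtain ⟨s, hs, hs1⟩ := Two.exists_not_mem hT.SoS hT.card
  exact ⟨T, s,
    { toTwo := hT
      zcS := card_zcS M hc hP hF
      sS := hs
      sSo := hs1
      vV := line_le M i hn
      v1 := hn1
      vSo := fun x hx => stab_comm hF hn hn1 hx
      SoT := h3.trans hT0.le
      Tv := fun x hx => mem_centralizer_singleton_iff.1 (h4 (by rw [hT0]; exact hx)) }⟩

end tri

/-! ### The node -/

/-- **`WrSym K` from its sub-leaves** (`NO3S.Two K` is not needed: there is no triangle, `TriFalse`). -/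
theorem wrSym_free {K : Cls.{u}} (hSW : LeafSymWr K) (hBig : WrSymBig K) (hMain : WrSymMain K) : WrSym K := by
  intro G _ _ S S' hH P P' hp k hk hN f1 f2 k' m' hk' hm' hS'
  have hc := hH.ctx.char2
  obtain ⟨t1, t2⟩ := typed_of hH.typed hp
  obtain rfl | hk2 : k' = 1 ∨ 2 ≤ k' := by omega
  · obtain ⟨F, i1, i2, i3, ⟨M⟩⟩ := hN
    rw [show cv (S : Subgroup G) P = ⊥ from f1] at M
    have hF : Nat.card F = 2 := card_two hc hp t1.noOver t2.noOver M hm' hS' f2
    by_cases hb : 2 < k ∨ 2 < m'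
    · obtain ⟨M'⟩ := hS'
      rw [show cv (S' : Subgroup G) P' = ⊥ from f2] at M'
      exact hBig G S S' hH P P' hp F k m' M M' hk hm' hF hb
    · push Not at hb
      obtain rfl : k = 2 := le_antisymm hb.1 hk
      obtain rfl : m' = 2 := le_antisymm hb.2 hm'
      have o1 := hp.off hc t2.noOver
      have o2 := hp.symm.off hc t1.noOver
      obtain ⟨N, hNa, ⟨a, ha, has⟩, hcase⟩ := exists_lab5 S' hp.star' hS' f2 hp.le' o2
      obtain ⟨I, hI⟩ := exists_ind M hp.le o1
      have hVP : zl (S' : Subgroup G) P' ≤ P := hp.le.trans hp.star.isLoc.le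
      obtain ⟨i, hi, hn⟩ := n_mem_line hI hVP ha has
      by_cases hu : I = Set.univ
      · rw [hu] at hI
        exact (false_of_univ hc hp hI hNa ha has).elim
      have hIi : I = {i} := by
        ext x
        rw [Set.mem_singleton_iff]
        refine ⟨fun hx => ?_, fun hx => hx ▸ hi⟩
        by_contra hne
        apply hu
        ext y
        refine ⟨fun _ => Set.mem_univ y, fun _ => ?_⟩
        rcases eq_or_ne y i with h | h
        · rw [h]; exact hi
        · have : y = x := by omega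
          rw [this]; exact hx
      rw [hIi] at hI
      have hcase' : ∀ a ∈ zl (S : Subgroup G) P, N.Ind a 1 ∨ N.Ind a (Equiv.swap 0 1) := by
        rcases hcase with h | ⟨b, hb, hbs⟩
        · exact h
        · exfalso
          have h3 : ⁅b, N.e (Pi.single 2 1)⁆ = N.e aa := by
            rw [commutatorElement_def, hbs.comm_eq, N.e_eq_iff]
            left; decide
          have h4 : N.e aa ∈ ⁅zl (S : Subgroup G) P, zl (S' : Subgroup G) P'⁆ := by
            rw [← h3]; exact commutator_mem_commutator hb (N.e_mem _)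
          rw [hI.commutator_eq hVP] at h4
          have h5 : N.e aa ≠ 1 := by
            intro h
            rcases (N.ker aa).1 h with h1 | h1
            · revert h1; decide
            · revert h1; decide
          have h6 := line_eq_of_two hF hn (n_ne_one N) h4 h5
          rcases N.e_eq_iff.1 h6 with h7 | h7
          · revert h7; decide
          · revert h7; decide
      by_cases h2 : 2 ∣ (stab M i).relIndex (centralizer ({N.e nn} : Set G))
      · obtain ⟨j, hij⟩ : ∃ j, i ≠ j := ⟨1 - i, by clear * -; revert i; decide⟩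
        obtain ⟨T, s, hT⟩ := exists_tri hc hp.star M hF hij hn (n_ne_one N) h2
        exact (TriFalse.false_of hT hc).elim
      · exact (hMain G S S' hH P P' hp F M N i hF hNa hI hn ⟨a, ha, has⟩ hcase' h2).elim
  · obtain ⟨g, h1, hm⟩ := exists_mutual hp
    have h2 : cj g⁻¹ (S' : Subgroup G) = (S : Subgroup G) := by rw [h1, cj_inv_cj]
    have h3 := isSym_cj hS' g⁻¹
    rw [h2] at h3
    exact hSW G hH.ctx hH.cls S hH.full hH.allIn hH.typed _ _ _ hm k' m' hk2 hm' h3

/-- The old interface (with the unused `NO3S.Two K`). -/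
theorem wrSym {K : Cls.{u}} (hSW : LeafSymWr K) (hBig : WrSymBig K) (_hTwo : Cfsg.Agent.Omega.NO3S.Two K)
    (hMain : WrSymMain K) : WrSym K := wrSym_free hSW hBig hMain

end Cfsg.Agent.Omega.IId.Sym
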