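import Cfsg.Agent.Omega.IId.Triangle

/-!
# II.d, the triangle with `q_0 = 2 < q`, any natural partner (helper814 #14625 (2+))

* `exists_inj` : `η : F → F`, `η ≠ 0`; a left `F`-space of additive maps `F → F` which contains all
  `a ↦ η (μ a)` contains an injective map;
* `Ks M U R f` : the `F`-space of the additive maps `κ : U → F`, `κ(R) = 0`, such that all `u ↦ u f(λ κ(u))` are
  induced by elements of `M`;
* `Ks.false_of` : `m ∈ M`, `R ≤ V ≤ U`, all `κ ∈ Ks` vanish on `m⁻¹ V m`; some `ε ∈ Ks` does not vanish on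
  `V` and does not vanish on `m R m⁻¹`: contradiction;
* `KX_cent` : the group `{g ∈ H : [A, g] ≤ X, [X, g] = 1}` centralises `V` if its elements in a Sylow
  2-subgroup of `N_H(X)` do;
* `exists_X` : the conjugate `X = R^y ∋ z = v v^s`, `N_H(X)` has a Sylow 2-subgroup `Q`, `So ≤ Q ≤ S`;
* `nonLocR` : in the triangle `⟨P, C_G(v)⟩` is nonlocal if there is a group `E` (a factor of the partner)
  acting on `V₁` as a full root group with centre `R`, `v ∈ R < V₁`;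
* `RootE` (the hypotheses on `E`), `exists_hypR`, `knownR` : the exit, NO-3S with `|V_P| = 4`.
-/

set_option autoImplicit false
set_option linter.unusedSectionVars false

namespace Cfsg.Agent.Omega.IId.TwoPlus

open Subgroup Cfsg Cfsg.Agent.ZN Cfsg.Agent.Omega.MinPar Cfsg.Agent.Omega.Frame
open Cfsg.Agent.Omega.FrameNOFF Cfsg.Agent.Omega.NO3S Cfsg.Agent.Omega.IId.Two
open Cfsg.Agent.Omega.IId.Triangle Cfsg.Agent.MinSimple.VModule
open scoped Pointwise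

universe u

/-! ### An injective map -/

section inj

variable {F : Type*} [Field F] [Finite F]

theorem exists_inj (Θ : Submodule F (F → F)) (hΘ : ∀ θ ∈ Θ, ∀ a b, θ (a + b) = θ a + θ b)
    {η : F → F} (hη : ∀ μ : F, (fun a => η (μ * a)) ∈ Θ) (hne : ∃ a, η a ≠ 0) :
    ∃ θ ∈ Θ, ∀ a b, θ a = θ b → a = b := by
  classical
  have : Fintype F := Fintype.ofFinite F
  obtain ⟨μ, hμ⟩ := IsCyclic.exists_generator (α := Fˣ)
  set n := Fintype.card F - 1 with hn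
  have hcard : Fintype.card Fˣ = n := Fintype.card_units F
  have hn0 : 0 < n := by rw [← hcard]; exact Fintype.card_pos
  let θ : Fˣ → F → F := fun ζ a => ∑ i ∈ Finset.range n, ((ζ⁻¹ ^ i : Fˣ) : F) * η ((μ ^ i : Fˣ) * a)
  have h1 : ∀ ζ, θ ζ ∈ Θ := by
    intro ζ
    have h2 : θ ζ = ∑ i ∈ Finset.range n, ((ζ⁻¹ ^ i : Fˣ) : F) • fun a => η ((μ ^ i : Fˣ) * a) := by
      funext a
      simp only [Finset.sum_apply, Pi.smul_apply, smul_eq_mul, θ]
    rw [h2]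
    exact Submodule.sum_mem _ fun i _ => Submodule.smul_mem _ _ (hη _)
  have h2 : ∀ (ζ : Fˣ) (a : F), θ ζ (μ * a) = ζ * θ ζ a := by
    intro ζ a
    have e1 : θ ζ (μ * a) = ζ * ∑ i ∈ Finset.range n,
        ((ζ⁻¹ ^ (i + 1) : Fˣ) : F) * η ((μ ^ (i + 1) : Fˣ) * a) := by
      simp only [θ]
      rw [Finset.mul_sum]
      refine Finset.sum_congr rfl fun i _ => ?_
      have e2 : ((μ ^ (i + 1) : Fˣ) : F) * a = ((μ ^ i : Fˣ) : F) * (μ * a) := by
        rw [pow_succ, Units.val_mul, mul_assoc]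
      have e3 : (ζ : F) * ((ζ⁻¹ ^ (i + 1) : Fˣ) : F) = ((ζ⁻¹ ^ i : Fˣ) : F) := by
        rw [← Units.val_mul, pow_succ, mul_comm (ζ⁻¹ ^ i), mul_inv_cancel_left]
      rw [e2, ← mul_assoc (ζ : F) _ (η _), e3]
    have e2 : ∑ i ∈ Finset.range n, ((ζ⁻¹ ^ (i + 1) : Fˣ) : F) * η ((μ ^ (i + 1) : Fˣ) * a) = θ ζ a := by
      have e3 := Finset.sum_range_succ (fun i => ((ζ⁻¹ ^ i : Fˣ) : F) * η ((μ ^ i : Fˣ) * a)) n
      have e4 := Finset.sum_range_succ' (fun i => ((ζ⁻¹ ^ i : Fˣ) : F) * η ((μ ^ i : Fˣ) * a)) n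
      have e5 : ζ⁻¹ ^ n = 1 := by rw [← hcard]; exact pow_card_eq_one
      have e6 : μ ^ n = 1 := by rw [← hcard]; exact pow_card_eq_one
      rw [e3, e5, e6, pow_zero, pow_zero] at e4
      exact (add_right_cancel e4).symm
    rw [e1, e2]
  have h3 : ∀ a, ∑ ζ : Fˣ, θ ζ a = - η a := by
    intro a
    simp only [θ]
    rw [Finset.sum_comm]
    have e1 : ∀ i ∈ Finset.range n, ∑ ζ : Fˣ, ((ζ⁻¹ ^ i : Fˣ) : F) * η ((μ ^ i : Fˣ) * a) =
        (if i = 0 then -1 else 0) * η ((μ ^ i : Fˣ) * a) := by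
      intro i hi
      rw [← Finset.sum_mul]
      congr 1
      have e2 : ∑ ζ : Fˣ, ((ζ⁻¹ ^ i : Fˣ) : F) = ∑ ζ : Fˣ, ((ζ : F) ^ i) := by
        refine (Equiv.sum_comp (Equiv.inv Fˣ) (fun ζ => ((ζ ^ i : Fˣ) : F))).trans ?_
        exact Finset.sum_congr rfl fun ζ _ => Units.val_pow_eq_pow_val ζ i
      rw [e2, FiniteField.sum_pow_units]
      have e3 : Fintype.card F - 1 ∣ i ↔ i = 0 := by
        rw [Finset.mem_range] at hi
        exact ⟨fun h => Nat.eq_zero_of_dvd_of_lt h hi, fun h => by rw [h]; exact dvd_zero _⟩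
      simp only [e3]
    rw [Finset.sum_congr rfl e1, Finset.sum_eq_single 0]
    · rw [if_pos rfl, pow_zero, Units.val_one, one_mul, neg_one_mul]
    · intro i _ hi
      rw [if_neg hi, zero_mul]
    · intro h
      exact absurd (Finset.mem_range.2 hn0) h
  obtain ⟨a, ha⟩ := hne
  obtain ⟨ζ, hζ⟩ : ∃ ζ, θ ζ a ≠ 0 := by
    by_contra hcon
    push Not at hcon
    apply ha
    have e := h3 a
    rw [Finset.sum_eq_zero fun ζ _ => hcon ζ] at e
    exact neg_eq_zero.1 e.symm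
  have hadd := hΘ _ (h1 ζ)
  have h4 : ∀ b, θ ζ b = 0 → b = 0 := by
    intro b hb
    by_contra hb0
    have ha0 : a ≠ 0 := by
      rintro rfl
      apply hζ
      have e := hadd 0 0
      rw [add_zero] at e
      exact left_eq_add.1 e
    -- `a = μ ^ k b`
    obtain ⟨k, hk⟩ := Subgroup.mem_zpowers_iff.1 (hμ (Units.mk0 (a / b) (div_ne_zero ha0 hb0)))
    obtain ⟨k', hk'⟩ : ∃ k' : ℕ, μ ^ k' = Units.mk0 (a / b) (div_ne_zero ha0 hb0) := by
      have e := hμ (Units.mk0 (a / b) (div_ne_zero ha0 hb0))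
      rw [← mem_powers_iff_mem_zpowers] at e
      exact e
    have h5 : ∀ j : ℕ, θ ζ ((μ ^ j : Fˣ) * b) = 0 := by
      intro j
      induction j with
      | zero => rw [pow_zero, Units.val_one, one_mul]; exact hb
      | succ j ih =>
        have e : ((μ ^ (j + 1) : Fˣ) : F) * b = μ * (((μ ^ j : Fˣ) : F) * b) := by
          rw [pow_succ', Units.val_mul, mul_assoc]
        rw [e, h2, ih, mul_zero]
    have h6 := h5 k'
    rw [hk', Units.val_mk0, div_mul_cancel₀ _ hb0] at h6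
    exact hζ h6
  refine ⟨θ ζ, h1 ζ, fun b c hbc => ?_⟩
  have h5 : θ ζ (b - c) = 0 := by
    have e := hadd (b - c) c
    rw [sub_add_cancel, hbc] at e
    exact right_eq_add.1 e
  exact sub_eq_zero.1 (h4 _ h5)

end inj

/-! ### The space of the transvections with centre `R` -/

section ks

variable {G : Type u} [Group G] {F : Type} [Field F]

/-- The `F`-space of the additive maps `κ : U → F`, `κ(R) = 0`, such that all `u ↦ u f(λ κ(u))` are induced by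
elements of `M`. -/
def Ks (M U R : Subgroup G) (f : F → G) (hf : ∀ a b, f (a + b) = f a * f b) (hfR : ∀ a, f a ∈ R)
    (hRU : R ≤ U) : Submodule F (U → F) where
  carrier := {κ | (∀ u u', κ (u * u') = κ u + κ u') ∧ (∀ u : U, (u : G) ∈ R → κ u = 0) ∧
    ∀ l : F, ∃ g ∈ M, ∀ u : U, g * u * g⁻¹ = u * f (l * κ u)}
  zero_mem' := by
    refine ⟨fun _ _ => by simp, fun _ _ => rfl, fun l => ⟨1, one_mem _, fun u => ?_⟩⟩
    have h0 : f 0 = 1 := by
      have h := hf 0 0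
      rw [add_zero] at h
      exact left_eq_mul.1 h
    simp [h0]
  add_mem' := by
    rintro κ κ' ⟨h1, h2, h3⟩ ⟨h1', h2', h3'⟩
    refine ⟨fun u u' => ?_, fun u hu => ?_, fun l => ?_⟩
    · simp only [Pi.add_apply, h1, h1']; ring
    · simp only [Pi.add_apply, h2 u hu, h2' u hu, add_zero]
    · obtain ⟨g, hg, hgu⟩ := h3 l
      obtain ⟨g', hg', hgu'⟩ := h3' l
      refine ⟨g * g', mul_mem hg hg', fun u => ?_⟩
      have hr : g * f (l * κ' u) * g⁻¹ = f (l * κ' u) := by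
        have e := hgu ⟨f (l * κ' u), hRU (hfR _)⟩
        have e2 : κ ⟨f (l * κ' u), hRU (hfR _)⟩ = 0 := h2 _ (hfR _)
        rw [e2, mul_zero] at e
        have h0 : f 0 = 1 := by
          have h := hf 0 0
          rw [add_zero] at h
          exact left_eq_mul.1 h
        rw [h0, mul_one] at e
        exact e
      calc g * g' * u * (g * g')⁻¹ = g * (g' * u * g'⁻¹) * g⁻¹ := by group
        _ = (g * u * g⁻¹) * (g * f (l * κ' u) * g⁻¹) := by rw [hgu']; group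
        _ = u * f (l * κ u) * f (l * κ' u) := by rw [hr, hgu]
        _ = u * f (l * (κ + κ') u) := by rw [mul_assoc, ← hf, Pi.add_apply, mul_add]
  smul_mem' := by
    rintro c κ ⟨h1, h2, h3⟩
    refine ⟨fun u u' => ?_, fun u hu => ?_, fun l => ?_⟩
    · simp only [Pi.smul_apply, smul_eq_mul, h1, mul_add]
    · simp only [Pi.smul_apply, smul_eq_mul, h2 u hu, mul_zero]
    · obtain ⟨g, hg, hgu⟩ := h3 (l * c)
      refine ⟨g, hg, fun u => ?_⟩
      rw [hgu, Pi.smul_apply, smul_eq_mul, mul_assoc]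

theorem map_zero_of {f : F → G} (hf : ∀ a b, f (a + b) = f a * f b) : f 0 = 1 := by
  have h := hf 0 0
  rw [add_zero] at h
  exact left_eq_mul.1 h

/-- The counting argument of #14625 (iv), (v). -/
theorem Ks.false_of [Finite F] [Finite G] {M U R V : Subgroup G} {f : F → G}
    (hf : ∀ a b, f (a + b) = f a * f b) (hfR : ∀ a, f a ∈ R) (hRV : R ≤ V) (hVU : V ≤ U)
    (hM : ∀ g ∈ M, ∀ u ∈ U, g * u * g⁻¹ ∈ U) (hUc : ∀ a ∈ U, ∀ b ∈ U, a * b = b * a)
    {m : G} (hm : m ∈ M)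
    (hKm : ∀ κ ∈ Ks M U R f hf hfR (hRV.trans hVU), ∀ u : U, m * u * m⁻¹ ∈ V → κ u = 0)
    {ε : U → F} (hε : ε ∈ Ks M U R f hf hfR (hRV.trans hVU)) (hεV : ∃ u : U, (u : G) ∈ V ∧ ε u ≠ 0)
    (hεR : ∃ (a : F) (u : U), (u : G) = m * f a * m⁻¹ ∧ ε u ≠ 0) : False := by
  classical
  have hRU : R ≤ U := hRV.trans hVU
  set K := Ks M U R f hf hfR hRU with hK
  have hf0 : f 0 = 1 := map_zero_of hf
  have hm' : m⁻¹ ∈ M := inv_mem hm
  -- the conjugation map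
  have hcU : ∀ u ∈ U, m⁻¹ * u * m ∈ U := fun u hu => by
    have h := hM _ hm' u hu
    rwa [inv_inv] at h
  let c : U → U := fun u => ⟨m⁻¹ * u * m, hcU u u.2⟩
  have hcm : ∀ u u', c (u * u') = c u * c u' := fun u u' => Subtype.ext (by
    change m⁻¹ * ((u : G) * u') * m = m⁻¹ * u * m * (m⁻¹ * u' * m)
    group)
  let c' : U → U := fun u => ⟨m * u * m⁻¹, hM m hm u u.2⟩
  have hcc' : ∀ u, c (c' u) = u := fun u => Subtype.ext (by
    change m⁻¹ * (m * (u : G) * m⁻¹) * m = u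
    group)
  -- the elements `m f(a) m⁻¹`
  have hfm : ∀ a, m * f a * m⁻¹ ∈ U := fun a => hM m hm _ (hRU (hfR a))
  let fm : F → U := fun a => ⟨m * f a * m⁻¹, hfm a⟩
  have hfma : ∀ a b, fm (a + b) = fm a * fm b := fun a b => Subtype.ext (by
    change m * f (a + b) * m⁻¹ = m * f a * m⁻¹ * (m * f b * m⁻¹)
    rw [hf]; group)
  have hεa := hε.1
  let η : F → F := fun a => ε (fm a)
  have hηa : ∀ a b, η (a + b) = η a + η b := fun a b => by
    change ε (fm (a + b)) = ε (fm a) + ε (fm b)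
    rw [hfma, hεa]
  have hη0 : η 0 = 0 := by
    have h := hηa 0 0
    rw [add_zero] at h
    exact left_eq_add.1 h
  have hηne : ∃ a, η a ≠ 0 := by
    obtain ⟨a, u, hu, hne⟩ := hεR
    refine ⟨a, ?_⟩
    have h : u = fm a := Subtype.ext hu
    change ε (fm a) ≠ 0
    rwa [← h]
  have hKc : ∀ κ ∈ K, ∀ u : U, (u : G) ∈ V → κ (c u) = 0 := by
    intro κ hκ u hu
    apply hKm κ hκ
    change m * (m⁻¹ * (u : G) * m) * m⁻¹ ∈ V
    have h : m * (m⁻¹ * (u : G) * m) * m⁻¹ = u := by group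
    rwa [h]
  -- the elements of `K` which vanish on `V`
  let KV : Submodule F (U → F) := K ⊓
    { carrier := {κ | ∀ u : U, (u : G) ∈ V → κ u = 0}
      zero_mem' := fun _ _ => rfl
      add_mem' := fun {a b} ha hb u hu => by
        change a u + b u = 0
        rw [ha u hu, hb u hu, add_zero]
      smul_mem' := fun r a ha u hu => by
        change r * a u = 0
        rw [ha u hu, mul_zero] }
  have hKV : ∀ κ, κ ∈ KV ↔ κ ∈ K ∧ ∀ u : U, (u : G) ∈ V → κ u = 0 := fun κ => Iff.rfl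
  let Θ : Submodule F (F → F) :=
    { carrier := {θ | (∀ a b, θ (a + b) = θ a + θ b) ∧ ∀ κ ∈ K, (fun u => θ (κ (c u))) ∈ KV}
      zero_mem' := ⟨fun _ _ => by simp, fun κ _ => KV.zero_mem⟩
      add_mem' := by
        rintro θ θ' ⟨h1, h2⟩ ⟨h1', h2'⟩
        refine ⟨fun a b => ?_, fun κ hκ => KV.add_mem (h2 κ hκ) (h2' κ hκ)⟩
        simp only [Pi.add_apply, h1, h1']; ring
      smul_mem' := by
        rintro r θ ⟨h1, h2⟩
        refine ⟨fun a b => ?_, fun κ hκ => KV.smul_mem r (h2 κ hκ)⟩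
        simp only [Pi.smul_apply, smul_eq_mul, h1, mul_add] }
  have key : ∀ μ : F, (fun a => η (μ * a)) ∈ Θ := by
    intro μ
    refine ⟨fun a b => by change η (μ * (a + b)) = η (μ * a) + η (μ * b); rw [mul_add, hηa], fun κ hκ => ?_⟩
    rw [hKV]
    have hκV : ∀ u : U, (u : G) ∈ V → η (μ * κ (c u)) = 0 := by
      intro u hu
      rw [hKc κ hκ u hu, mul_zero, hη0]
    refine ⟨⟨fun u u' => ?_, fun u hu => hκV u (hRV hu), fun l => ?_⟩, hκV⟩
    · change η (μ * κ (c (u * u'))) = η (μ * κ (c u)) + η (μ * κ (c u'))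
      rw [hcm, hκ.1, mul_add, hηa]
    · obtain ⟨g, hg, hgu⟩ := hκ.2.2 μ
      obtain ⟨d, hd, hdu⟩ := hε.2.2 l
      set g1 := m * g * m⁻¹ with hg1
      have hg1M : g1 ∈ M := mul_mem (mul_mem hm hg) hm'
      -- the actions
      have a1 : ∀ u : U, g1 * u * g1⁻¹ = u * fm (μ * κ (c u)) := by
        intro u
        have h := hgu (c u)
        have h' : g * (m⁻¹ * (u : G) * m) * g⁻¹ = m⁻¹ * (u : G) * m * f (μ * κ (c u)) := h
        calc g1 * u * g1⁻¹ = m * (g * (m⁻¹ * (u : G) * m) * g⁻¹) * m⁻¹ := by rw [hg1]; group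
          _ = u * (m * f (μ * κ (c u)) * m⁻¹) := by rw [h']; group
      have a1R : ∀ a, g1 * f a * g1⁻¹ = f a := by
        intro a
        have h := a1 ⟨f a, hRU (hfR a)⟩
        have h2 : κ (c ⟨f a, hRU (hfR a)⟩) = 0 := hKc κ hκ _ (hRV (hfR a))
        rw [h2, mul_zero] at h
        have h3 : ((fm 0 : U) : G) = 1 := by
          change m * f 0 * m⁻¹ = 1
          rw [hf0]; group
        rw [h3, mul_one] at h
        exact h
      have dR : ∀ a, d * f a * d⁻¹ = f a := by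
        intro a
        have h := hdu ⟨f a, hRU (hfR a)⟩
        rw [hε.2.1 _ (hfR a), mul_zero, hf0, mul_one] at h
        exact h
      refine ⟨d⁻¹ * g1⁻¹ * d * g1, mul_mem (mul_mem (mul_mem (inv_mem hd) (inv_mem hg1M)) hd) hg1M,
        fun u => ?_⟩
      set t := f (l * η (μ * κ (c u))) with ht
      -- `d g1 u (d g1)⁻¹`
      have e1 : d * (g1 * u * g1⁻¹) * d⁻¹ = u * f (l * ε u) * (fm (μ * κ (c u)) * t) := by
        have h := hdu (fm (μ * κ (c u)))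
        calc d * (g1 * u * g1⁻¹) * d⁻¹ = (d * u * d⁻¹) * (d * (fm (μ * κ (c u)) : U) * d⁻¹) := by
              rw [a1]; group
          _ = u * f (l * ε u) * (fm (μ * κ (c u)) * t) := by rw [hdu, h]
      -- `g1 d (u t) (g1 d)⁻¹`
      have e2 : g1 * (d * (u * t) * d⁻¹) * g1⁻¹ = u * fm (μ * κ (c u)) * (f (l * ε u) * t) := by
        calc g1 * (d * (u * t) * d⁻¹) * g1⁻¹
            = g1 * ((d * u * d⁻¹) * (d * t * d⁻¹)) * g1⁻¹ := by group
          _ = g1 * (u * f (l * ε u) * t) * g1⁻¹ := by rw [hdu, dR]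
          _ = (g1 * u * g1⁻¹) * (g1 * f (l * ε u) * g1⁻¹) * (g1 * t * g1⁻¹) := by group
          _ = u * fm (μ * κ (c u)) * (f (l * ε u) * t) := by rw [a1, a1R, ht, a1R]; group
      have e3 : u * f (l * ε u) * ((fm (μ * κ (c u)) : U) * t) =
          u * fm (μ * κ (c u)) * (f (l * ε u) * t) := by
        have h := hUc _ (hRU (hfR (l * ε u))) _ (fm (μ * κ (c u))).2
        calc u * f (l * ε u) * ((fm (μ * κ (c u)) : U) * t)
            = u * (f (l * ε u) * (fm (μ * κ (c u)) : U)) * t := by group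
          _ = u * fm (μ * κ (c u)) * (f (l * ε u) * t) := by rw [h]; group
      have e4 : d * (g1 * u * g1⁻¹) * d⁻¹ = g1 * (d * (u * t) * d⁻¹) * g1⁻¹ := by rw [e1, e2, e3]
      calc d⁻¹ * g1⁻¹ * d * g1 * u * (d⁻¹ * g1⁻¹ * d * g1)⁻¹
          = d⁻¹ * g1⁻¹ * (d * (g1 * u * g1⁻¹) * d⁻¹) * g1 * d := by group
        _ = u * t := by rw [e4]; group
  obtain ⟨θ, hθ, hinj⟩ := exists_inj Θ (fun θ hθ => hθ.1) key hηne
  -- counting
  have h1 : (K : Set (U → F)).ncard ≤ (KV : Set (U → F)).ncard := by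
    refine Set.ncard_le_ncard_of_injOn (fun κ u => θ (κ (c u))) (fun κ hκ => hθ.2 κ hκ) ?_ (Set.toFinite _)
    intro κ _ κ' _ h
    funext u
    have h2 := congrFun h (c' u)
    simp only [hcc'] at h2
    exact hinj _ _ h2
  have h2 : (KV : Set (U → F)) ⊂ (K : Set (U → F)) := by
    refine ⟨fun κ hκ => hκ.1, fun h => ?_⟩
    obtain ⟨u, hu, hne⟩ := hεV
    exact hne ((h hε).2 u hu)
  have h3 := Set.ncard_lt_ncard h2 (Set.toFinite _)
  omega

end ks

/-! ### The 2-groups -/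

section sylow

variable {G : Type u} [Group G]

/-- A 2-subgroup of `C` is conjugate in `C` into a Sylow 2-subgroup of `C`. -/
theorem exists_conj_le [Finite G] {C S X : Subgroup G} (hX : X ≤ C) (hSp : IsPGroup 2 S)
    (hXp : IsPGroup 2 X) (hidx : ¬ 2 ∣ S.relIndex C) : ∃ c ∈ C, ∀ x ∈ X, c * x * c⁻¹ ∈ S := by
  have : Fact (Nat.Prime 2) := ⟨Nat.prime_two⟩
  have hS' : IsPGroup 2 (S.subgroupOf C) := hSp.comap_of_injective C.subtype Subtype.val_injective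
  have hX' : IsPGroup 2 (X.subgroupOf C) := hXp.comap_of_injective C.subtype Subtype.val_injective
  obtain ⟨Q, hQ⟩ := hX'.exists_le_sylow
  obtain ⟨c, hc⟩ := MulAction.exists_smul_eq C Q (hS'.toSylow hidx)
  refine ⟨c, c.2, ?_⟩
  intro y hy
  have h1 : (⟨y, hX hy⟩ : C) ∈ (Q : Subgroup C) := hQ (Subgroup.mem_subgroupOf.2 hy)
  have h2 : c * ⟨y, hX hy⟩ * c⁻¹ ∈ ((c • Q : Sylow 2 C) : Subgroup C) := by
    have : c * ⟨y, hX hy⟩ * c⁻¹ = (MulAut.conj c) • (⟨y, hX hy⟩ : C) := rfl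
    rw [this]
    exact Subgroup.smul_mem_pointwise_smul _ _ _ h1
  rw [hc] at h2
  exact Subgroup.mem_subgroupOf.1 h2

/-- `T ∩ N` is a Sylow 2-subgroup of the normal subgroup `N`. -/
theorem not_dvd_inf [Finite G] {H T N : Subgroup G} (hTH : T ≤ H) (hTS : ¬ 2 ∣ T.relIndex H)
    (hNH : N ≤ H) (hN : H ≤ normalizer (N : Set G)) : ¬ 2 ∣ (N ⊓ T).relIndex N := by
  have hn : (N.subgroupOf H).Normal := (normal_subgroupOf_iff_le_normalizer hNH).2 hN
  have h1 : N.relIndex (N ⊔ T) = N.relIndex T := by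
    have h := Subgroup.relIndex_sup_left (K := N.subgroupOf H) (H := T.subgroupOf H)
    rw [← Subgroup.subgroupOf_sup hNH hTH, Subgroup.relIndex_subgroupOf (sup_le hNH hTH),
      Subgroup.relIndex_subgroupOf hTH] at h
    exact h
  have h2 := Subgroup.relIndex_mul_relIndex (N ⊓ T) N (N ⊔ T) inf_le_left le_sup_left
  have h3 := Subgroup.relIndex_mul_relIndex (N ⊓ T) T (N ⊔ T) inf_le_right le_sup_right
  have h4 : (N ⊓ T).relIndex T = N.relIndex T := Subgroup.inf_relIndex_right N T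
  rw [h1] at h2
  rw [h4, ← h2, mul_comm] at h3
  have h5 : T.relIndex (N ⊔ T) = (N ⊓ T).relIndex N :=
    Nat.eq_of_mul_eq_mul_right (Nat.pos_of_ne_zero (Subgroup.index_ne_zero_of_finite
      (H := N.subgroupOf T))) h3
  intro h
  have h6 := Subgroup.relIndex_mul_relIndex T (N ⊔ T) H le_sup_right (sup_le hNH hTH)
  exact hTS (h6 ▸ (h5 ▸ h : 2 ∣ T.relIndex (N ⊔ T)).mul_right _)

/-- The group `{g ∈ H : [A, g] ≤ X, [X, g] = 1}`. -/
def KX (H A X : Subgroup G) : Subgroup G where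
  carrier := {g | g ∈ H ∧ (∀ u ∈ A, g * u * g⁻¹ * u⁻¹ ∈ X) ∧ ∀ x ∈ X, g * x * g⁻¹ = x}
  one_mem' := ⟨one_mem _, fun u _ => by simp, fun x _ => by simp⟩
  mul_mem' := by
    rintro g k ⟨hg1, hg2, hg3⟩ ⟨hk1, hk2, hk3⟩
    refine ⟨mul_mem hg1 hk1, fun u hu => ?_, fun x hx => ?_⟩
    · have e : g * k * u * (g * k)⁻¹ * u⁻¹ =
          (g * (k * u * k⁻¹ * u⁻¹) * g⁻¹) * (g * u * g⁻¹ * u⁻¹) := by group
      rw [e, hg3 _ (hk2 u hu)]
      exact mul_mem (hk2 u hu) (hg2 u hu)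
    · calc g * k * x * (g * k)⁻¹ = g * (k * x * k⁻¹) * g⁻¹ := by group
        _ = x := by rw [hk3 x hx, hg3 x hx]
  inv_mem' := by
    rintro g ⟨hg1, hg2, hg3⟩
    have hg4 : ∀ x ∈ X, g⁻¹ * x * g = x := by
      intro x hx
      calc g⁻¹ * x * g = g⁻¹ * (g * x * g⁻¹) * g := by rw [hg3 x hx]
        _ = x := by group
    refine ⟨inv_mem hg1, fun u hu => ?_, fun x hx => by rw [inv_inv]; exact hg4 x hx⟩
    have e : g⁻¹ * u * g⁻¹⁻¹ * u⁻¹ = g⁻¹ * (g * u * g⁻¹ * u⁻¹)⁻¹ * g := by group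
    rw [e, hg4 _ (inv_mem (hg2 u hu))]
    exact inv_mem (hg2 u hu)

theorem mem_KX {H A X : Subgroup G} {g : G} : g ∈ KX H A X ↔
    g ∈ H ∧ (∀ u ∈ A, g * u * g⁻¹ * u⁻¹ ∈ X) ∧ ∀ x ∈ X, g * x * g⁻¹ = x := Iff.rfl

/-- #14625 (iii), the reduction to a Sylow subgroup: `K_X` induces an elementary abelian 2-group on `A`. -/
theorem KX_cent [Finite G] {H A X T V : Subgroup G} (hA : ∀ a ∈ A, ∀ b ∈ A, a * b = b * a)
    (hA2 : ∀ a ∈ A, a * a = 1) (hHA : ∀ k ∈ H, ∀ a ∈ A, k * a * k⁻¹ ∈ A) (hXA : X ≤ A)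
    (hT : IsPGroup 2 T) (hTN : T ≤ H ⊓ normalizer (X : Set G))
    (hTS : ¬ 2 ∣ T.relIndex (H ⊓ normalizer (X : Set G))) (hVA : V ≤ A)
    (hTV : ∀ g ∈ T, g ∈ KX H A X → ∀ a ∈ V, g * a * g⁻¹ = a) :
    ∀ g ∈ KX H A X, ∀ a ∈ V, g * a * g⁻¹ = a := by
  set K := KX H A X with hK
  set N := H ⊓ normalizer (X : Set G) with hN
  have hKN : K ≤ N := by
    intro g hg
    refine ⟨hg.1, mem_normalizer_iff.2 fun x => ?_⟩
    constructor
    · intro hx
      rw [hg.2.2 x hx]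
      exact hx
    · intro hx
      have h1 := (inv_mem hg : g⁻¹ ∈ K).2.2 _ hx
      have h2 : g⁻¹ * (g * x * g⁻¹) * g⁻¹⁻¹ = x := by group
      have h3 : x = g * x * g⁻¹ := h2.symm.trans h1
      rw [h3]
      exact hx
  have hNK : N ≤ normalizer (K : Set G) := by
    apply Cfsg.Agent.Omega.IId.Two.le_normalizer_of
    intro n hn g hg
    have hX : ∀ x ∈ X, n * x * n⁻¹ ∈ X := fun x hx => (mem_normalizer_iff.1 hn.2 x).1 hx
    have hX' : ∀ x ∈ X, n⁻¹ * x * n ∈ X := fun x hx => by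
      have h1 := (mem_normalizer_iff.1 (inv_mem hn.2) x).1 hx
      rwa [inv_inv] at h1
    refine ⟨mul_mem (mul_mem hn.1 hg.1) (inv_mem hn.1), fun u hu => ?_, fun x hx => ?_⟩
    · have h1 : n⁻¹ * u * n ∈ A := by
        have h2 := hHA n⁻¹ (inv_mem hn.1) u hu
        rwa [inv_inv] at h2
      have h2 := hX _ (hg.2.1 _ h1)
      have h3 : n * g * n⁻¹ * u * (n * g * n⁻¹)⁻¹ * u⁻¹ =
          n * (g * (n⁻¹ * u * n) * g⁻¹ * (n⁻¹ * u * n)⁻¹) * n⁻¹ := by group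
      rw [h3]
      exact h2
    · calc n * g * n⁻¹ * x * (n * g * n⁻¹)⁻¹ = n * (g * (n⁻¹ * x * n) * g⁻¹) * n⁻¹ := by group
        _ = n * (n⁻¹ * x * n) * n⁻¹ := by rw [hg.2.2 _ (hX' x hx)]
        _ = x := by group
  -- conjugate elements of `K` act in the same way on `A`
  have hsame : ∀ g ∈ K, ∀ k ∈ K, ∀ u ∈ A, k * g * k⁻¹ * u * (k * g * k⁻¹)⁻¹ = g * u * g⁻¹ := by
    intro g hg k hk u hu
    obtain ⟨d, hd⟩ : ∃ d, d = k⁻¹ * u * k * u⁻¹ := ⟨_, rfl⟩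
    obtain ⟨e, he⟩ : ∃ e, e = g * u * g⁻¹ * u⁻¹ := ⟨_, rfl⟩
    have hdX : d ∈ X := by
      have h1 := (inv_mem hk : k⁻¹ ∈ K).2.1 u hu
      rw [inv_inv] at h1
      rw [hd]; exact h1
    have heX : e ∈ X := by rw [he]; exact hg.2.1 u hu
    have h1 : k⁻¹ * u * k = d * u := by rw [hd]; group
    have h2 : g * u * g⁻¹ = e * u := by rw [he]; group
    have h3 : k * u * k⁻¹ = d⁻¹ * u := by
      have h4 : u = d * (k * u * k⁻¹) := by
        calc u = k * (k⁻¹ * u * k) * k⁻¹ := by group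
          _ = (k * d * k⁻¹) * (k * u * k⁻¹) := by rw [h1]; group
          _ = d * (k * u * k⁻¹) := by rw [hk.2.2 d hdX]
      calc k * u * k⁻¹ = d⁻¹ * (d * (k * u * k⁻¹)) := by group
        _ = d⁻¹ * u := by rw [← h4]
    have h5 := hA d (hXA hdX) e (hXA heX)
    calc k * g * k⁻¹ * u * (k * g * k⁻¹)⁻¹ = k * (g * (k⁻¹ * u * k) * g⁻¹) * k⁻¹ := by group
      _ = k * ((g * d * g⁻¹) * (g * u * g⁻¹)) * k⁻¹ := by rw [h1]; group
      _ = (k * d * k⁻¹) * (k * e * k⁻¹) * (k * u * k⁻¹) := by rw [hg.2.2 d hdX, h2]; group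
      _ = d * e * (d⁻¹ * u) := by rw [hk.2.2 d hdX, hk.2.2 e heX, h3]
      _ = e * u := by rw [h5]; group
      _ = g * u * g⁻¹ := h2.symm
  -- squares act trivially
  have hsq : ∀ g ∈ K, ∀ u ∈ A, ∀ j : ℕ, (g ^ 2) ^ j * u * ((g ^ 2) ^ j)⁻¹ = u := by
    intro g hg u hu j
    obtain ⟨e, he⟩ : ∃ e, e = g * u * g⁻¹ * u⁻¹ := ⟨_, rfl⟩
    have heX : e ∈ X := by rw [he]; exact hg.2.1 u hu
    have h2 : g * u * g⁻¹ = e * u := by rw [he]; group
    have h3 : g ^ 2 * u * (g ^ 2)⁻¹ = u := by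
      calc g ^ 2 * u * (g ^ 2)⁻¹ = g * (g * u * g⁻¹) * g⁻¹ := by rw [pow_two]; group
        _ = g * (e * u) * g⁻¹ := by rw [h2]
        _ = (g * e * g⁻¹) * (g * u * g⁻¹) := by group
        _ = e * e * u := by rw [hg.2.2 e heX, h2]; group
        _ = u := by rw [hA2 e (hXA heX), one_mul]
    induction j with
    | zero => simp
    | succ j ih =>
      calc (g ^ 2) ^ (j + 1) * u * ((g ^ 2) ^ (j + 1))⁻¹
          = (g ^ 2) ^ j * (g ^ 2 * u * (g ^ 2)⁻¹) * ((g ^ 2) ^ j)⁻¹ := by rw [pow_succ]; group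
        _ = u := by rw [h3, ih]
  have hodd : ∀ g ∈ K, ∀ u ∈ A, ∀ n : ℕ, Odd n → g ^ n * u * (g ^ n)⁻¹ = g * u * g⁻¹ := by
    rintro g hg u hu n ⟨j, rfl⟩
    calc g ^ (2 * j + 1) * u * (g ^ (2 * j + 1))⁻¹
        = g * ((g ^ 2) ^ j * u * ((g ^ 2) ^ j)⁻¹) * g⁻¹ := by rw [pow_succ', pow_mul]; group
      _ = g * u * g⁻¹ := by rw [hsq g hg u hu j]
  intro g hg a ha
  have haA := hVA ha
  -- the 2-part of `g`
  obtain ⟨m, n, hn, hmn⟩ := Nat.exists_eq_two_pow_mul_odd (orderOf_pos g).ne'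
  have h1 : (g ^ n) ^ 2 ^ m = 1 := by
    rw [← pow_mul, mul_comm, ← hmn]
    exact pow_orderOf_eq_one g
  have h2 : IsPGroup 2 (zpowers (g ^ n)) := by
    have hd := orderOf_dvd_of_pow_eq_one h1
    obtain ⟨k, -, hk⟩ := (Nat.dvd_prime_pow Nat.prime_two).1 hd
    exact IsPGroup.of_card (n := k) (by rw [Nat.card_zpowers, hk])
  have h3 : zpowers (g ^ n) ≤ K := by
    rw [zpowers_le]
    exact pow_mem hg n
  obtain ⟨c, hc, hcg⟩ := exists_conj_le h3 (hT.to_le inf_le_right) h2 (not_dvd_inf hTN hTS hKN hNK)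
  have h4 := hcg _ (mem_zpowers _)
  have h5 := hTV _ h4.2 h4.1 a ha
  rw [hsame _ (pow_mem hg n) c hc a haA, hodd g hg a haA n hn] at h5
  exact h5

end sylow

/-! ### The point `X = R^y` -/

section tri

variable {G : Type u} [Group G] [Finite G] {S T : Sylow 2 G} {So V₁ V₂ L₁ L₂ : Subgroup G} {s v : G}
  (h : Tri S T So V₁ V₂ L₁ L₂ s v)

include h

theorem z_notMem : v * (s * v * s⁻¹) ∉ V₁ := by
  intro h5
  have h6 : s * v * s⁻¹ ∈ V₁ := (mul_mem_cancel_left h.vV).1 h5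
  exact h.w1 (h.inf _ h6 h.wV)

theorem fix_of_mem {x : G} (hx : x ∈ normalizer (So : Set G)) (hxV : x * v * x⁻¹ ∈ V₁) :
    x * v * x⁻¹ = v := by
  have h1 := (mem_normalizer_iff.1 (normalizer_le_normalizer_zc _ hx) v).1 h.v_zc
  rcases h.zcSo_cases h1 with h2 | h2 | h2 | h2
  · exfalso
    apply h.v1
    have h3 : v = x⁻¹ * (x * v * x⁻¹) * x := by group
    rw [h3, h2]; group
  · exact h2
  · exfalso
    rw [h2] at hxV
    exact h.w1 (h.inf _ hxV h.wV)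
  · exfalso
    rw [h2] at hxV
    exact z_notMem h hxV

theorem exists_X {H R : Subgroup G} (hRV : R ≤ V₁) (hvR : v ∈ R)
    (hSR : So ≤ normalizer (R : Set G)) (hTH : (T : Subgroup G) ≤ H) (hsH : s ∈ H)
    (hzH : centralizer ({v * (s * v * s⁻¹)} : Set G) ≤ H) :
    ∃ y ∈ H, y ∈ normalizer (So : Set G) ∧ y * v * y⁻¹ = v * (s * v * s⁻¹) ∧
      ∃ Q : Subgroup G, IsPGroup 2 Q ∧ So ≤ Q ∧ Q ≤ (S : Subgroup G) ∧
        Q ≤ H ⊓ normalizer (R.map (MulAut.conj y).toMonoidHom : Set G) ∧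
        ¬ 2 ∣ Q.relIndex (H ⊓ normalizer (R.map (MulAut.conj y).toMonoidHom : Set G)) := by
  have : Fact (Nat.Prime 2) := ⟨Nat.prime_two⟩
  obtain ⟨T₂, hSoT, hT₂N, hT₂p, hT₂s⟩ := Half.exists_sylow_le
    (H := H ⊓ normalizer (R : Set G)) (T.isPGroup'.to_le h.SoT) (le_inf (h.SoT.trans hTH) hSR)
  have hfix : ∀ x ∈ T₂, x ∈ normalizer (So : Set G) → x * v * x⁻¹ = v := fun x hx hxn =>
    fix_of_mem h hxn (hRV ((mem_normalizer_iff.1 (hT₂N hx).2 v).1 hvR))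
  have hT₂So : T₂ ≤ normalizer (So : Set G) := by
    by_contra hcon
    have hne : ¬ T₂ ≤ So := fun h1 => hcon (h1.trans le_normalizer)
    set N := T₂ ⊓ normalizer (So : Set G) with hN
    have hSoN : So ≤ N := le_inf hSoT le_normalizer
    have hNSo : ¬ N ≤ So := by
      intro h1
      have hlt : So.subgroupOf T₂ < ⊤ := by
        rw [lt_top_iff_ne_top, Ne, subgroupOf_eq_top]
        exact hne
      have hnc : NormalizerCondition T₂ := by
        have := hT₂p.isNilpotent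
        exact Group.normalizerCondition_of_isNilpotent
      obtain ⟨x, hx, hxB⟩ := SetLike.exists_of_lt (hnc _ hlt)
      apply hxB
      rw [mem_subgroupOf]
      apply h1
      refine ⟨x.2, mem_normalizer_iff.2 fun y => ⟨fun hy => ?_, fun hy => ?_⟩⟩
      · exact mem_subgroupOf.1 ((mem_normalizer_iff.1 hx ⟨y, hSoT hy⟩).1 (mem_subgroupOf.2 hy))
      · have h2 := mem_subgroupOf.1 ((mem_normalizer_iff.1 (inv_mem hx)
          ⟨x * y * (x : G)⁻¹, hSoT hy⟩).1 (mem_subgroupOf.2 hy))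
        have h3 : (x : G)⁻¹ * (x * y * (x : G)⁻¹) * (x : G)⁻¹⁻¹ = y := by group
        have h4 : (x : G)⁻¹ * (x * y * (x : G)⁻¹) * (x : G)⁻¹⁻¹ ∈ So := h2
        rwa [h3] at h4
    have h1 := Half.card_mul_relIndex hSoN
    have h2 : So.relIndex N ≠ 1 := fun h3 => hNSo (relIndex_eq_one.1 h3)
    have h3 : So.relIndex N ≠ 0 := index_ne_zero_of_finite
    have h4 : 2 * Nat.card So ≤ Nat.card N := by
      rw [← h1, mul_comm]
      exact Nat.mul_le_mul_left _ (by omega)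
    have h5 := Half.card_le_sylow S hT₂p
    rw [h.card] at h5
    have h6 : N = T₂ := Subgroup.eq_of_le_of_card_ge inf_le_left (h5.trans h4)
    exact hcon (inf_eq_left.1 h6)
  obtain ⟨t, ht, htS⟩ := h.exists_t
  have hts : (t * s) * v * (t * s)⁻¹ = v * (s * v * s⁻¹) := by
    rw [← h.t_w ht htS]; group
  have htsN : t * s ∈ normalizer (So : Set G) := by
    refine mul_mem ?_ ?_
    · exact Cfsg.Agent.Omega.IId.Two.le_normalizer_of
        (fun k hk y hy => conj_mem_of_two h.SoT h.twoT hk hy) ht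
    · exact Cfsg.Agent.Omega.IId.Two.le_normalizer_of
        (fun k hk y hy => conj_mem_of_two h.SoS h.two hk hy) h.sS
  set D := normalizer (So : Set G) ⊓ centralizer ({v * (s * v * s⁻¹)} : Set G) with hD
  have hSD : (S : Subgroup G) ≤ D := le_inf
    (Cfsg.Agent.Omega.IId.Two.le_normalizer_of fun k hk y hy => conj_mem_of_two h.SoS h.two hk hy)
    (fun x hx => mem_cent.2 ((mem_zc.1 h.zS).2.1 x hx))
  have hT₃ : T₂.map (MulAut.conj (t * s)).toMonoidHom ≤ D := by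
    rintro _ ⟨x, hx, rfl⟩
    refine mem_inf.2 ⟨mul_mem (mul_mem htsN (hT₂So hx)) (inv_mem htsN), mem_cent.2 ?_⟩
    have h1 := hfix x hx (hT₂So hx)
    have h2 : x * v = v * x := mul_inv_eq_iff_eq_mul.1 h1
    rw [← hts]
    change (t * s) * x * (t * s)⁻¹ * ((t * s) * v * (t * s)⁻¹) =
      (t * s) * v * (t * s)⁻¹ * ((t * s) * x * (t * s)⁻¹)
    calc (t * s) * x * (t * s)⁻¹ * ((t * s) * v * (t * s)⁻¹) = (t * s) * (x * v) * (t * s)⁻¹ := by
          group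
      _ = (t * s) * v * (t * s)⁻¹ * ((t * s) * x * (t * s)⁻¹) := by rw [h2]; group
  have hSs : ¬ 2 ∣ (S : Subgroup G).relIndex D := fun h1 =>
    S.not_dvd_index (h1.trans (relIndex_dvd_index_of_le hSD))
  obtain ⟨c, hc, hcS⟩ := exists_conj_le hT₃ S.isPGroup' (hT₂p.map _) hSs
  have hcz : c * (v * (s * v * s⁻¹)) = v * (s * v * s⁻¹) * c := mem_cent.1 hc.2
  have htH : t ∈ H := hTH ht
  have hyH : c * (t * s) ∈ H := mul_mem (hzH hc.2) (mul_mem htH hsH)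
  have hyN : c * (t * s) ∈ normalizer (So : Set G) := mul_mem hc.1 htsN
  set y := c * (t * s) with hy
  have hmap : (H ⊓ normalizer (R : Set G)).map (MulAut.conj y).toMonoidHom =
      H ⊓ normalizer (R.map (MulAut.conj y).toMonoidHom : Set G) := by
    have key : ∀ (y : G), y ∈ H → ∀ R : Subgroup G,
        (H ⊓ normalizer (R : Set G)).map (MulAut.conj y).toMonoidHom ≤
          H ⊓ normalizer (R.map (MulAut.conj y).toMonoidHom : Set G) := by
      rintro y hy R _ ⟨n, hn, rfl⟩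
      refine mem_inf.2 ⟨mul_mem (mul_mem hy (mem_inf.1 hn).1) (inv_mem hy),
        mem_normalizer_iff.2 fun a => ?_⟩
      have h1 : ∀ b, b ∈ R.map (MulAut.conj y).toMonoidHom ↔ y⁻¹ * b * y ∈ R := by
        intro b
        constructor
        · rintro ⟨x, hx, rfl⟩
          have h2 : y⁻¹ * (y * x * y⁻¹) * y = x := by group
          change y⁻¹ * (y * x * y⁻¹) * y ∈ R
          rw [h2]; exact hx
        · intro hb
          refine ⟨_, hb, ?_⟩
          change y * (y⁻¹ * b * y) * y⁻¹ = b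
          group
      rw [h1, h1, mem_normalizer_iff.1 hn.2 (y⁻¹ * a * y)]
      have h2 : n * (y⁻¹ * a * y) * n⁻¹ = y⁻¹ * ((MulAut.conj y).toMonoidHom n * a *
          ((MulAut.conj y).toMonoidHom n)⁻¹) * y := by
        change n * (y⁻¹ * a * y) * n⁻¹ = y⁻¹ * (y * n * y⁻¹ * a * (y * n * y⁻¹)⁻¹) * y
        group
      rw [h2]
    apply le_antisymm (key y hyH R)
    intro x hx
    have h1 := key y⁻¹ (inv_mem hyH) (R.map (MulAut.conj y).toMonoidHom) (mem_map_of_mem _ hx)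
    have h2 : (R.map (MulAut.conj y).toMonoidHom).map (MulAut.conj y⁻¹).toMonoidHom = R := by
      rw [Subgroup.map_map]
      convert Subgroup.map_id R
      ext a
      change y⁻¹ * (y * a * y⁻¹) * y⁻¹⁻¹ = a
      group
    rw [h2] at h1
    refine ⟨_, h1, ?_⟩
    change y * (y⁻¹ * x * y⁻¹⁻¹) * y⁻¹ = x
    group
  refine ⟨y, hyH, hyN, ?_, T₂.map (MulAut.conj y).toMonoidHom, hT₂p.map _, ?_, ?_, ?_, ?_⟩
  · calc y * v * y⁻¹ = c * ((t * s) * v * (t * s)⁻¹) * c⁻¹ := by rw [hy]; group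
      _ = v * (s * v * s⁻¹) := by rw [hts, hcz]; group
  · intro x hx
    refine ⟨y⁻¹ * x * y, hSoT ?_, ?_⟩
    · have h1 := (mem_normalizer_iff.1 (inv_mem hyN) x).1 hx
      rwa [inv_inv] at h1
    · change y * (y⁻¹ * x * y) * y⁻¹ = x
      group
  · rintro _ ⟨x, hx, rfl⟩
    have h1 := hcS _ (mem_map_of_mem _ hx)
    have h2 : c * ((MulAut.conj (t * s)).toMonoidHom x) * c⁻¹ = y * x * y⁻¹ := by
      change c * (t * s * x * (t * s)⁻¹) * c⁻¹ = y * x * y⁻¹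
      rw [hy]; group
    rw [h2] at h1
    exact h1
  · rw [← hmap]
    exact Subgroup.map_mono hT₂N
  · rw [← hmap, relIndex_map_map_of_injective _ _ (MulAut.conj y).injective]
    exact hT₂s

end tri

/-! ### The theorem -/

section main

variable {G : Type u} [Group G] [Finite G] {S T : Sylow 2 G} {So V₁ V₂ L₁ L₂ : Subgroup G} {s v : G}

/-- **(2+) of #14625**: `⟨P, C_G(v)⟩` is nonlocal if some group `E` acts on `V₁` as a full root group with
centre `R`, `v ∈ R < V₁`. -/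
theorem nonLocR (h : Tri S T So V₁ V₂ L₁ L₂ s v) (hG : IsCharacteristicTwoType G)
    {P : Subgroup G} (hP : IsParS (T : Subgroup G) P) (hPY : P ≤ normalizer (zc So : Set G))
    {R : Subgroup G} (hRV : R ≤ V₁) (hRne : R ≠ V₁) (hvR : v ∈ R)
    (hSR : So ≤ normalizer (R : Set G))
    {F : Type} [Field F] [Finite F] {f : F → G} (hfi : Function.Injective f)
    (hf : ∀ a b, f (a + b) = f a * f b) (hfR : ∀ x, x ∈ R ↔ ∃ a, f a = x)
    {v' : G} (hv'R : v' ∈ R) (hv'1 : v' ≠ 1) {E : Set G}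
    (hEV : ∀ e ∈ E, ∀ x ∈ V₂, e * x = x * e) (hER : ∀ e ∈ E, ∀ x ∈ R, e * x = x * e)
    (hEc : ∀ e ∈ E, ∀ x ∈ ZN.o2 (centralizer ({v'} : Set G)), (∀ y ∈ R, x * y = y * x) →
      e * x * e⁻¹ * x⁻¹ ∈ R)
    (hEl : ∀ (l : F), ∀ e ∈ E, ∃ e' ∈ E, ∀ x ∈ ZN.o2 (centralizer ({v'} : Set G)),
      (∀ y ∈ R, x * y = y * x) → ∀ a, e * x * e⁻¹ * x⁻¹ = f a → e' * x * e'⁻¹ * x⁻¹ = f (l * a))
    (hEne : ∃ a ∈ V₁, ∃ e ∈ E, e * a ≠ a * e) : NonLoc P (CZ (T : Subgroup G)) := by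
  intro U hU hPU hCU
  by_contra hU1
  set H := normalizer (U : Set G) with hH
  have hCZ : CZ (T : Subgroup G) = centralizer ({v} : Set G) := by
    ext x
    rw [h.mem_CZ, mem_cent]
  have hloc : IsLoc (T : Subgroup G) H := isLoc_normalizer T hU hU1 (hP.isLoc.le.trans hPU)
  have hvA : v ∈ zc (ZN.o2 H) := by
    have h1 : ∀ y ∈ ZN.o2 H, y * v = v * y := fun y hy => h.Tv y (hloc.o2_le T hy)
    refine mem_zc.2 ⟨?_, h1, h.q1 v h.vV⟩
    apply hloc.char2 T hG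
    exact ⟨hloc.le (h.SoT (h.V1So h.vV)), mem_centralizer_iff.2 h1⟩
  have hHA : H ≤ normalizer (zc (ZN.o2 H) : Set G) :=
    (le_normalizer_o2 H).trans (normalizer_le_normalizer_zc _)
  have hA : ∀ {k a : G}, k ∈ H → a ∈ zc (ZN.o2 H) → k * a * k⁻¹ ∈ zc (ZN.o2 H) :=
    fun hk ha => (mem_normalizer_iff.1 (hHA hk) _).1 ha
  have hcent : ∀ k ∈ H, ∀ x, x * (k * v * k⁻¹) = k * v * k⁻¹ * x → x ∈ H := by
    intro k hk x hx
    have h1 : k⁻¹ * x * k ∈ H := by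
      apply hCU
      apply h.mem_CZ.2
      calc k⁻¹ * x * k * v = k⁻¹ * (x * (k * v * k⁻¹)) * k := by group
        _ = v * (k⁻¹ * x * k) := by rw [hx]; group
    have h2 : x = k * (k⁻¹ * x * k) * k⁻¹ := by group
    rw [h2]
    exact mul_mem (mul_mem hk h1) (inv_mem hk)
  obtain ⟨p, hp, hpv⟩ := h.exists_p hP hPY
  have hpH : p ∈ H := hPU hp
  have hL1 : L₁ ≤ H := by
    intro l hl
    apply hcent p hpH
    rw [hpv]
    exact h.L12 l hl _ h.wV
  have hV1 : V₁ ≤ zc (ZN.o2 H) := by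
    intro x hx
    by_cases hx1 : x = 1
    · rw [hx1]; exact one_mem _
    obtain ⟨l, hl, rfl⟩ := h.t1 v h.vV h.v1 x hx hx1
    exact hA (hL1 hl) hvA
  obtain ⟨t, ht, htS⟩ := h.exists_t
  have htH : t ∈ H := hloc.le ht
  have htpv : t * p * v * (t * p)⁻¹ = v * (s * v * s⁻¹) := by
    rw [← h.t_w ht htS, ← hpv]; group
  have hzH : centralizer ({v * (s * v * s⁻¹)} : Set G) ≤ H := by
    intro x hx
    apply hcent (t * p) (mul_mem htH hpH)
    rw [htpv]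
    exact mem_cent.1 hx
  have hsH : s ∈ H := hzH (mem_cent.2 ((mem_zc.1 h.zS).2.1 s h.sS))
  -- `A ≤ O₂(C_G(u))` for the `H`-conjugates `u` of `v`
  have hAu : ∀ k ∈ H, zc (ZN.o2 H) ≤ ZN.o2 (centralizer ({k * v * k⁻¹} : Set G)) := by
    intro k hk
    refine (zc_le _).trans (le_o2 ?_ (o2_isPGroup _) ?_)
    · intro x hx
      exact mem_cent.2 ((mem_zc.1 (hA hk hvA)).2.1 x hx)
    · intro x hx
      exact le_normalizer_o2 _ (hcent k hk x (mem_cent.1 hx))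
  obtain ⟨k', hk', hkv'⟩ := h.t1 v h.vV h.v1 v' (hRV hv'R) hv'1
  have hAv' : ∀ x ∈ zc (ZN.o2 H), x ∈ ZN.o2 (centralizer ({v'} : Set G)) ∧ ∀ y ∈ R, x * y = y * x := by
    intro x hx
    refine ⟨?_, fun y hy => zc_comm _ x hx y (hV1 (hRV hy))⟩
    rw [← hkv']
    exact hAu k' (hL1 hk') hx
  set A := zc (ZN.o2 H) with hAdef
  have hAc : ∀ a ∈ A, ∀ b ∈ A, a * b = b * a := zc_comm _
  have hA2 : ∀ a ∈ A, a * a = 1 := fun a ha => by rw [← pow_two]; exact zc_sq _ a ha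
  have hRA : R ≤ A := hRV.trans hV1
  -- the point `X = R^y`
  obtain ⟨y, hyH, hyN, hyv, Q, hQp, hSoQ, hQS, hQN, hQs⟩ :=
    exists_X h hRV hvR hSR (hP.isLoc.le.trans hPU) hsH hzH
  set X := R.map (MulAut.conj y).toMonoidHom with hX
  have hXA : X ≤ A := by
    rintro _ ⟨x, hx, rfl⟩
    exact hA hyH (hRA hx)
  have hSon : ∀ g ∈ So, y⁻¹ * g * y ∈ So := fun g hg => by
    have h1 := (mem_normalizer_iff.1 (inv_mem hyN) g).1 hg
    rwa [inv_inv] at h1
  -- `X ∩ V₁ = 1`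
  have hXV : ∀ x ∈ X, x ∈ V₁ → x = 1 := by
    by_contra hcon
    push Not at hcon
    obtain ⟨x, hxX, hxV, hx1⟩ := hcon
    have hn : So ≤ normalizer ((V₁ ⊓ X : Subgroup G) : Set G) := by
      apply Cfsg.Agent.Omega.IId.Two.le_normalizer_of
      intro g hg a ha
      exact ⟨h.So1 g hg a ha.1, (mem_normalizer_iff.1 (hQN (hSoQ hg)).2 a).1 ha.2⟩
    obtain ⟨u, hu, hu1, huf⟩ := Half.exists_fixed (V := V₁ ⊓ X)
      ((T.isPGroup'.to_le (h.V1So.trans h.SoT)).to_le inf_le_left)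
      (fun h0 => hx1 ((eq_bot_iff_forall _).1 h0 x ⟨hxV, hxX⟩)) (T.isPGroup'.to_le h.SoT) hn
    have key : ∀ a ∈ V₁, (∀ g ∈ So, g * a * g⁻¹ = a) → a = 1 ∨ a = v := by
      intro a ha haf
      have h1 : a ∈ zc So := mem_zc.2 ⟨h.V1So ha, fun g hg => mul_inv_eq_iff_eq_mul.1 (haf g hg),
        h.q1 a ha⟩
      rcases h.zcSo_cases h1 with h2 | h2 | h2 | h2
      · exact Or.inl h2
      · exact Or.inr h2
      · exfalso
        rw [h2] at ha
        exact h.w1 (h.inf _ ha h.wV)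
      · exfalso
        rw [h2] at ha
        exact z_notMem h ha
    obtain ⟨r, hr, hru⟩ := hu.2
    have hru' : y * r * y⁻¹ = u := hru
    have h1 : r = 1 ∨ r = v := by
      apply key r (hRV hr)
      intro g hg
      have h2 : y * g * y⁻¹ ∈ So := (mem_normalizer_iff.1 hyN g).1 hg
      have h3 := huf _ h2
      rw [← hru'] at h3
      calc g * r * g⁻¹ = y⁻¹ * (y * g * y⁻¹ * (y * r * y⁻¹) * (y * g * y⁻¹)⁻¹) * y := by group
        _ = r := by rw [h3]; group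
    rcases h1 with h1 | h1
    · apply hu1
      rw [← hru', h1]; group
    · rcases key u hu.1 huf with h2 | h2
      · exact hu1 h2
      · rw [h1, hyv] at hru'
        rw [h2] at hru'
        exact h.w1 (mul_eq_left.1 hru')
  -- `K_X` centralises `V₁`
  have hKX : ∀ g ∈ KX H A X, ∀ a ∈ V₁, g * a * g⁻¹ = a := by
    refine KX_cent hAc hA2 (fun k hk a ha => hA hk ha) hXA hQp hQN hQs hV1 ?_
    intro g hgQ hg a ha
    by_cases hgS : g ∈ So
    · have h1 := hg.2.1 a (hV1 ha)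
      have h2 := hXV _ h1 (mul_mem (h.So1 g hgS a ha) (inv_mem ha))
      exact mul_inv_eq_one.1 h2
    · exfalso
      -- `a ↦ [g, a]` is an injective map `V₁ → X`
      have h1 : Nat.card V₁ ≤ Nat.card X := by
        refine Nat.card_le_card_of_injective
          (fun a : V₁ => (⟨g * a * g⁻¹ * (a : G)⁻¹, hg.2.1 a (hV1 a.2)⟩ : X)) ?_
        intro a b hab
        have h2 : g * a * g⁻¹ * (a : G)⁻¹ = g * b * g⁻¹ * (b : G)⁻¹ := congrArg Subtype.val hab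
        have hga : g * a * g⁻¹ ∈ A := hA hg.1 (hV1 a.2)
        have hgb : g * b * g⁻¹ ∈ A := hA hg.1 (hV1 b.2)
        have h3 : g * ((a : G) * (b : G)⁻¹) * g⁻¹ = (a : G) * (b : G)⁻¹ := by
          have e1 : (g * b * g⁻¹) * (b : G)⁻¹ = (b : G)⁻¹ * (g * b * g⁻¹) :=
            hAc _ hgb _ (inv_mem (hV1 b.2))
          have e2 : (b : G)⁻¹ * (a : G) = (a : G) * (b : G)⁻¹ :=
            hAc _ (inv_mem (hV1 b.2)) _ (hV1 a.2)
          have e3 : g * b * g⁻¹ * ((a : G) * (b : G)⁻¹) = (a : G) * (b : G)⁻¹ * (g * b * g⁻¹) :=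
            hAc _ hgb _ (mul_mem (hV1 a.2) (inv_mem (hV1 b.2)))
          calc g * ((a : G) * (b : G)⁻¹) * g⁻¹
              = (g * a * g⁻¹ * (a : G)⁻¹) * a * (g * b * g⁻¹)⁻¹ := by group
            _ = g * b * g⁻¹ * ((b : G)⁻¹ * a) * (g * b * g⁻¹)⁻¹ := by rw [h2]; group
            _ = (a : G) * (b : G)⁻¹ * (g * b * g⁻¹) * (g * b * g⁻¹)⁻¹ := by rw [e2, e3]
            _ = (a : G) * (b : G)⁻¹ := by group
        have h4 : (a : G) * (b : G)⁻¹ ∈ V₂ := by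
          rw [← h3]
          exact h.sw1 g (hQS hgQ) hgS _ (mul_mem a.2 (inv_mem b.2))
        have h5 := h.inf _ (mul_mem a.2 (inv_mem b.2)) h4
        exact Subtype.ext (mul_inv_eq_one.1 h5)
      have h2 : Nat.card X = Nat.card R :=
        Nat.card_congr (R.equivMapOfInjective _ (MulAut.conj y).injective).symm.toEquiv
      rw [h2] at h1
      exact hRne (Subgroup.eq_of_le_of_card_ge hRV h1)
  -- the elements `e`, `a₀`, `m = h₀ y`
  obtain ⟨a₀, ha₀, e, he, hea⟩ := hEne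
  have ha₀1 : a₀ ≠ 1 := by
    rintro rfl
    exact hea (by simp)
  obtain ⟨h₀, hh₀, hh₀v⟩ := h.t1 v h.vV h.v1 a₀ ha₀ ha₀1
  have hEH : ∀ e ∈ E, e ∈ H := fun e he => hCU (h.mem_CZ.2 (hER e he v hvR))
  have hfR' : ∀ a, f a ∈ R := fun a => (hfR _).2 ⟨a, rfl⟩
  have hf0 : f 0 = 1 := map_zero_of hf
  have hf1 : ∀ {a}, f a = 1 → a = 0 := fun {a} ha => hfi (ha.trans hf0.symm)
  -- the functional of `e`
  have hex : ∀ u : A, ∃ a, f a = e * u * e⁻¹ * (u : G)⁻¹ := fun u =>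
    (hfR _).1 (hEc e he u (hAv' u u.2).1 (hAv' u u.2).2)
  choose ε hε using hex
  have hε' : ∀ u : A, e * u * e⁻¹ = u * f (ε u) := fun u => by
    have h1 := hAc _ (hRA (hfR' (ε u))) u u.2
    rw [← h1, hε]; group
  have hεK : ε ∈ Ks H A R f hf hfR' hRA := by
    refine ⟨fun u u' => ?_, fun u hu => ?_, fun l => ?_⟩
    · apply hfi
      have h1 : ((u * u' : A) : G) * f (ε (u * u')) = ((u * u' : A) : G) * f (ε u + ε u') := by
        rw [← hε' (u * u'), hf]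
        have h2 := hAc _ (hRA (hfR' (ε u))) u' u'.2
        calc e * ((u : G) * u') * e⁻¹ = (e * u * e⁻¹) * (e * u' * e⁻¹) := by group
          _ = u * (f (ε u) * u') * f (ε u') := by rw [hε', hε']; group
          _ = (u : G) * u' * (f (ε u) * f (ε u')) := by rw [h2]; group
      exact mul_left_cancel h1
    · apply hf1
      rw [hε, hER e he u hu]; group
    · obtain ⟨e', he', hee⟩ := hEl l e he
      refine ⟨e', hEH e' he', fun u => ?_⟩
      have h1 := hee u (hAv' u u.2).1 (hAv' u u.2).2 (ε u) (hε u).symm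
      have h2 := hAc _ (hRA (hfR' (l * ε u))) u u.2
      rw [← h2, ← h1]; group
  -- the elements of `Ks` vanish on `m⁻¹ V₁ m`
  have hmH : h₀ * y ∈ H := mul_mem (hL1 hh₀) hyH
  refine Ks.false_of hf hfR' hRV hV1 (fun g hg u hu => hA hg hu) hAc hmH ?_ hεK
    ⟨⟨a₀, hV1 ha₀⟩, ha₀, fun h0 => ?_⟩ ?_
  · intro κ hκ u hu
    obtain ⟨g, hg, hgu⟩ := hκ.2.2 1
    have hg1 : y * g * y⁻¹ ∈ KX H A X := by
      refine ⟨mul_mem (mul_mem hyH hg) (inv_mem hyH), fun b hb => ?_, ?_⟩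
      · have hb' : y⁻¹ * b * y ∈ A := by
          have h1 := hA (inv_mem hyH) hb
          rwa [inv_inv] at h1
        have h1 : g * (y⁻¹ * b * y) * g⁻¹ = y⁻¹ * b * y * f (1 * κ ⟨_, hb'⟩) := hgu ⟨_, hb'⟩
        have h2 := hAc _ (hRA (hfR' (1 * κ ⟨_, hb'⟩))) _ hb'
        refine ⟨f (1 * κ ⟨_, hb'⟩), hfR' _, ?_⟩
        change y * f (1 * κ ⟨_, hb'⟩) * y⁻¹ = y * g * y⁻¹ * b * (y * g * y⁻¹)⁻¹ * b⁻¹
        calc y * f (1 * κ ⟨_, hb'⟩) * y⁻¹
            = y * (f (1 * κ ⟨_, hb'⟩) * (y⁻¹ * b * y)) * y⁻¹ * b⁻¹ := by group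
          _ = y * (g * (y⁻¹ * b * y) * g⁻¹) * y⁻¹ * b⁻¹ := by rw [h2, h1]
          _ = y * g * y⁻¹ * b * (y * g * y⁻¹)⁻¹ * b⁻¹ := by group
      · rintro _ ⟨r, hr, rfl⟩
        have h1 : g * r * g⁻¹ = r * f (1 * κ ⟨r, hRA hr⟩) := hgu ⟨r, hRA hr⟩
        rw [hκ.2.1 ⟨r, hRA hr⟩ hr, mul_zero, hf0, mul_one] at h1
        change y * g * y⁻¹ * (y * r * y⁻¹) * (y * g * y⁻¹)⁻¹ = y * r * y⁻¹
        calc y * g * y⁻¹ * (y * r * y⁻¹) * (y * g * y⁻¹)⁻¹ = y * (g * r * g⁻¹) * y⁻¹ := by group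
          _ = y * r * y⁻¹ := by rw [h1]
    have hyu : y * u * y⁻¹ ∈ V₁ := by
      have h1 := h.L1 h₀⁻¹ (inv_mem hh₀) _ hu
      have h2 : h₀⁻¹ * (h₀ * y * (u : G) * (h₀ * y)⁻¹) * h₀⁻¹⁻¹ = y * u * y⁻¹ := by group
      rwa [h2] at h1
    have h1 := hKX _ hg1 _ hyu
    have h2 : (u : G) * f (1 * κ u) = u := by
      rw [← hgu u]
      calc g * u * g⁻¹ = y⁻¹ * (y * g * y⁻¹ * (y * u * y⁻¹) * (y * g * y⁻¹)⁻¹) * y := by group
        _ = u := by rw [h1]; group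
    have h3 := hf1 (mul_eq_left.1 h2)
    rwa [one_mul] at h3
  · apply hea
    have h1 := hε' ⟨a₀, hV1 ha₀⟩
    rw [h0, hf0, mul_one] at h1
    exact mul_inv_eq_iff_eq_mul.1 h1
  · obtain ⟨a, ha⟩ := (hfR v).1 hvR
    have h1 : h₀ * y * f a * (h₀ * y)⁻¹ = a₀ * (s * v * s⁻¹) := by
      have h2 := h.L12 h₀ hh₀ _ h.wV
      calc h₀ * y * f a * (h₀ * y)⁻¹ = h₀ * (y * v * y⁻¹) * h₀⁻¹ := by rw [ha]; group
        _ = (h₀ * v * h₀⁻¹) * (h₀ * (s * v * s⁻¹)) * h₀⁻¹ := by rw [hyv]; group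
        _ = a₀ * (s * v * s⁻¹) := by rw [h2, hh₀v]; group
    have h2 : h₀ * y * f a * (h₀ * y)⁻¹ ∈ A := hA hmH (hRA (hfR' a))
    refine ⟨a, ⟨_, h2⟩, rfl, fun h0 => ?_⟩
    apply hea
    have h3 := hε' ⟨_, h2⟩
    rw [h0, hf0, mul_one] at h3
    have h4 : e * (h₀ * y * f a * (h₀ * y)⁻¹) = (h₀ * y * f a * (h₀ * y)⁻¹) * e :=
      mul_inv_eq_iff_eq_mul.1 h3
    rw [h1] at h4
    have h5 := hEV e he _ h.wV
    apply mul_right_cancel (b := s * v * s⁻¹)
    calc e * a₀ * (s * v * s⁻¹) = e * (a₀ * (s * v * s⁻¹)) := by group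
      _ = a₀ * ((s * v * s⁻¹) * e) := by rw [h4]; group
      _ = a₀ * e * (s * v * s⁻¹) := by rw [← h5]; group

end main

/-! ### The conclusion through the leaf NO-3S -/

section leaf

/-- The root group `E` of the partner: `v ∈ R < V₁`, `R` a line over `F`, `v' ∈ R#`, `E` centralises `V₂` and `R`
and induces on `V₁` a full root group with centre `R`. -/
structure RootE {G : Type u} [Group G] (So V₁ V₂ R : Subgroup G) (v v' : G) (F : Type) [Field F] (f : F → G)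
    (E : Set G) : Prop where
  RV : R ≤ V₁
  ne : R ≠ V₁
  vR : v ∈ R
  SR : So ≤ normalizer (R : Set G)
  fi : Function.Injective f
  fa : ∀ a b, f (a + b) = f a * f b
  fR : ∀ x, x ∈ R ↔ ∃ a, f a = x
  vR' : v' ∈ R
  v1' : v' ≠ 1
  EV : ∀ e ∈ E, ∀ x ∈ V₂, e * x = x * e
  ER : ∀ e ∈ E, ∀ x ∈ R, e * x = x * e
  Ec : ∀ e ∈ E, ∀ x ∈ ZN.o2 (centralizer ({v'} : Set G)), (∀ y ∈ R, x * y = y * x) →
    e * x * e⁻¹ * x⁻¹ ∈ R
  El : ∀ (l : F), ∀ e ∈ E, ∃ e' ∈ E, ∀ x ∈ ZN.o2 (centralizer ({v'} : Set G)),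
    (∀ y ∈ R, x * y = y * x) → ∀ a, e * x * e⁻¹ * x⁻¹ = f a → e' * x * e'⁻¹ * x⁻¹ = f (l * a)
  Ene : ∃ a ∈ V₁, ∃ e ∈ E, e * a ≠ a * e

variable {G : Type u} [Group G] [Finite G] {S T : Sylow 2 G} {So V₁ V₂ L₁ L₂ : Subgroup G} {s v : G}

/-- **The triangle leads to NO-3S with `|V_P| = 4`**, (2+) of #14625. -/
theorem exists_hypR (h : Tri S T So V₁ V₂ L₁ L₂ s v) (hG : Ctx G) (hF : Full (S : Subgroup G))
    {R : Subgroup G} {v' : G} {F : Type} [Field F] [Finite F] {f : F → G} {E : Set G}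
    (hE : RootE So V₁ V₂ R v v' F f E) :
    ∃ P : Subgroup G, Hyp T P ∧ Nat.card (zl (T : Subgroup G) P) = 4 ∧
      P ≤ normalizer (zc So : Set G) := by
  obtain ⟨P, hP, hPY⟩ := h.exists_P hG.char2
  have hc : Nat.card (zl (T : Subgroup G) P) = 4 := by
    rw [h.zl_eq hP hPY, h.card_zcSo]
  exact ⟨P, Hyp.of_four hG hP (nonLocR h hG.char2 hP hPY hE.RV hE.ne hE.vR hE.SR hE.fi hE.fa hE.fR
    hE.vR' hE.v1' hE.EV hE.ER hE.Ec hE.El hE.Ene) hc (full_conj hF) (h.WW_comm hG.char2 hP hPY), hc,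
    hPY⟩

/-- **The triangle**, any natural partner, conclusion through the leaf NO-3S ((2+) of #14625). -/
theorem knownR {K : Cls.{u}} (hK : Cfsg.Agent.Omega.NO3S.Two K) (hKG : K G)
    (h : Tri S T So V₁ V₂ L₁ L₂ s v) (hG : Ctx G) (hF : Full (S : Subgroup G))
    {R : Subgroup G} {v' : G} {F : Type} [Field F] [Finite F] {f : F → G} {E : Set G}
    (hE : RootE So V₁ V₂ R v v' F f E) : IsKnownSimple' G := by
  obtain ⟨P, hP, hc, -⟩ := exists_hypR h hG hF hE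
  exact hK G hKG T P hP hc

end leaf

end Cfsg.Agent.Omega.IId.TwoPlus
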