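import Cfsg.Agent.Omega.IId.Match
import Cfsg.Agent.Omega.Half.AppSym

/-!
# Mixed mutual pairs: natural modules against even-subset modules (#12388 (R1) of helper358)

`M : NatK F S P V ⊥ k`, `M' : SymK S' P' V' ⊥ k' m'`; `V'` induces on `V` the full root group of `SL₂(F)^I`.

* `Mix.card_two` : `|F| = 2`;
* `Mix.exists_pair` : for `i ∈ I` every element of `fac M i` which does not centralise `V'` acts on `V'` as a
  transposition of two points of one summand, and the nontrivial element of `line M i` has this pair as its support;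
* `mixed_small` : `k = 2`, `k' = 1`, `m' = 2`: `|[V, V']| = q` (HALF LEMMA, APPLICATIONS 1 and 2).
-/

set_option autoImplicit false

namespace Cfsg.Agent.Omega.IId

open Subgroup Pointwise Cfsg Cfsg.Agent.ZN Cfsg.Agent.ZN.ChoiceBase
open Cfsg.Agent.Omega.MinPar Cfsg.Agent.Omega.Frame Cfsg.Agent.Omega.FFThm Cfsg.Agent.Omega.FrameMulti
open Cfsg.Agent.Omega.Half (Amb amb_of_loc)
open Cfsg.Agent.Omega.Half.SymA
open Cfsg.Agent.Lib.SL2Mat
open scoped commutatorElement Classical

universe u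

/-! ### One side -/

section nat

variable {G : Type u} [Group G] {F : Type} [Field F] {S P : Subgroup G} {k : ℕ}
  {M : NatK F S P (zl S P) ⊥ k} {A : Subgroup G} {I : Set (Fin k)}

/-- `line M i ⊆ {[v, a] | a ∈ A}` if the coordinate `i` of `v ∈ V` is not on the line. -/
theorem Ind.line_sub (h : Ind M A I) (hA : A ≤ P) {i : Fin k} (hi : i ∈ I) {v : G} (hv : v ∈ zl S P)
    (hv1 : M.e v i 1 ≠ 0) {w : G} (hw : w ∈ line M i) : ∃ a ∈ A, ⁅v, a⁆ = w := by
  rw [mem_line] at hw
  obtain ⟨a, ha, hact⟩ := h.ex (fun j => if j = i then -(M.e w i 0 / M.e v i 1) else 0) fun j hj => by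
    rw [if_neg]
    rintro rfl
    exact hj hi
  refine ⟨a, ha, ?_⟩
  refine e_inj M (e_comm hv (hA ha) hact i).1 hw.1.1 (funext fun j => ?_)
  obtain ⟨-, h2, h3⟩ := e_comm hv (hA ha) hact j
  by_cases hj : j = i
  · subst hj
    apply NatPair.ext2
    · rw [h2, if_pos rfl]
      field_simp
    · rw [h3, hw.2]
  · apply NatPair.ext2
    · rw [h2, if_neg hj, hw.1.2 j hj]
      simp
    · rw [h3, hw.1.2 j hj]
      rfl

/-- If all coordinates in `I` of `v ∈ V` are on the lines, then `v` centralises `A`. -/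
theorem Ind.exists_coord (h : Ind M A I) (hA : A ≤ P) {v a : G} (hv : v ∈ zl S P) (ha : a ∈ A)
    (hne : ⁅v, a⁆ ≠ 1) : ∃ i ∈ I, M.e v i 1 ≠ 0 := by
  by_contra hcon
  push Not at hcon
  apply hne
  obtain ⟨b, hb, hact⟩ := h.act a ha
  by_cases hk : k = 0
  · subst hk
    have e : ⁅v, a⁆ = v * (a * v⁻¹ * a⁻¹) := by rw [commutatorElement_def]; group
    have h1 : ⁅v, a⁆ ∈ zl S P := by
      rw [e]
      exact mul_mem hv (cj_mem (hA ha) (inv_mem hv))
    exact e_inj M h1 (one_mem _) (funext fun i => i.elim0)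
  refine e_inj M (e_comm hv (hA ha) hact ⟨0, Nat.pos_of_ne_zero hk⟩).1 (one_mem _) (funext fun i => ?_)
  obtain ⟨-, h2, h3⟩ := e_comm hv (hA ha) hact i
  rw [e_one]
  apply NatPair.ext2
  · rw [h2]
    by_cases hi : i ∈ I
    · rw [hcon i hi]
      simp
    · rw [hb i hi]
      simp
  · rw [h3]
    rfl

end nat

section sym

variable {G : Type u} [Group G] {T H V : Subgroup G} {k m : ℕ} {M : SymK T H V ⊥ k m} (hA : Amb T H V)

include hA

/-- the coordinates of `[v, a]` -/
theorem E_comm {v a : G} {π : Equiv.Perm (Pt k m)} (hv : v ∈ H) (hπ : Mv M v π) (ha : a ∈ V) (p : Pt k m) :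
    E M ⁅v, a⁆ (π p) = E M a p + E M a (π p) := by
  rw [commutatorElement_def, E_mul M (hA.conj_mem hv ha) (inv_mem ha), E_inv M ha, hπ a ha]

theorem comm_mem {v a : G} (hv : v ∈ H) (ha : a ∈ V) : ⁅v, a⁆ ∈ V := by
  rw [commutatorElement_def]
  exact mul_mem (hA.conj_mem hv ha) (inv_mem ha)

/-- a transposition: `[b, a] = 1` or the pair -/
theorem comm_swap {b a : G} {p q : Pt k m} (hb : b ∈ H) (hπ : Mv M b (Equiv.swap p q)) (ha : a ∈ V) :
    ⁅b, a⁆ = 1 ∨ ∀ r, E M ⁅b, a⁆ r = (if r = p then 1 else 0) + (if r = q then 1 else 0) := by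
  have h1 : ∀ r, E M ⁅b, a⁆ r = E M a (Equiv.swap p q r) + E M a r := by
    intro r
    have := E_comm hA hb hπ ha (Equiv.swap p q r)
    rwa [Equiv.swap_apply_self] at this
  by_cases hpq : p = q
  · left
    apply eq_one M (comm_mem hA hb ha)
    intro r
    rw [h1, hpq, Equiv.swap_self]
    exact CharTwo.add_self_eq_zero _
  rcases zmod2 (E M a p + E M a q) with h2 | h2
  · left
    apply eq_one M (comm_mem hA hb ha)
    intro r
    rw [h1]
    by_cases hr : r = p
    · rw [hr, Equiv.swap_apply_left, add_comm]; exact h2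
    · by_cases hr' : r = q
      · rw [hr', Equiv.swap_apply_right]; exact h2
      · rw [Equiv.swap_apply_of_ne_of_ne hr hr']
        exact CharTwo.add_self_eq_zero _
  · right
    intro r
    rw [h1]
    by_cases hr : r = p
    · rw [hr, Equiv.swap_apply_left, if_pos rfl, if_neg hpq, add_comm, h2]; rfl
    · by_cases hr' : r = q
      · rw [hr', Equiv.swap_apply_right, if_pos rfl, if_neg (Ne.symm hpq), h2]; rfl
      · rw [Equiv.swap_apply_of_ne_of_ne hr hr', if_neg hr, if_neg hr']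
        exact CharTwo.add_self_eq_zero _

/-- the pair `{p, π p}` is a commutator -/
theorem exists_comm_pair {v : G} {π : Equiv.Perm (Pt k m)} (hv : v ∈ T) (hπ : Mv M v π)
    {p : Pt k m} (hp : π p ≠ p) (hpp : π (π p) = p) (h0 : ∀ i, π (i, 0) = (i, 0)) :
    ∃ a ∈ V, ∀ r, E M ⁅v, a⁆ r = (if r = p then 1 else 0) + (if r = π p then 1 else 0) := by
  obtain ⟨a, ha, hE⟩ := Cfsg.Agent.Omega.Half.SymA.exists_pair M (p := p) (q := (p.1, 0)) rfl
  have hp2 : p ≠ (p.1, 0) := by
    intro h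
    apply hp
    rw [h]
    exact h0 _
  have hp3 : π p ≠ (p.1, 0) := by
    intro h
    have h1 : p = (p.1, 0) := by
      apply π.injective
      rw [h, h0]
    exact hp2 h1
  refine ⟨a, ha, fun r => ?_⟩
  have h1 := E_comm hA (hA.TH hv) hπ ha (π.symm r)
  rw [π.apply_symm_apply] at h1
  rw [h1, hE, hE]
  by_cases hr : r = p
  · have h2 : π.symm r = π p := by rw [hr, Equiv.symm_apply_eq, hpp]
    rw [h2, if_neg hp, if_neg hp3, hr, if_pos rfl, if_neg hp2, if_neg (Ne.symm hp)]
    rfl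
  · by_cases hr' : r = π p
    · have h2 : π.symm r = p := by rw [hr', π.symm_apply_apply]
      rw [h2, if_pos rfl, if_neg hp2, hr', if_neg hp, if_neg hp3, if_pos rfl]
      rfl
    · have h2 : π.symm r ≠ p := by
        intro h
        apply hr'
        rw [← h, π.apply_symm_apply]
      rw [if_neg h2, if_neg hr, if_neg hr', zero_add, zero_add]
      by_cases hr0 : r = (p.1, 0)
      · have h3 : π.symm r = (p.1, 0) := by rw [hr0, Equiv.symm_apply_eq, h0]
        rw [h3, hr0, if_pos rfl]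
        rfl
      · have h3 : π.symm r ≠ (p.1, 0) := by
          intro h
          apply hr0
          rw [← π.apply_symm_apply r, h, h0]
        rw [if_neg hr0, if_neg h3]

end sym

/-! ### The matching -/

section mix

variable {G : Type u} [Group G] [Finite G] {F : Type} [Field F] [Finite F] {S S' : Sylow 2 G} {P P' : Subgroup G}
  {k k' m' : ℕ} {M : NatK F (S : Subgroup G) P (zl (S : Subgroup G) P) ⊥ k}
  {M' : SymK (S' : Subgroup G) P' (zl (S' : Subgroup G) P') ⊥ k' m'} {I : Set (Fin k)}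

/-- The standing hypotheses. -/
structure Mix (M : NatK F (S : Subgroup G) P (zl (S : Subgroup G) P) ⊥ k)
    (M' : SymK (S' : Subgroup G) P' (zl (S' : Subgroup G) P') ⊥ k' m') (I : Set (Fin k)) : Prop where
  pair : Pair S S' P P'
  c2 : IsCharacteristicTwoType G
  m : 1 ≤ m'
  off' : Off (zl (S' : Subgroup G) P') (zl (S : Subgroup G) P)
  ind : Ind M (zl (S' : Subgroup G) P') I

omit [Finite F] in
theorem Mix.amb' (h : Mix M M' I) : Amb (S' : Subgroup G) P' (zl (S' : Subgroup G) P') :=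
  amb_of_loc h.c2 S' h.pair.star'.isLoc

omit [Finite G] [Finite F] in
theorem Mix.VP' (h : Mix M M' I) : zl (S : Subgroup G) P ≤ P' := h.pair.le'.trans h.pair.star'.le

omit [Finite G] [Finite F] in
theorem Mix.V'P (h : Mix M M' I) : zl (S' : Subgroup G) P' ≤ P := h.pair.le.trans h.pair.star.le

omit [Finite F] in
/-- the action of `v ∈ V` on the points of `V'` -/
theorem Mix.exists_act (h : Mix M M' I) {v : G} (hv : v ∈ zl (S : Subgroup G) P) :
    ∃ π : Equiv.Perm (Pt k' m'), Mv M' v π ∧ (∀ p, (π p).1 = p.1) ∧ (∀ i, π (i, 0) = (i, 0)) ∧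
      ∀ p, π p ≠ p → π (π p) = p ∧ ∃ b ∈ zl (S : Subgroup G) P, Mv M' b (Equiv.swap p (π p)) := by
  obtain ⟨τ, hact, hτ⟩ := (M'.off _ h.pair.le' h.off').2 v hv
  have hmv := mv_pm M' hact
  refine ⟨pm 1 τ, hmv, fun p => rfl, fun i => ?_, fun p hp => ?_⟩
  · exact Prod.ext rfl ((hmv.snd h.amb' h.m (h.pair.le' hv)).2 rfl)
  · have hp' : τ p.1 p.2 ≠ p.2 := fun h' => hp (Prod.ext rfl h')
    obtain ⟨h1, b, hb, h2⟩ := hτ p.1 p.2 hp'
    refine ⟨Prod.ext rfl h1, b, hb, ?_⟩
    have h3 := mv_pm M' h2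
    have h4 : pm 1 (Function.update 1 p.1 (Equiv.swap p.2 (τ p.1 p.2))) = Equiv.swap p (pm 1 τ p) :=
      pm_swap (q := pm 1 τ p) rfl
    rwa [h4] at h3

omit [Finite F] in
/-- the structure of a nontrivial element -/
theorem Mix.exists_moved (h : Mix M M' I) {v a : G} {π : Equiv.Perm (Pt k' m')} (hv : v ∈ zl (S : Subgroup G) P)
    (hπ : Mv M' v π) (ha : a ∈ zl (S' : Subgroup G) P') (hne : ⁅v, a⁆ ≠ 1) : ∃ p, π p ≠ p := by
  by_contra hcon
  push Not at hcon
  apply hne
  apply eq_one M' (comm_mem h.amb' (h.VP' hv) ha)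
  intro p
  have := E_comm h.amb' (h.VP' hv) hπ ha p
  rw [hcon p] at this
  rw [this]
  exact CharTwo.add_self_eq_zero _

theorem Mix.card_two (h : Mix M M' I) : Nat.card F = 2 := by
  -- a pair `(v₀, a₀)` which does not commute
  obtain ⟨v₀, hv₀, a₀, ha₀, hne⟩ : ∃ v ∈ zl (S : Subgroup G) P, ∃ a ∈ zl (S' : Subgroup G) P', ⁅v, a⁆ ≠ 1 := by
    by_contra hcon
    push Not at hcon
    apply h.pair.ne
    rw [eq_bot_iff, commutator_le]
    intro v hv a ha
    rw [mem_bot]
    exact hcon v hv a ha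
  obtain ⟨π, hπ, -, -, hπ'⟩ := h.exists_act hv₀
  obtain ⟨p, hp⟩ := h.exists_moved hv₀ hπ ha₀ hne
  obtain ⟨-, b, hb, hbs⟩ := hπ' p hp
  -- `b` does not centralise `V'`
  obtain ⟨a, ha, h1, h2⟩ := sep M' h.m (Ne.symm hp)
  have hbne : ⁅b, a⁆ ≠ 1 := by
    intro h3
    have h4 := E_comm h.amb' (h.VP' hb) hbs ha p
    rw [h3, E_one, Equiv.swap_apply_left, h1, h2] at h4
    exact zero_ne_one h4
  obtain ⟨i, hi, hbi⟩ := h.ind.exists_coord h.V'P hb ha hbne
  -- the line has at most two elements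
  have hle : ∀ x ∈ line M i, ∀ y ∈ line M i, x ≠ 1 → y ≠ 1 → x = y := by
    intro x hx y hy hx1 hy1
    obtain ⟨c, hc, rfl⟩ := h.ind.line_sub h.V'P hi hb hbi hx
    obtain ⟨d, hd, rfl⟩ := h.ind.line_sub h.V'P hi hb hbi hy
    have h3 := (comm_swap h.amb' (h.VP' hb) hbs hc).resolve_left hx1
    have h4 := (comm_swap h.amb' (h.VP' hb) hbs hd).resolve_left hy1
    exact inj M' (comm_mem h.amb' (h.VP' hb) hc) (comm_mem h.amb' (h.VP' hb) hd) fun r => by rw [h3, h4]
  have h5 : Nat.card (line M i) ≤ 2 := by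
    obtain ⟨x, hx, hx1⟩ : ∃ x ∈ line M i, x ≠ 1 := by
      by_contra hcon
      push Not at hcon
      exact line_ne_bot (M := M) i ((eq_bot_iff_forall _).2 hcon)
    have h6 : (line M i : Set G) ⊆ {1, x} := by
      intro y hy
      by_cases hy1 : y = 1
      · exact Or.inl hy1
      · exact Or.inr (hle y hy x hx hy1 hx1)
    calc Nat.card (line M i) = (line M i : Set G).ncard := rfl
      _ ≤ ({1, x} : Set G).ncard := Set.ncard_le_ncard h6 (Set.toFinite _)
      _ ≤ 2 := (Set.ncard_insert_le 1 {x}).trans (by rw [Set.ncard_singleton])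
  rw [card_line] at h5
  have h6 : 1 < Nat.card F := Finite.one_lt_card
  omega

/-- **Mixed matching.** -/
theorem Mix.exists_pair (h : Mix M M' I) {i : Fin k} (hi : i ∈ I) {v : G} (hv : v ∈ fac M i)
    (hv1 : M.e v i 1 ≠ 0) : ∃ p q : Pt k' m', p ≠ q ∧ p.1 = q.1 ∧ p.2 ≠ 0 ∧ q.2 ≠ 0 ∧ Mv M' v (Equiv.swap p q) ∧
      ∀ z ∈ line M i, z ≠ 1 → ∀ r, E M' z r = (if r = p then 1 else 0) + (if r = q then 1 else 0) := by
  have h2 := h.card_two
  obtain ⟨z, hz, hz1⟩ : ∃ x ∈ line M i, x ≠ 1 := by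
    by_contra hcon
    push Not at hcon
    exact line_ne_bot (M := M) i ((eq_bot_iff_forall _).2 hcon)
  have huniq : ∀ y ∈ line M i, y ≠ 1 → y = z := by
    intro y hy hy1
    have h3 : ({1, z} : Set G) = (line M i : Set G) := by
      apply Set.eq_of_subset_of_ncard_le
      · rintro x (rfl | rfl)
        · exact one_mem _
        · exact hz
      · rw [Set.ncard_pair (Ne.symm hz1)]
        change Nat.card (line M i) ≤ 2
        rw [card_line, h2]
      · exact Set.toFinite _
    have h4 : y ∈ ({1, z} : Set G) := by rw [h3]; exact hy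
    exact h4.resolve_left hy1
  obtain ⟨π, hπ, hπ1, hπ0, hπ'⟩ := h.exists_act hv.1
  obtain ⟨a₀, ha₀, hza⟩ := (h.ind.mem_line_iff h.V'P hi hv hv1).1 hz
  obtain ⟨p, hp⟩ := h.exists_moved hv.1 hπ ha₀ (by rw [hza]; exact hz1)
  -- every moved point gives the pair `z`
  have key : ∀ q, π q ≠ q → ∀ r, E M' z r = (if r = q then 1 else 0) + (if r = π q then 1 else 0) := by
    intro q hq
    obtain ⟨a, ha, hE⟩ := exists_comm_pair h.amb' (h.pair.le' hv.1) hπ hq (hπ' q hq).1 hπ0
    have h3 : ⁅v, a⁆ ∈ line M i := (h.ind.mem_line_iff h.V'P hi hv hv1).2 ⟨a, ha, rfl⟩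
    have h4 : ⁅v, a⁆ ≠ 1 := by
      intro h5
      have h6 := hE q
      rw [h5, E_one, if_pos rfl, if_neg (Ne.symm hq)] at h6
      exact zero_ne_one h6
    rw [← huniq _ h3 h4]
    exact hE
  have hπs : π = Equiv.swap p (π p) := by
    ext1 q
    by_cases hq : π q = q
    · rw [hq, Equiv.swap_apply_of_ne_of_ne]
      · intro h3
        exact hp (h3 ▸ hq)
      · intro h3
        have h4 : π (π p) = π p := h3 ▸ hq
        exact hp (π.injective h4)
    · have h3 := key q hq q
      rw [key p hp q, if_pos rfl, if_neg (Ne.symm hq)] at h3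
      by_cases h4 : q = p
      · rw [h4, Equiv.swap_apply_left]
      · by_cases h5 : q = π p
        · rw [h5, Equiv.swap_apply_right, (hπ' p hp).1]
        · rw [if_neg h4, if_neg h5] at h3
          exact absurd h3 zero_ne_one
  refine ⟨p, π p, Ne.symm hp, (hπ1 p).symm, ?_, ?_, ?_, fun y hy hy1 => ?_⟩
  · intro h3
    apply hp
    have h4 : p = (p.1, 0) := Prod.ext rfl h3
    rw [h4]
    exact hπ0 _
  · intro h3
    apply hp
    have h4 : π p = (p.1, 0) := Prod.ext (hπ1 p) h3
    have h5 : p = (p.1, 0) := by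
      apply π.injective
      rw [h4, hπ0]
    rw [h4]
    exact h5.symm
  · rw [← hπs]
    exact hπ
  · rw [huniq y hy hy1]
    exact key p hp

end mix

/-! ### `k = 2`, `k' = 1`, `m' = 2`, `|I| = 2` -/

section two

theorem commutator_le_right' {G : Type u} [Group G] {S S' : Sylow 2 G} {P P' : Subgroup G}
    (h : Pair S S' P P') : ⁅zl (S : Subgroup G) P, zl (S' : Subgroup G) P'⁆ ≤ zl (S' : Subgroup G) P' := by
  rw [commutator_le]
  intro v hv a ha
  rw [commutatorElement_def]
  exact mul_mem (cj_mem (h.le'.trans h.star'.le hv) ha) (inv_mem ha)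

variable {G : Type u} [Group G] [Finite G] {F : Type} [Field F] [Finite F]

/-- **(R1) of #12388**: `k = 2` natural factors against `O₄⁻(2)`: `|[V, V']| = q`. -/
theorem mixed_small (hc : IsCharacteristicTwoType G) {S S' : Sylow 2 G} {P P' : Subgroup G} (h : Pair S S' P P')
    (hT : NoOver (zl (S : Subgroup G) P) P) (hT' : NoOver (zl (S' : Subgroup G) P') P')
    (M : NatK F (S : Subgroup G) P (zl (S : Subgroup G) P) ⊥ 2)
    (M' : SymK (S' : Subgroup G) P' (zl (S' : Subgroup G) P') ⊥ 1 2) :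
    Nat.card ↥⁅zl (S : Subgroup G) P, zl (S' : Subgroup G) P'⁆ = Nat.card F := by
  by_contra hcard
  obtain ⟨I, hI⟩ := exists_ind M h.le (h.off hc hT')
  have hVP : zl (S' : Subgroup G) P' ≤ P := h.le.trans h.star.le
  have hcomm := hI.commutator_eq hVP
  have hX : Mix M M' I := ⟨h, hc, by norm_num, h.symm.off hc hT, hI⟩
  -- `I` is everything
  have hIuniv : ∀ i, i ∈ I := by
    have hne : I.Nonempty := lines_ne_bot (M := M) (hcomm ▸ h.ne)
    obtain ⟨i, hi⟩ := hne
    by_contra hcon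
    push Not at hcon
    obtain ⟨j, hj⟩ := hcon
    apply hcard
    have hij : i ≠ j := fun e => hj (e ▸ hi)
    have hIi : I = {i} := by
      ext x
      constructor
      · intro hx
        have hxj : x ≠ j := fun e => hj (e ▸ hx)
        show x = i
        clear hcomm hcard hX hI hi hj hx
        revert x i j
        decide
      · intro hx
        rw [hx]
        exact hi
    rw [hcomm, hIi]
    exact card_line M i
  obtain ⟨v₀, hv₀, hve₀⟩ := exists_fac M 0 ![0, 1]
  obtain ⟨v₁, hv₁, hve₁⟩ := exists_fac M 1 ![0, 1]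
  obtain ⟨p₀, q₀, hpq₀, -, hp₀, hq₀, -, hz₀⟩ := hX.exists_pair (hIuniv 0) hv₀ (by rw [hve₀]; exact one_ne_zero)
  obtain ⟨p₁, q₁, hpq₁, hpq₁', hp₁, hq₁, hact₁, hz₁⟩ :=
    hX.exists_pair (hIuniv 1) hv₁ (by rw [hve₁]; exact one_ne_zero)
  -- the elements `z`, `z'` of the lines
  have hex : ∀ i, ∃ z ∈ line M i, z ≠ 1 := by
    intro i
    by_contra hcon
    push Not at hcon
    exact line_ne_bot (M := M) i ((eq_bot_iff_forall _).2 hcon)
  obtain ⟨z, hz, hz1⟩ := hex 0
  obtain ⟨z', hz', hz1'⟩ := hex 1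
  have hE := hz₀ z hz hz1
  have hE' := hz₁ z' hz' hz1'
  have hzV' : z ∈ zl (S' : Subgroup G) P' := by
    have h1 : z ∈ ⁅zl (S : Subgroup G) P, zl (S' : Subgroup G) P'⁆ := by
      rw [hcomm]
      exact lines_mono M (Set.singleton_subset_iff.2 (hIuniv 0)) hz
    exact (commutator_le_right' h) h1
  have hzV'' : z' ∈ zl (S' : Subgroup G) P' := by
    have h1 : z' ∈ ⁅zl (S : Subgroup G) P, zl (S' : Subgroup G) P'⁆ := by
      rw [hcomm]
      exact lines_mono M (Set.singleton_subset_iff.2 (hIuniv 1)) hz'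
    exact (commutator_le_right' h) h1
  have hzz : z ≠ z' := by
    rintro rfl
    apply hz1
    have h1 : z ∈ fac M 0 ⊓ fac M 1 := ⟨line_le M 0 hz, line_le M 1 hz'⟩
    rwa [fac_inf M (by decide), mem_bot] at h1
  -- the two pairs are disjoint
  have hinv : ∀ r, E M' z (Equiv.swap p₁ q₁ r) = E M' z r := by
    intro r
    have h1 := hact₁ z hzV' r
    have h2 : v₁ * z * v₁⁻¹ = z := by
      rw [comm M hv₁.1 hz.1.1]
      group
    rwa [h2] at h1
  have hdis : E M' z p₁ = 0 ∧ E M' z q₁ = 0 := by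
    have h1 := hinv q₁
    rw [Equiv.swap_apply_right] at h1
    rcases zmod2 (E M' z p₁) with h2 | h2
    · exact ⟨h2, h1 ▸ h2⟩
    · exfalso
      have h3 : E M' z q₁ = 1 := h1 ▸ h2
      apply hzz
      apply inj M' hzV' hzV''
      intro r
      rw [hE, hE']
      rw [hE] at h2 h3
      -- `{p₁, q₁} = {p₀, q₀}`
      have h4 : p₁ = p₀ ∨ p₁ = q₀ := by
        by_contra hcon
        push Not at hcon
        rw [if_neg hcon.1, if_neg hcon.2] at h2
        exact zero_ne_one h2
      have h5 : q₁ = p₀ ∨ q₁ = q₀ := by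
        by_contra hcon
        push Not at hcon
        rw [if_neg hcon.1, if_neg hcon.2] at h3
        exact zero_ne_one h3
      rcases h4 with h4 | h4 <;> rcases h5 with h5 | h5
      · exact absurd (h4.trans h5.symm) hpq₁
      · rw [h4, h5]
      · rw [h4, h5, add_comm]
      · exact absurd (h4.trans h5.symm) hpq₁
  -- APPLICATION 2
  have hu : {x | M'.e z 0 x = 1}.ncard = 2 ^ (2 - 1) := by
    have h1 : {x | M'.e z 0 x = 1} = {p₀.2, q₀.2} := by
      ext x
      have h2 : M'.e z 0 x = E M' z (0, x) := rfl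
      simp only [Set.mem_ofPred_eq, Set.mem_insert_iff, Set.mem_singleton_iff]
      rw [h2, hE]
      have e1 : (((0, x) : Pt 1 2) = p₀) ↔ x = p₀.2 := by
        constructor
        · intro h3; exact congrArg Prod.snd h3
        · intro h3; exact Prod.ext (Subsingleton.elim _ _) h3
      have e2 : (((0, x) : Pt 1 2) = q₀) ↔ x = q₀.2 := by
        constructor
        · intro h3; exact congrArg Prod.snd h3
        · intro h3; exact Prod.ext (Subsingleton.elim _ _) h3
      have e3 : p₀.2 ≠ q₀.2 := fun h3 => hpq₀ (Prod.ext (Subsingleton.elim _ _) h3)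
      simp only [e1, e2]
      by_cases h3 : x = p₀.2
      · rw [if_pos h3, if_neg (by rw [h3]; exact e3)]
        simp [h3]
      · by_cases h4 : x = q₀.2
        · rw [if_neg h3, if_pos h4]
          simp [h4]
        · rw [if_neg h3, if_neg h4]
          simp [h3, h4]
    rw [h1, Set.ncard_pair]
    · rfl
    · intro h3
      exact hpq₀ (Prod.ext (Subsingleton.elim _ _) h3)
  obtain ⟨h2, -⟩ := app_one hc S' (M := M') le_rfl hX.amb' hzV' hu
  -- the element `a`
  obtain ⟨a, ha, hEa⟩ := Cfsg.Agent.Omega.Half.SymA.exists_pair M' (p := p₁) (q := (p₁.1, 0)) rfl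
  have hadis : a ∈ dis M' z := by
    refine ⟨ha, fun r hr => ?_⟩
    rw [hEa, if_neg, if_neg]
    · rfl
    · intro h3
      apply hr
      rw [hE, h3, if_neg, if_neg]
      · rfl
      · intro h4
        exact hq₀ (congrArg Prod.snd h4).symm
      · intro h4
        exact hp₀ (congrArg Prod.snd h4).symm
    · intro h3
      apply hr
      rw [h3]
      exact hdis.1
  have h1 := (Half.NatA.app_two' hc S M h.star.isLoc (i := 0) (j := 1) (by decide) (v := z) hz.1.1
    (fun x hx => hz.1.2 x hx) hz1 (w := v₁) hv₁.1 fun x hx => hv₁.2 x hx).2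
  have h3 := mem_centralizer_iff.1 h1 a (h2 hadis)
  have h4 := hact₁ a ha p₁
  have h5 : v₁ * a * v₁⁻¹ = a := by rw [← h3]; group
  rw [h5, Equiv.swap_apply_left, hEa, hEa, if_neg (Ne.symm hpq₁), if_neg, if_pos rfl, if_neg] at h4
  · exact zero_ne_one h4
  · intro h6
    exact hp₁ (congrArg Prod.snd h6)
  · intro h6
    exact hq₁ (congrArg Prod.snd h6)

end two

end Cfsg.Agent.Omega.IId
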