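import Cfsg.Agent.Omega.IId.Main

/-!
# II.d: mutual pairs with a member which has `k ≥ 2` factors `S_{2^m+1}` (assembler: helper36; heads: helper341,
helper242, helper839, helper290)

`LeafSymWr K` (`Omega/FrameMulti.lean`) from its sub-leaves; notation as in `Main.lean` (`Hyp`, `Pair`).

* `SwCv`  : `C_V(O²(P)) ≠ 1` or `C_{V'}(O²(P')) ≠ 1`;
* `SwBig` : `k > 2` or `m > 2`, or more than two factors or a factor `S_{2^m'+1}`, `m' > 2`, on the other side;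
* `SwNat` : `P` of type `S₅ wr 2`, `P'` with one or two natural factors;
* `SwTwo` : `P` of type `S₅ wr 2`, `P'` of type `S₅` or `S₅ wr 2`, `|[V, V']| ≠ 2`;
* `SwOne` : the same, `|[V, V']| = 2`.
-/

set_option autoImplicit false

namespace Cfsg.Agent.Omega.IId

open Subgroup Pointwise Cfsg Cfsg.Agent.ZN Cfsg.Agent.ZN.ChoiceBase
open Cfsg.Agent.Omega.MinPar Cfsg.Agent.Omega.Frame Cfsg.Agent.Omega.FFThm Cfsg.Agent.Omega.FrameMulti
open Cfsg.Agent.Omega.FrameLE (AllIn)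
open Cfsg.Agent.Omega.FrameFF (cv Free)

universe u

/-! ### The sub-leaves -/

section leaves

variable (K : Cls.{u})

/-- `C_V(O²(P)) ≠ 1` for one of the members. (helper341) -/
def SwCv : Prop :=
  ∀ (G : Type u) [Group G] [Finite G] (S S' : Sylow 2 G), Hyp K S → ∀ (P P' : Subgroup G), Pair S S' P P' →
    ∀ k m, 2 ≤ k → 2 ≤ m → IsSym (S : Subgroup G) P k m →
      ¬ (Free (S : Subgroup G) P ∧ Free (S' : Subgroup G) P') → IsKnownSimple' G

/-- More than two factors or a factor of degree at least 9. (helper142) -/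
def SwBig : Prop :=
  ∀ (G : Type u) [Group G] [Finite G] (S S' : Sylow 2 G), Hyp K S → ∀ (P P' : Subgroup G), Pair S S' P P' →
    ∀ k m, 2 ≤ k → 2 ≤ m → IsSym (S : Subgroup G) P k m → Free (S : Subgroup G) P →
      Free (S' : Subgroup G) P' →
      (2 < k ∨ 2 < m ∨ (∃ k', 2 < k' ∧ IsNat (S' : Subgroup G) P' k') ∨
        ∃ k' m', 1 ≤ k' ∧ 2 ≤ m' ∧ (2 < k' ∨ 2 < m') ∧ IsSym (S' : Subgroup G) P' k' m') → IsKnownSimple' G

/-- `S₅ wr 2` against one or two natural factors. (helper341) -/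
def SwNat : Prop :=
  ∀ (G : Type u) [Group G] [Finite G] (S S' : Sylow 2 G), Hyp K S → ∀ (P P' : Subgroup G), Pair S S' P P' →
    ∀ (F' : Type) [Field F'] [Finite F'] [CharP F' 2] (k' : ℕ)
      (_ : SymK (S : Subgroup G) P (zl (S : Subgroup G) P) ⊥ 2 2)
      (_ : NatK F' (S' : Subgroup G) P' (zl (S' : Subgroup G) P') ⊥ k'), 1 ≤ k' → k' ≤ 2 → IsKnownSimple' G

/-- `S₅ wr 2` against `S₅` or `S₅ wr 2`, `|[V, V']| ≠ 2`. (helper290) -/
def SwTwo : Prop :=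
  ∀ (G : Type u) [Group G] [Finite G] (S S' : Sylow 2 G), Hyp K S → ∀ (P P' : Subgroup G), Pair S S' P P' →
    ∀ (k' : ℕ) (_ : SymK (S : Subgroup G) P (zl (S : Subgroup G) P) ⊥ 2 2)
      (_ : SymK (S' : Subgroup G) P' (zl (S' : Subgroup G) P') ⊥ k' 2), 1 ≤ k' → k' ≤ 2 →
      Nat.card ↥⁅zl (S : Subgroup G) P, zl (S' : Subgroup G) P'⁆ ≠ 2 → IsKnownSimple' G

/-- `S₅ wr 2` against `S₅` or `S₅ wr 2`, `|[V, V']| = 2`. (helper839, helper242; Lean: helper216) -/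
def SwOne : Prop :=
  ∀ (G : Type u) [Group G] [Finite G] (S S' : Sylow 2 G), Hyp K S → ∀ (P P' : Subgroup G), Pair S S' P P' →
    ∀ (k' : ℕ) (_ : SymK (S : Subgroup G) P (zl (S : Subgroup G) P) ⊥ 2 2)
      (_ : SymK (S' : Subgroup G) P' (zl (S' : Subgroup G) P') ⊥ k' 2), 1 ≤ k' → k' ≤ 2 →
      Nat.card ↥⁅zl (S : Subgroup G) P, zl (S' : Subgroup G) P'⁆ = 2 → IsKnownSimple' G

variable {K}

/-- **II.d, symmetric factors, from its sub-leaves.** -/
theorem leafSymWr (h1 : SwCv K) (h2 : SwBig K) (h3 : SwNat K) (h4 : SwTwo K) (h5 : SwOne K) : LeafSymWr K := by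
  intro G _ _ hG hcl S hF hLE hAT P₁ P₂ x hmu k m hk hm hN
  have hH : Hyp K S := ⟨hG, hcl, hF, hLE, hAT⟩
  obtain ⟨y, hm', hp⟩ := exists_pair hG.char2 S hmu
  have hT2 : Typed (S : Subgroup G) P₂ := (hAT P₁ P₂ x hmu).2
  have hT2' : Typed ((sy y S : Sylow 2 G) : Subgroup G) (cj y P₂) := by
    rw [sy_coe]
    exact typed_cj hT2 y
  by_cases hf : Free (S : Subgroup G) P₁ ∧ Free ((sy y S : Sylow 2 G) : Subgroup G) (cj y P₂)
  · obtain ⟨f1, f2⟩ := hf
    by_cases hb : 2 < k ∨ 2 < m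
    · refine h2 G S (sy y S) hH P₁ (cj y P₂) hp k m hk hm hN f1 f2 ?_
      rcases hb with hb | hb
      · exact Or.inl hb
      · exact Or.inr (Or.inl hb)
    push Not at hb
    obtain rfl : k = 2 := le_antisymm hb.1 hk
    obtain rfl : m = 2 := le_antisymm hb.2 hm
    rcases hT2'.cases with ⟨k', hk', hN'⟩ | ⟨k', m', hk', hm', hS'⟩
    · rcases Nat.lt_or_ge 2 k' with hb' | hb'
      · exact h2 G S (sy y S) hH P₁ (cj y P₂) hp 2 2 hk hm hN f1 f2 (Or.inr (Or.inr (Or.inl ⟨k', hb', hN'⟩)))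
      obtain ⟨M⟩ := hN
      obtain ⟨F', i1', i2', i3', ⟨M'⟩⟩ := hN'
      rw [show cv (S : Subgroup G) P₁ = ⊥ from f1] at M
      rw [show cv ((sy y S : Sylow 2 G) : Subgroup G) (cj y P₂) = ⊥ from f2] at M'
      exact h3 G S (sy y S) hH P₁ (cj y P₂) hp F' k' M M' hk' hb'
    · by_cases hb' : 2 < k' ∨ 2 < m'
      · exact h2 G S (sy y S) hH P₁ (cj y P₂) hp 2 2 hk hm hN f1 f2
          (Or.inr (Or.inr (Or.inr ⟨k', m', hk', hm', hb', hS'⟩)))
      push Not at hb'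
      obtain rfl : m' = 2 := le_antisymm hb'.2 hm'
      obtain ⟨M⟩ := hN
      obtain ⟨M'⟩ := hS'
      rw [show cv (S : Subgroup G) P₁ = ⊥ from f1] at M
      rw [show cv ((sy y S : Sylow 2 G) : Subgroup G) (cj y P₂) = ⊥ from f2] at M'
      by_cases hc : Nat.card ↥⁅zl (S : Subgroup G) P₁, zl ((sy y S : Sylow 2 G) : Subgroup G) (cj y P₂)⁆ = 2
      · exact h5 G S (sy y S) hH P₁ (cj y P₂) hp k' M M' hk' hb'.1 hc
      · exact h4 G S (sy y S) hH P₁ (cj y P₂) hp k' M M' hk' hb'.1 hc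
  · exact h1 G S (sy y S) hH P₁ (cj y P₂) hp k m hk hm hN hf

end leaves

end Cfsg.Agent.Omega.IId
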