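import Cfsg.Agent.Omega.IId.ThmJFull
import Cfsg.Agent.Omega.TV.GOrth

/-!
# (B1) of II.d, case 1, `q = 2`: `N_p` is the orthogonal module

helper304 (helper478 #12430 (B1), helper895 #13722 USE), on THEOREM J and THEOREM TV.  If `[N_p, N_q] ≠ 1`
(`p ∈ V₁#`, `q ∈ V₂#` centralised by a Sylow 2-subgroup `T` of `C(p)` with `C_{N_p}(T) ≤ {1, p, q, pq}`),
then `Qg (C(p)) q` is a quadratic form on `N_p` with radical `{1, p}` of the polar form and `C(p)`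
induces all reflections in nonsingular vectors; every element of `N_q` acts on `N_p` trivially or as the
reflection in `pq`.
-/

set_option autoImplicit false

namespace Cfsg.Agent.Omega.IId.ThmJ

open Subgroup Cfsg Cfsg.Agent.ZN Cfsg.Agent.ZN.ChoiceBase Cfsg.Agent.Omega.TV

universe u

variable {G : Type u} [Group G]

/-- `[n, y] ∈ {1, p, q, pq}` for `n ∈ N_p`, `y ∈ N_q`. -/
theorem Ctx.comm_cases [Finite G] {V₁ V₂ : Subgroup G} (h : Ctx V₁ V₂)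
    (htr₁ : ∀ p ∈ V₁, p ≠ 1 → ∀ p' ∈ V₁, p' ≠ 1 →
      ∃ l ∈ centralizer (V₂ : Set G) ⊓ normalizer (V₁ : Set G), l * p' * l⁻¹ = p)
    (htr₂ : ∀ q ∈ V₂, q ≠ 1 → ∀ q' ∈ V₂, q' ≠ 1 →
      ∃ l ∈ centralizer (V₁ : Set G) ⊓ normalizer (V₂ : Set G), l * q' * l⁻¹ = q)
    {p q : G} (hp : p ∈ V₁) (hp1 : p ≠ 1) (hq : q ∈ V₂) (hq1 : q ≠ 1)
    {T : Subgroup G} (hTp : T ≤ CC p) (hT : IsPGroup 2 T) (hi : ¬ 2 ∣ T.relIndex (CC p))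
    (hTq : T ≤ CC q) {n y : G} (hn : n ∈ NN V₂ p) (hy : y ∈ NN V₁ q) :
    y * n * y⁻¹ = n ∨ y * n * y⁻¹ = n * p ∨ y * n * y⁻¹ = n * q ∨ y * n * y⁻¹ = n * (q * p) := by
  have hyp : y ∈ CC p := centralizer_le_CC hp (h.s2.NN_le_cent_two hq hq1 hy)
  have hnq : n ∈ CC q := centralizer_le_CC hq (h.s1.NN_le_cent_two hp hp1 hn)
  have e1 : y * n * y⁻¹ ∈ NN V₂ p := (mem_normalizer_iff.1 (CC_le_normalizer_NN V₂ p hyp) n).1 hn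
  have e2 : n⁻¹ * y * n⁻¹⁻¹ ∈ NN V₁ q :=
    (mem_normalizer_iff.1 (CC_le_normalizer_NN V₁ q (inv_mem hnq)) y).1 hy
  rw [inv_inv] at e2
  have h1 : n⁻¹ * (y * n * y⁻¹) ∈ NN V₂ p := mul_mem (inv_mem hn) e1
  have h2 : n⁻¹ * (y * n * y⁻¹) ∈ NN V₁ q := by
    have e : n⁻¹ * (y * n * y⁻¹) = (n⁻¹ * y * n) * y⁻¹ := by group
    rw [e]
    exact mul_mem e2 (inv_mem hy)
  have hpq : p * q = q * p :=
    EA.comm_of (h.s1.NN_sq h.s2 hp hp1) (h.s1.mem p hp hp1) (le_NN V₂ p hq)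
  have key : ∀ x, n⁻¹ * (y * n * y⁻¹) = x → y * n * y⁻¹ = n * x := fun x hx => by
    rw [← hx]; group
  rcases h.inter htr₁ htr₂ hp hp1 hq hq1 hTp hT hi hTq h1 h2 with e | e | e | e
  · left; rw [key _ e, mul_one]
  · exact Or.inr (Or.inl (key _ e))
  · exact Or.inr (Or.inr (Or.inl (key _ e)))
  · exact Or.inr (Or.inr (Or.inr (by rw [← hpq]; exact key _ e)))

/-- An element of `N_q` acting nontrivially on `N_p` gives the orthogonal structure, and acts as the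
reflection in `q p`. -/
theorem Ctx.orth_of [Finite G] {V₁ V₂ : Subgroup G} (h : Ctx V₁ V₂)
    (htr₁ : ∀ p ∈ V₁, p ≠ 1 → ∀ p' ∈ V₁, p' ≠ 1 →
      ∃ l ∈ centralizer (V₂ : Set G) ⊓ normalizer (V₁ : Set G), l * p' * l⁻¹ = p)
    (htr₂ : ∀ q ∈ V₂, q ≠ 1 → ∀ q' ∈ V₂, q' ≠ 1 →
      ∃ l ∈ centralizer (V₁ : Set G) ⊓ normalizer (V₂ : Set G), l * q' * l⁻¹ = q)
    {p q : G} (hp : p ∈ V₁) (hp1 : p ≠ 1) (hq : q ∈ V₂) (hq1 : q ≠ 1)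
    {T : Subgroup G} (hTp : T ≤ CC p) (hT : IsPGroup 2 T) (hi : ¬ 2 ∣ T.relIndex (CC p))
    (hTq : T ≤ CC q)
    (hfix : ∀ n ∈ NN V₂ p, (∀ t ∈ T, t * n = n * t) → n = 1 ∨ n = p ∨ n = q ∨ n = p * q)
    {y n : G} (hy : y ∈ NN V₁ q) (hn : n ∈ NN V₂ p) (hne : y * n * y⁻¹ ≠ n) :
    GOrth (CC p) (NN V₂ p) q p ∧ (∀ q' ∈ V₂, Bg (CC p) q q q' = 0) ∧ ∀ n ∈ NN V₂ p,
      (Bg (CC p) q q n = 0 ∧ y * n * y⁻¹ = n) ∨
        (Bg (CC p) q q n = 1 ∧ y * n * y⁻¹ = n * (q * p)) := by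
  have hg := h.gsys hp hp1 hq hq1 htr₂ hTp hT hi hTq
  have hyp : y ∈ CC p := centralizer_le_CC hp (h.s2.NN_le_cent_two hq hq1 hy)
  have hyV : y ∈ centralizer (V₂ : Set G) := h.s2.NN_le_cent_one hq hq1 hy
  have hyq : ∀ q' ∈ V₂, y * q' * y⁻¹ = q' := fun q' hq' => by
    rw [← mem_centralizer_iff.1 hyV q' hq']
    group
  have hpN : p ∈ NN V₂ p := h.s1.mem p hp hp1
  have hpq : p * q = q * p := EA.comm_of hg.sq hpN (le_NN V₂ p hq)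
  have conj : ∀ q' ∈ V₂, q' ≠ 1 → ∃ g ∈ CC p, q' = g * q * g⁻¹ := by
    intro q' hq' hq1'
    obtain ⟨l, ⟨hl, -⟩, e⟩ := htr₂ q' hq' hq1' q hq hq1
    exact ⟨l, centralizer_le_CC hp hl, e.symm⟩
  obtain ⟨q₁, hq₁, hq₁1, hqq₁⟩ := four_exists h.s2.card q
  have main := hg.gorth (T := T) (c := p) (p := q₁) (t := y) hTp hT hi hpN hp1
    (fun g hg' => by rw [← mem_CC.1 hg']; group)
    (fun t ht => by rw [← mem_CC.1 (hTq ht)]; group)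
    (fun n hn hc => by
      rcases hfix n hn (fun t ht => by
        have := hc t ht
        rwa [mul_inv_eq_iff_eq_mul] at this) with e | e | e | e
      · exact Or.inl e
      · exact Or.inr (Or.inl e)
      · exact Or.inr (Or.inr (Or.inl e))
      · exact Or.inr (Or.inr (Or.inr (by rw [← hpq]; exact e))))
    (conj q₁ hq₁ hq₁1) (conj (q * q₁) (mul_mem hq hq₁) (h.s2.third hq hqq₁)) hyp
    (fun n hn => h.comm_cases htr₁ htr₂ hp hp1 hq hq1 hTp hT hi hTq hn hy) ⟨n, hn, hne⟩ (hyq q₁ hq₁)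
  obtain ⟨h1, -, h3⟩ := main
  refine ⟨h1, fun q' hq' => ?_, h3⟩
  rcases h3 q' (le_NN V₂ p hq') with ⟨e, -⟩ | ⟨-, e⟩
  · exact e
  · exfalso
    rw [hyq q' hq'] at e
    have e1 : q * p = 1 := by
      have := e.symm
      rwa [mul_eq_left] at this
    have e2 := h1.Qmulc hg.mem
    rw [e1, Qg_one, Qg_self, zero_add] at e2
    exact zero_ne_one e2

/-- **(B1)**: if `[N_p, N_q] ≠ 1`, then `N_p` is the orthogonal module of `C(p)`, and every element of `N_q`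
acts on it trivially or as the reflection in `q p`. -/
theorem Ctx.orth [Finite G] {V₁ V₂ : Subgroup G} (h : Ctx V₁ V₂)
    (htr₁ : ∀ p ∈ V₁, p ≠ 1 → ∀ p' ∈ V₁, p' ≠ 1 →
      ∃ l ∈ centralizer (V₂ : Set G) ⊓ normalizer (V₁ : Set G), l * p' * l⁻¹ = p)
    (htr₂ : ∀ q ∈ V₂, q ≠ 1 → ∀ q' ∈ V₂, q' ≠ 1 →
      ∃ l ∈ centralizer (V₁ : Set G) ⊓ normalizer (V₂ : Set G), l * q' * l⁻¹ = q)
    {p q : G} (hp : p ∈ V₁) (hp1 : p ≠ 1) (hq : q ∈ V₂) (hq1 : q ≠ 1)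
    {T : Subgroup G} (hTp : T ≤ CC p) (hT : IsPGroup 2 T) (hi : ¬ 2 ∣ T.relIndex (CC p))
    (hTq : T ≤ CC q)
    (hfix : ∀ n ∈ NN V₂ p, (∀ t ∈ T, t * n = n * t) → n = 1 ∨ n = p ∨ n = q ∨ n = p * q)
    (hne : ∃ n ∈ NN V₂ p, ∃ y ∈ NN V₁ q, n * y ≠ y * n) :
    GOrth (CC p) (NN V₂ p) q p ∧ (∀ q' ∈ V₂, Bg (CC p) q q q' = 0) ∧
      (∀ y ∈ NN V₁ q, (∀ n ∈ NN V₂ p, y * n * y⁻¹ = n) ∨ ∀ n ∈ NN V₂ p,
        (Bg (CC p) q q n = 0 ∧ y * n * y⁻¹ = n) ∨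
          (Bg (CC p) q q n = 1 ∧ y * n * y⁻¹ = n * (q * p))) := by
  obtain ⟨n₀, hn₀, y₀, hy₀, hne⟩ := hne
  have hne' : y₀ * n₀ * y₀⁻¹ ≠ n₀ := fun e => hne (by
    rw [mul_inv_eq_iff_eq_mul] at e
    exact e.symm)
  obtain ⟨h1, h2, -⟩ := h.orth_of htr₁ htr₂ hp hp1 hq hq1 hTp hT hi hTq hfix hy₀ hn₀ hne'
  refine ⟨h1, h2, fun y hy => ?_⟩
  by_cases hc : ∀ n ∈ NN V₂ p, y * n * y⁻¹ = n
  · exact Or.inl hc
  · push Not at hc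
    obtain ⟨n, hn, e⟩ := hc
    exact Or.inr (h.orth_of htr₁ htr₂ hp hp1 hq hq1 hTp hT hi hTq hfix hy hn e).2.2

end Cfsg.Agent.Omega.IId.ThmJ
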