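import Cfsg.Agent.Omega.IId.OneJ
import Cfsg.Agent.Omega.IId.OrthB

/-!
# II.d, `q = 2`, CASE 1, case B: (B1) for the configuration `One`

helper304 (helper478 #12430 (B1), helper895 #13722).  `[N₁, N₂] ≠ 1` implies that `N₁ = nc v₁ {v₂}` is the
orthogonal module of `C(v₁)`: `GOrth (cz v₁) (nc v₁ {v₂}) v₂ v₁`.
-/

set_option autoImplicit false
set_option linter.dupNamespace false

namespace Cfsg.Agent.Omega.IId.One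

open Subgroup Cfsg Cfsg.Agent.ZN Cfsg.Agent.ZN.ChoiceBase Cfsg.Agent.Omega.IId.ThmJ
open Cfsg.Agent.Omega.TV

universe u

variable {G : Type u} [Group G]

namespace One

variable [Finite G] {T V₁ V₂ L₁ L₂ : Subgroup G} {v₁ v₂ s : G} (h : One T V₁ V₂ L₁ L₂ v₁ v₂ s)

include h

/-- **(B1) for `One`.** -/
theorem orth_all (hI : ∃ x ∈ nc v₁ {v₂}, ∃ y ∈ nc v₂ {v₁}, x * y ≠ y * x) :
    GOrth (cz v₁) (nc v₁ {v₂}) v₂ v₁ ∧ (∀ v ∈ V₂, Bg (cz v₁) v₂ v₂ v = 0) ∧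
      (∀ y ∈ nc v₂ {v₁}, (∀ n ∈ nc v₁ {v₂}, y * n * y⁻¹ = n) ∨ ∀ n ∈ nc v₁ {v₂},
        (Bg (cz v₁) v₂ v₂ n = 0 ∧ y * n * y⁻¹ = n) ∨
          (Bg (cz v₁) v₂ v₂ n = 1 ∧ y * n * y⁻¹ = n * (v₂ * v₁))) := by
  have e1 : NN V₂ v₁ = nc v₁ {v₂} := by rw [← nc_eq_NN, ← h.N1_eq]
  have e2 : NN V₁ v₂ = nc v₂ {v₁} := by rw [← nc_eq_NN, ← h.symm.N1_eq]
  have main := (h.ctx hI).orth h.tr1 h.tr2 h.vV1 h.v1 h.vV2 h.v2 h.T_le h.pT (h.syl h.T_le le_rfl)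
    h.T_le2 (fun n hn hc => h.N1_fix (by rw [← e1]; exact hn) hc)
    (by
      obtain ⟨x, hx, y, hy, hne⟩ := hI
      exact ⟨x, by rw [e1]; exact hx, y, by rw [e2]; exact hy, hne⟩)
  rwa [e1, e2] at main

theorem orth (hI : ∃ x ∈ nc v₁ {v₂}, ∃ y ∈ nc v₂ {v₁}, x * y ≠ y * x) :
    GOrth (cz v₁) (nc v₁ {v₂}) v₂ v₁ := (h.orth_all hI).1

omit [Finite G] in
theorem Q_V2 {x : G} (hx : x ∈ V₂) : Qg (cz v₁) v₂ x = 0 := by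
  by_cases hx1 : x = 1
  · rw [hx1]; exact Qg_one
  · obtain ⟨l, hl, e⟩ := h.t2 v₂ h.vV2 h.v2 x hx hx1
    rw [← e]
    exact Qg_conj (h.L2_le hl)

omit [Finite G] in
/-- `V₂` is totally singular. -/
theorem B_V2 {v w : G} (hv : v ∈ V₂) (hw : w ∈ V₂) : Bg (cz v₁) v₂ v w = 0 := by
  unfold Bg
  rw [h.Q_V2 hv, h.Q_V2 hw, h.Q_V2 (mul_mem hv hw), add_zero, add_zero]

end One

end Cfsg.Agent.Omega.IId.One
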