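import Cfsg.Agent.Omega.IId.RankPlanes
import Cfsg.Agent.Omega.IId.OneOrth

/-!
# The order of the orthogonal module when `m₃ ≤ 2`

helper304 (helper612 #14107 (6)).  `GOrth.exists_plane`: hyperbolic pairs split off; `GOrth.card_le`:
`m₃(G) ≤ 2` implies `|N| ≤ 32`; `GOrth.le_card`: `32 ≤ |N|` if `N` contains a totally singular four-group;
`One.card_N1`: `|N₁| = 32` for the configuration `One` with `[N₁, N₂] ≠ 1` and `m₃(G) ≤ 2`.
-/

set_option autoImplicit false
set_option linter.dupNamespace false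

namespace Cfsg.Agent.Omega.TV

open Subgroup

variable {G : Type*} [Group G]

namespace GOrth

variable {C N : Subgroup G} {r c : G} (h : GOrth C N r c)

include h

theorem mcomm {x y : G} (hx : x ∈ N) (hy : y ∈ N) : x * y = y * x := EA.comm_of h.sq hx hy

/-- A vector or its product with `c` is singular. -/
theorem exists_sing {x : G} (hx : x ∈ N) : ∃ y ∈ N, Qg C r y = 0 ∧ (y = x ∨ y = x * c) := by
  rcases z2 (Qg C r x) with e | e
  · exact ⟨x, hx, e, Or.inl rfl⟩
  · refine ⟨x * c, N.mul_mem hx h.c_mem, ?_, Or.inr rfl⟩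
    rw [h.Qmulc hx, e]
    exact z2_add_self 1

theorem B_mulc {x y : G} (hx : x ∈ N) (hy : y ∈ N) : Bg C r x (y * c) = Bg C r x y := by
  rw [h.add x hx y hy c h.c_mem, h.comm x hx c h.c_mem, h.Bc x hx, add_zero]

theorem B_mulc' {x y : G} (hx : x ∈ N) (hy : y ∈ N) : Bg C r (x * c) y = Bg C r x y := by
  rw [h.comm _ (N.mul_mem hx h.c_mem) y hy, h.B_mulc hy hx, h.comm y hy x hx]

end GOrth

/-- A subgroup of `N` on which the form is nondegenerate modulo `⟨c⟩`. -/
structure Good (C N : Subgroup G) (r c : G) (W : Subgroup G) : Prop where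
  le : W ≤ N
  c_mem : c ∈ W
  rad : ∀ x ∈ W, (∀ y ∈ W, Bg C r x y = 0) → x = 1 ∨ x = c

namespace GOrth

variable {C N : Subgroup G} {r c : G} (h : GOrth C N r c)

include h

theorem good_self : Good C N r c N := ⟨le_rfl, h.c_mem, h.rad⟩

/-- A hyperbolic pair splits off. -/
theorem exists_plane [Finite G] {W : Subgroup G} (hW : Good C N r c W) (hc : 2 < Nat.card W) :
    ∃ a ∈ W, ∃ b ∈ W, Qg C r a = 0 ∧ Qg C r b = 0 ∧ Bg C r a b = 1 ∧
      ∃ W' : Subgroup G, W' ≤ W ∧ Good C N r c W' ∧ (∀ x ∈ W', Bg C r a x = 0 ∧ Bg C r b x = 0) ∧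
        Nat.card W = 4 * Nat.card W' := by
  classical
  -- a vector outside `⟨c⟩`
  obtain ⟨x, hx, hx1, hxc⟩ : ∃ x ∈ W, x ≠ 1 ∧ x ≠ c := by
    by_contra hcon
    push Not at hcon
    have h1 : (W : Set G) ⊆ (({1, c} : Finset G) : Set G) := by
      intro y hy
      by_cases hy1 : y = 1
      · simp [hy1]
      · simp [hcon y hy hy1]
    have h2 := Set.ncard_le_ncard h1 (Finset.finite_toSet _)
    rw [Set.ncard_coe_finset] at h2
    have h3 : (W : Set G).ncard = Nat.card W := rfl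
    have h4 : ({1, c} : Finset G).card ≤ 2 := Finset.card_le_two
    omega
  obtain ⟨y, hy, hxy⟩ : ∃ y ∈ W, Bg C r x y = 1 := by
    by_contra hcon
    push Not at hcon
    rcases hW.rad x hx (fun y hy => z2_ne_one (hcon y hy)) with e | e
    · exact hx1 e
    · exact hxc e
  obtain ⟨a, -, ha0, ha⟩ := h.exists_sing (hW.le hx)
  obtain ⟨b, -, hb0, hb⟩ := h.exists_sing (hW.le hy)
  have haW : a ∈ W := by
    rcases ha with rfl | rfl
    · exact hx
    · exact W.mul_mem hx hW.c_mem
  have hbW : b ∈ W := by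
    rcases hb with rfl | rfl
    · exact hy
    · exact W.mul_mem hy hW.c_mem
  have hab : Bg C r a b = 1 := by
    rcases ha with rfl | rfl <;> rcases hb with rfl | rfl
    · exact hxy
    · rw [h.B_mulc (hW.le hx) (hW.le hy), hxy]
    · rw [h.B_mulc' (hW.le hx) (hW.le hy), hxy]
    · rw [h.B_mulc' (hW.le hx) (N.mul_mem (hW.le hy) h.c_mem), h.B_mulc (hW.le hx) (hW.le hy), hxy]
  have hba : Bg C r b a = 1 := by rw [h.comm b (hW.le hbW) a (hW.le haW), hab]
  have haa := h.self a (hW.le haW)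
  have hbb := h.self b (hW.le hbW)
  -- the orthogonal complement
  let χ : W →* Multiplicative (ZMod 2 × ZMod 2) :=
    { toFun := fun w => Multiplicative.ofAdd (Bg C r a w, Bg C r b w)
      map_one' := by
        show Multiplicative.ofAdd (Bg C r a ((1 : W) : G), Bg C r b ((1 : W) : G)) = 1
        rw [Subgroup.coe_one, GOrth.Bone, GOrth.Bone]
        rfl
      map_mul' := by
        intro u v
        show Multiplicative.ofAdd (Bg C r a ((u * v : W) : G), Bg C r b ((u * v : W) : G)) = _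
        rw [Subgroup.coe_mul, h.add a (hW.le haW) u (hW.le u.2) v (hW.le v.2),
          h.add b (hW.le hbW) u (hW.le u.2) v (hW.le v.2)]
        rfl }
  have hχ : ∀ w : W, w ∈ χ.ker ↔ Bg C r a w = 0 ∧ Bg C r b w = 0 := by
    intro w
    rw [MonoidHom.mem_ker]
    show Multiplicative.ofAdd (Bg C r a (w : G), Bg C r b (w : G)) = Multiplicative.ofAdd 0 ↔ _
    rw [Multiplicative.ofAdd.injective.eq_iff]
    exact Prod.mk_eq_zero
  refine ⟨a, haW, b, hbW, ha0, hb0, hab, χ.ker.map W.subtype, ?_, ⟨?_, ?_, ?_⟩, ?_, ?_⟩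
  · rintro _ ⟨w, _, rfl⟩
    exact w.2
  · rintro _ ⟨w, _, rfl⟩
    exact hW.le w.2
  · refine ⟨⟨c, hW.c_mem⟩, (hχ _).2 ⟨?_, ?_⟩, rfl⟩
    · show Bg C r a c = 0
      rw [h.comm a (hW.le haW) c h.c_mem, h.Bc a (hW.le haW)]
    · show Bg C r b c = 0
      rw [h.comm b (hW.le hbW) c h.c_mem, h.Bc b (hW.le hbW)]
  · rintro _ ⟨w, hw, rfl⟩ hall
    obtain ⟨hw1, hw2⟩ := (hχ w).1 hw
    refine hW.rad w w.2 fun y hy => ?_
    -- adjust `y`
    have key : ∀ y' ∈ W, Bg C r a y' = 0 → Bg C r b y' = 0 → Bg C r w y' = 0 := by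
      intro y' hy' e1 e2
      exact hall y' ⟨⟨y', hy'⟩, (hχ _).2 ⟨e1, e2⟩, rfl⟩
    have hwa : Bg C r w a = 0 := by rw [h.comm _ (hW.le w.2) a (hW.le haW), hw1]
    have hwb : Bg C r w b = 0 := by rw [h.comm _ (hW.le w.2) b (hW.le hbW), hw2]
    have hyN := hW.le hy
    have haN := hW.le haW
    have hbN := hW.le hbW
    rcases z2 (Bg C r a y) with e1 | e1 <;> rcases z2 (Bg C r b y) with e2 | e2
    · exact key y hy e1 e2
    · -- add `a`
      have e3 := key (y * a) (W.mul_mem hy haW) (by rw [h.add a haN y hyN a haN, e1, haa, add_zero])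
        (by rw [h.add b hbN y hyN a haN, e2, hba]; exact z2_add_self 1)
      rwa [h.add _ (hW.le w.2) y hyN a haN, hwa, add_zero] at e3
    · have e3 := key (y * b) (W.mul_mem hy hbW)
        (by rw [h.add a haN y hyN b hbN, e1, hab]; exact z2_add_self 1)
        (by rw [h.add b hbN y hyN b hbN, e2, hbb, add_zero])
      rwa [h.add _ (hW.le w.2) y hyN b hbN, hwb, add_zero] at e3
    · have e3 := key (y * (a * b)) (W.mul_mem hy (W.mul_mem haW hbW))
        (by rw [h.add a haN y hyN _ (N.mul_mem haN hbN), h.add a haN a haN b hbN, e1, haa, hab, zero_add]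
            exact z2_add_self 1)
        (by rw [h.add b hbN y hyN _ (N.mul_mem haN hbN), h.add b hbN a haN b hbN, e2, hba, hbb, add_zero]
            exact z2_add_self 1)
      rwa [h.add _ (hW.le w.2) y hyN _ (N.mul_mem haN hbN), h.add _ (hW.le w.2) a haN b hbN, hwa, hwb,
        add_zero, add_zero] at e3
  · rintro _ ⟨w, hw, rfl⟩
    exact (hχ w).1 hw
  · have h1 : Nat.card (χ.ker.map W.subtype) = Nat.card χ.ker := by
      rw [Subgroup.card_map_of_injective W.subtype_injective]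
    have h2 : Nat.card χ.ker * χ.ker.index = Nat.card W := Subgroup.card_mul_index _
    have h3 : χ.ker.index = 4 := by
      have h5 : χ.range = ⊤ := by
        rw [eq_top_iff]
        have ea : χ ⟨a, haW⟩ = Multiplicative.ofAdd (0, 1) := by
          show Multiplicative.ofAdd (Bg C r a a, Bg C r b a) = _
          rw [haa, hba]
        have eb : χ ⟨b, hbW⟩ = Multiplicative.ofAdd (1, 0) := by
          show Multiplicative.ofAdd (Bg C r a b, Bg C r b b) = _
          rw [hab, hbb]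
        rintro x -
        obtain ⟨⟨u, v⟩, rfl⟩ := Multiplicative.ofAdd.surjective x
        have hm : ∀ u v : ZMod 2, Multiplicative.ofAdd (u, v) ∈ χ.range := by
          intro u v
          rcases z2 u with rfl | rfl <;> rcases z2 v with rfl | rfl
          · exact one_mem _
          · exact ⟨_, ea⟩
          · exact ⟨_, eb⟩
          · refine ⟨⟨b, hbW⟩ * ⟨a, haW⟩, ?_⟩
            rw [map_mul, ea, eb, ← ofAdd_add, Prod.mk_add_mk, add_zero, zero_add]
        exact hm u v
      rw [Subgroup.index_ker, h5, Subgroup.card_top, Nat.card_congr Multiplicative.toAdd, Nat.card_prod,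
        Nat.card_zmod]
    rw [h1, ← h2, h3, mul_comm]

omit h in
/-- A triple of singular vectors in a hyperbolic plane. -/
structure Tri (C N : Subgroup G) (r c : G) (w : Fin 3 → G) : Prop where
  mem : ∀ l, w l ∈ N
  Q : ∀ l, Qg C r (w l) = 0
  B : ∀ l l', l ≠ l' → Bg C r (w l) (w l') = 1
  rel : ∀ j k l, j ≠ k → j ≠ l → k ≠ l → w j * (w l * c) = w k

theorem tri_of {a b : G} (ha : a ∈ N) (hb : b ∈ N) (ha0 : Qg C r a = 0) (hb0 : Qg C r b = 0)
    (hab : Bg C r a b = 1) : Tri C N r c ![a, b, a * b * c] := by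
  have hba : Bg C r b a = 1 := by rw [h.comm b hb a ha, hab]
  have haa := h.self a ha
  have hbb := h.self b hb
  have habN := N.mul_mem ha hb
  have hQ3 : Qg C r (a * b * c) = 0 := by
    rw [h.Qmulc habN, Q_mul, ha0, hb0, hab, zero_add, zero_add]
    exact z2_add_self 1
  have h1 : Bg C r a (a * b * c) = 1 := by
    rw [h.B_mulc ha habN, h.add a ha a ha b hb, haa, hab, zero_add]
  have h2 : Bg C r b (a * b * c) = 1 := by
    rw [h.B_mulc hb habN, h.add b hb a ha b hb, hba, hbb, add_zero]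
  have h1' : Bg C r (a * b * c) a = 1 := by
    rw [h.comm _ (N.mul_mem habN h.c_mem) a ha, h1]
  have h2' : Bg C r (a * b * c) b = 1 := by
    rw [h.comm _ (N.mul_mem habN h.c_mem) b hb, h2]
  have ea := h.sq a ha
  have eb := h.sq b hb
  have ec := h.sq c h.c_mem
  have cab := h.mcomm ha hb
  have cac := h.mcomm ha h.c_mem
  have cbc := h.mcomm hb h.c_mem
  have r1 : a * (b * c) = a * b * c := (mul_assoc _ _ _).symm
  have r2 : b * (a * c) = a * b * c := by rw [← mul_assoc, ← cab]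
  have r3 : a * (a * b * c * c) = b := by
    calc a * (a * b * c * c) = (a * a) * b * (c * c) := by group
      _ = b := by rw [ea, ec, one_mul, mul_one]
  have r4 : b * (a * b * c * c) = a := by
    calc b * (a * b * c * c) = (b * a) * b * (c * c) := by group
      _ = a * (b * b) * (c * c) := by rw [← cab]; group
      _ = a := by rw [eb, ec, mul_one, mul_one]
  have r5 : a * b * c * (a * c) = b := by
    calc a * b * c * (a * c) = a * b * (c * a) * c := by group
      _ = (a * b) * (a * c) * c := by rw [← cac]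
      _ = (b * a) * (a * c) * c := by rw [cab]
      _ = b * (a * a) * (c * c) := by group
      _ = b := by rw [ea, ec, mul_one, mul_one]
  have r6 : a * b * c * (b * c) = a := by
    calc a * b * c * (b * c) = a * b * (c * b) * c := by group
      _ = a * b * (b * c) * c := by rw [← cbc]
      _ = a * (b * b) * (c * c) := by group
      _ = a := by rw [eb, ec, mul_one, mul_one]
  refine ⟨?_, ?_, ?_, ?_⟩
  · intro l
    fin_cases l
    · exact ha
    · exact hb
    · exact N.mul_mem habN h.c_mem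
  · intro l
    fin_cases l
    · exact ha0
    · exact hb0
    · exact hQ3
  · intro l l' hne
    fin_cases l <;> fin_cases l' <;> first | exact absurd rfl hne | assumption
  · intro j k l h1 h2 h3
    fin_cases j <;> fin_cases k <;> fin_cases l <;>
      first | exact absurd rfl h1 | exact absurd rfl h2 | exact absurd rfl h3 | assumption

omit h in
theorem tri_ne_one {w : Fin 3 → G} (hw : Tri C N r c w) (l : Fin 3) : w l ≠ 1 := by
  obtain ⟨l', hl'⟩ : ∃ l' : Fin 3, l' ≠ l := ⟨l + 1, by fin_cases l <;> decide⟩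
  intro e
  have h1 := hw.B l' l hl'
  rw [e, GOrth.Bone] at h1
  exact zero_ne_one h1

theorem tri_inj {w : Fin 3 → G} (hw : Tri C N r c w) : Function.Injective w := by
  intro l l' e
  by_contra hne
  have h1 := hw.B l l' hne
  rw [e, h.self _ (hw.mem l')] at h1
  exact zero_ne_one h1

/-- The 3-rank is at least the number of mutually orthogonal triples. -/
theorem rank_of_tri [Finite G] {n m : ℕ} (w : Fin n → Fin 3 → G) (hw : ∀ i, Tri C N r c (w i))
    (ho : ∀ i i', i ≠ i' → ∀ l l', Bg C r (w i l) (w i' l') = 0) (hr : PRankLE 3 m G) : n ≤ m := by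
  refine IId.RankPlanes.rank_of_triples w (fun i => h.tri_inj (hw i)) ?_ hr
  intro i j k hjk
  -- the third index
  obtain ⟨l, hlj, hlk, hall⟩ : ∃ l : Fin 3, l ≠ j ∧ l ≠ k ∧ ∀ l' : Fin 3, l' = j ∨ l' = k ∨ l' = l := by
    revert j k; decide
  obtain ⟨g, hg, hgn⟩ := h.refl (w i l) ((hw i).mem l) (tri_ne_one (hw i) l) ((hw i).Q l)
  have hmove : ∀ x ∈ N, Bg C r (w i l) x = 1 → g * x * g⁻¹ = x * (w i l * c) := by
    intro x hx e
    rcases hgn x hx with ⟨e1, -⟩ | ⟨-, e1⟩
    · rw [e] at e1; exact absurd e1 one_ne_zero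
    · exact e1
  have hstay : ∀ x ∈ N, Bg C r (w i l) x = 0 → g * x * g⁻¹ = x := by
    intro x hx e
    rcases hgn x hx with ⟨-, e1⟩ | ⟨e1, -⟩
    · exact e1
    · rw [e] at e1; exact absurd e1 zero_ne_one
  refine ⟨g, ?_, ?_⟩
  · intro l'
    rcases hall l' with rfl | rfl | rfl
    · rw [Equiv.swap_apply_left, hmove _ ((hw i).mem _) ((hw i).B _ _ hlj)]
      exact (hw i).rel _ _ _ hjk hlj.symm hlk.symm
    · rw [Equiv.swap_apply_right, hmove _ ((hw i).mem _) ((hw i).B _ _ hlk)]
      exact (hw i).rel _ _ _ hjk.symm hlk.symm hlj.symm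
    · rw [Equiv.swap_apply_of_ne_of_ne hlj hlk]
      exact hstay _ ((hw i).mem _) (h.self _ ((hw i).mem _))
  · intro i' hi' l'
    exact hstay _ ((hw i').mem _) (ho i i' hi'.symm _ _)

/-- **`m₃(G) ≤ 2` implies `|N| ≤ 32`.** -/
theorem card_le [Finite G] (hr : PRankLE 3 2 G) : Nat.card N ≤ 32 := by
  by_contra hcon
  push Not at hcon
  obtain ⟨a₁, ha₁, b₁, hb₁, qa₁, qb₁, ab₁, W₁, hW₁, gW₁, o₁, n₁⟩ := h.exists_plane h.good_self (by omega)
  obtain ⟨a₂, ha₂, b₂, hb₂, qa₂, qb₂, ab₂, W₂, hW₂, gW₂, o₂, n₂⟩ := h.exists_plane gW₁ (by omega)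
  obtain ⟨a₃, ha₃, b₃, hb₃, qa₃, qb₃, ab₃, -⟩ := h.exists_plane gW₂ (by omega)
  have ha₂' := hW₁ ha₂
  have hb₂' := hW₁ hb₂
  have ha₃' := hW₁ (hW₂ ha₃)
  have hb₃' := hW₁ (hW₂ hb₃)
  have t₁ := h.tri_of ha₁ hb₁ qa₁ qb₁ ab₁
  have t₂ := h.tri_of ha₂' hb₂' qa₂ qb₂ ab₂
  have t₃ := h.tri_of ha₃' hb₃' qa₃ qb₃ ab₃
  -- orthogonality
  have orth : ∀ {a b a' b' : G}, a ∈ N → b ∈ N → a' ∈ N → b' ∈ N → Bg C r a a' = 0 ∧ Bg C r b a' = 0 →
      Bg C r a b' = 0 ∧ Bg C r b b' = 0 →
      ∀ l l', Bg C r ((![a, b, a * b * c] : Fin 3 → G) l) ((![a', b', a' * b' * c] : Fin 3 → G) l') = 0 := by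
    intro a b a' b' ha hb ha' hb' ⟨e1, e2⟩ ⟨e3, e4⟩ l l'
    have key : ∀ x ∈ N, Bg C r x a' = 0 → Bg C r x b' = 0 →
        Bg C r x ((![a', b', a' * b' * c] : Fin 3 → G) l') = 0 := by
      intro x hx f1 f2
      have f3 : Bg C r x (a' * b' * c) = 0 := by
        rw [h.B_mulc hx (N.mul_mem ha' hb'), h.add x hx a' ha' b' hb', f1, f2, add_zero]
      fin_cases l' <;> assumption
    have g1 := key a ha e1 e3
    have g2 := key b hb e2 e4
    have g3 := key (a * b * c) (N.mul_mem (N.mul_mem ha hb) h.c_mem)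
      (by rw [h.B_mulc' (N.mul_mem ha hb) ha', h.add_left ha hb ha', e1, e2, add_zero])
      (by rw [h.B_mulc' (N.mul_mem ha hb) hb', h.add_left ha hb hb', e3, e4, add_zero])
    fin_cases l <;> assumption
  have o12 := orth ha₁ hb₁ ha₂' hb₂' (o₁ _ ha₂) (o₁ _ hb₂)
  have o13 := orth ha₁ hb₁ ha₃' hb₃' (o₁ _ (hW₂ ha₃)) (o₁ _ (hW₂ hb₃))
  have o23 := orth ha₂' hb₂' ha₃' hb₃' (o₂ _ ha₃) (o₂ _ hb₃)
  have hsym : ∀ {w w' : Fin 3 → G}, Tri C N r c w → Tri C N r c w' →
      (∀ l l', Bg C r (w l) (w' l') = 0) → ∀ l l', Bg C r (w' l) (w l') = 0 := by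
    intro w w' hw hw' ho l l'
    rw [h.comm _ (hw'.mem l) _ (hw.mem l'), ho]
  have h3 : 3 ≤ 2 := by
    refine h.rank_of_tri (n := 3) (m := 2)
      ![![a₁, b₁, a₁ * b₁ * c], ![a₂, b₂, a₂ * b₂ * c], ![a₃, b₃, a₃ * b₃ * c]] ?_ ?_ hr
    · intro i
      fin_cases i
      · exact t₁
      · exact t₂
      · exact t₃
    · intro i i' hne
      fin_cases i <;> fin_cases i'
      · exact absurd rfl hne
      · exact o12
      · exact o13
      · exact hsym t₁ t₂ o12
      · exact absurd rfl hne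
      · exact o23
      · exact hsym t₁ t₃ o13
      · exact hsym t₂ t₃ o23
      · exact absurd rfl hne
  omega

/-- The order of a good subspace. -/
theorem card_good [Finite G] : ∀ (m : ℕ) {W : Subgroup G}, Good C N r c W → Nat.card W ≤ m →
    ∃ k, Nat.card W = 2 * 4 ^ k := by
  classical
  intro m
  induction m with
  | zero =>
    intro W _ hm
    have := Nat.card_pos (α := W)
    omega
  | succ m ih =>
    intro W hW hm
    by_cases hc : 2 < Nat.card W
    · obtain ⟨a, _, b, _, _, _, _, W', _, gW', _, hn⟩ := h.exists_plane hW hc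
      have := Nat.card_pos (α := W')
      obtain ⟨k, hk⟩ := ih gW' (by omega)
      exact ⟨k + 1, by rw [hn, hk, pow_succ]; ring⟩
    · refine ⟨0, ?_⟩
      rw [pow_zero, mul_one]
      refine le_antisymm (by omega) ?_
      have hc1 : c ≠ 1 := by
        intro e
        have := h.Qc
        rw [e, Qg_one] at this
        exact zero_ne_one this
      have h1 : (({1, c} : Finset G) : Set G) ⊆ (W : Set G) := by
        intro y hy
        rcases Finset.mem_insert.1 (Finset.mem_coe.1 hy) with rfl | hy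
        · exact W.one_mem
        · rw [Finset.mem_singleton.1 hy]
          exact hW.c_mem
      have h2 := Set.ncard_le_ncard h1 (Set.toFinite _)
      rw [Set.ncard_coe_finset, Finset.card_pair hc1.symm] at h2
      exact h2

/-- `|N| = 2^{2n+1}`. -/
theorem exists_card [Finite G] : ∃ k, Nat.card N = 2 * 4 ^ k := h.card_good _ h.good_self le_rfl

/-- `32 ≤ |N|` if `N` contains a totally singular four-group. -/
theorem le_card [Finite G] {V : Subgroup G} (hV : V ≤ N) (hV4 : Nat.card V = 4)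
    (hQ : ∀ v ∈ V, Qg C r v = 0) : 32 ≤ Nat.card N := by
  classical
  have h8 : 8 < Nat.card N := by
    by_contra hcon
    push Not at hcon
    -- `N = V × ⟨c⟩`
    let F : V × Bool → N := fun x => ⟨(x.1 : G) * (if x.2 then c else 1), N.mul_mem (hV x.1.2) (by
      split_ifs
      · exact h.c_mem
      · exact N.one_mem)⟩
    have hFQ : ∀ x : V × Bool, Qg C r (F x : G) = if x.2 then 1 else 0 := by
      rintro ⟨v, e⟩
      cases e
      · show Qg C r ((v : G) * 1) = 0
        rw [mul_one]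
        exact hQ v v.2
      · show Qg C r ((v : G) * c) = 1
        rw [h.Qmulc (hV v.2), hQ v v.2, zero_add]
    have hinj : Function.Injective F := by
      rintro ⟨v, e⟩ ⟨v', e'⟩ he
      have h1 := hFQ (v, e)
      have h2 := hFQ (v', e')
      rw [he] at h1
      rw [h1] at h2
      have h3 : e = e' := by
        cases e <;> cases e' <;> first | rfl | simp at h2
      subst h3
      have h4 := congrArg Subtype.val he
      have h5 : (v : G) = v' := mul_right_cancel (show (v : G) * (if e then c else 1) =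
        (v' : G) * (if e then c else 1) from h4)
      rw [Subtype.ext h5]
    have hcardF : Nat.card (V × Bool) = 8 := by
      rw [Nat.card_prod, hV4, Nat.card_eq_fintype_card, Fintype.card_bool]
    have hbij := hinj.bijective_of_nat_card_le (by rw [hcardF]; exact hcon)
    -- the form vanishes
    obtain ⟨v, hv, hv1⟩ : ∃ v ∈ V, v ≠ 1 := by
      by_contra hc
      push Not at hc
      have : V = ⊥ := (Subgroup.eq_bot_iff_forall V).2 hc
      rw [this, Subgroup.card_bot] at hV4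
      omega
    have hB : ∀ u ∈ V, Bg C r v u = 0 := by
      intro u hu
      unfold Bg
      rw [hQ _ (V.mul_mem hv hu), hQ v hv, hQ u hu, add_zero, add_zero]
    have hrad : ∀ y ∈ N, Bg C r v y = 0 := by
      intro y hy
      obtain ⟨⟨u, e⟩, he⟩ := hbij.2 ⟨y, hy⟩
      have h1 : (u : G) * (if e then c else 1) = y := congrArg Subtype.val he
      rw [← h1]
      cases e
      · show Bg C r v ((u : G) * 1) = 0
        rw [mul_one]
        exact hB u u.2
      · show Bg C r v ((u : G) * c) = 0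
        rw [h.B_mulc (hV hv) (hV u.2)]
        exact hB u u.2
    rcases h.rad v (hV hv) hrad with e | e
    · exact hv1 e
    · have h1 := hQ v hv
      rw [e, h.Qc] at h1
      exact one_ne_zero h1
  obtain ⟨k, hk⟩ := h.exists_card
  have hk2 : 2 ≤ k := by
    by_contra hcon
    have : k = 0 ∨ k = 1 := by omega
    rcases this with rfl | rfl
    · rw [hk] at h8; norm_num at h8
    · rw [hk] at h8; norm_num at h8
  rw [hk]
  calc 32 = 2 * 4 ^ 2 := by norm_num
    _ ≤ 2 * 4 ^ k := Nat.mul_le_mul_left 2 (Nat.pow_le_pow_right (by norm_num) hk2)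

end GOrth

end Cfsg.Agent.Omega.TV

namespace Cfsg.Agent.Omega.IId.One

open Subgroup Cfsg Cfsg.Agent.Omega.TV

universe u

variable {G : Type u} [Group G] [Finite G] {T V₁ V₂ L₁ L₂ : Subgroup G} {v₁ v₂ s : G}

/-- **`|N₁| = 32`** if `[N₁, N₂] ≠ 1` and `m₃(G) ≤ 2`. -/
theorem One.card_N1 (h : One T V₁ V₂ L₁ L₂ v₁ v₂ s)
    (hI : ∃ x ∈ nc v₁ {v₂}, ∃ y ∈ nc v₂ {v₁}, x * y ≠ y * x) (hr : PRankLE 3 2 G) :
    Nat.card (nc v₁ {v₂}) = 32 :=
  le_antisymm ((h.orth hI).card_le hr) ((h.orth hI).le_card h.V2_le_N1 h.card2 fun _ hv => h.Q_V2 hv)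

/-- `|N₁| = 2^{2n+1}`, `n ≥ 2`. -/
theorem One.exists_card_N1 (h : One T V₁ V₂ L₁ L₂ v₁ v₂ s)
    (hI : ∃ x ∈ nc v₁ {v₂}, ∃ y ∈ nc v₂ {v₁}, x * y ≠ y * x) :
    ∃ n, 2 ≤ n ∧ Nat.card (nc v₁ {v₂}) = 2 * 4 ^ n := by
  obtain ⟨n, hn⟩ := (h.orth hI).exists_card
  refine ⟨n, ?_, hn⟩
  have h1 := (h.orth hI).le_card h.V2_le_N1 h.card2 fun _ hv => h.Q_V2 hv
  by_contra hcon
  have : n = 0 ∨ n = 1 := by omega
  rcases this with rfl | rfl
  · rw [hn] at h1; norm_num at h1
  · rw [hn] at h1; norm_num at h1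

end Cfsg.Agent.Omega.IId.One
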