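import Cfsg.Agent.Omega.IId.SpKill
import Cfsg.Agent.Omega.TV.GOrth

/-!
# II.d, CASE 1, `q = 2`: KILL OF `Sp₄(2)` from the orthogonal structure `GOrth` (helper304)
-/

set_option autoImplicit false

namespace Cfsg.Agent.Omega.IId.SpPlug

open Subgroup Cfsg Cfsg.Agent.ZN Cfsg.Agent.Omega.IId.SpForm Cfsg.Agent.Omega.IId.One Cfsg.Agent.Omega.TV

universe u

variable {G : Type u} [Group G]

theorem pol_eq {C : Subgroup G} {r x y : G} : pol (Qg C r) x y = Bg C r x y := rfl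

/-- `GOrth` gives `QF`. -/
theorem qf {C N : Subgroup G} {r c : G} (h : GOrth C N r c) : QF N C c (Qg C r) where
  add := fun x hx y hy z hz => h.add_left hx hy hz
  inv := h.inv
  Qv := h.Qc
  vrad := h.Bc
  rad := h.rad

/-- **KILL OF `Sp₄(2)`**: `One`, case B, `GOrth`, `|N₁| = 32`. -/
theorem false_of [Finite G] {T V₁ V₂ L₁ L₂ : Subgroup G} {v₁ v₂ s : G} (h : One T V₁ V₂ L₁ L₂ v₁ v₂ s)
    (hB : ¬ nc v₁ {v₂} ≤ centralizer (nc v₂ {v₁} : Set G)) (hO : GOrth (cz v₁) (nc v₁ {v₂}) v₂ v₁)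
    (h32 : Nat.card (nc v₁ {v₂}) = 32) : False :=
  SpKill.false_of h hB (qf hO) Qg_self h32

end Cfsg.Agent.Omega.IId.SpPlug
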