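import Cfsg.Agent.Omega.IId.Fac

/-!
# `NatK .. ⊥ k` and `SymK .. ⊥ k m` imply `C_V(O²(P)) = 1`

* `exists_pow_odd` : a power `g ^ (4 ^ a)` of `g ∈ P` is in `⟨elements of odd order of P⟩`;
* `free_of_nat`, `free_of_sym` : `Free S P`.
-/

set_option autoImplicit false

namespace Cfsg.Agent.Omega.IId

open Subgroup Cfsg Cfsg.Agent.ZN Cfsg.Agent.ZN.ChoiceBase
open Cfsg.Agent.Omega.MinPar Cfsg.Agent.Omega.FFThm
open Cfsg.Agent.Omega.FrameFF (cv Free)
open Cfsg.Agent.MinSimple.VModule (le_normalizer_zl oddGen)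
open Cfsg.Agent.Lib.SL2Mat
open Cfsg.Agent.Omega.NatPair (ap ap_mul ap_one ap_inv_ap ap_ap_inv exists_ap ap_add)

universe u

variable {G : Type u} [Group G] {S P : Subgroup G} {k : ℕ}

theorem exists_pow_odd [Finite G] {g : G} (hg : g ∈ P) : ∃ a : ℕ, g ^ (4 ^ a) ∈ oddGen P := by
  obtain ⟨a, m, hm, h⟩ := Nat.exists_eq_two_pow_mul_odd (n := orderOf g) (orderOf_pos g).ne'
  refine ⟨a, subset_closure ⟨pow_mem hg _, ?_⟩⟩
  have h1 : (g ^ (4 ^ a)) ^ m = 1 := by
    rw [← pow_mul, ← orderOf_dvd_iff_pow_eq_one, h]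
    have h2 : (4 : ℕ) ^ a = 2 ^ a * 2 ^ a := by rw [← mul_pow]; norm_num
    rw [h2]
    exact ⟨2 ^ a, by ring⟩
  exact Odd.of_dvd_nat hm (orderOf_dvd_of_pow_eq_one h1)

theorem four_pow (a : ℕ) : ∃ c, 4 ^ a = 3 * c + 1 := by
  induction a with
  | zero => exact ⟨0, rfl⟩
  | succ a ih =>
    obtain ⟨c, hc⟩ := ih
    exact ⟨4 * c + 1, by rw [pow_succ, hc]; ring⟩

theorem pow_four {H : Type*} [Monoid H] {x : H} (h : x ^ 3 = 1) (a : ℕ) : x ^ (4 ^ a) = x := by
  obtain ⟨c, hc⟩ := four_pow a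
  rw [hc, pow_succ, pow_mul, h, one_pow, one_mul]

section nat

variable {F : Type} [Field F] (M : NatK F S P (zl S P) ⊥ k)

theorem acts_pow {g : G} (hg : g ∈ P) {A : Fin k → Matrix.SpecialLinearGroup (Fin 2) F}
    (h1 : ActsSL M.e (zl S P) ⊥ g A) (n : ℕ) : ActsSL M.e (zl S P) ⊥ (g ^ n) (A ^ n) := by
  induction n with
  | zero => rw [pow_zero, pow_zero]; exact acts_one M
  | succ n ih =>
    rw [pow_succ, pow_succ]
    exact acts_mul hg ih h1

open Classical in
include M in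
/-- `C_V(O²(P)) = 1` -/
theorem free_of_nat [Finite G] [CharP F 2] : Free S P := by
  rw [Free, eq_bot_iff]
  rintro v ⟨hv, hc⟩
  rw [mem_bot, ← e_eq_zero M hv]
  funext i
  let A : Matrix.SpecialLinearGroup (Fin 2) F := mk 0 1 (-1) (-1) (by ring)
  have hA3 : A ^ 3 = 1 := by
    rw [pow_succ, pow_two]
    refine ext_ent ?_ ?_ ?_ ?_ <;> simp [A, ent_mul]
  obtain ⟨g, hg, h1⟩ := M.lift (Function.update 1 i A)
  have hU : (Function.update 1 i A : Fin k → Matrix.SpecialLinearGroup (Fin 2) F) ^ 3 = 1 := by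
    funext j
    by_cases hj : j = i
    · rw [hj, Pi.pow_apply, Function.update_self, hA3, Pi.one_apply]
    · rw [Pi.pow_apply, Function.update_of_ne hj, Pi.one_apply, one_pow]
  obtain ⟨a, ha⟩ := exists_pow_odd hg
  have h2 := acts_pow M hg h1 (4 ^ a)
  rw [pow_four hU] at h2
  have h3 : g ^ (4 ^ a) * v * (g ^ (4 ^ a))⁻¹ = v := by
    rw [mem_centralizer_iff.1 hc _ ha, mul_inv_cancel_right]
  have h4 := h2.1 v hv i
  rw [h3, Function.update_self] at h4
  have h5 := congrFun h4 0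
  have h6 := congrFun h4 1
  rw [NatPair.ap_zero'] at h5
  rw [NatPair.ap_one'] at h6
  simp only [A, mk_00, mk_01, mk_10, mk_11] at h5 h6
  have h7 : M.e v i 0 = M.e v i 1 := by rw [h5]; ring
  have h8 : M.e v i 0 = 0 := by
    have h9 : M.e v i 1 + M.e v i 1 = 0 := CharTwo.add_self_eq_zero _
    rw [h7] at h6
    have h10 : M.e v i 1 = -(M.e v i 1 + M.e v i 1) := by linear_combination h6
    rw [h7, h10, h9, neg_zero]
  exact NatPair.ext2 h8 (h7.symm.trans h8)

end nat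

section sym

variable {m : ℕ} (M : SymK S P (zl S P) ⊥ k m)

theorem actsSym_pow {g : G} (hg : g ∈ P) {τ : Fin k → Equiv.Perm (Fin (2 ^ m + 1))}
    (h1 : ActsSym M.e (zl S P) g 1 τ) (n : ℕ) : ActsSym M.e (zl S P) (g ^ n) 1 (τ ^ n) := by
  induction n with
  | zero =>
    intro v _ i x
    have e : g ^ 0 * v * (g ^ 0)⁻¹ = v := by simp
    rw [e]
    rfl
  | succ n ih =>
    intro v hv i x
    have e : g ^ (n + 1) * v * (g ^ (n + 1))⁻¹ = g * (g ^ n * v * (g ^ n)⁻¹) * g⁻¹ := by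
      rw [pow_succ' g n]; group
    have h2 := h1 (g ^ n * v * (g ^ n)⁻¹) (cj_mem (pow_mem hg n) hv) i ((τ ^ n) i x)
    rw [e]
    have e2 : (τ ^ (n + 1)) i x = τ i ((τ ^ n) i x) := by
      rw [pow_succ', Pi.mul_apply, Equiv.Perm.mul_apply]
    rw [e2]
    rw [Equiv.Perm.one_apply] at h2 ⊢
    rw [h2]
    exact ih v hv i x

open Classical in
include M in
/-- `C_V(O²(P)) = 1` -/
theorem free_of_sym [Finite G] (hm : 1 ≤ m) : Free S P := by
  rw [Free, eq_bot_iff]
  rintro v ⟨hv, hc⟩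
  rw [← M.ker v hv]
  funext i
  have key : ∀ τ : Equiv.Perm (Fin (2 ^ m + 1)), τ ^ 3 = 1 → ∀ x, M.e v i (τ x) = M.e v i x := by
    intro τ hτ x
    obtain ⟨g, hg, h1, -⟩ := M.lift (Function.update 1 i τ)
    have hU : (Function.update 1 i τ : Fin k → Equiv.Perm (Fin (2 ^ m + 1))) ^ 3 = 1 := by
      funext j
      by_cases hj : j = i
      · rw [hj, Pi.pow_apply, Function.update_self, hτ, Pi.one_apply]
      · rw [Pi.pow_apply, Function.update_of_ne hj, Pi.one_apply, one_pow]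
    obtain ⟨a, ha⟩ := exists_pow_odd hg
    have h2 := actsSym_pow M hg h1 (4 ^ a)
    rw [pow_four hU] at h2
    have h3 : g ^ (4 ^ a) * v * (g ^ (4 ^ a))⁻¹ = v := by
      rw [mem_centralizer_iff.1 hc _ ha, mul_inv_cancel_right]
    have h4 := h2 v hv i x
    rw [h3, Function.update_self] at h4
    exact h4
  have hn : 3 ≤ 2 ^ m + 1 := by
    have : 2 ^ 1 ≤ 2 ^ m := Nat.pow_le_pow_right (by norm_num) hm
    omega
  have hconst : ∀ x y, M.e v i x = M.e v i y := by
    intro x y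
    by_cases hxy : x = y
    · rw [hxy]
    obtain ⟨z, hzx, hzy⟩ : ∃ z, z ≠ x ∧ z ≠ y := by
      by_contra hcon
      push Not at hcon
      have h1 : (Finset.univ : Finset (Fin (2 ^ m + 1))) ⊆ {x, y} := by
        intro z _
        rw [Finset.mem_insert, Finset.mem_singleton]
        by_cases hz : z = x
        · exact Or.inl hz
        · exact Or.inr (hcon z hz)
      have h2 := Finset.card_le_card h1
      rw [Finset.card_univ, Fintype.card_fin] at h2
      have h3 : ({x, y} : Finset (Fin (2 ^ m + 1))).card ≤ 2 := Finset.card_le_two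
      omega
    have h3 : (Equiv.swap x z * Equiv.swap x y) ^ 3 = 1 := by
      have h4 := Equiv.Perm.isThreeCycle_swap_mul_swap_same hzx.symm hxy hzy
      rw [← h4.orderOf, pow_orderOf_eq_one]
    have h5 := key _ h3 x
    rw [Equiv.Perm.mul_apply, Equiv.swap_apply_left, Equiv.swap_apply_of_ne_of_ne (Ne.symm hxy) hzy.symm] at h5
    exact h5.symm
  funext x
  have hs := M.even v hv i
  rw [Finset.sum_congr rfl fun y _ => hconst y x, Finset.sum_const, Finset.card_univ, Fintype.card_fin] at hs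
  have h6 : ((2 ^ m + 1 : ℕ) : ZMod 2) = 1 := by
    have h7 : ((2 : ℕ) : ZMod 2) = 0 := rfl
    rw [Nat.cast_add, Nat.cast_pow, h7, zero_pow (by omega), zero_add, Nat.cast_one]
  rw [nsmul_eq_mul, h6, one_mul] at hs
  exact hs

end sym

end Cfsg.Agent.Omega.IId
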