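import Cfsg.Agent.Omega.IId.Line

/-!
# II.d: mutual pairs with a member which has `k ≥ 2` natural factors (assembler: helper36, head: helper612)

`LeafWr K` (`Omega/FrameMulti.lean`) from its sub-leaves.  In all of them the mutual pair is in normal position
(`Pair S S' P P'`: `V' ≤ S`, `V ≤ S'`), `V = zl S P`, `V' = zl S' P'`, and the hypotheses `Hyp K S` are
`Ctx G`, `K G`, `Full S`, `AllIn S`, `AllTyped S`.

* `WrCv`   : `C_V(O²(P)) ≠ 1` or `C_{V'}(O²(P')) ≠ 1`;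
* `WrSym`  : `P'` of type `S_{2^m+1}`;
* `WrTwo`  : natural factors on both sides, `|[V, V']| ≠ q` (`|I| ≥ 2`): contradiction;
* `WrBig`  : natural factors on both sides, `|[V, V']| = q`, more than two factors on one side;
* `WrTri`  : `k = 2`, `[V, V'] = R` a line of a factor, `N_S(V_i)` not Sylow in `N_G(R)`;
* `WrMain2`, `WrMain4` : `k = 2`, `N_S(V_i)` Sylow in `N_G(R)`, `q = 2` resp. `q ≥ 4`: contradiction.
-/

set_option autoImplicit false

namespace Cfsg.Agent.Omega.IId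

open Subgroup Pointwise Cfsg Cfsg.Agent.ZN Cfsg.Agent.ZN.ChoiceBase
open Cfsg.Agent.Omega.MinPar Cfsg.Agent.Omega.Frame Cfsg.Agent.Omega.FFThm Cfsg.Agent.Omega.FrameMulti
open Cfsg.Agent.Omega.FrameLE (AllIn)
open Cfsg.Agent.Omega.FrameFF (cv Free)

universe u

/-! ### The sub-leaves -/

/-- The standing hypotheses of the leaves. -/
structure Hyp (K : Cls.{u}) {G : Type u} [Group G] [Finite G] (S : Sylow 2 G) : Prop where
  ctx : Ctx G
  cls : K G
  full : Full (S : Subgroup G)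
  allIn : AllIn (S : Subgroup G)
  typed : AllTyped (S : Subgroup G)

/-- `n` is at most `|V_{Q₁}||V_{Q₂}|` for all mutual pairs `Q₁, Q₂` of which `Q₁` has `k ≥ 2` natural factors. -/
def MinWr {G : Type u} [Group G] (S : Subgroup G) (n : ℕ) : Prop :=
  ∀ (Q₁ Q₂ : Subgroup G) (x : G), Mutual S Q₁ Q₂ x → ∀ k, 2 ≤ k → IsNat S Q₁ k →
    n ≤ Nat.card (zl S Q₁) * Nat.card (zl S Q₂)

section leaves

variable (K : Cls.{u})

/-- `C_V(O²(P)) ≠ 1` for one of the members. (helper766, helper816) -/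
def WrCv : Prop :=
  ∀ (G : Type u) [Group G] [Finite G] (S S' : Sylow 2 G), Hyp K S → ∀ (P P' : Subgroup G), Pair S S' P P' →
    ∀ k, 2 ≤ k → IsNat (S : Subgroup G) P k →
      ¬ (Free (S : Subgroup G) P ∧ Free (S' : Subgroup G) P') → IsKnownSimple' G

/-- `P'` of type `S_{2^m+1}`, `m ≥ 2` (any number of factors). (helper592, helper242) -/
def WrSym : Prop :=
  ∀ (G : Type u) [Group G] [Finite G] (S S' : Sylow 2 G), Hyp K S → ∀ (P P' : Subgroup G), Pair S S' P P' →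
    ∀ k, 2 ≤ k → IsNat (S : Subgroup G) P k → Free (S : Subgroup G) P → Free (S' : Subgroup G) P' →
      ∀ k' m', 1 ≤ k' → 2 ≤ m' → IsSym (S' : Subgroup G) P' k' m' → IsKnownSimple' G

/-- `|I| ≥ 2`. (#11954, #12663: helper7, helper610; Lean: helper334, helper909) -/
def WrTwo : Prop :=
  ∀ (G : Type u) [Group G] [Finite G] (S S' : Sylow 2 G), Hyp K S → ∀ (P P' : Subgroup G), Pair S S' P P' →
    ∀ (F F' : Type) [Field F] [Finite F] [CharP F 2] [Field F'] [Finite F'] [CharP F' 2] (k k' : ℕ)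
      (_ : NatK F (S : Subgroup G) P (zl (S : Subgroup G) P) ⊥ k)
      (_ : NatK F' (S' : Subgroup G) P' (zl (S' : Subgroup G) P') ⊥ k'), 2 ≤ k → 1 ≤ k' →
      Nat.card ↥⁅zl (S : Subgroup G) P, zl (S' : Subgroup G) P'⁆ ≠ Nat.card F → False

/-- `|I| = 1`, more than two factors on one side. (helper461, helper612) -/
def WrBig : Prop :=
  ∀ (G : Type u) [Group G] [Finite G] (S S' : Sylow 2 G), Hyp K S → ∀ (P P' : Subgroup G), Pair S S' P P' →
    ∀ (F F' : Type) [Field F] [Finite F] [CharP F 2] [Field F'] [Finite F'] [CharP F' 2] (k k' : ℕ)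
      (_ : NatK F (S : Subgroup G) P (zl (S : Subgroup G) P) ⊥ k)
      (_ : NatK F' (S' : Subgroup G) P' (zl (S' : Subgroup G) P') ⊥ k'), 2 ≤ k → 1 ≤ k' →
      2 < k ∨ 2 < k' →
      Nat.card ↥⁅zl (S : Subgroup G) P, zl (S' : Subgroup G) P'⁆ = Nat.card F → IsKnownSimple' G

/-- CASE 2 (the triangle): `k = 2`, `|I| = 1`, `N_S(V_i)` is not Sylow in `N_G(R)`.
(#13363, #13524, #13793: helper113, helper612; Lean: helper774) -/
def WrTri : Prop :=
  ∀ (G : Type u) [Group G] [Finite G] (S S' : Sylow 2 G), Hyp K S → ∀ (P P' : Subgroup G), Pair S S' P P' →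
    ∀ (F F' : Type) [Field F] [Finite F] [CharP F 2] [Field F'] [Finite F'] [CharP F' 2] (k' : ℕ)
      (M : NatK F (S : Subgroup G) P (zl (S : Subgroup G) P) ⊥ 2)
      (_ : NatK F' (S' : Subgroup G) P' (zl (S' : Subgroup G) P') ⊥ k'), 1 ≤ k' → k' ≤ 2 →
      ∀ i, ⁅zl (S : Subgroup G) P, zl (S' : Subgroup G) P'⁆ = line M i →
        2 ∣ (stab M i).relIndex (normalizer (line M i : Set G)) → IsKnownSimple' G

/-- CASE 1: `k = 2`, `|I| = 1`, `N_S(V_i)` is Sylow in `N_G(R)`, `q = 2`.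
(#12430, #12999, #13722: helper478, helper766, helper895) -/
def WrMain2 : Prop :=
  ∀ (G : Type u) [Group G] [Finite G] (S S' : Sylow 2 G), Hyp K S → ∀ (P P' : Subgroup G), Pair S S' P P' →
    ∀ (F F' : Type) [Field F] [Finite F] [CharP F 2] [Field F'] [Finite F'] [CharP F' 2] (k' : ℕ)
      (M : NatK F (S : Subgroup G) P (zl (S : Subgroup G) P) ⊥ 2)
      (_ : NatK F' (S' : Subgroup G) P' (zl (S' : Subgroup G) P') ⊥ k'), 1 ≤ k' → k' ≤ 2 →
      ∀ i, ⁅zl (S : Subgroup G) P, zl (S' : Subgroup G) P'⁆ = line M i →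
        ¬ 2 ∣ (stab M i).relIndex (normalizer (line M i : Set G)) → Nat.card F = 2 → False

/-- CASE 1: `k = 2`, `|I| = 1`, `N_S(V_i)` is Sylow in `N_G(R)`, `q ≥ 4`; the pair is minimal (`MinWr`).
(head: helper441) -/
def WrMain4 : Prop :=
  ∀ (G : Type u) [Group G] [Finite G] (S S' : Sylow 2 G), Hyp K S → ∀ (P P' : Subgroup G), Pair S S' P P' →
    MinWr (S : Subgroup G) (Nat.card (zl (S : Subgroup G) P) * Nat.card (zl (S' : Subgroup G) P')) →
    ∀ (F F' : Type) [Field F] [Finite F] [CharP F 2] [Field F'] [Finite F'] [CharP F' 2] (k' : ℕ)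
      (M : NatK F (S : Subgroup G) P (zl (S : Subgroup G) P) ⊥ 2)
      (_ : NatK F' (S' : Subgroup G) P' (zl (S' : Subgroup G) P') ⊥ k'), 1 ≤ k' → k' ≤ 2 →
      ∀ i, ⁅zl (S : Subgroup G) P, zl (S' : Subgroup G) P'⁆ = line M i →
        ¬ 2 ∣ (stab M i).relIndex (normalizer (line M i : Set G)) → 4 ≤ Nat.card F → False

variable {K}

/-- **II.d, natural factors, from its sub-leaves.** -/
theorem leafWr (h1 : WrCv K) (h2 : WrSym K) (h3 : WrTwo K) (h4 : WrBig K) (h5 : WrTri K) (h6 : WrMain2 K)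
    (h7 : WrMain4 K) : LeafWr K := by
  intro G _ _ hG hcl S hF hLE hAT Q₁ Q₂ y₀ hm₀ k₀ hk₀ hN₀
  have hH : Hyp K S := ⟨hG, hcl, hF, hLE, hAT⟩
  -- a minimal pair
  let T : Type u := Subgroup G × Subgroup G × G
  obtain ⟨⟨P₁, P₂, x⟩, ⟨hm, k, hk, hN⟩, hmin⟩ := WellFounded.has_min
    (InvImage.wf (fun t : T => Nat.card (zl (S : Subgroup G) t.1) * Nat.card (zl (S : Subgroup G) t.2.1))
      Nat.lt_wfRel.wf)
    {t : T | Mutual (S : Subgroup G) t.1 t.2.1 t.2.2 ∧ ∃ k, 2 ≤ k ∧ IsNat (S : Subgroup G) t.1 k}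
    ⟨(Q₁, Q₂, y₀), hm₀, k₀, hk₀, hN₀⟩
  have hMin : ∀ y : G, MinWr (S : Subgroup G) (Nat.card (zl (S : Subgroup G) P₁) *
      Nat.card (zl ((sy y S : Sylow 2 G) : Subgroup G) (cj y P₂))) := by
    intro y R₁ R₂ z hR l hl hNR
    have h1 := hmin (R₁, R₂, z) ⟨hR, l, hl, hNR⟩
    have h2 : Nat.card (zl ((sy y S : Sylow 2 G) : Subgroup G) (cj y P₂)) =
        Nat.card (zl (S : Subgroup G) P₂) := by
      rw [sy_coe, zl_cj, card_cj]
    rw [h2]
    exact not_lt.1 h1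
  obtain ⟨y, hm', hp⟩ := exists_pair hG.char2 S hm
  have hT2 : Typed (S : Subgroup G) P₂ := (hAT P₁ P₂ x hm).2
  have hT2' : Typed ((sy y S : Sylow 2 G) : Subgroup G) (cj y P₂) := by
    rw [sy_coe]
    exact typed_cj hT2 y
  by_cases hf : Free (S : Subgroup G) P₁ ∧ Free ((sy y S : Sylow 2 G) : Subgroup G) (cj y P₂)
  · obtain ⟨f1, f2⟩ := hf
    rcases hT2'.cases with ⟨k', hk', hN'⟩ | ⟨k', m', hk', hm', hS'⟩
    · obtain ⟨F, i1, i2, i3, ⟨M⟩⟩ := hN
      obtain ⟨F', i1', i2', i3', ⟨M'⟩⟩ := hN'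
      rw [show cv (S : Subgroup G) P₁ = ⊥ from f1] at M
      rw [show cv ((sy y S : Sylow 2 G) : Subgroup G) (cj y P₂) = ⊥ from f2] at M'
      by_cases hc : Nat.card ↥⁅zl (S : Subgroup G) P₁, zl ((sy y S : Sylow 2 G) : Subgroup G) (cj y P₂)⁆ =
          Nat.card F
      · by_cases hb : 2 < k ∨ 2 < k'
        · exact h4 G S (sy y S) hH P₁ (cj y P₂) hp F F' k k' M M' hk hk' hb hc
        · push Not at hb
          obtain rfl : k = 2 := le_antisymm hb.1 hk
          obtain ⟨I, hI⟩ := exists_ind M hp.le (hp.off hG.char2 hT2'.noOver)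
          obtain ⟨i, -, hi⟩ := hI.eq_line (hp.le.trans hm.star₁.le) hc
          by_cases hd : 2 ∣ (stab M i).relIndex (normalizer (line M i : Set G))
          · exact h5 G S (sy y S) hH P₁ (cj y P₂) hp F F' k' M M' hk' hb.2 i hi hd
          · rcases FrameFF.two_le_card (F := F) with hq | hq
            · exact (h6 G S (sy y S) hH P₁ (cj y P₂) hp F F' k' M M' hk' hb.2 i hi hd hq).elim
            · exact (h7 G S (sy y S) hH P₁ (cj y P₂) hp (hMin y) F F' k' M M' hk' hb.2 i hi hd hq).elim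
      · exact (h3 G S (sy y S) hH P₁ (cj y P₂) hp F F' k k' M M' hk hk' hc).elim
    · exact h2 G S (sy y S) hH P₁ (cj y P₂) hp k hk hN f1 f2 k' m' hk' hm' hS'
  · exact h1 G S (sy y S) hH P₁ (cj y P₂) hp k hk hN hf

end leaves

end Cfsg.Agent.Omega.IId
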