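import Cfsg.Agent.Omega.IId.OneBase

/-!
# II.d, `q = 2`, CASE 1: `⟨C₁, C₂⟩` is nonlocal (helper593 #14067 (N))

`h : Base T V₁ V₂ L₁ L₂ v₁ v₂ s`, `|U| ≤ 2|T|` for every 2-group `U ≥ T`.

* `swap` : if `O` is a 2-group normalised by `T`, `O ≰ T`, `TO` a 2-group, then the elements of `O - T`
  interchange `v₁` and `v₂`;
* `o2_le_T` : `O₂(H) ≤ T` for every `H ≥ T, L₂` (`H` arbitrary);
* `vi_mem_zc` : `v₁, v₂ ∈ Ω₁Z(O₂(H))` for `H = N_G(U) ≥ T, L₂`, `U` a nontrivial 2-group;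
* `nonLoc_mixed` : `⟨C₁, C₂⟩` is nonlocal, if there is a second `Base T V₁' V₂' L₁' L₂' v₁ v₂ s` and `c ∈ C₁` with
  `[V₁, V₁'^c] ≠ 1`; `nonLoc` : the case `V₁' = V₁`;
* `card_le_two` : the hypothesis on `|U|` from `IId.Two`.
-/

set_option autoImplicit false
set_option linter.dupNamespace false
set_option linter.unusedSectionVars false

namespace Cfsg.Agent.Omega.IId.One

open Subgroup Cfsg Cfsg.Agent.ZN Cfsg.Agent.Omega.MinPar Cfsg.Agent.MinSimple.VModule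
open Cfsg.Agent.MinSimple.Basic
open Cfsg.Agent.Omega.IId.Two (le_normalizer_of)
open Cfsg.Agent.Omega

universe u

variable {G : Type u} [Group G]

namespace Base

variable [Finite G] {T V₁ V₂ L₁ L₂ : Subgroup G} {v₁ v₂ s : G}

section basic

variable (h : Base T V₁ V₂ L₁ L₂ v₁ v₂ s)
  (hT2 : ∀ U : Subgroup G, IsPGroup 2 U → T ≤ U → Nat.card U ≤ 2 * Nat.card T)

include h hT2

/-- The elements of `U - T`, `U ≥ T` a 2-group, interchange `v₁` and `v₂`. -/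
theorem swap {U : Subgroup G} (hU : IsPGroup 2 U) (hTU : T ≤ U) {x : G} (hx : x ∈ U) (hxT : x ∉ T) :
    x * v₁ * x⁻¹ = v₂ ∧ x * v₂ * x⁻¹ = v₁ := by
  have hne : T ≠ U := fun e => hxT (e ▸ hx)
  have hc : Nat.card U = 2 * Nat.card T := by
    have h1 := Half.card_mul_relIndex hTU
    have h2 := hT2 U hU hTU
    have h3 : 0 < Nat.card T := Nat.card_pos
    have h4 : T.relIndex U ≠ 1 := fun h5 => hne (le_antisymm hTU (relIndex_eq_one.mp h5))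
    have h5 : T.relIndex U ≠ 0 := by
      intro h6
      rw [h6, mul_zero] at h1
      have : 0 < Nat.card U := Nat.card_pos
      omega
    have h6 : T.relIndex U ≤ 2 := by
      by_contra h7
      push Not at h7
      nlinarith
    have h7 : T.relIndex U = 2 := by omega
    rw [← h1, h7, mul_comm]
  have two := IId.Two.two_cosets hTU hc
  have conjT : ∀ {y z : G}, y ∈ U → z ∈ T → y * z * y⁻¹ ∈ T := fun hy hz =>
    IId.Two.conj_mem_of_two hTU two hy hz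
  -- `x` acts on `Y`
  have hY : ∀ y ∈ T, y * y = 1 → (∀ t ∈ T, t * y = y * t) →
      x * y * x⁻¹ = 1 ∨ x * y * x⁻¹ = v₁ ∨ x * y * x⁻¹ = v₂ ∨ x * y * x⁻¹ = v₁ * v₂ := by
    intro y hy hy2 hyc
    refine h.fix _ (conjT hx hy) ?_ fun t ht => ?_
    · calc x * y * x⁻¹ * (x * y * x⁻¹) = x * (y * y) * x⁻¹ := by group
        _ = 1 := by rw [hy2]; group
    · have h1 : x⁻¹ * t * x ∈ T := by
        have := conjT (inv_mem hx) ht
        rwa [inv_inv] at this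
      have h2 := hyc _ h1
      calc t * (x * y * x⁻¹) = x * (x⁻¹ * t * x * y) * x⁻¹ := by group
        _ = x * y * x⁻¹ * t := by rw [h2]; group
  have hY1 := hY v₁ (h.V1T h.vV1) h.vq1 h.Tv1
  have hY2 := hY v₂ (h.V2T h.vV2) h.vq2 h.Tv2
  have inv_of : ∀ y z : G, x * y * x⁻¹ = z → y = x⁻¹ * z * x := by
    rintro y z rfl
    group
  -- `x` does not centralise `v₁` or `v₂`
  have nfix : ∀ w : G, (∀ t ∈ T, t * w = w * t) → x * w = w * x →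
      ∀ y ∈ U, y * w = w * y := by
    intro w hw hxw y hy
    by_cases hyT : y ∈ T
    · exact hw y hyT
    · have h1 := hw _ (two x hx y hy hxT hyT)
      calc y * w = x * (x⁻¹ * y * w) := by group
        _ = (x * w) * (x⁻¹ * y) := by rw [h1]; group
        _ = w * y := by rw [hxw]; group
  have hn1 : x * v₁ * x⁻¹ ≠ v₁ := fun e =>
    hxT (h.syl1 U hU hTU (nfix v₁ h.Tv1 (mul_inv_eq_iff_eq_mul.1 e)) hx)
  have hn2 : x * v₂ * x⁻¹ ≠ v₂ := fun e =>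
    hxT (h.syl2 U hU hTU (nfix v₂ h.Tv2 (mul_inv_eq_iff_eq_mul.1 e)) hx)
  -- `x² ∈ T`
  have hxx : x * x ∈ T := by
    have h1 := two x⁻¹ (inv_mem hx) x hx (fun h2 => hxT (inv_mem_iff.1 h2)) hxT
    rwa [inv_inv] at h1
  have x2 : ∀ w : G, (∀ t ∈ T, t * w = w * t) → x * (x * w * x⁻¹) * x⁻¹ = w := by
    intro w hw
    calc x * (x * w * x⁻¹) * x⁻¹ = (x * x) * w * (x * x)⁻¹ := by group
      _ = w := by rw [hw _ hxx]; group
  have e1 : x * v₁ * x⁻¹ = v₂ := by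
    rcases hY1 with h1 | h1 | h1 | h1
    · exfalso; apply h.v1; rw [inv_of _ _ h1]; group
    · exact absurd h1 hn1
    · exact h1
    · exfalso
      -- `x (v₁v₂) x⁻¹ = v₁`, so `x` fixes `v₂`
      have h2 := x2 v₁ h.Tv1
      rw [h1] at h2
      have h3 : x * (v₁ * v₂) * x⁻¹ = (x * v₁ * x⁻¹) * (x * v₂ * x⁻¹) := by group
      rw [h3, h1] at h2
      apply hn2
      have h4 : x * v₂ * x⁻¹ = (v₁ * v₂)⁻¹ * v₁ := eq_inv_mul_of_mul_eq h2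
      rw [h4, mul_inv_rev, mul_assoc, inv_mul_cancel, mul_one]
      exact inv_eq_of_mul_eq_one_left h.vq2
  refine ⟨e1, ?_⟩
  have h2 := x2 v₁ h.Tv1
  rwa [e1] at h2

/-- `O₂(H) ≤ T` for `H ≥ T, L₂`. -/
theorem o2_le_T {H : Subgroup G} (hTH : T ≤ H) (hL : L₂ ≤ H) : ZN.o2 H ≤ T := by
  obtain ⟨U, h1, h2, h3, h4⟩ := Half.exists_sylow_le h.pT hTH
  have h5 : ZN.o2 H ≤ U := o2_le_of_sylow h3 h4
  intro x hx
  by_contra hxT
  have key : ∀ y ∈ ZN.o2 H, y ∉ T → y * v₁ * y⁻¹ = v₂ := fun y hy hyT =>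
    (h.swap hT2 h3 h1 (h5 hy) hyT).1
  -- an element `l ∈ L₂` moving `v₂`
  obtain ⟨w, hw, hw1, hw2⟩ : ∃ w ∈ V₂, w ≠ 1 ∧ w ≠ v₂ := by
    by_contra hcon
    push Not at hcon
    have h6 : V₂ ≤ zpowers v₂ := by
      intro y hy
      by_cases hy1 : y = 1
      · rw [hy1]; exact one_mem _
      · rw [hcon y hy hy1]; exact mem_zpowers _
    have h7 := card_le_of_le h6
    rw [h.card2, Nat.card_zpowers] at h7
    have h8 : orderOf v₂ ≤ 2 := orderOf_le_of_pow_eq_one (by norm_num) (by rw [pow_two, h.vq2])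
    omega
  obtain ⟨l, hl, hlw⟩ := h.t2 v₂ h.vV2 h.v2 w hw hw1
  have hlx : l * x * l⁻¹ ∈ ZN.o2 H := (mem_normalizer_iff.1 (le_normalizer_o2 H (hL hl)) x).1 hx
  have hl1 : l⁻¹ * v₁ * l = v₁ := by
    calc l⁻¹ * v₁ * l = l⁻¹ * (v₁ * l) := by group
      _ = v₁ := by rw [← h.L21 l hl v₁ h.vV1]; group
  have e1 : l * x * l⁻¹ * v₁ * (l * x * l⁻¹)⁻¹ = w := by
    calc l * x * l⁻¹ * v₁ * (l * x * l⁻¹)⁻¹ = l * (x * (l⁻¹ * v₁ * l) * x⁻¹) * l⁻¹ := by group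
      _ = w := by rw [hl1, key x hx hxT, hlw]
  by_cases hlT : l * x * l⁻¹ ∈ T
  · have h6 := h.Tv1 _ hlT
    rw [h6, mul_inv_cancel_right] at e1
    exact h.v1 (h.inf v₁ h.vV1 (e1 ▸ hw))
  · rw [key _ hlx hlT] at e1
    exact hw2 e1.symm

/-- `v₁, v₂ ∈ Ω₁Z(O₂(H))`, `H = N_G(U) ≥ T, L₂`. -/
theorem vi_mem_zc {U : Subgroup G} (hU : IsPGroup 2 U) (hU1 : U ≠ ⊥) (hTU : T ≤ normalizer (U : Set G))
    (hL : L₂ ≤ normalizer (U : Set G)) :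
    v₁ ∈ zc (ZN.o2 (normalizer (U : Set G))) ∧ v₂ ∈ zc (ZN.o2 (normalizer (U : Set G))) := by
  have h1 := h.o2_le_T hT2 hTU hL
  have h2 := char2_normalizer h.C2T hU hU1
  have key : ∀ w ∈ T, (∀ t ∈ T, t * w = w * t) → w * w = 1 → w ∈ zc (ZN.o2 (normalizer (U : Set G))) := by
    intro w hw hwc hw2
    have h3 : ∀ y ∈ ZN.o2 (normalizer (U : Set G)), y * w = w * y := fun y hy => hwc y (h1 hy)
    refine mem_zc.2 ⟨h2 ⟨hTU hw, mem_centralizer_iff.2 h3⟩, h3, by rw [pow_two, hw2]⟩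
  exact ⟨key v₁ (h.V1T h.vV1) h.Tv1 h.vq1, key v₂ (h.V2T h.vV2) h.Tv2 h.vq2⟩

end basic

/-- **`⟨C₁, C₂⟩` is nonlocal** (mixed pair). -/
theorem nonLoc_mixed {V₁' V₂' L₁' L₂' : Subgroup G} (h : Base T V₁ V₂ L₁ L₂ v₁ v₂ s)
    (h' : Base T V₁' V₂' L₁' L₂' v₁ v₂ s)
    (hT2 : ∀ U : Subgroup G, IsPGroup 2 U → T ≤ U → Nat.card U ≤ 2 * Nat.card T)
    (hm : ∃ c ∈ cz v₁, ∃ a ∈ V₁, ∃ b ∈ V₁', a * (c * b * c⁻¹) ≠ c * b * c⁻¹ * a)
    {U : Subgroup G} (hU : IsPGroup 2 U) (h1 : cz v₁ ≤ normalizer (U : Set G))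
    (h2 : cz v₂ ≤ normalizer (U : Set G)) : U = ⊥ := by
  by_contra hU1
  have hz := h.vi_mem_zc hT2 hU hU1 (h.T_le.trans h1) (h.L2_le.trans h1)
  have hn : normalizer (U : Set G) ≤ normalizer (zc (ZN.o2 (normalizer (U : Set G))) : Set G) :=
    (le_normalizer_o2 _).trans (normalizer_le_normalizer_zc _)
  have hV : V₁ ≤ zc (ZN.o2 (normalizer (U : Set G))) := h.V1_le_of (h.L1_le.trans (h2.trans hn)) hz.1
  have hV' : V₁' ≤ zc (ZN.o2 (normalizer (U : Set G))) := h'.V1_le_of (h'.L1_le.trans (h2.trans hn)) hz.1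
  obtain ⟨c, hc, a, ha, b, hb, hne⟩ := hm
  exact hne (zc_comm _ a (hV ha) _ ((mem_normalizer_iff.1 (hn (h1 hc)) b).1 (hV' hb)))

/-- **`⟨C₁, C₂⟩` is nonlocal.** -/
theorem nonLoc (h : Base T V₁ V₂ L₁ L₂ v₁ v₂ s)
    (hT2 : ∀ U : Subgroup G, IsPGroup 2 U → T ≤ U → Nat.card U ≤ 2 * Nat.card T)
    (hm : ∃ c ∈ cz v₁, ∃ a ∈ V₁, ∃ b ∈ V₁, a * (c * b * c⁻¹) ≠ c * b * c⁻¹ * a)
    {U : Subgroup G} (hU : IsPGroup 2 U) (h1 : cz v₁ ≤ normalizer (U : Set G))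
    (h2 : cz v₂ ≤ normalizer (U : Set G)) : U = ⊥ := h.nonLoc_mixed h hT2 hm hU h1 h2

end Base

/-- `|U| ≤ 2|So|` for every 2-group `U`. -/
theorem card_le_two [Finite G] {S : Sylow 2 G} {So V₁ V₂ L₁ L₂ : Subgroup G}
    (h : IId.Two (S : Subgroup G) So V₁ V₂ L₁ L₂) (U : Subgroup G) (hU : IsPGroup 2 U) :
    Nat.card U ≤ 2 * Nat.card So := by
  rw [← h.card]
  obtain ⟨Q, hQ⟩ := hU.exists_le_sylow
  have h1 : Nat.card (Q : Subgroup G) = Nat.card (S : Subgroup G) := by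
    have : Fact (Nat.Prime 2) := ⟨Nat.prime_two⟩
    rw [Q.card_eq_multiplicity, S.card_eq_multiplicity]
  rw [← h1]
  exact card_le_of_le hQ

end Cfsg.Agent.Omega.IId.One
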