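import Cfsg.Agent.Omega.IId.SymMain

/-!
# II.d: the structure `Base` (`Omega/IId/One.lean`) for two natural `SL₂(2)`-factors

* `Pre S So V₁ V₂ L₁ L₂ s v` : `Two`, `|Ω₁Z(S)| = 2`, `s ∈ S - So`, `1 ≠ v ∈ C_{V₁}(So)`; `Pre.zcSo_cases` :
  `Ω₁Z(So) = {1, v, v^s, v v^s}`;
* `Pre.base` : if moreover `|V₁| = |V₂| = 4` and `So` is a Sylow 2-subgroup of `C_G(v)`, then `Base` holds.
-/

set_option autoImplicit false
set_option linter.unusedSectionVars false

namespace Cfsg.Agent.Omega.IId.Sym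

open Subgroup Cfsg Cfsg.Agent.Omega.MinPar Cfsg.Agent.Omega.Frame
open Cfsg.Agent.ZN (o2 zc zl)
open Cfsg.Agent.Omega.IId.Two
open Cfsg.Agent.MinSimple.VModule
open scoped Pointwise

universe u

variable {G : Type u} [Group G]

/-- `Two`, `|Ω₁Z(S)| = 2`, `s ∈ S - So`, `1 ≠ v ∈ C_{V₁}(So)`. -/
structure Pre [Finite G] (S : Sylow 2 G) (So V₁ V₂ L₁ L₂ : Subgroup G) (s v : G) : Prop
    extends IId.Two (S : Subgroup G) So V₁ V₂ L₁ L₂ where
  zcS : Nat.card (zc (S : Subgroup G)) = 2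
  sS : s ∈ (S : Subgroup G)
  sSo : s ∉ So
  vV : v ∈ V₁
  v1 : v ≠ 1
  vSo : ∀ x ∈ So, x * v = v * x

namespace Pre

variable [Finite G] {S : Sylow 2 G} {So V₁ V₂ L₁ L₂ : Subgroup G} {s v : G}
  (h : Pre S So V₁ V₂ L₁ L₂ s v)

include h

theorem two : ∀ a ∈ (S : Subgroup G), ∀ b ∈ (S : Subgroup G), a ∉ So → b ∉ So → a⁻¹ * b ∈ So :=
  two_cosets h.SoS h.card

theorem ss : s * s ∈ So := by
  have h1 := h.two s⁻¹ (inv_mem h.sS) s h.sS (fun h1 => h.sSo (inv_mem_iff.1 h1)) h.sSo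
  rwa [inv_inv] at h1

theorem conjS {x : G} (hx : x ∈ So) : s * x * s⁻¹ ∈ So := conj_mem_of_two h.SoS h.two h.sS hx

theorem conjS' {x : G} (hx : x ∈ So) : s⁻¹ * x * s ∈ So := by
  have h1 := conj_mem_of_two h.SoS h.two (inv_mem h.sS) hx
  rwa [inv_inv] at h1

theorem wV : s * v * s⁻¹ ∈ V₂ := h.sw1 s h.sS h.sSo v h.vV

theorem w1 : s * v * s⁻¹ ≠ 1 := by
  intro h1
  apply h.v1
  have h2 : v = s⁻¹ * (s * v * s⁻¹) * s := by group
  rw [h2, h1]; group

theorem wSo {x : G} (hx : x ∈ So) : x * (s * v * s⁻¹) = s * v * s⁻¹ * x := by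
  have h1 := h.vSo _ (h.conjS' hx)
  calc x * (s * v * s⁻¹) = s * (s⁻¹ * x * s * v) * s⁻¹ := by group
    _ = s * (v * (s⁻¹ * x * s)) * s⁻¹ := by rw [h1]
    _ = s * v * s⁻¹ * x := by group

theorem v_zc : v ∈ zc So := mem_zc.2 ⟨h.V1So h.vV, h.vSo, h.q1 v h.vV⟩

theorem w_zc : s * v * s⁻¹ ∈ zc So := mem_zc.2 ⟨h.V2So h.wV, fun _ hy => h.wSo hy, h.q2 _ h.wV⟩

theorem sws : s * (s * v * s⁻¹) * s⁻¹ = v := by
  have h1 := h.vSo _ h.ss
  calc s * (s * v * s⁻¹) * s⁻¹ = s * s * v * (s * s)⁻¹ := by group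
    _ = v := by rw [h1]; group

theorem vw : v ≠ s * v * s⁻¹ := by
  intro h1
  apply h.v1
  apply h.inf v h.vV
  rw [h1]
  exact h.wV

theorem vv : v * v = 1 := by rw [← pow_two]; exact h.q1 v h.vV

theorem ww : s * v * s⁻¹ * (s * v * s⁻¹) = 1 := by rw [← pow_two]; exact h.q2 _ h.wV

theorem vwc : v * (s * v * s⁻¹) = s * v * s⁻¹ * v := h.c12 v h.vV _ h.wV

theorem zne : v * (s * v * s⁻¹) ≠ 1 := by
  intro h1
  apply h.vw
  exact mul_right_cancel (h1.trans h.ww.symm)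

theorem zS : v * (s * v * s⁻¹) ∈ zc (S : Subgroup G) := by
  refine mem_zc.2 ⟨mul_mem (h.SoS (h.V1So h.vV)) (h.SoS (h.V2So h.wV)), ?_, ?_⟩
  · have key : ∀ y ∈ So, y * (v * (s * v * s⁻¹)) = v * (s * v * s⁻¹) * y := by
      intro y hy
      calc y * (v * (s * v * s⁻¹)) = (y * v) * (s * v * s⁻¹) := by group
        _ = v * (y * (s * v * s⁻¹)) := by rw [h.vSo y hy]; group
        _ = v * (s * v * s⁻¹) * y := by rw [h.wSo hy]; group
    have ks : s * (v * (s * v * s⁻¹)) = v * (s * v * s⁻¹) * s := by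
      calc s * (v * (s * v * s⁻¹)) = (s * v * s⁻¹) * (s * (s * v * s⁻¹) * s⁻¹) * s := by group
        _ = v * (s * v * s⁻¹) * s := by rw [h.sws, h.vwc]
    intro y hy
    by_cases hyS : y ∈ So
    · exact key y hyS
    · have h1 := key _ (h.two s h.sS y hy h.sSo hyS)
      calc y * (v * (s * v * s⁻¹)) = s * (s⁻¹ * y * (v * (s * v * s⁻¹))) := by group
        _ = s * (v * (s * v * s⁻¹)) * (s⁻¹ * y) := by rw [h1]; group
        _ = v * (s * v * s⁻¹) * y := by rw [ks]; group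
  · rw [pow_two]
    calc v * (s * v * s⁻¹) * (v * (s * v * s⁻¹)) = v * ((s * v * s⁻¹) * v) * (s * v * s⁻¹) := by group
      _ = (v * v) * ((s * v * s⁻¹) * (s * v * s⁻¹)) := by rw [← h.vwc]; group
      _ = 1 := by rw [h.vv, h.ww, one_mul]

theorem zcS_cases {x : G} (hx : x ∈ zc (S : Subgroup G)) : x = 1 ∨ x = v * (s * v * s⁻¹) :=
  eq_or_eq_of_card_two h.zcS h.zS h.zne hx

/-- (1) `Ω₁Z(So)` is a four-group. -/
theorem zcSo_cases {x : G} (hx : x ∈ zc So) :
    x = 1 ∨ x = v ∨ x = s * v * s⁻¹ ∨ x = v * (s * v * s⁻¹) := by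
  -- the elements fixed by `s`
  have key : ∀ y ∈ zc So, s * y * s⁻¹ = y → y = 1 ∨ y = v * (s * v * s⁻¹) := by
    intro y hy hys
    obtain ⟨hy1, hy2, hy3⟩ := mem_zc.1 hy
    apply h.zcS_cases
    refine mem_zc.2 ⟨h.SoS hy1, ?_, hy3⟩
    intro a ha
    by_cases haS : a ∈ So
    · exact hy2 a haS
    · have h1 := hy2 _ (h.two s h.sS a ha h.sSo haS)
      have h2 : s * y = y * s := mul_inv_eq_iff_eq_mul.1 hys
      calc a * y = s * (s⁻¹ * a * y) := by group
        _ = (s * y) * (s⁻¹ * a) := by rw [h1]; group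
        _ = y * a := by rw [h2]; group
  have hs : ∀ y ∈ zc So, s * y * s⁻¹ ∈ zc So := by
    intro y hy
    have h1 : s ∈ normalizer (So : Set G) := by
      rw [mem_normalizer_iff]
      intro a
      refine ⟨fun ha => h.conjS ha, fun ha => ?_⟩
      have h2 := h.conjS' ha
      have h3 : s⁻¹ * (s * a * s⁻¹) * s = a := by group
      rwa [h3] at h2
    exact (mem_normalizer_iff.1 (normalizer_le_normalizer_zc _ h1) y).1 hy
  have hcc := zc_comm So
  have hsq : ∀ y ∈ zc So, y * y = 1 := fun y hy => by rw [← pow_two]; exact zc_sq _ y hy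
  have hN : ∀ y ∈ zc So, y * (s * y * s⁻¹) = 1 ∨ y * (s * y * s⁻¹) = v * (s * v * s⁻¹) := by
    intro y hy
    apply key _ (mul_mem hy (hs y hy))
    have h1 : s * s * y = y * (s * s) := (mem_zc.1 hy).2.1 _ h.ss
    calc s * (y * (s * y * s⁻¹)) * s⁻¹ = (s * y * s⁻¹) * (s * s * y * (s * s)⁻¹) := by group
      _ = (s * y * s⁻¹) * y := by rw [h1]; group
      _ = y * (s * y * s⁻¹) := (hcc _ hy _ (hs y hy)).symm
  have hfix : ∀ y ∈ zc So, y * (s * y * s⁻¹) = 1 → y = 1 ∨ y = v * (s * v * s⁻¹) := by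
    intro y hy h1
    apply key y hy
    have h2 := hsq y hy
    rw [← h2] at h1
    exact mul_left_cancel h1
  rcases hN x hx with h1 | h1
  · rcases hfix x hx h1 with h2 | h2
    · exact Or.inl h2
    · exact Or.inr (Or.inr (Or.inr h2))
  · have hxv : x * v ∈ zc So := mul_mem hx h.v_zc
    have h2 : x * v * (s * (x * v) * s⁻¹) = 1 := by
      calc x * v * (s * (x * v) * s⁻¹) = x * (v * (s * x * s⁻¹)) * (s * v * s⁻¹) := by group
        _ = x * (s * x * s⁻¹) * (v * (s * v * s⁻¹)) := by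
            rw [hcc v h.v_zc _ (hs x hx)]; group
        _ = v * (s * v * s⁻¹) * (v * (s * v * s⁻¹)) := by rw [h1]
        _ = 1 := by rw [← pow_two]; exact zc_sq _ _ h.zS
    have hxx : x = x * v * v := by rw [mul_assoc, h.vv, mul_one]
    rcases hfix _ hxv h2 with h3 | h3
    · right; left
      rw [hxx, h3, one_mul]
    · right; right; left
      rw [hxx, h3, h.vwc, mul_assoc, h.vv, mul_one]

/-- `Pre` for the other factor. -/
theorem symm : Pre S So V₂ V₁ L₂ L₁ s (s * v * s⁻¹) where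
  toTwo := h.toTwo.symm
  zcS := h.zcS
  sS := h.sS
  sSo := h.sSo
  vV := h.wV
  v1 := h.w1
  vSo := fun _ hx => h.wSo hx

/-- **The structure `Base`.** -/
theorem base (hG : IsCharacteristicTwoType G) (hc1 : Nat.card V₁ = 4) (hc2 : Nat.card V₂ = 4)
    (hsyl : ¬ 2 ∣ So.relIndex (centralizer ({v} : Set G))) :
    One.Base So V₁ V₂ L₁ L₂ v (s * v * s⁻¹) s := by
  have pSo : IsPGroup 2 So := S.isPGroup'.to_le h.SoS
  have hSoC : So ≤ centralizer ({v} : Set G) := fun x hx => mem_centralizer_singleton_iff.2 (h.vSo x hx)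
  have syl1 : ∀ U : Subgroup G, IsPGroup 2 U → So ≤ U → (∀ x ∈ U, x * v = v * x) → U ≤ So := by
    intro U hU hle hUv
    have hfact : Fact (Nat.Prime 2) := ⟨Nat.prime_two⟩
    have hUC : U ≤ centralizer ({v} : Set G) := fun x hx => mem_centralizer_singleton_iff.2 (hUv x hx)
    have h1 : So.relIndex U ∣ So.relIndex (centralizer ({v} : Set G)) :=
      Dvd.intro _ (relIndex_mul_relIndex _ _ _ hle hUC)
    have h2 : ¬ 2 ∣ So.relIndex U := fun h3 => hsyl (h3.trans h1)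
    obtain ⟨n, hn⟩ := IsPGroup.iff_card.1 hU
    have h3 : So.relIndex U ∣ 2 ^ n := by
      rw [← hn, ← Half.card_mul_relIndex hle]
      exact dvd_mul_left _ _
    obtain ⟨m, -, hm⟩ := (Nat.dvd_prime_pow Nat.prime_two).1 h3
    rcases Nat.eq_zero_or_pos m with h4 | h4
    · rw [h4, pow_zero, relIndex_eq_one] at hm
      exact hm
    · exfalso
      apply h2
      rw [hm]
      exact dvd_pow_self 2 h4.ne'
  have hq1 : ∀ x ∈ V₁, x * x = 1 := fun x hx => by rw [← pow_two]; exact h.q1 x hx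
  have hq2 : ∀ x ∈ V₂, x * x = 1 := fun x hx => by rw [← pow_two]; exact h.q2 x hx
  have half1 := h.toTwo.half h.vV h.v1 (H := One.cz v) (fun x hx => One.mem_cz.1 hx)
    (MinSimple.Basic.char2_centralizer hG (h.q1 _ h.vV) h.v1) hSoC
    (fun l hl => One.mem_cz.2 (h.L21 l hl _ h.vV))
  have half2 := h.toTwo.symm.half h.wV h.w1 (H := One.cz (s * v * s⁻¹)) (fun x hx => One.mem_cz.1 hx)
    (MinSimple.Basic.char2_centralizer hG (h.q2 _ h.wV) h.w1)
    (fun x hx => One.mem_cz.2 (h.wSo hx)) (fun l hl => One.mem_cz.2 (h.L12 l hl _ h.wV))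
  exact
  { C2T := hG
    pT := pSo
    V1T := h.V1So
    V2T := h.V2So
    card1 := hc1
    card2 := hc2
    c1 := h.c1
    c2 := h.c2
    q1 := hq1
    q2 := hq2
    c12 := h.c12
    inf := h.inf
    vV1 := h.vV
    vV2 := h.wV
    v1 := h.v1
    v2 := h.w1
    Tv1 := h.vSo
    Tv2 := fun x hx => h.wSo hx
    T1 := h.So1
    T2 := h.So2
    L1 := h.L1
    L2 := h.L2
    L12 := h.L12
    L21 := h.L21
    t1 := h.t1
    t2 := h.t2
    fix := fun x hx hxx hc => h.zcSo_cases (mem_zc.2 ⟨hx, hc, by rw [pow_two]; exact hxx⟩)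
    syl1 := syl1
    syl2 := by
      intro U hU hle hUv
      -- conjugate by `s⁻¹`
      have h1 : U.map (MulAut.conj s⁻¹).toMonoidHom ≤ So := by
        refine syl1 _ (hU.map _) ?_ ?_
        · intro x hx
          exact ⟨s * x * s⁻¹, hle (h.conjS hx), by simp [mul_assoc]⟩
        · rintro _ ⟨x, hx, rfl⟩
          have h2 := hUv x hx
          change s⁻¹ * x * s⁻¹⁻¹ * v = v * (s⁻¹ * x * s⁻¹⁻¹)
          calc s⁻¹ * x * s⁻¹⁻¹ * v = s⁻¹ * (x * (s * v * s⁻¹)) * s := by group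
            _ = v * (s⁻¹ * x * s⁻¹⁻¹) := by rw [h2]; group
      intro x hx
      have h2 : s⁻¹ * x * s ∈ So := by
        have := h1 ⟨x, hx, rfl⟩
        simpa using this
      have h3 := h.conjS h2
      have e : s * (s⁻¹ * x * s) * s⁻¹ = x := by group
      rwa [e] at h3
    half1 := half1.1
    half2 := half2.1
    halfc1 := fun x hx v hv => (mem_centralizer_iff.1 (half1.2 hx) v hv).symm
    halfc2 := fun x hx v hv => (mem_centralizer_iff.1 (half2.2 hx) v hv).symm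
    sT := fun x hx => h.conjS hx
    s1 := fun v hv => h.sw1 s h.sS h.sSo v hv
    s2 := fun v hv => h.sw2 s h.sS h.sSo v hv
    sv1 := rfl
    sv2 := h.sws }

end Pre

section nat

variable [Finite G] {S : Sylow 2 G} {P : Subgroup G} {F : Type} [Field F] [Finite F] [CharP F 2]

/-- **`Pre` for two natural `SL₂(2)`-factors.** -/
theorem pre_of (hc : IsCharacteristicTwoType G) (hP : IsParS (S : Subgroup G) P)
    (M : FFThm.NatK F (S : Subgroup G) P (zl (S : Subgroup G) P) ⊥ 2) (hF : Nat.card F = 2) {i j : Fin 2}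
    (hij : i ≠ j) {n : G} (hn : n ∈ line M i) (hn1 : n ≠ 1) {s : G} (hs : s ∈ (S : Subgroup G))
    (hs1 : s ∉ stab M i) : Pre S (stab M i) (fac M i) (fac M j) (grp M {i}) (grp M {j}) s n where
  toTwo := two_of hc hP M hij
  zcS := card_zcS M hc hP hF
  sS := hs
  sSo := hs1
  vV := line_le M i hn
  v1 := hn1
  vSo := fun _ hx => stab_comm hF hn hn1 hx

/-- **`Base` for two natural `SL₂(2)`-factors.** -/
theorem base_of (hc : IsCharacteristicTwoType G) (hP : IsParS (S : Subgroup G) P)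
    (M : FFThm.NatK F (S : Subgroup G) P (zl (S : Subgroup G) P) ⊥ 2) (hF : Nat.card F = 2) {i j : Fin 2}
    (hij : i ≠ j) {n : G} (hn : n ∈ line M i) (hn1 : n ≠ 1) {s : G} (hs : s ∈ (S : Subgroup G))
    (hs1 : s ∉ stab M i) (hsyl : ¬ 2 ∣ (stab M i).relIndex (centralizer ({n} : Set G))) :
    One.Base (stab M i) (fac M i) (fac M j) (grp M {i}) (grp M {j}) n (s * n * s⁻¹) s := by
  refine (pre_of hc hP M hF hij hn hn1 hs hs1).base hc ?_ ?_ hsyl
  · rw [card_fac, hF]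
    norm_num
  · rw [card_fac, hF]
    norm_num

end nat

end Cfsg.Agent.Omega.IId.Sym
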