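import Cfsg.Agent.Omega.IId.Sup
import Cfsg.Agent.Omega.IId.SideOf
import Cfsg.Agent.Omega.IId.SymBase
import Cfsg.Agent.Omega.IId.NonLoc
import Cfsg.Agent.Omega.IId.Main

/-!
# II.d, CASE 1, `q = 2`: the configuration `One` from the frame of `WrMain2`

* `exists_cj` : conjugates of `M : NatK F S P (zl S P) ⊥ k` over a given conjugate of `S`;
* `exists_align` : two pairs `T ≤ S`, `T' ≤ S'` (index 2) with `T`, `T'` Sylow 2-subgroups of `C_G(v)` are
  conjugate in `C_G(v)`, if `Base T V₁ V₂ L₁ L₂ v v₂ s` with `s ∈ S`;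
* `exists_one` : the frame of `WrMain2` gives `One` and `⟨C₁, C₂⟩` nonlocal;
* `NoOne` : there is no such configuration; `wrMain2 : NoOne → WrMain2 K`.
-/

set_option autoImplicit false
set_option linter.unusedSectionVars false

namespace Cfsg.Agent.Omega.IId

open Subgroup Pointwise Cfsg Cfsg.Agent.ZN Cfsg.Agent.ZN.ChoiceBase
open Cfsg.Agent.Omega.MinPar Cfsg.Agent.Omega.Frame Cfsg.Agent.Omega.FFThm Cfsg.Agent.Omega.FrameMulti
open Cfsg.Agent.Lib.SL2Mat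
open Cfsg.Agent.Omega.IId.Triangle (KK)
open Cfsg.Agent.Omega.IId.One (cz Kk Base One)

universe u

variable {G : Type u} [Group G] {F : Type} [Field F]

section cj

variable {S P : Subgroup G} {k : ℕ}

/-- Conjugates of sums of natural modules. -/
theorem exists_cj (M : NatK F S P (zl S P) ⊥ k) (d : G) {S₂ : Subgroup G} (h : ChoiceBase.cj d S = S₂) :
    ∃ M₂ : NatK F S₂ (ChoiceBase.cj d P) (zl S₂ (ChoiceBase.cj d P)) ⊥ k,
      (∀ i, fac M₂ i = ChoiceBase.cj d (fac M i)) ∧ (∀ i, line M₂ i = ChoiceBase.cj d (line M i)) ∧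
        ∀ i, stab M₂ i = ChoiceBase.cj d (stab M i) := by
  subst h
  have key : ∀ (V₂ D₂ : Subgroup G), ChoiceBase.cj d (zl S P) = V₂ → ChoiceBase.cj d (⊥ : Subgroup G) = D₂ →
      ∃ M₂ : NatK F (ChoiceBase.cj d S) (ChoiceBase.cj d P) V₂ D₂ k, ∀ v, M₂.e v = M.e (d⁻¹ * v * d) := by
    rintro _ _ rfl rfl
    exact ⟨NatK.cj M d, fun v => rfl⟩
  obtain ⟨M₂, hM⟩ := key _ _ (zl_cj d S P).symm (Subgroup.map_bot _)
  have hf : ∀ i, fac M₂ i = ChoiceBase.cj d (fac M i) := by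
    intro i
    ext v
    have h1 : v ∈ zl (ChoiceBase.cj d S) (ChoiceBase.cj d P) ↔ d⁻¹ * v * d ∈ zl S P := by
      rw [zl_cj, mem_cj_iff]
    rw [mem_cj_iff, mem_fac, mem_fac, h1]
    refine and_congr_right fun _ => ?_
    simp only [hM]
  refine ⟨M₂, hf, fun i => ?_, fun i => ?_⟩
  · ext v
    rw [mem_cj_iff, mem_line, mem_line, hf, mem_cj_iff, hM]
  · rw [stab, stab, hf, cj_inf, cj_normalizer]

end cj

section align

variable [Finite G] {T V₁ V₂ L₁ L₂ : Subgroup G} {v₁ v₂ s : G}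

/-- **Alignment**: `T' ≤ S'` (index 2), `T'` a Sylow 2-subgroup of `C₁ = C_G(v₁)`: some `d ∈ C₁` maps `(S', T')` to
`(S, T)`. -/
theorem exists_align (hb : Base T V₁ V₂ L₁ L₂ v₁ v₂ s) (S S' : Sylow 2 G) (hTS : T ≤ (S : Subgroup G))
    (hcS : Nat.card (S : Subgroup G) = 2 * Nat.card T) (hs : s ∈ (S : Subgroup G))
    (hz : v₁ * v₂ ∈ zc (S : Subgroup G)) {T' : Subgroup G}
    (hTS' : T' ≤ (S' : Subgroup G)) (hcS' : Nat.card (S' : Subgroup G) = 2 * Nat.card T')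
    (hT' : T' ≤ cz v₁) :
    ∃ d ∈ cz v₁, ChoiceBase.cj d (S' : Subgroup G) = (S : Subgroup G) ∧ ChoiceBase.cj d T' = T := by
  have : Fact (Nat.Prime 2) := ⟨Nat.prime_two⟩
  have hcc : Nat.card (S' : Subgroup G) = Nat.card (S : Subgroup G) := by
    rw [S.card_eq_multiplicity, S'.card_eq_multiplicity]
  have hcT : Nat.card T' = Nat.card T := by omega
  have eq_of_le : ∀ {g : G} {A B : Subgroup G}, Nat.card A = Nat.card B → ChoiceBase.cj g A ≤ B →
      ChoiceBase.cj g A = B := by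
    intro g A B h1 h2
    exact eq_of_le_of_card_ge h2 (by rw [card_cj, h1])
  -- `T'^c = T`
  obtain ⟨c, hc, hcT'⟩ := Lib.GoldschmidtFusion.exists_conj_le_in (p := 2) hb.pT (hb.syl hb.T_le le_rfl) hT'
    (S'.isPGroup'.to_le hTS')
  have e1 : ChoiceBase.cj c T' = T := eq_of_le hcT hcT'
  -- `S'^c` and `S` normalise `T`
  have two_norm : ∀ {U : Subgroup G}, T ≤ U → Nat.card U = 2 * Nat.card T → U ≤ normalizer (T : Set G) := by
    intro U h1 h2
    exact Two.le_normalizer_of fun a ha x hx => Two.conj_mem_of_two h1 (Two.two_cosets h1 h2) ha hx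
  have hS'' : T ≤ ChoiceBase.cj c (S' : Subgroup G) := by
    rw [← e1]
    exact cj_mono c hTS'
  have hn1 : ChoiceBase.cj c (S' : Subgroup G) ≤ normalizer (T : Set G) :=
    two_norm hS'' (by rw [card_cj, hcc, hcS])
  have hn2 : (S : Subgroup G) ≤ normalizer (T : Set G) := two_norm hTS hcS
  obtain ⟨n, hn, hnS⟩ := Lib.GoldschmidtFusion.exists_conj_le_in (p := 2) S.isPGroup'
    (MinSimple.Basic.not_dvd_relIndex S hn2) hn1 (isPGroup_cj c S'.isPGroup')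
  have e2 : ChoiceBase.cj n (ChoiceBase.cj c (S' : Subgroup G)) = (S : Subgroup G) := by
    refine eq_of_le ?_ hnS
    rw [card_cj, hcc]
  have e3 : ChoiceBase.cj n T = T := cj_eq_of_mem_normalizer hn
  -- `n v₁ n⁻¹ ∈ Y`
  have hconj : ∀ x ∈ T, n * x * n⁻¹ ∈ T := fun x hx => (mem_normalizer_iff.1 hn x).1 hx
  have hconj' : ∀ x ∈ T, n⁻¹ * x * n ∈ T := fun x hx => by
    have := (mem_normalizer_iff.1 (inv_mem hn) x).1 hx
    rwa [inv_inv] at this
  have hY : n * v₁ * n⁻¹ = 1 ∨ n * v₁ * n⁻¹ = v₁ ∨ n * v₁ * n⁻¹ = v₂ ∨ n * v₁ * n⁻¹ = v₁ * v₂ := by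
    refine hb.fix _ (hconj _ (hb.V1T hb.vV1)) ?_ fun t ht => ?_
    · calc n * v₁ * n⁻¹ * (n * v₁ * n⁻¹) = n * (v₁ * v₁) * n⁻¹ := by group
        _ = 1 := by rw [hb.vq1]; group
    · have h2 := hb.Tv1 _ (hconj' t ht)
      calc t * (n * v₁ * n⁻¹) = n * (n⁻¹ * t * n * v₁) * n⁻¹ := by group
        _ = n * v₁ * n⁻¹ * t := by rw [h2]; group
  rcases hY with h1 | h1 | h1 | h1
  · exfalso
    apply hb.v1
    calc v₁ = n⁻¹ * (n * v₁ * n⁻¹) * n := by group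
      _ = 1 := by rw [h1]; group
  · refine ⟨n * c, mul_mem (One.mem_cz.2 (mul_inv_eq_iff_eq_mul.1 h1)) hc, ?_, ?_⟩
    · rw [← cj_cj, e2]
    · rw [← cj_cj, e1, e3]
  · refine ⟨s * n * c, ?_, ?_, ?_⟩
    · refine mul_mem (One.mem_cz.2 (mul_inv_eq_iff_eq_mul.1 ?_)) hc
      calc s * n * v₁ * (s * n)⁻¹ = s * (n * v₁ * n⁻¹) * s⁻¹ := by group
        _ = v₁ := by rw [h1, hb.sv2]
    · rw [← cj_cj, ← cj_cj, e2]
      exact cj_eq_of_mem_normalizer (le_normalizer hs)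
    · rw [← cj_cj, ← cj_cj, e1, e3]
      exact eq_of_le rfl (by
        rintro _ ⟨x, hx, rfl⟩
        exact hb.sT x hx)
  · exfalso
    -- `S^{n⁻¹}` centralises `v₁`
    have h2 : ChoiceBase.cj n⁻¹ (S : Subgroup G) ≤ T := by
      refine hb.syl1 _ (isPGroup_cj _ S.isPGroup') ?_ ?_
      · intro x hx
        rw [mem_cj_iff, inv_inv]
        exact hTS (hconj x hx)
      · intro x hx
        rw [mem_cj_iff, inv_inv] at hx
        have h3 := (Cfsg.Agent.MinSimple.VModule.mem_zc.1 hz).2.1 _ hx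
        have h4 : v₁ = n⁻¹ * (v₁ * v₂) * n := by rw [← h1]; group
        calc x * v₁ = n⁻¹ * (n * x * n⁻¹ * (v₁ * v₂)) * n := by
              nth_rewrite 1 [h4]; group
          _ = n⁻¹ * (v₁ * v₂) * n * x := by rw [h3]; group
          _ = v₁ * x := by rw [← h4]
    have h3 := Subgroup.card_le_of_le h2
    rw [card_cj, hcS] at h3
    have h4 : 0 < Nat.card T := Nat.card_pos
    omega

end align

section main

/-- **The configuration of CASE 1.** -/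
theorem exists_one [Finite G] [Finite F] [CharP F 2] {F' : Type} [Field F'] [Finite F'] [CharP F' 2]
    (hc : IsCharacteristicTwoType G) {S S' : Sylow 2 G} {P P' : Subgroup G} (hp : Pair S S' P P')
    (hT : NoOver (zl (S : Subgroup G) P) P) (hT' : NoOver (zl (S' : Subgroup G) P') P') {k' : ℕ}
    (M : NatK F (S : Subgroup G) P (zl (S : Subgroup G) P) ⊥ 2)
    (M' : NatK F' (S' : Subgroup G) P' (zl (S' : Subgroup G) P') ⊥ k') (hk' : 1 ≤ k') (hk2 : k' ≤ 2)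
    {i : Fin 2} (hR : ⁅zl (S : Subgroup G) P, zl (S' : Subgroup G) P'⁆ = line M i)
    (hd : ¬ 2 ∣ (stab M i).relIndex (normalizer (line M i : Set G))) (hF : Nat.card F = 2) :
    ∃ (T V₁ V₂ L₁ L₂ : Subgroup G) (v₁ v₂ s : G), T ≤ (S : Subgroup G) ∧ s ∈ (S : Subgroup G) ∧
      Nat.card (S : Subgroup G) = 2 * Nat.card T ∧ One T V₁ V₂ L₁ L₂ v₁ v₂ s ∧
      NonLoc (cz v₁) (cz v₂) := by
  have hSP : (S : Subgroup G) ≤ P := hp.star.isLoc.le
  have hSP' : (S' : Subgroup G) ≤ P' := hp.star'.isLoc.le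
  obtain ⟨j, hij⟩ : ∃ j : Fin 2, i ≠ j := ⟨i + 1, by omega⟩
  obtain ⟨v, hv1, hv⟩ : ∃ v : G, v ≠ 1 ∧ v ∈ line M i := by
    by_contra hcon
    push Not at hcon
    apply line_ne_bot (M := M) i
    rw [eq_bot_iff]
    intro x hx
    rw [mem_bot]
    by_contra hx1
    exact hcon x hx1 hx
  have h2 := two_of hc hp.star M hij
  obtain ⟨s, hs, hs1⟩ := Two.exists_not_mem h2.SoS h2.card
  have hsyl : ¬ 2 ∣ (stab M i).relIndex (centralizer ({v} : Set G)) := by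
    rw [← normalizer_line_eq M hF hv hv1]
    exact hd
  have hb := Sym.base_of hc hp.star M hF hij hv hv1 hs hs1 hsyl
  have hz : v * (s * v * s⁻¹) ∈ zc (S : Subgroup G) :=
    (Sym.pre_of hc hp.star M hF hij hv hv1 hs hs1).zS
  -- the partner
  obtain ⟨hk, -⟩ := SideOf.partner hc hp hT hT' M M' hk' hk2 hR hd
  subst hk
  obtain ⟨j', hl, hcard, a, ha, b, hb', hne⟩ := exists_partner hc hp hT hT' M M' hk' hR
  have hF' : Nat.card F' = 2 := hcard.trans hF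
  obtain ⟨d, hdv, hdS, hdT⟩ := exists_align hb S S' h2.SoS h2.card hs hz (stab_le M' j')
    (card_stab M' hSP' j') (fun x hx => One.mem_cz.2 (stab_comm_line M' hSP' hF' (hl ▸ hv) hx))
  obtain ⟨M₂, hM₂f, hM₂l, hM₂s⟩ := exists_cj M' d hdS
  have hP₂ : IsParS (S : Subgroup G) (ChoiceBase.cj d P') := by
    have := isParS_cj hp.star' d
    rwa [hdS] at this
  obtain ⟨l, hjl⟩ : ∃ l : Fin 2, j' ≠ l := ⟨j' + 1, by omega⟩
  have hst : stab M₂ j' = stab M i := by rw [hM₂s, hdT]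
  have hv' : v ∈ line M₂ j' := by
    rw [hM₂l, mem_cj_iff, ← hl]
    have e : d⁻¹ * v * d = v := by
      calc d⁻¹ * v * d = d⁻¹ * (v * d) := by group
        _ = v := by rw [← One.mem_cz.1 hdv]; group
    rwa [e]
  have hb2 := Sym.base_of hc hP₂ M₂ hF' hjl hv' hv1 hs (by rw [hst]; exact hs1) (by rw [hst]; exact hsyl)
  rw [hst] at hb2
  have hm : ∃ c ∈ cz v, ∃ a ∈ fac M i, ∃ b ∈ fac M₂ j', a * (c * b * c⁻¹) ≠ c * b * c⁻¹ * a := by
    refine ⟨d⁻¹, inv_mem hdv, a, ha, d * b * d⁻¹, ?_, ?_⟩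
    · rw [hM₂f, mem_cj_iff]
      have e : d⁻¹ * (d * b * d⁻¹) * d = b := by group
      rwa [e]
    · have e : d⁻¹ * (d * b * d⁻¹) * d⁻¹⁻¹ = b := by group
      rw [e]
      exact fun h0 => hne h0.symm
  refine ⟨_, _, _, _, _, _, _, s, h2.SoS, hs, h2.card, hb.one_of_mixed hb2 hm, ?_⟩
  intro U hU h1 h2'
  exact hb.nonLoc_mixed hb2 (fun U hU _ => One.card_le_two h2 U hU) hm hU h1 h2'

variable (K : Cls.{u})

/-- There is no configuration `One` with `⟨C₁, C₂⟩` nonlocal. (CASE A: helper64; CASE B: helper304, helper110,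
helper895, ...) -/
def NoOne : Prop :=
  ∀ (G : Type u) [Group G] [Finite G] (S : Sylow 2 G), Hyp K S → ∀ (T V₁ V₂ L₁ L₂ : Subgroup G) (v₁ v₂ s : G),
    T ≤ (S : Subgroup G) → s ∈ (S : Subgroup G) → Nat.card (S : Subgroup G) = 2 * Nat.card T →
      One T V₁ V₂ L₁ L₂ v₁ v₂ s → NonLoc (cz v₁) (cz v₂) → False

variable {K}

/-- **CASE 1, `q = 2`, from `NoOne`.** -/
theorem wrMain2 (h : NoOne K) : WrMain2 K := by
  intro G _ _ S S' hH P P' hp F F' _ _ _ _ _ _ k' M M' hk' hk2 i hR hd hF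
  obtain ⟨T, V₁, V₂, L₁, L₂, v₁, v₂, s, hTS, hs, hcS, hO, hN⟩ := exists_one hH.ctx.char2 hp
    (hH.typed' hp).1.noOver (hH.typed' hp).2.noOver M M' hk' hk2 hR hd hF
  exact h G S hH T V₁ V₂ L₁ L₂ v₁ v₂ s hTS hs hcS hO hN

end main

end Cfsg.Agent.Omega.IId
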