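import Cfsg.Agent.Omega.IId.Main
import Cfsg.Agent.Omega.IId.TriOf
import Cfsg.Agent.Omega.IId.Sup

/-!
# II.d, CASE 2: `WrTri` from the supply and from NO-3S

* `exists_big` : if 2 divides `|N_G(line M i) : stab M i|`, there is a 2-subgroup `T > stab M i` of
  `N_G(line M i)`;
* `exists_tri_of` : then the structure `Triangle.Tri` holds, and `|F| = 2` (`card_two`);
* `wrTri` : `NO3S.Two K → WrTri K` (with helper774's supply `[V_i, K_v] ≠ 1`, `Sup.lean`).
-/

set_option autoImplicit false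

namespace Cfsg.Agent.Omega.IId

open Subgroup Cfsg Cfsg.Agent.ZN Cfsg.Agent.ZN.ChoiceBase
open Cfsg.Agent.Omega.MinPar Cfsg.Agent.Omega.Frame Cfsg.Agent.Omega.FFThm Cfsg.Agent.Omega.FrameMulti
open Cfsg.Agent.Omega.IId.Triangle (Tri KK)

universe u

section

variable {G : Type u} [Group G] {F : Type} [Field F] {P : Subgroup G}

/-- A 2-group properly above `stab M i` in the normaliser of the line. -/
theorem exists_big [Finite G] {S : Sylow 2 G} (hSP : (S : Subgroup G) ≤ P) {k : ℕ}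
    (M : NatK F (S : Subgroup G) P (zl (S : Subgroup G) P) ⊥ k) (i : Fin k)
    (h2 : 2 ∣ (stab M i).relIndex (normalizer (line M i : Set G))) :
    ∃ T : Subgroup G, IsPGroup 2 T ∧ stab M i ≤ T ∧ T ≤ normalizer (line M i : Set G) ∧ ¬ T ≤ stab M i := by
  obtain ⟨T, h3, h4, h5, h6⟩ := Half.exists_sylow_le (S.isPGroup'.to_le (stab_le M i))
    (stab_normalizes_line M hSP i)
  refine ⟨T, h5, h3, h4, fun h7 => h6 ?_⟩
  rwa [le_antisymm h7 h3]

/-- **The structure `Tri` in CASE 2**; `|F| = 2`. -/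
theorem exists_tri_of [Finite G] [Finite F] [CharP F 2] (hc : IsCharacteristicTwoType G) {S : Sylow 2 G}
    (hP : IsParS (S : Subgroup G) P) (M : NatK F (S : Subgroup G) P (zl (S : Subgroup G) P) ⊥ 2)
    {i j : Fin 2} (hij : i ≠ j) (h2 : 2 ∣ (stab M i).relIndex (normalizer (line M i : Set G))) :
    ∃ (T : Sylow 2 G) (s v : G), (T : Subgroup G) ≤ normalizer (line M i : Set G) ∧ v ∈ line M i ∧
      Tri S T (stab M i) (fac M i) (fac M j) (grp M {i}) (grp M {j}) s v ∧ Nat.card F = 2 := by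
  have hSP : (S : Subgroup G) ≤ P := hP.isLoc.le
  have hT := two_of hc hP M hij
  have hS1 : (S : Subgroup G) ≠ ⊥ := fun h0 => by
    have h1 := hT.big1
    have h3 : fac M i ≤ ⊥ := (hT.V1So.trans hT.SoS).trans h0.le
    rw [eq_bot_iff.2 h3, card_bot] at h1
    omega
  have hz : Nat.card (zc (S : Subgroup G)) = 2 := by
    refine le_antisymm (zc_le_two hc hP M i h2) ?_
    have h1 : zc (S : Subgroup G) ≠ ⊥ := MinSimple.Basic.zc_ne_bot S.isPGroup' hS1
    have : 1 < Nat.card (zc (S : Subgroup G)) := (Subgroup.one_lt_card_iff_ne_bot _).2 h1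
    omega
  obtain ⟨T, hT2, hST, hTR, hne⟩ := exists_big hSP M i h2
  obtain ⟨Q, s, v, hQ, hTri⟩ := TriOf.exists_tri hT hz (line_le M i) (cent_le_line M hSP i) hT2 hST hTR hne
  have hvl : v ∈ line M i := cent_le_line M hSP i
    ⟨hTri.vV, mem_centralizer_iff.2 fun y hy => hTri.vSo y hy⟩
  rw [← hQ] at hTR
  have h3 := TriOf.card_line_dvd hTri (line_le M i) hTR (by
    intro r hr hr1
    obtain ⟨g, hg, hgn, hgv⟩ := exists_tor M hvl hr hTri.v1 hr1
    exact ⟨g, hg, hgn, hgv⟩)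
  rw [card_line] at h3
  refine ⟨Q, s, v, hTR, hvl, hTri, ?_⟩
  have h4 : 2 ≤ Nat.card F := by
    rcases FrameFF.two_le_card (F := F) with h | h
    · omega
    · omega
  exact le_antisymm (Nat.le_of_dvd (by norm_num) h3) h4

end

/-- **`WrTri`** from NO-3S. -/
theorem wrTri {K : Cls.{u}} (hK : NO3S.Two K) : WrTri K := by
  intro G _ _ S S' hH P P' hp F F' _ _ _ _ _ _ k' M M' hk' hk2 i hi h2
  obtain ⟨j, hij⟩ : ∃ j : Fin 2, i ≠ j := ⟨i + 1, by omega⟩
  obtain ⟨T, s, v, hTR, hvl, hTri, hq⟩ := exists_tri_of hH.ctx.char2 hp.star M hij h2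
  exact hTri.knownF hK hH.cls hH.ctx hH.full
    (supply hH.ctx.char2 hp (hH.typed' hp).1.noOver (hH.typed' hp).2.noOver M M' hk' hk2 hi hq hvl hTri.v1)

end Cfsg.Agent.Omega.IId
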