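import Cfsg.Agent.Omega.IId.SMain
import Cfsg.Agent.Omega.IId.FreeOf
import Cfsg.Agent.Omega.IId.Match
import Cfsg.Agent.Omega.IId.Tri
import Cfsg.Agent.Omega.IId.OneOf
import Cfsg.Agent.Omega.IId.SymMain
import Cfsg.Agent.Omega.SQT.Multi

/-!
# II.d in the strongly quasithin case

`WrBig QK` and `SwBig QK` are void (helper243's rank bounds, `Omega/SQT/Rank.lean`); `WrTwo QK` is a theorem
(HALF LEMMA: helper334, `Match.lean`); `SQT.Multi.Wr2` and `SQT.Multi.SymWr2` from the other sub-leaves for `QK`.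
-/

set_option autoImplicit false

namespace Cfsg.Agent.Omega.IId.Strq

open Subgroup Cfsg Cfsg.Agent.ZN Cfsg.Agent.ZN.ChoiceBase
open Cfsg.Agent.Omega.MinPar Cfsg.Agent.Omega.Frame Cfsg.Agent.Omega.FFThm Cfsg.Agent.Omega.FrameMulti
open Cfsg.Agent.Omega.SQT.Main (QK)
open Cfsg.Agent.Omega.FrameFF (cv Free)

universe u

section

variable {G : Type u} [Group G] [Finite G] {S S' : Sylow 2 G} {P : Subgroup G}

/-- At most two natural factors. -/
theorem nat_le (hH : Hyp QK S) (hP : IsParS (S' : Subgroup G) P) {F : Type} [Field F] [Finite F] [CharP F 2]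
    {k : ℕ} (M : NatK F (S' : Subgroup G) P (zl (S' : Subgroup G) P) ⊥ k) : k ≤ 2 := by
  have hf : cv (S' : Subgroup G) P = ⊥ := free_of_nat M
  have M' : NatK F (S' : Subgroup G) P (zl (S' : Subgroup G) P) (cv (S' : Subgroup G) P) k := by
    rw [hf]
    exact M
  exact SQT.Rank.natK_le hH.ctx.char2 S' hP M' (SQT.Multi.three hH.cls)

theorem isNat_le (hH : Hyp QK S) (hP : IsParS (S' : Subgroup G) P) {k : ℕ}
    (h : IsNat (S' : Subgroup G) P k) : k ≤ 2 :=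
  SQT.Multi.isNat_le hH.ctx hH.cls hP h

theorem isSym_le (hH : Hyp QK S) (hP : IsParS (S' : Subgroup G) P) {k m : ℕ} (hk : 1 ≤ k) (hm : 2 ≤ m)
    (h : IsSym (S' : Subgroup G) P k m) : k ≤ 2 ∧ m = 2 :=
  SQT.Multi.isSym_le hH.ctx hH.cls hP hk hm h

end

/-- `WrBig` is void. -/
theorem wrBig : WrBig QK.{u} := by
  intro G _ _ S S' hH P P' hp F F' _ _ _ _ _ _ k k' M M' hk hk' hb hc
  have h1 := nat_le hH hp.star M
  have h2 := nat_le hH hp.star' M'
  omega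

/-- `WrTwo` for `QK`. -/
theorem wrTwo : WrTwo QK.{u} := by
  intro G _ _ S S' hH P P' hp F F' _ _ _ _ _ _ k k' M M' hk hk' hc
  obtain rfl : k = 2 := le_antisymm (nat_le hH hp.star M) hk
  exact wrTwo_of_le hH hp M M' hk' (nat_le hH hp.star' M') hc

/-- `SwBig` is void. -/
theorem swBig : SwBig QK.{u} := by
  intro G _ _ S S' hH P P' hp k m hk hm hN f1 f2 hb
  obtain ⟨h1, h2⟩ := isSym_le hH hp.star (by omega) hm hN
  rcases hb with hb | hb | ⟨k', hb, hN'⟩ | ⟨k', m', hk', hm', hb, hS'⟩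
  · omega
  · omega
  · have := isNat_le hH hp.star' hN'
    omega
  · obtain ⟨h3, h4⟩ := isSym_le hH hp.star' hk' hm' hS'
    omega

/-- The part of `WrSym` with more than two factors or degree at least 7 is void. -/
theorem wrSymBig : Sym.WrSymBig QK.{u} := by
  intro G _ _ S S' hH P P' hp F _ _ _ k m' M M' hk hm' hF hb
  have h1 := nat_le hH hp.star M
  have hf : cv (S' : Subgroup G) P' = ⊥ := free_of_sym M' (by omega)
  have hS : IsSym (S' : Subgroup G) P' 1 m' := by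
    rw [IsSym, hf]
    exact ⟨M'⟩
  have h2 := (isSym_le hH hp.star' le_rfl hm' hS).2
  omega

/-- **`Wr2` from the sub-leaves.** -/
theorem wr2 (h1 : WrCv QK.{u}) (h2 : WrSym QK.{u}) (h5 : WrTri QK.{u}) (h6 : WrMain2 QK.{u})
    (h7 : WrMain4 QK.{u}) : SQT.Multi.Wr2.{u} := by
  intro G _ _ hG hq S hF hA hT P₁ P₂ x hm hN
  exact leafWr h1 h2 wrTwo wrBig h5 h6 h7 G hG hq S hF hA hT P₁ P₂ x hm 2 le_rfl hN

/-- **`Wr2` from the open sub-leaves** (`NO3S.Two` and `LeafSymWr` are other leaves of the tree). -/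
theorem wr2_of (hTwo : Cfsg.Agent.Omega.NO3S.Two QK.{u}) (hSW : LeafSymWr QK.{u}) (h1 : WrCv QK.{u})
    (h2 : Sym.WrSymMain QK.{u}) (h6 : NoOne QK.{u}) (h7 : WrMain4 QK.{u}) : SQT.Multi.Wr2.{u} :=
  wr2 h1 (Sym.wrSym hSW wrSymBig hTwo h2) (wrTri hTwo) (wrMain2 h6) h7

/-- **`SymWr2` from the sub-leaves.** -/
theorem symWr2 (h1 : SwCv QK.{u}) (h3 : SwNat QK.{u}) (h4 : SwTwo QK.{u}) (h5 : SwOne QK.{u}) :
    SQT.Multi.SymWr2.{u} := by
  intro G _ _ hG hq S hF hA hT P₁ P₂ x hm hN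
  exact leafSymWr h1 swBig h3 h4 h5 G hG hq S hF hA hT P₁ P₂ x hm 2 2 le_rfl le_rfl hN

end Cfsg.Agent.Omega.IId.Strq
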