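import Cfsg.Agent.Omega.IId.OneOf
import Cfsg.Agent.Omega.IId.CaseA
import Cfsg.Agent.Omega.IId.SpPlug
import Cfsg.Agent.Omega.IId.OrthRank
import Cfsg.Agent.Omega.IId.Strq

/-!
# II.d, CASE 1, `q = 2` : `NoOne QK` and `WrMain2 QK`

helper774.  Case A (`[N₁, N₂] = 1`): helper64 (`CaseA.lean`).  Case B (`[N₁, N₂] ≠ 1`): `N₁` is an orthogonal
module (helper304, helper110), `|N₁| = 32` by the 3-rank (helper110), and `Sp₄(2)` is killed by helper304's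
`SpPlug.false_of`.
-/

set_option autoImplicit false

namespace Cfsg.Agent.Omega.IId.NoOne

open Subgroup Cfsg Cfsg.Agent.ZN Cfsg.Agent.ZN.ChoiceBase
open Cfsg.Agent.Omega.MinPar Cfsg.Agent.Omega.IId.One
open Cfsg.Agent.Omega.SQT.Main (QK)

universe u

/-- no configuration `One` with `⟨C₁, C₂⟩` nonlocal and `m₃(G) ≤ 2`. -/
theorem false_of {G : Type u} [Group G] [Finite G] {T V₁ V₂ L₁ L₂ : Subgroup G} {v₁ v₂ s : G}
    (h : One.One T V₁ V₂ L₁ L₂ v₁ v₂ s) (hnl : NonLoc (cz v₁) (cz v₂)) (hr : PRankLE 3 2 G) : False := by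
  by_cases hI : ∃ x ∈ nc v₁ {v₂}, ∃ y ∈ nc v₂ {v₁}, x * y ≠ y * x
  · refine SpPlug.false_of h ?_ (h.orth hI) (h.card_N1 hI hr)
    intro hle
    obtain ⟨x, hx, y, hy, hne⟩ := hI
    exact hne (mem_centralizer_iff.1 (hle hx) y hy).symm
  · push Not at hI
    exact h.caseA hnl hI

/-- **`NoOne` for `QK`.** -/
theorem noOne : NoOne QK.{u} := by
  intro G _ _ S hH T V₁ V₂ L₁ L₂ v₁ v₂ s _ _ _ hO hN
  exact false_of hO hN (SQT.Multi.three hH.cls)

/-- **CASE 1, `q = 2`, for `QK`.** -/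
theorem wrMain2 : WrMain2 QK.{u} := IId.wrMain2 noOne

end Cfsg.Agent.Omega.IId.NoOne
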