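import Cfsg.Agent.Omega.IId.SwNat
import Cfsg.Agent.Omega.IId.LFour.TnSyl

/-!
# II.d, `SwNat` is void (helper612): `S₅ wr 2` has no natural partner with one or two factors

`T = C_S(n)` has index 4 in `S` and is a Sylow 2-subgroup of `C_G(n)` (helper774 `Wr.T_syl_n`, text helper644
#19215 (A)).  For a natural partner with `k' ≤ 2` factors `n ∈ line M' i` is centralised by `N_{S'}(V'_i)`, of index
`k'` in `S'`.

* `exists_bound` : the light vector `n ∈ line M' i` has `4 |R| ≤ |S|` for every 2-subgroup `R ≤ C_G(n)`;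
* `swNat0` : `SwNat K`, no input.
-/

set_option autoImplicit false
set_option linter.unusedSectionVars false

namespace Cfsg.Agent.Omega.IId.SwN

open Subgroup Pointwise Cfsg Cfsg.Agent.ZN.ChoiceBase
open Cfsg.Agent.ZN (o2 zc zl)
open Cfsg.Agent.Omega.MinPar Cfsg.Agent.Omega.FFThm Cfsg.Agent.Omega.Frame
open Cfsg.Agent.Omega.S5.Mod Cfsg.Agent.Omega.S5.TT
open Cfsg.Agent.Omega.Half.SymA (E)
open Cfsg.Agent.Omega.Half (Amb amb_of_loc)
open Cfsg.Agent.Omega.IId.LFour (Wr md exists_wr)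
open Cfsg.Agent.Omega.IId.One (cz Kk)

universe u

variable {G : Type u} [Group G] [Finite G] {S : Sylow 2 G} {P V₁ V₂ L₁ L₂ : Subgroup G} {M₁ : FiveMod V₁ L₁}
  {M₂ : FiveMod V₂ L₂}

/-- `4 |R| ≤ |S|` for every 2-subgroup `R` of `C_G(n)`. -/
theorem wr_bound (w : Wr S P M₁ M₂) {R : Subgroup G} (h2 : IsPGroup 2 R)
    (hR : R ≤ centralizer ({M₁.e nn} : Set G)) : 4 * Nat.card R ≤ Nat.card (S : Subgroup G) := by
  have h1 := LFour.card_le_of_syl w.T_syl_n hR h2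
  rw [w.card_S₁, w.card_T₁]
  omega

/-- The data of `exists_sn`: the light vector is conjugate to `M₁.e nn`. -/
theorem exists_bound {F : Type} [Field F] [Finite F] {S' : Sylow 2 G} {P' : Subgroup G} {k : ℕ}
    {M : SymK (S : Subgroup G) P (zl (S : Subgroup G) P) ⊥ 2 2}
    {M' : NatK F (S' : Subgroup G) P' (zl (S' : Subgroup G) P') ⊥ k} {I : Set (Fin k)} (h : Mix M' M I)
    {i : Fin k} (hi : i ∈ I) :
    ∃ n : G, n ∈ line M' i ∧ n ≠ 1 ∧ ∀ R : Subgroup G, IsPGroup 2 R → R ≤ centralizer ({n} : Set G) →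
      4 * Nat.card R ≤ Nat.card (S : Subgroup G) := by
  obtain ⟨w, hw, hwe⟩ := exists_fac M' i ![0, 1]
  have hwi : M'.e w i 1 ≠ 0 := by rw [hwe]; exact one_ne_zero
  obtain ⟨p, q, hpq, hpq1, hp2, hq2, hact, hz⟩ := h.exists_pair hi hw hwi
  obtain ⟨n, hn, hn1⟩ : ∃ n ∈ line M' i, n ≠ 1 := by
    by_contra hcon
    push Not at hcon
    exact line_ne_bot (M := M') i ((eq_bot_iff_forall _).2 hcon)
  have hE := hz n hn hn1
  obtain ⟨a₀, ha₀, hna⟩ := (h.ind.mem_line_iff h.V'P hi hw hwi).1 hn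
  have hnV : n ∈ zl (S : Subgroup G) P := hna ▸ comm_mem h.amb' (h.VP' hw.1) ha₀
  obtain ⟨i₀, a⟩ := p
  obtain ⟨i₁, b⟩ := q
  obtain rfl : i₀ = i₁ := hpq1
  have hab : a ≠ b := fun h0 => hpq (by rw [h0])
  obtain ⟨j₀, hij⟩ : ∃ j : Fin 2, i₀ ≠ j := ⟨i₀ + 1, by omega⟩
  obtain ⟨σ₁, σ₂, wr⟩ := exists_wr h.c2 S h.pair.star' M hij
  have hA := amb_of_loc h.c2 S h.pair.star'.isLoc
  have hnf : n ∈ LFour.SymF.fac M i₀ := by
    refine ⟨hnV, fun j hj => funext fun y => ?_⟩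
    have h1 := hE (j, y)
    rw [if_neg (fun h0 => hj (congrArg Prod.fst h0)), if_neg (fun h0 => hj (congrArg Prod.fst h0)), add_zero] at h1
    exact h1
  have hne : M.e n i₀ = Pi.single a 1 + Pi.single b 1 := by
    funext y
    have h1 := hE (i₀, y)
    have h2 : E M n (i₀, y) = M.e n i₀ y := rfl
    rw [← h2, h1]
    by_cases hya : y = a
    · have hyb : y ≠ b := fun h0 => hab (hya.symm.trans h0)
      rw [hya] at hyb ⊢
      rw [if_pos rfl, if_neg (fun h0 => hyb (congrArg Prod.snd h0)), Pi.add_apply, Pi.single_eq_same,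
        Pi.single_eq_of_ne hyb]
    · by_cases hyb : y = b
      · rw [hyb] at hya ⊢
        rw [if_neg (fun h0 => hya (congrArg Prod.snd h0)), if_pos rfl, Pi.add_apply, Pi.single_eq_same,
          Pi.single_eq_of_ne hya]
      · rw [if_neg (fun h0 => hya (congrArg Prod.snd h0)), if_neg (fun h0 => hyb (congrArg Prod.snd h0)),
          Pi.add_apply, Pi.single_eq_of_ne hya, Pi.single_eq_of_ne hyb]
  have hn' : n = ((md M hA i₀).relabel σ₁).e (Pi.single (σ₁⁻¹ a) 1 + Pi.single (σ₁⁻¹ b) 1) := by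
    rw [FiveMod.relabel_e]
    have e : (Pi.single (σ₁⁻¹ a) 1 + Pi.single (σ₁⁻¹ b) 1 : Vec) ∘ σ₁.symm = Pi.single a 1 + Pi.single b 1 := by
      rw [← comp_single σ₁ a, ← comp_single σ₁ b]
      rfl
    rw [e, LFour.md_e]
    rw [← LFour.SymF.lab_e M (by norm_num) hnf, hne]
  obtain ⟨ρ, hρ⟩ := exists_nn (σ₁⁻¹ a) (σ₁⁻¹ b) fun h0 => hab (σ₁⁻¹.injective h0)
  obtain ⟨g, -, hgi⟩ := ((md M hA i₀).relabel σ₁).exists_lift ρ
  have hg : g * ((md M hA i₀).relabel σ₁).e nn * g⁻¹ = n := by rw [hgi nn, hρ, ← hn']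
  refine ⟨n, hn, hn1, fun R hR2 hR => ?_⟩
  have h1 : cj g⁻¹ R ≤ centralizer ({((md M hA i₀).relabel σ₁).e nn} : Set G) := by
    intro x hx
    rw [mem_cj, inv_inv] at hx
    have h2 := mem_centralizer_singleton_iff.1 (hR hx)
    rw [mem_centralizer_singleton_iff]
    rw [← hg] at h2
    have e1 : g * x * g⁻¹ * (g * ((md M hA i₀).relabel σ₁).e nn * g⁻¹) =
        g * (x * ((md M hA i₀).relabel σ₁).e nn) * g⁻¹ := by group
    have e2 : g * ((md M hA i₀).relabel σ₁).e nn * g⁻¹ * (g * x * g⁻¹) =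
        g * (((md M hA i₀).relabel σ₁).e nn * x) * g⁻¹ := by group
    rw [e1, e2] at h2
    exact mul_left_cancel (mul_right_cancel h2)
  have h3 := wr_bound wr (isPGroup_cj g⁻¹ hR2) h1
  rwa [card_cj] at h3

/-- **`SwNat K`, void.** -/
theorem swNat0 {K : Cls.{u}} : SwNat K := by
  intro G _ _ S S' hH P P' hp F' _ _ _ k' M M' hk' hk2
  have hc := hH.ctx.char2
  obtain ⟨t1, t2⟩ := hH.typed' hp
  obtain ⟨I, hI⟩ := exists_ind M' hp.symm.le (hp.symm.off hc t1.noOver)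
  have hX : Mix M' M I := ⟨hp.symm, hc, by norm_num, hp.off hc t2.noOver, hI⟩
  have hIne : I.Nonempty := lines_ne_bot (M := M') ((hI.commutator_eq hX.V'P) ▸ hp.symm.ne)
  obtain ⟨i, hi⟩ := hIne
  obtain ⟨n, hn, hn1, hb⟩ := exists_bound hX hi
  exfalso
  have hF := hX.card_two
  have hst : stab M' i ≤ centralizer ({n} : Set G) := fun x hx =>
    mem_centralizer_singleton_iff.2 (stab_comm_line M' hp.star'.isLoc.le hF hn hx)
  have h4 := hb (stab M' i) (S'.isPGroup'.to_le (stab_le M' i)) hst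
  have hSS : Nat.card (S' : Subgroup G) = Nat.card (S : Subgroup G) := by
    have : Fact (Nat.Prime 2) := ⟨Nat.prime_two⟩
    rw [S'.card_eq_multiplicity, S.card_eq_multiplicity]
  have h5 : Nat.card (S' : Subgroup G) ≤ 2 * Nat.card (stab M' i) := by
    obtain rfl | rfl : k' = 1 ∨ k' = 2 := by omega
    · obtain rfl : i = 0 := Subsingleton.elim i 0
      have h6 := stab_eq_one M' hp.star'.isLoc.le
      have h7 := Subgroup.card_le_of_le h6
      omega
    · obtain ⟨j, hij⟩ : ∃ j : Fin 2, i ≠ j := ⟨i + 1, by omega⟩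
      exact (two_of hc hp.star' M' hij).card.le
  have h8 : 0 < Nat.card (stab M' i) := Nat.card_pos
  omega

end Cfsg.Agent.Omega.IId.SwN
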