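import Cfsg.Agent.Omega.IId.SymOne
import Cfsg.Agent.Omega.IId.NoOne

/-!
# II.d: `WrSymMain K` from the final theorem of CASE 1, `q = 2`

* `exists_sit` : the normal form;
* `wrSymMain` : `NoOne K` implies `WrSymMain K`;
* `wrSymMainQK`, `wrSymQK` : the case `QK`.
-/

set_option autoImplicit false
set_option linter.unusedSectionVars false

namespace Cfsg.Agent.Omega.IId.Sym

open Subgroup Cfsg Cfsg.Agent.ZN.ChoiceBase
open Cfsg.Agent.ZN (o2 zc zl)
open Cfsg.Agent.Omega.MinPar Cfsg.Agent.Omega.FFThm Cfsg.Agent.Omega.Frame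
open Cfsg.Agent.Omega.FrameMulti (IsSym IsNat LeafSymWr)
open Cfsg.Agent.Omega.S5.Mod Cfsg.Agent.Omega.S5.TT Cfsg.Agent.Omega.S5.Types
open Cfsg.Agent.Omega.IId.Two
open scoped commutatorElement

universe u

theorem adapt_congr {G : Type u} [Group G] {V L S S₁ : Subgroup G} {N : FiveMod V L} (h : Adapt S N)
    (e : S = S₁) : Adapt S₁ N := e ▸ h

/-- The normal form of CASE 1. -/
theorem exists_sit {G : Type u} [Group G] [Finite G] (hc : IsCharacteristicTwoType G) {S S' : Sylow 2 G}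
    {P P' : Subgroup G} (hp : Pair S S' P P') {F : Type} [Field F] [Finite F] [CharP F 2]
    (M : NatK F (S : Subgroup G) P (zl (S : Subgroup G) P) ⊥ 2)
    (N : FiveMod (zl (S' : Subgroup G) P') P') {i j : Fin 2} (hij : i ≠ j) (hF : Nat.card F = 2)
    (hN : Adapt (S' : Subgroup G) N) (hI : Ind M (zl (S' : Subgroup G) P') {i}) (hn : N.e nn ∈ line M i)
    (hsyl : ¬ 2 ∣ (stab M i).relIndex (centralizer ({N.e nn} : Set G))) {s : G}
    (hs : s ∈ (S : Subgroup G)) (hs1 : s ∉ stab M i) :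
    ∃ g : G, Sit S (stab M i) (fac M i) (fac M j) (grp M {i}) (grp M {j}) (N.e nn) s (N.cj g) := by
  have hn1 := n_ne_one N
  have hpre := pre_of hc hp.star M hF hij hn hn1 hs hs1
  obtain ⟨g, hg1, hg2, hg3⟩ := exists_nf hpre hN rfl hsyl
  have hVP : zl (S' : Subgroup G) P' ≤ P := hp.le.trans hp.star.isLoc.le
  refine ⟨g, ?_⟩
  have hgn : g * N.e nn * g⁻¹ = N.e nn := by rw [hg1, mul_inv_cancel_right]
  refine ⟨base_of hc hp.star M hF hij hn hn1 hs hs1 hsyl, hpre.toTwo, hs, hs1, adapt_congr (hN.cj g) hg2,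
    ?_, ?_, ?_⟩
  · rw [FiveMod.cj_e, hgn]
  · rw [FiveMod.cj_e, hg3]
  · obtain ⟨w, hw, a, ha, -, h3⟩ := exists_move hI hVP (Set.mem_singleton i)
    refine ⟨g⁻¹, ?_, w, hw, g * a * g⁻¹, ⟨a, ha, rfl⟩, ?_⟩
    · rw [One.mem_cz]
      calc g⁻¹ * N.e nn = g⁻¹ * (N.e nn * g) * g⁻¹ := by group
        _ = N.e nn * g⁻¹ := by rw [← hg1]; group
    · have e : g⁻¹ * (g * a * g⁻¹) * g⁻¹⁻¹ = a := by group
      rw [e]
      intro h4
      apply h3
      rw [commutatorElement_eq_one_iff_mul_comm]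
      exact h4

/-- **`WrSymMain K` from `NoOne K`.** -/
theorem wrSymMain {K : Cls.{u}} (hNo : IId.NoOne K) : WrSymMain K := by
  intro G _ _ S S' hH P P' hp F _ _ _ M N i hF hN hI hn _ _ hsyl
  have hc := hH.ctx.char2
  obtain ⟨j, hij⟩ : ∃ j, i ≠ j := ⟨1 - i, by clear * -; revert i; decide⟩
  have hT := two_of hc hp.star M hij
  obtain ⟨s, hs, hs1⟩ := Two.exists_not_mem hT.SoS hT.card
  obtain ⟨g, h⟩ := exists_sit hc hp M N hij hF hN hI hn hsyl hs hs1
  exact hNo G S hH _ _ _ _ _ _ _ s hT.SoS hs hT.card h.one h.nonLoc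

/-- **`WrSym K`** from `LeafSymWr K`, `WrSymBig K`, `NO3S.Two K` and `NoOne K`. -/
theorem wrSym_of {K : Cls.{u}} (hSW : LeafSymWr K) (hBig : WrSymBig K) (hTwo : Cfsg.Agent.Omega.NO3S.Two K)
    (hNo : IId.NoOne K) : WrSym K := wrSym hSW hBig hTwo (wrSymMain hNo)

/-- `WrSym K` without `NO3S.Two K` (there is no triangle). -/
theorem wrSym_of' {K : Cls.{u}} (hSW : LeafSymWr K) (hBig : WrSymBig K) (hNo : IId.NoOne K) : WrSym K :=
  wrSym_free hSW hBig (wrSymMain hNo)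

open Cfsg.Agent.Omega.SQT.Main (QK)

/-- **`WrSymMain` for `QK`.** -/
theorem wrSymMainQK : WrSymMain QK.{u} := wrSymMain NoOne.noOne

/-- **`WrSym` for `QK`** from `LeafSymWr QK` and `NO3S.Two QK`. -/
theorem wrSymQK (hSW : LeafSymWr QK.{u}) (hTwo : Cfsg.Agent.Omega.NO3S.Two QK.{u}) : WrSym QK.{u} :=
  wrSym_of hSW Strq.wrSymBig hTwo NoOne.noOne

/-- `WrSym` for the quasithin half, from `LeafSymWr QK` only. -/
theorem wrSymQK' (hSW : LeafSymWr QK.{u}) : WrSym QK.{u} := wrSym_of' hSW Strq.wrSymBig NoOne.noOne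

end Cfsg.Agent.Omega.IId.Sym
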