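import Cfsg.Agent.Omega.IId.Cv.Main
import Cfsg.Agent.Omega.IId.Cv.CvLine
import Cfsg.Agent.Omega.IId.Cv.CvMix4
import Cfsg.Agent.Omega.IId.Cv.CvOneTwo
import Cfsg.Agent.Omega.IId.Cv.TwoFourEnd
import Cfsg.Agent.Omega.IId.Cv.TwoBTwo
import Cfsg.Agent.Omega.IId.Cv.OneTwo
import Cfsg.Agent.Omega.IId.Cv.MixSym
import Cfsg.Agent.Omega.IId.Cv.SymBigMix
import Cfsg.Agent.Omega.IId.Cv.TTPairOf
import Cfsg.Agent.Omega.IId.CvBig.Cut
import Cfsg.Agent.Omega.IId.CvBig.Line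
import Cfsg.Agent.Omega.IId.ChainPlug
import Cfsg.Agent.Omega.IId.BigFour.SylFour
import Cfsg.Agent.Omega.IId.Pf.Main
import Cfsg.Agent.Omega.IId.SymFin
import Cfsg.Agent.Omega.IId.NoOne
import Cfsg.Agent.Omega.ThmC.Of
import Cfsg.Agent.Omega.ThmC.TwoEnd
import Cfsg.Agent.Omega.IId.Strq
import Cfsg.Agent.Omega.IId.LFour.SwTwo
import Cfsg.Agent.Omega.IId.LFour.SwOneFin
import Cfsg.Agent.Omega.IId.SwNatZero
import Cfsg.Agent.Omega.IId.TriFalse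
import Cfsg.Agent.Omega.IId.M4.Mixed
import Cfsg.Agent.Omega.IId.Big.SylCase
import Cfsg.Agent.Omega.IId.Big.Cases
import Cfsg.Agent.Omega.IId.Big.Syl.Final
import Cfsg.Agent.Omega.IId.Big.Syl.Mix
import Cfsg.Agent.Omega.IId.SymMany.Main
import Cfsg.Agent.Omega.HTwo.TSMain
import Cfsg.Agent.Omega.HTwo.SevenMain
import Cfsg.Agent.Omega.HOneTwo.MoreMain

/-!
# II.d: `LeafWr K`, `LeafSymWr K` from the sub-leaves which are still open (assembler: helper36)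

`In K` lists the open Props of the node, for any class `K`; `In.wr'`, `In.symWr'`.  For `QK` (strongly quasithin)
`InQ`, `InQ.wr2'`, `InQ.symWr2'` need fewer.
-/

set_option autoImplicit false

namespace Cfsg.Agent.Omega.IId

open Subgroup Cfsg Cfsg.Agent.ZN.ChoiceBase
open Cfsg.Agent.ZN (o2 zc zl)
open Cfsg.Agent.Omega.MinPar Cfsg.Agent.Omega.Frame Cfsg.Agent.Omega.FFThm Cfsg.Agent.Omega.FrameMulti
open Cfsg.Agent.Omega.SQT.Main (QK)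

universe u

/-- `WrMain4N K` (helper441, helper400). -/
theorem wrMain4N (K : Cls.{u}) : Cv.WrMain4N K := by
  intro G _ _ S S' hH P P' hp F F' _ _ _ _ _ _ k' M M' hk' hk2 i hi hd h4
  obtain ⟨S₀, P₀, F₀, _, _, _, M₀, i₀, j₀, N, hN⟩ := FourSide.entry M4.mixedFalse hH hp M M' hk' hk2 hi hd h4
  exact ChainPlug.noTwoEnt K G S₀ P₀ F₀ M₀ i₀ j₀ N hN

/-- **THEOREM C** (helper610; Lean: helper732, helper522, helper131, helper334 and others). -/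
theorem thmC : ThmC.{u} := ThmC.Of.thmC_of fun _ _ _ _ => ThmC.stmt

/-- **`WrTwo K`**. -/
theorem wrTwo (K : Cls.{u}) : WrTwo K := wrTwo_of thmC K

/-- **`WrBigTwo K`** (THEOREM C; CASE 2: helper245; CASE 1: helper110, helper924, helper349 and others). -/
theorem wrBigTwo (K : Cls.{u}) : WrBigTwo K :=
  Big.wrBigTwo_of_all (fun _ _ _ => ThmC.stmt) Big.Syl.caseBN Big.unmTwo (Big.Syl.mixTwo K)

/-- **`WrBigFour K`** (THEOREM C; CASE 1: helper43, helper400; CASE 2: helper873 and others). -/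
theorem wrBigFour (K : Cls.{u}) : WrBigFour K :=
  BigFour.wrBigFour_of thmC (ChainPlug.noTwoEnt K) (ChainPlug.noBigEnt K) (BigFour.SylFour.caseTwo K)

/-- The open Props of `WrCvN` (helper958: `Cv/Cut.lean`; helper592: `Cv/SymPlug.lean`). -/
structure CvIn (K : Cls.{u}) : Prop where
  /-- LeafF4, several fixed points, without `NoWr` (helper816, helper257) -/
  memH2 : F4Leaf.NoWrFree.MemH2 K
  nonsplit : Cv.CvNonsplit K
  /-- more than two factors (helper958: `CvBig/Cut.lean`) -/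
  big : Cv.BigIn K

theorem cvOneA4 (K : Cls.{u}) : Cv.CvOneA4 K := Cv.cvOneA4_of ChainPlug.chainT Cv.idT

theorem cvTwoB (K : Cls.{u}) : Cv.CvTwoB K :=
  Cv.cvTwoB_of (Cv.cvTwoB2 HTwo.TSMain.ts0 HTwo.Seven.three0 HOneTwo.Trans.more0 HOneEnd.endL)
    (Cv.cvTwoB4 ChainPlug.chainT HOneEnd.endL)

theorem cvOne (K : Cls.{u}) : Cv.CvOne K :=
  Cv.cvOne_of (Cv.cvOne2 HTwo.TSMain.ts0 HTwo.Seven.three0 HOneTwo.Trans.more0 HOneEnd.endL)
    (Cv.cvOne4 ChainPlug.chainT HOneEnd.endL Cv.dNe_lit)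

/-- the exit into II.0h1, `q = 2` -/
theorem posExit : F4Leaf.Cen.Main.PosExit.{u} :=
  F4Leaf.Cen.Main.posExit_of HTwo.TSMain.ts0 HTwo.Seven.three0 HOneTwo.Trans.more0 HOneEnd.endL

theorem CvIn.symNat {K : Cls.{u}} (I : CvIn K) : Cv.CvSymNat K :=
  Cv.cvSymNat_of_unM (Cv.cvOneA2 K) (cvOneA4 K) (Cv.cvTwoA K) (cvTwoB K) (Cv.ttPair_of posExit I.memH2)
    fun _ _ _ _ hH _ _ _ _ _ _ _ _ M i hk _ hD hu => Cv.unM_big I.big hH M hk (CvBig.hC_all M) i hD hu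

theorem CvIn.cv {K : Cls.{u}} (I : CvIn K) (hSW : LeafSymWr K) : Cv.WrCvN K :=
  Cv.wrCvN_of' (Cv.cvSym_of hSW (Cv.cvSymOne_of I.symNat)) I.nonsplit
    (Cv.cvBigN_of CvBig.thmCD I.big (Cv.cvOneA2 K) (cvOneA4 K) (Cv.cvTwoA K) (cvTwoB K)) (Cv.cvLine K) (Cv.cvMix K)
    (Cv.cvOneA2 K) (cvOneA4 K) (Cv.cvTwoA K) (cvTwoB K) (cvOne K)

/-- The open Props of II.d. -/
structure In (K : Cls.{u}) : Prop where
  cv : CvIn K
  swCv : SwCv K
  swBig : SwBig K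

/-- **`LeafSymWr K`**. -/
theorem In.symWr' {K : Cls.{u}} (I : In K) : LeafSymWr K :=
  leafSymWr I.swCv I.swBig SwN.swNat0 (LFour.swTwo K) (LFour.swOne K)

/-- **`LeafWr K`**. -/
theorem In.wr' {K : Cls.{u}} (I : In K) : LeafWr K :=
  Cv.leafWrN (I.cv.cv I.symWr') (Sym.wrSym_of' I.symWr' SymMany.wrSymBig Pf.Main.noOne) (wrTwo K)
    (wrBig_of (wrBigTwo K) (wrBigFour K)) TriFalse.wrTri (wrMain2 Pf.Main.noOne) (wrMain4N K)

/-- old interface -/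
theorem In.symWr {K : Cls.{u}} (I : In K) (_hN2 : S5.Main.NodeN2 K) (_hTwo : NO3S.Two K) : LeafSymWr K := I.symWr'

/-- old interface -/
theorem In.wr {K : Cls.{u}} (I : In K) (_hN2 : S5.Main.NodeN2 K) (_hTwo : NO3S.Two K) : LeafWr K := I.wr'

/-! ### The strongly quasithin case -/

/-- The open Props of II.d for `QK`. -/
structure InQ : Prop where
  cv : CvIn QK.{u}
  swCv : SwCv QK.{u}

theorem InQ.symWr2' (I : InQ.{u}) : SQT.Multi.SymWr2.{u} :=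
  Strq.symWr2 I.swCv SwN.swNat0 (LFour.swTwo QK) (LFour.swOne QK)

theorem InQ.leafSymWr' (I : InQ.{u}) : LeafSymWr QK.{u} := SQT.Multi.leafSymWr I.symWr2'

theorem InQ.leafWr' (I : InQ.{u}) : LeafWr QK.{u} :=
  Cv.leafWrN (I.cv.cv I.leafSymWr') (Sym.wrSymQK' I.leafSymWr') Strq.wrTwo Strq.wrBig TriFalse.wrTri
    NoOne.wrMain2 (wrMain4N QK)

theorem InQ.wr2' (I : InQ.{u}) : SQT.Multi.Wr2.{u} := by
  intro G _ _ hG hq S hF hA hT P₁ P₂ x hm hN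
  exact I.leafWr' G hG hq S hF hA hT P₁ P₂ x hm 2 le_rfl hN

/-! the old interface -/

theorem InQ.symWr2 (I : InQ.{u}) (_hN2 : S5.Main.NodeN2 QK.{u}) (_hTwo : NO3S.Two QK.{u}) : SQT.Multi.SymWr2.{u} :=
  I.symWr2'

theorem InQ.leafSymWr (I : InQ.{u}) (_hN2 : S5.Main.NodeN2 QK.{u}) (_hTwo : NO3S.Two QK.{u}) : LeafSymWr QK.{u} :=
  I.leafSymWr'

theorem InQ.leafWr (I : InQ.{u}) (_hN2 : S5.Main.NodeN2 QK.{u}) (_hTwo : NO3S.Two QK.{u}) : LeafWr QK.{u} :=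
  I.leafWr'

theorem InQ.wr2 (I : InQ.{u}) (_hN2 : S5.Main.NodeN2 QK.{u}) (_hTwo : NO3S.Two QK.{u}) : SQT.Multi.Wr2.{u} :=
  I.wr2'

end Cfsg.Agent.Omega.IId
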