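import Cfsg.Agent.Omega.IId.Two

/-!
# II.d, `q = 2`, CASE 1 (helper478 #12430, helper895 #13722): the configuration

`v₁`, `v₂` commuting involutions, `T` a Sylow 2-subgroup of `Cᵢ = C_G(vᵢ)` with `Ω₁Z(T) = {1, v₁, v₂, v₁v₂}`,
`Vᵢ ∋ vᵢ` four-groups normal in `T`, `Lᵢ` transitive on `Vᵢ#` and trivial on `V₃₋ᵢ`, `s` interchanges `(vᵢ, Vᵢ)` and
normalises `T` (`Base`).  `Kk v = {g ∈ C_G(v) : [O₂(C_G(v)), g] ≤ ⟨v⟩}`, `nc v A = ⟨A^{C_G(v)}⟩`.  `One`: moreover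
`Kk vᵢ` does not centralise `Vᵢ` and `Cᵢ` does not normalise `V₃₋ᵢ`.

* `Base.one_of_mut`: `Base` and `[V₁, V₁^c] ≠ 1`, `c ∈ C₁` (mutual pair), give `One`;
* `Base.one_of_mixed`: the version for mixed pairs.
-/

set_option autoImplicit false
set_option linter.dupNamespace false
set_option linter.unusedSectionVars false

namespace Cfsg.Agent.Omega.IId.One

open Subgroup Cfsg Cfsg.Agent.ZN Cfsg.Agent.Omega.MinPar Cfsg.Agent.MinSimple.VModule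
open Cfsg.Agent.MinSimple.Basic
open Cfsg.Agent.Omega.IId.Two (le_normalizer_of)

universe u

variable {G : Type u} [Group G]

/-- `C_G(v)`. -/
abbrev cz (v : G) : Subgroup G := centralizer ({v} : Set G)

theorem mem_cz {v x : G} : x ∈ cz v ↔ x * v = v * x := mem_centralizer_singleton_iff

/-- `{g ∈ C_G(v) : [O₂(C_G(v)), g] ≤ ⟨v⟩}`. -/
def Kk (v : G) : Subgroup G where
  carrier := {g | g ∈ cz v ∧ ∀ x ∈ ZN.o2 (cz v), g * x * g⁻¹ * x⁻¹ ∈ zpowers v}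
  one_mem' := ⟨one_mem _, fun x _ => by
    have e : (1 : G) * x * 1⁻¹ * x⁻¹ = 1 := by group
    rw [e]; exact one_mem _⟩
  mul_mem' := by
    rintro a b ⟨ha, ha'⟩ ⟨hb, hb'⟩
    refine ⟨mul_mem ha hb, fun x hx => ?_⟩
    have h1 : ∀ y ∈ zpowers v, a * y * a⁻¹ = y := by
      rintro _ ⟨k, rfl⟩
      have h2 : Commute a v := mem_cz.1 ha
      change a * v ^ k * a⁻¹ = v ^ k
      rw [(h2.zpow_right k).eq, mul_inv_cancel_right]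
    have e : a * b * x * (a * b)⁻¹ * x⁻¹ = (a * (b * x * b⁻¹ * x⁻¹) * a⁻¹) * (a * x * a⁻¹ * x⁻¹) := by
      group
    rw [e, h1 _ (hb' x hx)]
    exact mul_mem (hb' x hx) (ha' x hx)
  inv_mem' := by
    rintro a ⟨ha, ha'⟩
    refine ⟨inv_mem ha, fun x hx => ?_⟩
    have h1 : ∀ y ∈ zpowers v, a⁻¹ * y * a = y := by
      rintro _ ⟨k, rfl⟩
      have h2 : Commute a v := mem_cz.1 ha
      change a⁻¹ * v ^ k * a = v ^ k
      rw [mul_assoc, ← (h2.zpow_right k).eq, inv_mul_cancel_left]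
    have e : a⁻¹ * x * a⁻¹⁻¹ * x⁻¹ = a⁻¹ * (a * x * a⁻¹ * x⁻¹)⁻¹ * a := by group
    rw [e, h1 _ (inv_mem (ha' x hx))]
    exact inv_mem (ha' x hx)

theorem mem_Kk {v g : G} :
    g ∈ Kk v ↔ g ∈ cz v ∧ ∀ x ∈ ZN.o2 (cz v), g * x * g⁻¹ * x⁻¹ ∈ zpowers v := Iff.rfl

theorem Kk_le (v : G) : Kk v ≤ cz v := fun _ h => h.1

theorem le_normalizer_Kk (v : G) : cz v ≤ normalizer (Kk v : Set G) := by
  apply le_normalizer_of
  intro c hc g hg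
  refine ⟨mul_mem (mul_mem hc hg.1) (inv_mem hc), fun x hx => ?_⟩
  have h1 : c⁻¹ * x * c ∈ ZN.o2 (cz v) := by
    have := (mem_normalizer_iff.1 (inv_mem (le_normalizer_o2 (cz v) hc)) x).1 hx
    rwa [inv_inv] at this
  have h2 := hg.2 _ h1
  have h3 : ∀ y ∈ zpowers v, c * y * c⁻¹ = y := by
    rintro _ ⟨k, rfl⟩
    have h2 : Commute c v := mem_cz.1 hc
    change c * v ^ k * c⁻¹ = v ^ k
    rw [(h2.zpow_right k).eq, mul_inv_cancel_right]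
  have e : c * g * c⁻¹ * x * (c * g * c⁻¹)⁻¹ * x⁻¹ =
      c * (g * (c⁻¹ * x * c) * g⁻¹ * (c⁻¹ * x * c)⁻¹) * c⁻¹ := by group
  rw [e, h3 _ h2]
  exact h2

theorem mem_zp {v y : G} (hv : v * v = 1) (hy : y ∈ zpowers v) : y = 1 ∨ y = v := by
  obtain ⟨k, rfl⟩ := mem_zpowers_iff.1 hy
  have h2 : v ^ (2 : ℤ) = 1 := by rw [zpow_two, hv]
  rcases Int.even_or_odd' k with ⟨m, hm | hm⟩
  · left
    rw [hm, zpow_mul, h2, one_zpow]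
  · right
    rw [hm, zpow_add, zpow_mul, h2, one_zpow, one_mul, zpow_one]

/-- `[Q, g] ≤ ⟨v⟩`, `v` an involution: `g` fixes `x` or maps it to `v x`. -/
theorem Kk_conj {v g x : G} (hv : v * v = 1) (hg : g ∈ Kk v) (hx : x ∈ ZN.o2 (cz v)) :
    g * x * g⁻¹ = x ∨ g * x * g⁻¹ = v * x := by
  have e : g * x * g⁻¹ = (g * x * g⁻¹ * x⁻¹) * x := by group
  rcases mem_zp hv (hg.2 x hx) with h1 | h1
  · left; rw [e, h1, one_mul]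
  · right; rw [e, h1]

/-- `⟨A^{C_G(v)}⟩`. -/
def nc (v : G) (A : Set G) : Subgroup G :=
  closure {y : G | ∃ g ∈ cz v, ∃ a ∈ A, y = g * a * g⁻¹}

theorem conj_mem_nc {v : G} {A : Set G} {g a : G} (hg : g ∈ cz v) (ha : a ∈ A) :
    g * a * g⁻¹ ∈ nc v A := subset_closure ⟨g, hg, a, ha, rfl⟩

theorem subset_nc (v : G) (A : Set G) : A ⊆ nc v A := fun a ha => by
  have := conj_mem_nc (one_mem (cz v)) ha
  simpa using this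

theorem nc_le {v : G} {A : Set G} {B : Subgroup G} (hA : A ⊆ B) (hB : cz v ≤ normalizer (B : Set G)) :
    nc v A ≤ B := by
  rw [nc, closure_le]
  rintro _ ⟨g, hg, a, ha, rfl⟩
  exact (mem_normalizer_iff.1 (hB hg) a).1 (hA ha)

theorem le_normalizer_nc (v : G) (A : Set G) : cz v ≤ normalizer (nc v A : Set G) := by
  apply le_normalizer_of
  intro c hc x hx
  induction hx using Subgroup.closure_induction with
  | mem x hx =>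
    obtain ⟨g, hg, a, ha, rfl⟩ := hx
    have e : c * (g * a * g⁻¹) * c⁻¹ = (c * g) * a * (c * g)⁻¹ := by group
    rw [e]
    exact conj_mem_nc (mul_mem hc hg) ha
  | one => simp
  | mul x y _ _ hx hy =>
    have e : c * (x * y) * c⁻¹ = (c * x * c⁻¹) * (c * y * c⁻¹) := by group
    rw [e]
    exact mul_mem hx hy
  | inv x _ hx =>
    have e : c * x⁻¹ * c⁻¹ = (c * x * c⁻¹)⁻¹ := by group
    rw [e]
    exact inv_mem hx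

/-- `s nc(v, A) s⁻¹ = nc(v^s, A^s)`. -/
theorem conj_nc {v w s : G} {A B : Set G} (hv : s * v * s⁻¹ = w) (hA : ∀ a ∈ A, s * a * s⁻¹ ∈ B)
    {x : G} (hx : x ∈ nc v A) : s * x * s⁻¹ ∈ nc w B := by
  induction hx using Subgroup.closure_induction with
  | mem x hx =>
    obtain ⟨g, hg, a, ha, rfl⟩ := hx
    have e : s * (g * a * g⁻¹) * s⁻¹ = (s * g * s⁻¹) * (s * a * s⁻¹) * (s * g * s⁻¹)⁻¹ := by group
    rw [e]
    refine conj_mem_nc ?_ (hA a ha)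
    rw [mem_cz] at hg ⊢
    rw [← hv]
    calc s * g * s⁻¹ * (s * v * s⁻¹) = s * (g * v) * s⁻¹ := by group
      _ = s * (v * g) * s⁻¹ := by rw [hg]
      _ = s * v * s⁻¹ * (s * g * s⁻¹) := by group
  | one => simp
  | mul x y _ _ hx hy =>
    have e : s * (x * y) * s⁻¹ = (s * x * s⁻¹) * (s * y * s⁻¹) := by group
    rw [e]
    exact mul_mem hx hy
  | inv x _ hx =>
    have e : s * x⁻¹ * s⁻¹ = (s * x * s⁻¹)⁻¹ := by group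
    rw [e]
    exact inv_mem hx

theorem conj_cz {v w s : G} (hv : s * v * s⁻¹ = w) {x : G} (hx : x ∈ cz v) : s * x * s⁻¹ ∈ cz w := by
  rw [mem_cz] at hx ⊢
  rw [← hv]
  calc s * x * s⁻¹ * (s * v * s⁻¹) = s * (x * v) * s⁻¹ := by group
    _ = s * (v * x) * s⁻¹ := by rw [hx]
    _ = s * v * s⁻¹ * (s * x * s⁻¹) := by group

theorem cz_map {v w s : G} (hv : s * v * s⁻¹ = w) :
    (cz v).map (MulAut.conj s).toMonoidHom = cz w := by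
  ext x
  constructor
  · rintro ⟨y, hy, rfl⟩
    exact conj_cz hv hy
  · intro hx
    refine ⟨s⁻¹ * x * s, ?_, by simp [mul_assoc]⟩
    have h1 : s⁻¹ * w * s⁻¹⁻¹ = v := by rw [← hv]; group
    have := conj_cz h1 hx
    rwa [inv_inv] at this

theorem conj_o2_cz {v w s : G} (hv : s * v * s⁻¹ = w) {x : G} (hx : x ∈ ZN.o2 (cz v)) :
    s * x * s⁻¹ ∈ ZN.o2 (cz w) := by
  rw [← cz_map hv, ZN.o2_map _ (MulAut.conj s).injective]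
  exact ⟨x, hx, rfl⟩

theorem conj_Kk {v w s : G} (hv : s * v * s⁻¹ = w) {x : G} (hx : x ∈ Kk v) :
    s * x * s⁻¹ ∈ Kk w := by
  refine ⟨conj_cz hv hx.1, fun y hy => ?_⟩
  have h1 : s⁻¹ * w * s⁻¹⁻¹ = v := by rw [← hv]; group
  have h2 : s⁻¹ * y * s ∈ ZN.o2 (cz v) := by
    have := conj_o2_cz h1 hy
    rwa [inv_inv] at this
  obtain ⟨k, hk⟩ := mem_zpowers_iff.1 (hx.2 _ h2)
  rw [mem_zpowers_iff]
  refine ⟨k, ?_⟩
  have e : s * x * s⁻¹ * y * (s * x * s⁻¹)⁻¹ * y⁻¹ =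
      s * (x * (s⁻¹ * y * s) * x⁻¹ * (s⁻¹ * y * s)⁻¹) * s⁻¹ := by group
  rw [e, ← hk, ← hv, conj_zpow]

/-! ### The structure -/

/-- The configuration of CASE 1. -/
structure Base (T V₁ V₂ L₁ L₂ : Subgroup G) (v₁ v₂ s : G) : Prop where
  /-- `G` has characteristic 2 type -/
  C2T : IsCharacteristicTwoType G
  pT : IsPGroup 2 T
  V1T : V₁ ≤ T
  V2T : V₂ ≤ T
  card1 : Nat.card V₁ = 4
  card2 : Nat.card V₂ = 4
  c1 : ∀ x ∈ V₁, ∀ y ∈ V₁, x * y = y * x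
  c2 : ∀ x ∈ V₂, ∀ y ∈ V₂, x * y = y * x
  q1 : ∀ x ∈ V₁, x * x = 1
  q2 : ∀ x ∈ V₂, x * x = 1
  c12 : ∀ x ∈ V₁, ∀ y ∈ V₂, x * y = y * x
  inf : ∀ x ∈ V₁, x ∈ V₂ → x = 1
  vV1 : v₁ ∈ V₁
  vV2 : v₂ ∈ V₂
  v1 : v₁ ≠ 1
  v2 : v₂ ≠ 1
  Tv1 : ∀ x ∈ T, x * v₁ = v₁ * x
  Tv2 : ∀ x ∈ T, x * v₂ = v₂ * x
  T1 : ∀ x ∈ T, ∀ v ∈ V₁, x * v * x⁻¹ ∈ V₁
  T2 : ∀ x ∈ T, ∀ v ∈ V₂, x * v * x⁻¹ ∈ V₂
  L1 : ∀ l ∈ L₁, ∀ v ∈ V₁, l * v * l⁻¹ ∈ V₁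
  L2 : ∀ l ∈ L₂, ∀ v ∈ V₂, l * v * l⁻¹ ∈ V₂
  L12 : ∀ l ∈ L₁, ∀ v ∈ V₂, l * v = v * l
  L21 : ∀ l ∈ L₂, ∀ v ∈ V₁, l * v = v * l
  t1 : ∀ v ∈ V₁, v ≠ 1 → ∀ w ∈ V₁, w ≠ 1 → ∃ l ∈ L₁, l * v * l⁻¹ = w
  t2 : ∀ v ∈ V₂, v ≠ 1 → ∀ w ∈ V₂, w ≠ 1 → ∃ l ∈ L₂, l * v * l⁻¹ = w
  /-- `Ω₁Z(T) = {1, v₁, v₂, v₁v₂}` -/
  fix : ∀ x ∈ T, x * x = 1 → (∀ t ∈ T, t * x = x * t) → x = 1 ∨ x = v₁ ∨ x = v₂ ∨ x = v₁ * v₂
  /-- `T` is a Sylow 2-subgroup of `C_G(v₁)` -/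
  syl1 : ∀ U : Subgroup G, IsPGroup 2 U → T ≤ U → (∀ x ∈ U, x * v₁ = v₁ * x) → U ≤ T
  syl2 : ∀ U : Subgroup G, IsPGroup 2 U → T ≤ U → (∀ x ∈ U, x * v₂ = v₂ * x) → U ≤ T
  /-- HALF LEMMA -/
  half1 : V₂ ≤ ZN.o2 (cz v₁)
  half2 : V₁ ≤ ZN.o2 (cz v₂)
  halfc1 : ∀ x ∈ ZN.o2 (cz v₁), ∀ v ∈ V₂, x * v = v * x
  halfc2 : ∀ x ∈ ZN.o2 (cz v₂), ∀ v ∈ V₁, x * v = v * x
  sT : ∀ x ∈ T, s * x * s⁻¹ ∈ T
  s1 : ∀ v ∈ V₁, s * v * s⁻¹ ∈ V₂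
  s2 : ∀ v ∈ V₂, s * v * s⁻¹ ∈ V₁
  sv1 : s * v₁ * s⁻¹ = v₂
  sv2 : s * v₂ * s⁻¹ = v₁

/-- The configuration of CASE 1, with `[V₁, Kk v₁] ≠ 1`. -/
structure One (T V₁ V₂ L₁ L₂ : Subgroup G) (v₁ v₂ s : G) : Prop
    extends Base T V₁ V₂ L₁ L₂ v₁ v₂ s where
  k1 : ∃ w ∈ Kk v₁, ∃ v ∈ V₁, w * v ≠ v * w
  k2 : ∃ w ∈ Kk v₂, ∃ v ∈ V₂, w * v ≠ v * w
  n1 : ¬ cz v₁ ≤ normalizer (V₂ : Set G)
  n2 : ¬ cz v₂ ≤ normalizer (V₁ : Set G)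

theorem Base.symm {T V₁ V₂ L₁ L₂ : Subgroup G} {v₁ v₂ s : G} (h : Base T V₁ V₂ L₁ L₂ v₁ v₂ s) :
    Base T V₂ V₁ L₂ L₁ v₂ v₁ s where
  C2T := h.C2T
  pT := h.pT
  V1T := h.V2T
  V2T := h.V1T
  card1 := h.card2
  card2 := h.card1
  c1 := h.c2
  c2 := h.c1
  q1 := h.q2
  q2 := h.q1
  c12 := fun x hx y hy => (h.c12 y hy x hx).symm
  inf := fun x hx hy => h.inf x hy hx
  vV1 := h.vV2
  vV2 := h.vV1
  v1 := h.v2
  v2 := h.v1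
  Tv1 := h.Tv2
  Tv2 := h.Tv1
  T1 := h.T2
  T2 := h.T1
  L1 := h.L2
  L2 := h.L1
  L12 := h.L21
  L21 := h.L12
  t1 := h.t2
  t2 := h.t1
  fix := fun x hx hx2 hc => by
    rcases h.fix x hx hx2 hc with h1 | h1 | h1 | h1
    · exact Or.inl h1
    · exact Or.inr (Or.inr (Or.inl h1))
    · exact Or.inr (Or.inl h1)
    · exact Or.inr (Or.inr (Or.inr (h1.trans (h.c12 _ h.vV1 _ h.vV2))))
  syl1 := h.syl2
  syl2 := h.syl1
  half1 := h.half2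
  half2 := h.half1
  halfc1 := h.halfc2
  halfc2 := h.halfc1
  sT := h.sT
  s1 := h.s2
  s2 := h.s1
  sv1 := h.sv2
  sv2 := h.sv1

theorem One.symm {T V₁ V₂ L₁ L₂ : Subgroup G} {v₁ v₂ s : G} (h : One T V₁ V₂ L₁ L₂ v₁ v₂ s) :
    One T V₂ V₁ L₂ L₁ v₂ v₁ s where
  toBase := h.toBase.symm
  k1 := h.k2
  k2 := h.k1
  n1 := h.n2
  n2 := h.n1

namespace Base

variable {T V₁ V₂ L₁ L₂ : Subgroup G} {v₁ v₂ s : G}

section basic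

variable (h : Base T V₁ V₂ L₁ L₂ v₁ v₂ s)
include h

theorem vc : v₁ * v₂ = v₂ * v₁ := h.c12 _ h.vV1 _ h.vV2

theorem vq1 : v₁ * v₁ = 1 := h.q1 _ h.vV1

theorem vq2 : v₂ * v₂ = 1 := h.q2 _ h.vV2

theorem ne : v₁ ≠ v₂ := fun e => h.v1 (h.inf _ h.vV1 (e ▸ h.vV2))

theorem z1 : v₁ * v₂ ≠ 1 := fun e => h.ne (by
  calc v₁ = v₁ * v₂ * v₂ := by rw [mul_assoc, h.vq2, mul_one]
    _ = v₂ := by rw [e, one_mul])

theorem T_le : T ≤ cz v₁ := fun x hx => mem_cz.2 (h.Tv1 x hx)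

theorem T_le2 : T ≤ cz v₂ := fun x hx => mem_cz.2 (h.Tv2 x hx)

theorem T_leM : T ≤ cz v₁ ⊓ cz v₂ := le_inf h.T_le h.T_le2

theorem V1_le : V₁ ≤ cz v₁ := h.V1T.trans h.T_le

theorem V2_le : V₂ ≤ cz v₁ := h.V2T.trans h.T_le

theorem L2_le : L₂ ≤ cz v₁ := fun l hl => mem_cz.2 (h.L21 l hl _ h.vV1)

theorem L1_le : L₁ ≤ cz v₂ := fun l hl => mem_cz.2 (h.L12 l hl _ h.vV2)

/-- The fixed points of `T` in `V₁`. -/
theorem fix1 {x : G} (hx : x ∈ V₁) (hc : ∀ t ∈ T, t * x = x * t) : x = 1 ∨ x = v₁ := by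
  rcases h.fix x (h.V1T hx) (h.q1 x hx) hc with h1 | h1 | h1 | h1
  · exact Or.inl h1
  · exact Or.inr h1
  · exact absurd (h.inf _ hx (h1 ▸ h.vV2)) (h1 ▸ h.v2)
  · exfalso
    apply h.v2
    apply h.inf _ ?_ h.vV2
    have e : v₂ = v₁⁻¹ * x := by rw [h1]; group
    rw [e]
    exact mul_mem (inv_mem h.vV1) hx

theorem T_norm1 : T ≤ normalizer (V₁ : Set G) := le_normalizer_of h.T1

theorem T_norm2 : T ≤ normalizer (V₂ : Set G) := le_normalizer_of h.T2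

theorem L_norm1 : L₁ ≤ normalizer (V₁ : Set G) := le_normalizer_of h.L1

theorem L_norm2 : L₂ ≤ normalizer (V₂ : Set G) := le_normalizer_of h.L2

/-- `V₁ = ⟨v₁^{L₁}⟩`: an `L₁`-invariant subgroup containing `v₁` contains `V₁`. -/
theorem V1_le_of {A : Subgroup G} (hA : L₁ ≤ normalizer (A : Set G)) (hv : v₁ ∈ A) : V₁ ≤ A := by
  intro x hx
  by_cases hx1 : x = 1
  · rw [hx1]; exact one_mem _
  obtain ⟨l, hl, rfl⟩ := h.t1 v₁ h.vV1 h.v1 x hx hx1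
  exact (mem_normalizer_iff.1 (hA hl) _).1 hv

theorem V1_ne_bot : V₁ ≠ ⊥ := fun h0 => h.v1 (by
  have := h.vV1
  rwa [h0, mem_bot] at this)

/-- An element `v ∈ V₁ - ⟨v₁⟩` generates `V₁` together with `v₁`. -/
theorem mem_V1 [Finite G] {x v : G} (hx : x ∈ V₁) (hv : v ∈ V₁) (hv1 : v ≠ 1) (hv2 : v ≠ v₁) :
    x = 1 ∨ x = v₁ ∨ x = v ∨ x = v₁ * v := by
  classical
  by_contra hcon
  push Not at hcon
  have ne3 : v₁ * v ≠ 1 := fun e => hv2 (by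
    calc v = v₁ * (v₁ * v) := by rw [← mul_assoc, h.vq1, one_mul]
      _ = v₁ := by rw [e, mul_one])
  have h5 : ({1, v₁, v, v₁ * v, x} : Finset G).card ≤ 4 := by
    have e1 : Nat.card V₁ = (V₁ : Set G).ncard := rfl
    rw [← h.card1, e1, ← Set.ncard_coe_finset]
    apply Set.ncard_le_ncard _ (Set.toFinite _)
    intro y hy
    simp only [Finset.coe_insert, Finset.coe_singleton, Set.mem_insert_iff, Set.mem_singleton_iff] at hy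
    rcases hy with rfl | rfl | rfl | rfl | rfl
    · exact one_mem _
    · exact h.vV1
    · exact hv
    · exact mul_mem h.vV1 hv
    · exact hx
  have c3 : v₁ ≠ v₁ * v := fun e => hv1 (by
    calc v = v₁ * (v₁ * v) := by rw [← mul_assoc, h.vq1, one_mul]
      _ = 1 := by rw [← e, h.vq1])
  have c4 : v ≠ v₁ * v := fun e => h.v1 (by
    calc v₁ = v₁ * v * v⁻¹ := by group
      _ = 1 := by rw [← e, mul_inv_cancel])
  have : ({1, v₁, v, v₁ * v, x} : Finset G).card = 5 := by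
    rw [Finset.card_insert_of_notMem, Finset.card_insert_of_notMem, Finset.card_insert_of_notMem,
      Finset.card_insert_of_notMem, Finset.card_singleton]
    · simpa using Ne.symm hcon.2.2.2
    · simp only [Finset.mem_insert, Finset.mem_singleton, not_or]
      exact ⟨c4, Ne.symm hcon.2.2.1⟩
    · simp only [Finset.mem_insert, Finset.mem_singleton, not_or]
      exact ⟨Ne.symm hv2, c3, Ne.symm hcon.2.1⟩
    · simp only [Finset.mem_insert, Finset.mem_singleton, not_or]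
      exact ⟨Ne.symm h.v1, Ne.symm hv1, Ne.symm ne3, Ne.symm hcon.1⟩
  omega

/-- `t v t⁻¹ ∈ {v, v₁ v}` for `t ∈ N_G(V₁) ∩ C_G(v₁)`, `v ∈ V₁`. -/
theorem conj1 [Finite G] {t v : G} (ht1 : t ∈ cz v₁) (ht : t * v * t⁻¹ ∈ V₁) (hv : v ∈ V₁) :
    t * v * t⁻¹ = v ∨ t * v * t⁻¹ = v₁ * v := by
  have tv1 : t * v₁ * t⁻¹ = v₁ := by rw [mem_cz.1 ht1, mul_inv_cancel_right]
  by_cases ne1 : v = 1
  · left; rw [ne1]; group
  by_cases ne2 : v = v₁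
  · left; rw [ne2]; exact tv1
  have e0 : v = t⁻¹ * (t * v * t⁻¹) * t := by group
  rcases h.mem_V1 ht hv ne1 ne2 with h1 | h1 | h1 | h1
  · exfalso; apply ne1; rw [e0, h1]; group
  · exfalso; apply ne2; rw [e0, h1]
    calc t⁻¹ * v₁ * t = t⁻¹ * (t * v₁ * t⁻¹) * t := by rw [tv1]
      _ = v₁ := by group
  · exact Or.inl h1
  · exact Or.inr h1

theorem T_conj1 [Finite G] {t v : G} (ht : t ∈ T) (hv : v ∈ V₁) :
    t * v * t⁻¹ = v ∨ t * v * t⁻¹ = v₁ * v :=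
  h.conj1 (h.T_le ht) (h.T1 t ht v hv) hv

end basic

end Base

end Cfsg.Agent.Omega.IId.One
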