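import Cfsg.Agent.Omega.IId.ThmJ
import Cfsg.Agent.Omega.TV.Group

/-!
# THEOREM J, complete: `N_p ∩ N_q = {1, p, q, pq}`

helper895, OMEGA / II.d, paper text bb #13722, on helper540's `ThmJ.lean` and on THEOREM TV.
-/

set_option autoImplicit false

namespace Cfsg.Agent.Omega.IId.ThmJ

open Subgroup Cfsg Cfsg.Agent.ZN Cfsg.Agent.ZN.ChoiceBase Cfsg.Agent.Omega.TV

universe u

/-- `K` normal, `K/F` of exponent 2: `K ≤ T F` for every Sylow 2-subgroup `T`. -/
theorem exists_mem_sylow_of_sq {H : Type u} [Group H] [Finite H] (T : Sylow 2 H)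
    {K F : Subgroup H} (hK : K.Normal) (hF : F.Normal) (hsq : ∀ k ∈ K, k * k ∈ F) {k : H}
    (hk : k ∈ K) : ∃ t ∈ T, t⁻¹ * k ∈ F := by
  have : Fact (Nat.Prime 2) := ⟨Nat.prime_two⟩
  have hKn : (K.map (QuotientGroup.mk' F)).Normal :=
    hK.map _ (QuotientGroup.mk'_surjective F)
  have hKp : IsPGroup 2 (K.map (QuotientGroup.mk' F)) := by
    rintro ⟨x, hx⟩
    refine ⟨1, Subtype.ext ?_⟩
    obtain ⟨k, hk, rfl⟩ := hx
    rw [SubmonoidClass.coe_pow, Subgroup.coe_one, pow_one, pow_two]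
    show QuotientGroup.mk' F k * QuotientGroup.mk' F k = 1
    rw [← map_mul]
    exact (QuotientGroup.eq_one_iff _).2 (hsq k hk)
  have hle : K.map (QuotientGroup.mk' F) ≤
      ((T.mapSurjective (QuotientGroup.mk'_surjective F) : Sylow 2 (H ⧸ F)) :
        Subgroup (H ⧸ F)) := by
    obtain ⟨Q, hQ⟩ := hKp.exists_le_sylow
    intro x hx
    obtain ⟨g, hg⟩ := MulAction.exists_smul_eq (H ⧸ F) Q
      (T.mapSurjective (QuotientGroup.mk'_surjective F))
    rw [← hg]
    have hx' : g⁻¹ * x * g ∈ K.map (QuotientGroup.mk' F) := by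
      have := hKn.conj_mem x hx g⁻¹
      simpa using this
    have h1 : g * (g⁻¹ * x * g) * g⁻¹ ∈ g • Q := by
      refine Set.mem_smul_set.2 ⟨g⁻¹ * x * g, hQ hx', ?_⟩
      show MulAut.conj g (g⁻¹ * x * g) = _
      rw [MulAut.conj_apply]
    have e : g * (g⁻¹ * x * g) * g⁻¹ = x := by group
    rwa [e] at h1
  have h1 := hle (mem_map_of_mem _ hk)
  obtain ⟨t, ht, e⟩ := h1
  refine ⟨t, ht, ?_⟩
  rw [← QuotientGroup.eq]
  exact e

variable {G : Type u} [Group G]

/-- The conjugates of `q` under `C(p)` generate `N_p`. -/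
theorem Side.NN_le_closure {V₁ V₂ : Subgroup G} (h2 : Side V₂ V₁) {p q : G} (hp : p ∈ V₁)
    (hq : q ∈ V₂) (hq1 : q ≠ 1)
    (htr : ∀ q ∈ V₂, q ≠ 1 → ∀ q' ∈ V₂, q' ≠ 1 →
      ∃ l ∈ centralizer (V₁ : Set G) ⊓ normalizer (V₂ : Set G), l * q' * l⁻¹ = q) :
    NN V₂ p ≤ closure {x | ∃ c ∈ CC p, x = c * q * c⁻¹} := by
  refine NN_le ?_ ?_
  · intro y hy
    by_cases hy1 : y = 1
    · rw [hy1]; exact one_mem _
    · obtain ⟨l, ⟨hl, -⟩, e⟩ := htr y hy hy1 q hq hq1
      exact subset_closure ⟨l, centralizer_le_CC hp hl, e.symm⟩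
  · intro g hg
    have key : ∀ g ∈ CC p, ∀ x ∈ closure {x | ∃ c ∈ CC p, x = c * q * c⁻¹},
        g * x * g⁻¹ ∈ closure {x | ∃ c ∈ CC p, x = c * q * c⁻¹} := by
      intro g hg x hx
      induction hx using closure_induction with
      | mem x hx =>
        obtain ⟨c, hc, rfl⟩ := hx
        refine subset_closure ⟨g * c, mul_mem hg hc, ?_⟩
        group
      | one => simp
      | mul x y _ _ hx hy =>
        have e : g * (x * y) * g⁻¹ = g * x * g⁻¹ * (g * y * g⁻¹) := by group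
        rw [e]
        exact mul_mem hx hy
      | inv x _ hx =>
        have e : g * x⁻¹ * g⁻¹ = (g * x * g⁻¹)⁻¹ := by group
        rw [e]
        exact inv_mem hx
    rw [mem_normalizer_iff]
    intro x
    refine ⟨key g hg x, fun hx => ?_⟩
    have := key g⁻¹ (inv_mem hg) _ hx
    have e : g⁻¹ * (g * x * g⁻¹) * g⁻¹⁻¹ = x := by group
    rwa [e] at this

/-- `N_p` is elementary abelian. -/
theorem Side.NN_sq {V₁ V₂ : Subgroup G} (h : Side V₁ V₂) (h2 : Side V₂ V₁) {p : G} (hp : p ∈ V₁)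
    (hp1 : p ≠ 1) : ∀ x ∈ NN V₂ p, x * x = 1 := by
  have key : ∀ x ∈ NN V₂ p, x ∈ NN V₂ p ∧ x * x = 1 := by
    intro x hx
    refine iSup_induction (fun c : CC p => cj (c : G) V₂) (C := fun x => x ∈ NN V₂ p ∧ x * x = 1)
      hx ?_ ?_ ?_
    · intro c y hy
      refine ⟨le_iSup (fun c : CC p => cj (c : G) V₂) c hy, ?_⟩
      rw [mem_cj] at hy
      have h3 := h2.two _ hy
      have e : y * y = (c : G) * ((c : G)⁻¹ * y * c * ((c : G)⁻¹ * y * c)) * (c : G)⁻¹ := by group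
      rw [e, h3]
      group
    · exact ⟨one_mem _, one_mul 1⟩
    · rintro a b ⟨ha, ha'⟩ ⟨hb, hb'⟩
      refine ⟨mul_mem ha hb, ?_⟩
      have hc : b * a = a * b :=
        mem_centralizer_iff.1 (h.o2_le_cent_NN hp hp1 (h.NN_le_o2 hp hp1 ha)) b hb
      calc a * b * (a * b) = a * (b * a) * b := by group
        _ = a * (a * b) * b := by rw [hc]
        _ = a * a * (b * b) := by group
        _ = 1 := by rw [ha', hb', one_mul]
  exact fun x hx => (key x hx).2

/-- The group data of TV for `C(p)` acting on `N_p`, with base point `q`. -/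
theorem Ctx.gsys [Finite G] {V₁ V₂ : Subgroup G} (h : Ctx V₁ V₂) {p q : G} (hp : p ∈ V₁)
    (hp1 : p ≠ 1) (hq : q ∈ V₂) (hq1 : q ≠ 1)
    (htr : ∀ q ∈ V₂, q ≠ 1 → ∀ q' ∈ V₂, q' ≠ 1 →
      ∃ l ∈ centralizer (V₁ : Set G) ⊓ normalizer (V₂ : Set G), l * q' * l⁻¹ = q)
    {T : Subgroup G} (hTp : T ≤ CC p) (hT : IsPGroup 2 T) (hi : ¬ 2 ∣ T.relIndex (CC p))
    (hTq : T ≤ CC q) : GSys (CC p) (NN V₂ p) q where
  sq := h.s1.NN_sq h.s2 hp hp1
  nor := fun _ hc n hn => (mem_normalizer_iff.1 (CC_le_normalizer_NN V₂ p hc) n).1 hn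
  mem := le_NN V₂ p hq
  ne := hq1
  gen := h.s2.NN_le_closure hp hq hq1 htr
  chain := by
    have : Fact (Nat.Prime 2) := ⟨Nat.prime_two⟩
    intro U hUN hU c hc hcU hcN n hn
    have hsqN := h.s1.NN_sq h.s2 hp hp1
    have hnor : ∀ c ∈ CC p, ∀ n ∈ NN V₂ p, c * n * c⁻¹ ∈ NN V₂ p :=
      fun _ hc n hn => (mem_normalizer_iff.1 (CC_le_normalizer_NN V₂ p hc) n).1 hn
    -- the kernel of the action and the stabilizer of the chain, inside `C(p)`
    let F : Subgroup (CC p) :=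
      { carrier := {c | ∀ n ∈ NN V₂ p, (c : G) * n * (c : G)⁻¹ = n}
        one_mem' := fun n _ => by simp
        mul_mem' := by
          intro a b ha hb n hn
          have e : ((a * b : CC p) : G) * n * ((a * b : CC p) : G)⁻¹
              = (a : G) * ((b : G) * n * (b : G)⁻¹) * (a : G)⁻¹ := by
            rw [Subgroup.coe_mul]; group
          rw [e, hb n hn, ha n hn]
        inv_mem' := by
          intro a ha n hn
          have e : ((a⁻¹ : CC p) : G) * n * ((a⁻¹ : CC p) : G)⁻¹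
              = (a : G)⁻¹ * n * (a : G) := by
            rw [Subgroup.coe_inv]; group
          rw [e]
          nth_rewrite 1 [← ha n hn]
          group }
    let K : Subgroup (CC p) :=
      { carrier := {c | (∀ u ∈ U, (c : G) * u * (c : G)⁻¹ = u) ∧
          ∀ n ∈ NN V₂ p, (c : G) * n * (c : G)⁻¹ * n⁻¹ ∈ U}
        one_mem' := ⟨fun u _ => by simp, fun n _ => by simp⟩
        mul_mem' := by
          rintro a b ⟨ha, ha'⟩ ⟨hb, hb'⟩
          refine ⟨fun u hu => ?_, fun n hn => ?_⟩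
          · have e : ((a * b : CC p) : G) * u * ((a * b : CC p) : G)⁻¹
                = (a : G) * ((b : G) * u * (b : G)⁻¹) * (a : G)⁻¹ := by
              rw [Subgroup.coe_mul]; group
            rw [e, hb u hu, ha u hu]
          · have h1 := hb' n hn
            have h2 := ha' n hn
            have e : ((a * b : CC p) : G) * n * ((a * b : CC p) : G)⁻¹ * n⁻¹
                = (a : G) * ((b : G) * n * (b : G)⁻¹ * n⁻¹) * (a : G)⁻¹ *
                  ((a : G) * n * (a : G)⁻¹ * n⁻¹) := by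
              rw [Subgroup.coe_mul]; group
            rw [e]
            exact mul_mem (hU a a.2 _ h1) h2
        inv_mem' := by
          rintro a ⟨ha, ha'⟩
          have hinv : ∀ u ∈ U, (a : G)⁻¹ * u * (a : G) = u := by
            intro u hu
            nth_rewrite 1 [← ha u hu]
            group
          refine ⟨fun u hu => ?_, fun n hn => ?_⟩
          · have e : ((a⁻¹ : CC p) : G) * u * ((a⁻¹ : CC p) : G)⁻¹
                = (a : G)⁻¹ * u * (a : G) := by
              rw [Subgroup.coe_inv]; group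
            rw [e, hinv u hu]
          · have h1 := ha' n hn
            have e : ((a⁻¹ : CC p) : G) * n * ((a⁻¹ : CC p) : G)⁻¹ * n⁻¹
                = (a : G)⁻¹ * ((a : G) * n * (a : G)⁻¹ * n⁻¹)⁻¹ * (a : G) := by
              rw [Subgroup.coe_inv]; group
            rw [e, hinv _ (inv_mem h1)]
            exact inv_mem h1 }
    have hFn : F.Normal := by
      constructor
      intro a ha g n hn
      have hn' : (g : G)⁻¹ * n * (g : G) ∈ NN V₂ p := by
        have := hnor _ (inv_mem g.2) n hn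
        simpa using this
      have e : ((g * a * g⁻¹ : CC p) : G) * n * ((g * a * g⁻¹ : CC p) : G)⁻¹
          = (g : G) * ((a : G) * ((g : G)⁻¹ * n * (g : G)) * (a : G)⁻¹) * (g : G)⁻¹ := by
        simp only [Subgroup.coe_mul, Subgroup.coe_inv]; group
      rw [e, ha _ hn']
      group
    have hKn : K.Normal := by
      constructor
      rintro a ⟨ha, ha'⟩ g
      refine ⟨fun u hu => ?_, fun n hn => ?_⟩
      · have hu' : (g : G)⁻¹ * u * (g : G) ∈ U := by
          have := hU _ (inv_mem g.2) u hu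
          simpa using this
        have e : ((g * a * g⁻¹ : CC p) : G) * u * ((g * a * g⁻¹ : CC p) : G)⁻¹
            = (g : G) * ((a : G) * ((g : G)⁻¹ * u * (g : G)) * (a : G)⁻¹) * (g : G)⁻¹ := by
          simp only [Subgroup.coe_mul, Subgroup.coe_inv]; group
        rw [e, ha _ hu']
        group
      · have hn' : (g : G)⁻¹ * n * (g : G) ∈ NN V₂ p := by
          have := hnor _ (inv_mem g.2) n hn
          simpa using this
        have h1 := hU g g.2 _ (ha' _ hn')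
        have e : ((g * a * g⁻¹ : CC p) : G) * n * ((g * a * g⁻¹ : CC p) : G)⁻¹ * n⁻¹
            = (g : G) * ((a : G) * ((g : G)⁻¹ * n * (g : G)) * (a : G)⁻¹ *
              ((g : G)⁻¹ * n * (g : G))⁻¹) * (g : G)⁻¹ := by
          simp only [Subgroup.coe_mul, Subgroup.coe_inv]; group
        rw [e]
        exact h1
    have hsqK : ∀ k ∈ K, k * k ∈ F := by
      rintro k ⟨hk, hk'⟩ n hn
      have h1 := hk' n hn
      have h2 := hsqN _ (hUN h1)
      have e1 : (k : G) * n * (k : G)⁻¹ = (k : G) * n * (k : G)⁻¹ * n⁻¹ * n := by group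
      have e2 : ((k * k : CC p) : G) * n * ((k * k : CC p) : G)⁻¹
          = (k : G) * ((k : G) * n * (k : G)⁻¹) * (k : G)⁻¹ := by
        rw [Subgroup.coe_mul]; group
      rw [e2, e1]
      have e3 : (k : G) * ((k : G) * n * (k : G)⁻¹ * n⁻¹ * n) * (k : G)⁻¹
          = (k : G) * ((k : G) * n * (k : G)⁻¹ * n⁻¹) * (k : G)⁻¹ *
            ((k : G) * n * (k : G)⁻¹ * n⁻¹) * n := by group
      rw [e3, hk _ h1, h2, one_mul]
    have hTS : IsPGroup 2 (T.subgroupOf (CC p)) := hT.of_equiv (subgroupOfEquivOfLe hTp).symm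
    -- `K` centralizes `q`
    have hKq : ∀ k ∈ K, (k : G) * q * (k : G)⁻¹ = q := by
      intro k hk
      obtain ⟨t, ht, hf⟩ := exists_mem_sylow_of_sq (hTS.toSylow hi) hKn hFn hsqK hk
      have ht' : (t : G) ∈ T := ht
      have htq : (t : G) * q * (t : G)⁻¹ = q := by
        have := mem_CC.1 (hTq ht')
        rw [← this]
        group
      have h1 := hf q (le_NN V₂ p hq)
      have e : (k : G) * q * (k : G)⁻¹
          = (t : G) * (((t⁻¹ * k : CC p) : G) * q * ((t⁻¹ * k : CC p) : G)⁻¹) * (t : G)⁻¹ := by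
        simp only [Subgroup.coe_mul, Subgroup.coe_inv]; group
      rw [e, h1, htq]
    -- hence all conjugates of `q`, hence `N_p`
    have hKall : ∀ x ∈ closure {x | ∃ c ∈ CC p, x = c * q * c⁻¹}, ∀ k ∈ K,
        (k : G) * x * (k : G)⁻¹ = x := by
      intro x hx
      induction hx using closure_induction with
      | mem x hx =>
        obtain ⟨d, hd, rfl⟩ := hx
        intro k hk
        have h1 := hKq _ (hKn.conj_mem k hk (⟨d, hd⟩⁻¹ : CC p))
        have e : (k : G) * (d * q * d⁻¹) * (k : G)⁻¹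
            = d * ((((⟨d, hd⟩⁻¹ * k * ((⟨d, hd⟩ : CC p)⁻¹)⁻¹ : CC p)) : G) * q *
              (((⟨d, hd⟩⁻¹ * k * ((⟨d, hd⟩ : CC p)⁻¹)⁻¹ : CC p)) : G)⁻¹) * d⁻¹ := by
          simp only [Subgroup.coe_mul, Subgroup.coe_inv]; group
        rw [e, h1]
      | one => intro k _; simp
      | mul x y _ _ hx hy =>
        intro k hk
        have e : (k : G) * (x * y) * (k : G)⁻¹
            = (k : G) * x * (k : G)⁻¹ * ((k : G) * y * (k : G)⁻¹) := by group
        rw [e, hx k hk, hy k hk]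
      | inv x _ hx =>
        intro k hk
        have e : (k : G) * x⁻¹ * (k : G)⁻¹ = ((k : G) * x * (k : G)⁻¹)⁻¹ := by group
        rw [e, hx k hk]
    exact hKall n (h.s2.NN_le_closure hp hq hq1 htr hn) ⟨c, hc⟩ ⟨hcU, hcN⟩

/-- **THEOREM J**: `N_p ∩ N_q = {1, p, q, pq}`. -/
theorem Ctx.inter [Finite G] {V₁ V₂ : Subgroup G} (h : Ctx V₁ V₂)
    (htr₁ : ∀ p ∈ V₁, p ≠ 1 → ∀ p' ∈ V₁, p' ≠ 1 →
      ∃ l ∈ centralizer (V₂ : Set G) ⊓ normalizer (V₁ : Set G), l * p' * l⁻¹ = p)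
    (htr₂ : ∀ q ∈ V₂, q ≠ 1 → ∀ q' ∈ V₂, q' ≠ 1 →
      ∃ l ∈ centralizer (V₁ : Set G) ⊓ normalizer (V₂ : Set G), l * q' * l⁻¹ = q)
    {p q : G} (hp : p ∈ V₁) (hp1 : p ≠ 1) (hq : q ∈ V₂) (hq1 : q ≠ 1)
    {T : Subgroup G} (hTp : T ≤ CC p) (hT : IsPGroup 2 T) (hi : ¬ 2 ∣ T.relIndex (CC p))
    (hTq : T ≤ CC q) {j : G} (hj : j ∈ NN V₂ p) (hj' : j ∈ NN V₁ q) :
    j = 1 ∨ j = p ∨ j = q ∨ j = p * q := by
  rcases h.thmJ htr₁ hp hp1 hq hq1 with h1 | ⟨x, hx, hx1, y, hy, hxy⟩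
  · exact h1 j hj hj'
  exfalso
  have hg := h.gsys hp hp1 hq hq1 htr₂ hTp hT hi hTq
  have hxp : x ∈ CC p := centralizer_le_CC hp (h.s2.NN_le_cent_two hq hq1 hx)
  obtain ⟨q', hq', hq1', hne⟩ := four_exists h.s2.card q
  obtain ⟨l, ⟨hl, -⟩, e⟩ := htr₂ q' hq' hq1' q hq hq1
  obtain ⟨l', ⟨hl', -⟩, e'⟩ := htr₂ (q * q') (mul_mem hq hq') (h.s2.third hq hne) q hq hq1
  have hxV : x ∈ centralizer (V₂ : Set G) := h.s2.NN_le_cent_one hq hq1 hx
  refine hp1 (hg.eq_one_of_fixed (p := q') (t := x) hxp ?_ ⟨y, hy, ?_⟩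
    ⟨l, centralizer_le_CC hp hl, e.symm⟩ ⟨l', centralizer_le_CC hp hl', e'.symm⟩ ?_
    (v := p) (h.s1.mem p hp hp1) ?_)
  · intro n hn
    rcases hx1 n hn with e1 | e1
    · left
      exact mul_inv_eq_one.1 e1
    · right
      have e2 : x * n * x⁻¹ = q * n := by rw [← e1]; group
      rw [e2]
      exact EA.comm_of hg.sq hg.mem hn
  · intro e1
    rw [e1, mul_inv_cancel] at hxy
    exact hq1 hxy.symm
  · rw [← mem_centralizer_iff.1 hxV q' hq']
    group
  · intro c hc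
    rw [← mem_CC.1 hc]
    group

end Cfsg.Agent.Omega.IId.ThmJ
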