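import Cfsg.Agent.Omega.IId.SymBase

/-!
# II.d, mixed pairs: normal form of the partner `O₄⁻(2)` in CASE 1

* `Adapt.cj` : labels of the conjugate module;
* `exists_nf` : a conjugate of the partner by an element of `C_G(n)` is a member over `S` with `e nn = n`,
  `e aa = s n s⁻¹`.
-/

set_option autoImplicit false
set_option linter.unusedSectionVars false

namespace Cfsg.Agent.Omega.IId.Sym

open Subgroup Cfsg Cfsg.Agent.ZN.ChoiceBase
open Cfsg.Agent.ZN (o2 zc zl)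
open Cfsg.Agent.Omega.MinPar
open Cfsg.Agent.Omega.S5.Mod Cfsg.Agent.Omega.S5.TT Cfsg.Agent.Omega.S5.Types
open Cfsg.Agent.Omega.IId.Two

universe u

variable {G : Type u} [Group G]

theorem Adapt.cj {V L S : Subgroup G} {N : FiveMod V L} (h : Adapt S N) (g : G) :
    Adapt (ZN.ChoiceBase.cj g S) (N.cj g) where
  SL := cj_mono g h.SL
  d8 x hx p hp := h.d8 _ (ZN.ChoiceBase.mem_cj.1 hx) p (N.ind_of_cj hp)
  ex p hp := by
    obtain ⟨y, hy, hi⟩ := h.ex p hp
    exact ⟨g * y * g⁻¹, ⟨y, hy, rfl⟩, N.cj_ind hi⟩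
  zc := by
    intro x hx
    rw [ZN.ChoiceBase.mem_cj]
    apply h.zc
    obtain ⟨h1, h2, h3⟩ := MinSimple.VModule.mem_zc.1 hx
    refine MinSimple.VModule.mem_zc.2 ⟨ZN.ChoiceBase.mem_cj.1 h1, fun y hy => ?_, ?_⟩
    · have h4 := h2 (g * y * g⁻¹) ⟨y, hy, rfl⟩
      calc y * (g⁻¹ * x * g) = g⁻¹ * (g * y * g⁻¹ * x) * g := by group
        _ = g⁻¹ * x * g * y := by rw [h4]; group
    · calc (g⁻¹ * x * g) ^ 2 = g⁻¹ * x ^ 2 * g := by rw [pow_two, pow_two]; group
        _ = 1 := by rw [h3]; group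

theorem card_eq_sylow [Finite G] (S S' : Sylow 2 G) :
    Nat.card (S' : Subgroup G) = Nat.card (S : Subgroup G) := by
  have : Fact (Nat.Prime 2) := ⟨Nat.prime_two⟩
  rw [S'.card_eq_multiplicity, S.card_eq_multiplicity]

/-- A 2-subgroup of `C` is conjugate in `C` into a Sylow 2-subgroup of `C`. -/
theorem exists_conj_le_syl [Finite G] {C T X : Subgroup G} (hX : X ≤ C) (hTp : IsPGroup 2 T)
    (hXp : IsPGroup 2 X) (hidx : ¬ 2 ∣ T.relIndex C) : ∃ c ∈ C, cj c X ≤ T := by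
  have : Fact (Nat.Prime 2) := ⟨Nat.prime_two⟩
  have hS' : IsPGroup 2 (T.subgroupOf C) := hTp.comap_of_injective C.subtype Subtype.val_injective
  have hX' : IsPGroup 2 (X.subgroupOf C) := hXp.comap_of_injective C.subtype Subtype.val_injective
  obtain ⟨Q, hQ⟩ := hX'.exists_le_sylow
  obtain ⟨c, hc⟩ := MulAction.exists_smul_eq C Q (hS'.toSylow hidx)
  refine ⟨c, c.2, ?_⟩
  rintro _ ⟨y, hy, rfl⟩
  have h1 : (⟨y, hX hy⟩ : C) ∈ (Q : Subgroup C) := hQ (Subgroup.mem_subgroupOf.2 hy)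
  have h2 : c * ⟨y, hX hy⟩ * c⁻¹ ∈ ((c • Q : Sylow 2 C) : Subgroup C) := by
    have : c * ⟨y, hX hy⟩ * c⁻¹ = (MulAut.conj c) • (⟨y, hX hy⟩ : C) := rfl
    rw [this]
    exact Subgroup.smul_mem_pointwise_smul _ _ _ h1
  rw [hc] at h2
  exact Subgroup.mem_subgroupOf.1 h2

theorem cj_of_mem {S : Subgroup G} {s : G} (hs : s ∈ S) : cj s S = S :=
  cj_eq_of_mem_normalizer (le_normalizer hs)

theorem le_normalizer_two [Finite G] {T S : Subgroup G} (h : T ≤ S) (hc : Nat.card S = 2 * Nat.card T) :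
    S ≤ normalizer (T : Set G) :=
  le_normalizer_of fun _ hs _ hx => conj_mem_of_two h (two_cosets h hc) hs hx

/-- **Normal form**: the partner over the same Sylow subgroup `S`, with the same points `n` and `s n s⁻¹`. -/
theorem exists_nf [Finite G] {S S' : Sylow 2 G} {T V₁ V₂ L₁ L₂ : Subgroup G} {n s : G}
    (h : Pre S T V₁ V₂ L₁ L₂ s n) {V L : Subgroup G} {N : FiveMod V L} (hN : Adapt (S' : Subgroup G) N)
    (hn : N.e nn = n) (hsyl : ¬ 2 ∣ T.relIndex (centralizer ({n} : Set G))) :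
    ∃ g : G, g * n = n * g ∧ cj g (S' : Subgroup G) = (S : Subgroup G) ∧
      g * N.e aa * g⁻¹ = s * n * s⁻¹ := by
  have hTS : T ≤ (S : Subgroup G) := h.SoS
  have hTp : IsPGroup 2 T := S.isPGroup'.to_le hTS
  set C := centralizer ({n} : Set G) with hC
  set T' := (S' : Subgroup G) ⊓ C with hT'
  have hcT' : Nat.card T' = Nat.card T := by
    have h1 := card_T hN
    have h2 := card_eq_sylow S S'
    have h3 := h.card
    rw [hn] at h1
    have h4 : 2 * Nat.card T' = 2 * Nat.card T := by rw [← h3, ← h2, h1]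
    omega
  -- `T'^c = T`
  obtain ⟨c, hc, hcT⟩ := exists_conj_le_syl (inf_le_right : T' ≤ C) hTp (S'.isPGroup'.to_le inf_le_left)
    hsyl
  have hcT2 : cj c T' = T := eq_of_le_of_card_ge hcT (by rw [card_cj, hcT'])
  -- both `S` and `S'^c` normalise `T`
  have hS1 : (S : Subgroup G) ≤ normalizer (T : Set G) := le_normalizer_two hTS h.card
  have hS2 : cj c (S' : Subgroup G) ≤ normalizer (T : Set G) := by
    refine le_normalizer_two ?_ ?_
    · rw [← hcT2]; exact cj_mono c inf_le_left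
    · rw [card_cj, card_eq_sylow S S', h.card]
  obtain ⟨x, hx, hx1⟩ := exists_conj_le_sylow S (normalizer (T : Set G)) (cj c (S' : Subgroup G)) hS1
    (S'.isPGroup'.map _) hS2
  have hxS : cj (x * c) (S' : Subgroup G) = (S : Subgroup G) := by
    rw [← cj_cj]
    refine eq_of_le_of_card_ge ?_ ?_
    · rintro _ ⟨y, hy, rfl⟩
      exact hx1 y hy
    · rw [card_cj, card_cj, card_eq_sylow S S']
  -- the labels over `S`
  have hA : Adapt (S : Subgroup G) (N.cj (x * c)) := by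
    have := hN.cj (x * c)
    rwa [hxS] at this
  have hcn : c * n * c⁻¹ = n := by
    rw [mem_centralizer_singleton_iff.1 hc, mul_inv_cancel_right]
  have hy : (N.cj (x * c)).e nn = x * n * x⁻¹ := by
    rw [FiveMod.cj_e, hn]
    calc x * c * n * (x * c)⁻¹ = x * (c * n * c⁻¹) * x⁻¹ := by group
      _ = x * n * x⁻¹ := by rw [hcn]
  obtain ⟨t, ht, -, htn⟩ := exists_t hA
  have hyz : x * n * x⁻¹ ∈ ZN.zc T := by
    obtain ⟨h1, h2, h3⟩ := MinSimple.VModule.mem_zc.1 h.v_zc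
    have h4 := mem_normalizer_iff.1 hx
    refine MinSimple.VModule.mem_zc.2 ⟨(h4 n).1 h1, fun y hy => ?_, ?_⟩
    · have h5 : x⁻¹ * y * x ∈ T := by
        rw [h4]
        have e : x * (x⁻¹ * y * x) * x⁻¹ = y := by group
        rwa [e]
      have h6 := h2 _ h5
      calc y * (x * n * x⁻¹) = x * (x⁻¹ * y * x * n) * x⁻¹ := by group
        _ = x * n * x⁻¹ * y := by rw [h6]; group
    · calc (x * n * x⁻¹) ^ 2 = x * n ^ 2 * x⁻¹ := by rw [pow_two, pow_two]; group
        _ = 1 := by rw [h3]; group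
  -- a conjugate by an element of `S`
  obtain ⟨r, hr, hrn⟩ : ∃ r ∈ (S : Subgroup G), r * (x * n * x⁻¹) * r⁻¹ = n := by
    rcases h.zcSo_cases hyz with h1 | h1 | h1 | h1
    · exfalso
      apply h.v1
      have e : n = x⁻¹ * (x * n * x⁻¹) * x := by group
      rw [e, h1]; group
    · exact ⟨1, one_mem _, by rw [h1]; group⟩
    · exact ⟨s⁻¹, inv_mem h.sS, by rw [h1]; group⟩
    · exfalso
      rw [hy, h1] at htn
      have h2 := (MinSimple.VModule.mem_zc.1 h.zS).2.1 t ht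
      rw [h2, mul_inv_cancel_right] at htn
      have h3 : (N.cj (x * c)).e nn = (N.cj (x * c)).e aa := by rw [hy, h1, htn]
      exact Pos.n_ne_a (N.cj (x * c)) h3
  refine ⟨r * (x * c), ?_, ?_, ?_⟩
  · apply mul_inv_eq_iff_eq_mul.1
    calc r * (x * c) * n * (r * (x * c))⁻¹ = r * (x * (c * n * c⁻¹) * x⁻¹) * r⁻¹ := by group
      _ = n := by rw [hcn, hrn]
  · rw [← cj_cj, hxS, cj_of_mem hr]
  · -- `t' = r t r⁻¹` moves `n`
    have h1 : r * (x * c) * N.e aa * (r * (x * c))⁻¹ = (r * t * r⁻¹) * n * (r * t * r⁻¹)⁻¹ := by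
      calc r * (x * c) * N.e aa * (r * (x * c))⁻¹ = r * ((N.cj (x * c)).e aa) * r⁻¹ := by
            rw [FiveMod.cj_e]; group
        _ = r * (t * (x * n * x⁻¹) * t⁻¹) * r⁻¹ := by rw [← htn, hy]
        _ = r * t * r⁻¹ * (r * (x * n * x⁻¹) * r⁻¹) * (r * t * r⁻¹)⁻¹ := by group
        _ = (r * t * r⁻¹) * n * (r * t * r⁻¹)⁻¹ := by rw [hrn]
    have hrt : r * t * r⁻¹ ∈ (S : Subgroup G) := mul_mem (mul_mem hr ht) (inv_mem hr)
    have hrT : r * t * r⁻¹ ∉ T := by
      intro h2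
      have h3 := h.vSo _ h2
      apply Pos.n_ne_a (N.cj (x * c))
      rw [← htn, hy]
      have h4 : ∀ u : G, r * u * r⁻¹ = n → t * u * t⁻¹ = u := by
        intro u hu
        calc t * u * t⁻¹ = r⁻¹ * ((r * t * r⁻¹) * (r * u * r⁻¹) * (r * t * r⁻¹)⁻¹) * r := by group
          _ = r⁻¹ * (r * u * r⁻¹) * r := by rw [hu, h3, mul_inv_cancel_right]
          _ = u := by group
      exact (h4 _ hrn).symm
    rw [h1]
    have h5 := h.vSo _ (h.two s h.sS _ hrt h.sSo hrT)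
    calc r * t * r⁻¹ * n * (r * t * r⁻¹)⁻¹ = s * (s⁻¹ * (r * t * r⁻¹) * n) * (r * t * r⁻¹)⁻¹ := by group
      _ = s * n * s⁻¹ := by rw [h5]; group

end Cfsg.Agent.Omega.IId.Sym
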