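import Cfsg.Agent.Omega.IId.Fac

/-!
# Lines and the commutator of a mutual pair

`M : NatK F S P (zl S P) ⊥ k`, `V = zl S P`.

* `lines M I` : the elements of `part M I` with all coordinates in the line `{x | x 1 = 0}`; `line M i`;
* `Full M A I` : `A` induces on `V` the full group of upper unitriangular elements of `SL₂(F)^I`;
* `exists_full` : an offender in `S` is of this kind (`NatK.off`);
* `commutator_eq` : `[V, A] = lines M I`, of order `q ^ |I|`;
* `eq_line` : if `|[V, A]| = q`, then `[V, A]` is a line.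
-/

set_option autoImplicit false

namespace Cfsg.Agent.Omega.IId

open Subgroup Cfsg Cfsg.Agent.ZN Cfsg.Agent.ZN.ChoiceBase
open Cfsg.Agent.Omega.MinPar Cfsg.Agent.Omega.FFThm
open Cfsg.Agent.MinSimple.VModule (le_normalizer_zl)
open Cfsg.Agent.Lib.SL2Mat
open Cfsg.Agent.Omega.NatPair (ap ap_mul ap_one ap_inv_ap ap_ap_inv exists_ap ap_add)
open scoped commutatorElement

universe u

variable {G : Type u} [Group G] {F : Type} [Field F] {S P : Subgroup G} {k : ℕ}
  (M : NatK F S P (zl S P) ⊥ k)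

/-- The elements of `part M I` with all coordinates in the line `{x | x 1 = 0}`. -/
def lines (I : Set (Fin k)) : Subgroup G where
  carrier := {v | v ∈ part M I ∧ ∀ i, M.e v i 1 = 0}
  one_mem' := ⟨one_mem _, fun i => by rw [e_one]; rfl⟩
  mul_mem' := by
    rintro a b ⟨ha, ha'⟩ ⟨hb, hb'⟩
    exact ⟨mul_mem ha hb, fun i => by
      rw [M.mul a ha.1 b hb.1, Pi.add_apply, Pi.add_apply, ha' i, hb' i, add_zero]⟩
  inv_mem' := by
    rintro a ⟨ha, ha'⟩
    exact ⟨inv_mem ha, fun i => by rw [e_inv M ha.1, Pi.neg_apply, Pi.neg_apply, ha' i, neg_zero]⟩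

theorem mem_lines {I : Set (Fin k)} {v : G} : v ∈ lines M I ↔ v ∈ part M I ∧ ∀ i, M.e v i 1 = 0 := Iff.rfl

theorem lines_le (I : Set (Fin k)) : lines M I ≤ part M I := fun _ h => h.1

theorem lines_mono {I J : Set (Fin k)} (h : I ⊆ J) : lines M I ≤ lines M J :=
  fun _ hv => ⟨part_mono M h hv.1, hv.2⟩

/-- The line of the factor `i`. -/
def line (i : Fin k) : Subgroup G := lines M {i}

theorem mem_line {i : Fin k} {v : G} : v ∈ line M i ↔ v ∈ fac M i ∧ M.e v i 1 = 0 := by
  refine ⟨fun h => ⟨h.1, h.2 i⟩, fun h => ⟨h.1, fun j => ?_⟩⟩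
  by_cases hj : j = i
  · rw [hj]; exact h.2
  · rw [h.1.2 j hj]; rfl

theorem line_le (i : Fin k) : line M i ≤ fac M i := lines_le M _

open Classical in
theorem exists_lines (I : Set (Fin k)) (x : Fin k → F) (hx : ∀ i, i ∉ I → x i = 0) :
    ∃ v ∈ lines M I, ∀ i, M.e v i 0 = x i := by
  obtain ⟨v, hv, h⟩ := M.surj fun i => ![x i, 0]
  refine ⟨v, ⟨⟨hv, fun i hi => ?_⟩, fun i => ?_⟩, fun i => ?_⟩
  · rw [h]
    apply NatPair.ext2
    · exact hx i hi
    · rfl
  · rw [h]; rfl
  · rw [h]; rfl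

open Classical in
/-- `|lines M I| = q ^ |I|`. -/
theorem card_lines [Finite F] (I : Set (Fin k)) : Nat.card (lines M I) = Nat.card F ^ Nat.card I := by
  have h1 : Function.Bijective fun (v : lines M I) (i : I) => M.e v i 0 := by
    constructor
    · intro v w h
      refine Subtype.ext (e_inj M v.2.1.1 w.2.1.1 (funext fun i => ?_))
      by_cases hi : i ∈ I
      · apply NatPair.ext2
        · exact congrFun h ⟨i, hi⟩
        · rw [v.2.2 i, w.2.2 i]
      · rw [v.2.1.2 i hi, w.2.1.2 i hi]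
    · intro x
      obtain ⟨v, hv, h⟩ := exists_lines M I (fun i => if hi : i ∈ I then x ⟨i, hi⟩ else 0)
        fun i hi => dif_neg hi
      refine ⟨⟨v, hv⟩, funext fun i => ?_⟩
      have h2 := h i
      rw [dif_pos i.2] at h2
      exact h2
  rw [Nat.card_congr (Equiv.ofBijective _ h1), Nat.card_fun]

theorem card_line [Finite F] (i : Fin k) : Nat.card (line M i) = Nat.card F := by
  rw [line, card_lines]
  simp

/-- `A` induces on `V` the full group of upper unitriangular elements of `SL₂(F)^I`. -/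
structure Ind (A : Subgroup G) (I : Set (Fin k)) : Prop where
  act : ∀ a ∈ A, ∃ b : Fin k → F, (∀ i, i ∉ I → b i = 0) ∧ ActsSL M.e (zl S P) ⊥ a fun i => up (b i)
  ex : ∀ b : Fin k → F, (∀ i, i ∉ I → b i = 0) → ∃ a ∈ A, ActsSL M.e (zl S P) ⊥ a fun i => up (b i)

theorem exists_ind {A : Subgroup G} (hA : A ≤ S) (hoff : Off (zl S P) A) : ∃ I : Set (Fin k), Ind M A I := by
  obtain ⟨I, h1, h2⟩ := M.off A hA hoff
  exact ⟨I, h1, h2⟩

variable {M}

/-- The coordinates of a commutator. -/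
theorem e_comm {v a : G} (hv : v ∈ zl S P) (ha : a ∈ P) {b : Fin k → F}
    (h : ActsSL M.e (zl S P) ⊥ a fun i => up (b i)) (i : Fin k) :
    ⁅v, a⁆ ∈ zl S P ∧ M.e ⁅v, a⁆ i 0 = - (b i * M.e v i 1) ∧ M.e ⁅v, a⁆ i 1 = 0 := by
  have e : ⁅v, a⁆ = v * (a * v⁻¹ * a⁻¹) := by rw [commutatorElement_def]; group
  have h1 : a * v⁻¹ * a⁻¹ ∈ zl S P := cj_mem ha (inv_mem hv)
  have h2 := h.1 _ (inv_mem hv) i
  rw [e, M.mul v hv _ h1, Pi.add_apply, Pi.add_apply, Pi.add_apply, h2, e_inv M hv, NatPair.ap_zero',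
    NatPair.ap_one']
  refine ⟨mul_mem hv h1, ?_, ?_⟩
  · simp only [up_00, up_01, Pi.neg_apply]
    ring
  · simp only [up_10, up_11, Pi.neg_apply]
    ring

open Classical in
/-- `[V, A] = lines M I`. -/
theorem Ind.commutator_eq {A : Subgroup G} {I : Set (Fin k)} (h : Ind M A I) (hA : A ≤ P) :
    ⁅zl S P, A⁆ = lines M I := by
  refine le_antisymm ?_ ?_
  · rw [commutator_le]
    intro v hv a ha
    obtain ⟨b, hb, h1⟩ := h.act a ha
    refine ⟨⟨(mul_mem hv (cj_mem (hA ha) (inv_mem hv)) : v * (a * v⁻¹ * a⁻¹) ∈ zl S P) |> fun h2 => ?_,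
      fun i hi => ?_⟩, fun i => (e_comm hv (hA ha) h1 i).2.2⟩
    · have e : ⁅v, a⁆ = v * (a * v⁻¹ * a⁻¹) := by rw [commutatorElement_def]; group
      rw [e]; exact h2
    · apply NatPair.ext2
      · rw [(e_comm hv (hA ha) h1 i).2.1, hb i hi]
        simp
      · exact (e_comm hv (hA ha) h1 i).2.2
  · intro w hw
    obtain ⟨v, hv, hev⟩ := M.surj fun i => if i ∈ I then ![0, 1] else 0
    have hev' : ∀ i, M.e v i = if i ∈ I then ![0, 1] else 0 := fun i => congrFun hev i
    obtain ⟨a, ha, h1⟩ := h.ex (fun i => - M.e w i 0) fun i hi => by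
      rw [hw.1.2 i hi]; simp
    have e : w = ⁅v, a⁆ := by
      by_cases hk : k = 0
      · subst hk
        refine e_inj M hw.1.1 ?_ (funext fun i => i.elim0)
        have e : ⁅v, a⁆ = v * (a * v⁻¹ * a⁻¹) := by rw [commutatorElement_def]; group
        rw [e]
        exact mul_mem hv (cj_mem (hA ha) (inv_mem hv))
      · have i0 : Fin k := ⟨0, Nat.pos_of_ne_zero hk⟩
        refine e_inj M hw.1.1 (e_comm hv (hA ha) h1 i0).1 (funext fun i => ?_)
        obtain ⟨-, h2, h3⟩ := e_comm hv (hA ha) h1 i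
        apply NatPair.ext2
        · rw [h2, hev']
          by_cases hi : i ∈ I
          · rw [if_pos hi]
            simp
          · rw [if_neg hi, hw.1.2 i hi]
            simp
        · rw [h3, hw.2 i]
    rw [e]
    exact commutator_mem_commutator hv ha

/-- If `|[V, A]| = q`, then `[V, A]` is a line. -/
theorem Ind.eq_line [Finite F] {A : Subgroup G} {I : Set (Fin k)} (h : Ind M A I) (hA : A ≤ P)
    (hc : Nat.card ↥⁅zl S P, A⁆ = Nat.card F) : ∃ i, I = {i} ∧ ⁅zl S P, A⁆ = line M i := by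
  have h1 := h.commutator_eq hA
  rw [h1, card_lines] at hc
  have hq : 1 < Nat.card F := Finite.one_lt_card
  have h2 : Nat.card I = 1 := by
    have : Nat.card F ^ Nat.card I = Nat.card F ^ 1 := by rw [hc, pow_one]
    exact Nat.pow_right_injective hq this
  obtain ⟨hs, hne⟩ := Nat.card_eq_one_iff_unique.1 h2
  obtain ⟨i, hi⟩ := hne
  have h3 : I = {i} := by
    ext j
    exact ⟨fun hj => congrArg Subtype.val (Subsingleton.elim (⟨j, hj⟩ : I) ⟨i, hi⟩), fun hj => by rw [hj]; exact hi⟩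
  exact ⟨i, h3, by rw [h1, h3]; rfl⟩

end Cfsg.Agent.Omega.IId
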