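import Mathlib

/-!
# II.d, `k = 2` against `k' = 1` (text #13866 (1) of helper592)

`V = V₁ × V₂`, `R` a line of `V₁`, `T = N_S(V₁)`, `T⁰ = C_T(R)`, `X = C_G(R)`; if a Sylow 2-subgroup of
`G` normalises `R` (as it does if `R` is a line of a natural module `V'` with `k' = 1`) then the Sylow
2-subgroups of `X` have order `2 |T⁰|`, and `|R| = 2`.

* `line_eq` : the group theoretic core;
* `card_le_pow` : `|Z| ≤ |C_Z(a)|^(2^k)` if `Z` is elementary abelian and `a^(2^k)` centralises `Z`.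
-/

set_option autoImplicit false

namespace Cfsg.Agent.Omega.IId.MixedK

open Subgroup

variable {G : Type*} [Group G]

theorem conj_comm {x y : G} (h : x * y * x⁻¹ = y) : x * y = y * x := by
  calc x * y = x * y * x⁻¹ * x := by group
    _ = y * x := by rw [h]

theorem comm_conj {x y : G} (h : x * y = y * x) : x * y * x⁻¹ = y := by
  rw [h]; group

/-- **Core of #13866 (1).** `X₁` is a 2-group with `|X₁ : T₀| = 2`, `Ω₁ Z(X₁) ≤ R`, `X` centralises `R`,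
`y ∈ Ω₁ Z(T₀) - R` and the elements of `N(T₀) ∩ N(X) ∩ C(y)` are transitive on `R#`.
If `4 |T₀|` does not divide `|X|`, then `|R#| ≤ 1`. -/
theorem line_eq [Finite G] {T₀ X₁ X R : Subgroup G} {y : G} (hT2 : IsPGroup 2 T₀) (hTX : T₀ ≤ X₁)
    (hX₁X : X₁ ≤ X) (h2 : T₀.relIndex X₁ = 2) (hRT : R ≤ T₀)
    (hXR : ∀ g ∈ X, ∀ r ∈ R, g * r = r * g)
    (hZ : ∀ x ∈ X₁, (∀ g ∈ X₁, g * x = x * g) → x * x = 1 → x ∈ R)
    (hyT : y ∈ T₀) (hyc : ∀ t ∈ T₀, t * y = y * t) (hyy : y * y = 1) (hyR : y ∉ R)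
    (htr : ∀ r ∈ R, ∀ r' ∈ R, r ≠ 1 → r' ≠ 1 → ∃ d : G, d * r * d⁻¹ = r' ∧ d * y = y * d ∧
      (∀ t ∈ T₀, d * t * d⁻¹ ∈ T₀) ∧ ∀ x ∈ X, d * x * d⁻¹ ∈ X)
    (h4 : ¬ 4 * Nat.card T₀ ∣ Nat.card X) :
    ∀ r ∈ R, ∀ r' ∈ R, r ≠ 1 → r' ≠ 1 → r = r' := by
  have hle : T₀ ≤ X₁ := hTX
  -- an element `w` of `X₁` outside `T₀`
  obtain ⟨w, hwX, hwT⟩ : ∃ w ∈ X₁, w ∉ T₀ := by
    by_contra hcon
    push Not at hcon
    have : T₀.relIndex X₁ = 1 := relIndex_eq_one.2 hcon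
    omega
  -- coset facts
  have hnorm : ∀ g ∈ X₁, ∀ t ∈ T₀, g * t * g⁻¹ ∈ T₀ := by
    have hN : (T₀.subgroupOf X₁).Normal := normal_of_index_eq_two h2
    intro g hg t ht
    have := hN.conj_mem ⟨t, hle ht⟩ (mem_subgroupOf.2 ht) ⟨g, hg⟩
    exact mem_subgroupOf.1 this
  have hmul : ∀ g ∈ X₁, g ∉ T₀ → w⁻¹ * g ∈ T₀ := by
    intro g hg hgT
    have h3 := (mul_mem_iff_of_index_two (H := T₀.subgroupOf X₁) h2 (a := ⟨w⁻¹, inv_mem hwX⟩)
      (b := ⟨g, hg⟩))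
    rw [mem_subgroupOf, mem_subgroupOf, mem_subgroupOf] at h3
    exact h3.2 ⟨fun h => absurd (by simpa using inv_mem h) hwT, fun h => absurd h hgT⟩
  have hww : w * w ∈ T₀ := by
    by_contra hcon
    have := hmul _ (mul_mem hwX hwX) hcon
    rw [inv_mul_cancel_left] at this
    exact hwT this
  set y' := w * y * w⁻¹ with hy'
  have hy'T : y' ∈ T₀ := hnorm w hwX y hyT
  have hy'c : ∀ t ∈ T₀, t * y' = y' * t := by
    intro t ht
    have h1 : w⁻¹ * t * w ∈ T₀ := by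
      have := hnorm w⁻¹ (inv_mem hwX) t ht
      rwa [inv_inv] at this
    have h2 := hyc _ h1
    calc t * y' = w * ((w⁻¹ * t * w) * y) * w⁻¹ := by rw [hy']; group
      _ = w * (y * (w⁻¹ * t * w)) * w⁻¹ := by rw [h2]
      _ = y' * t := by rw [hy']; group
  have hy'y' : y' * y' = 1 := by
    rw [hy']
    calc w * y * w⁻¹ * (w * y * w⁻¹) = w * (y * y) * w⁻¹ := by group
      _ = 1 := by rw [hyy]; group
  have hyy' : y * y' = y' * y := hy'c y hyT
  have hwy0 : y * y' * y = y' := by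
    calc y * y' * y = y * (y' * y) := by group
      _ = y * (y * y') := by rw [hyy']
      _ = (y * y) * y' := by group
      _ = y' := by rw [hyy, one_mul]
  obtain ⟨ρ, hρ⟩ : ∃ ρ, ρ = y * y' := ⟨_, rfl⟩
  have hρρ : ρ * ρ = 1 := by
    rw [hρ]
    calc y * y' * (y * y') = y * (y' * y) * y' := by group
      _ = y * (y * y') * y' := by rw [hyy']
      _ = (y * y) * (y' * y') := by group
      _ = 1 := by rw [hyy, hy'y', one_mul]
  have hρT : ρ ∈ T₀ := by rw [hρ]; exact mul_mem hyT hy'T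
  have hρc0 : ∀ t ∈ T₀, t * ρ = ρ * t := by
    intro t ht
    calc t * ρ = (t * y) * y' := by rw [hρ]; group
      _ = (y * t) * y' := by rw [hyc t ht]
      _ = y * (t * y') := by group
      _ = y * (y' * t) := by rw [hy'c t ht]
      _ = ρ * t := by rw [hρ]; group
  have hwρ : w * ρ = ρ * w := by
    apply conj_comm
    have e1 : w * y' * w⁻¹ = y := by
      rw [hy']
      calc w * (w * y * w⁻¹) * w⁻¹ = (w * w) * y * (w * w)⁻¹ := by group
        _ = y := comm_conj (hyc _ hww)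
    calc w * ρ * w⁻¹ = (w * y * w⁻¹) * (w * y' * w⁻¹) := by rw [hρ]; group
      _ = y' * y := by rw [e1]
      _ = ρ := by rw [hρ, hyy']
  have hall : ∀ x, (∀ t ∈ T₀, t * x = x * t) → w * x = x * w → ∀ g ∈ X₁, g * x = x * g := by
    intro x hx0 hxw g hg
    by_cases hgT : g ∈ T₀
    · exact hx0 g hgT
    · have h1 := hx0 _ (hmul g hg hgT)
      calc g * x = w * ((w⁻¹ * g) * x) := by group
        _ = w * (x * (w⁻¹ * g)) := by rw [h1]
        _ = (w * x) * (w⁻¹ * g) := by group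
        _ = (x * w) * (w⁻¹ * g) := by rw [hxw]
        _ = x * g := by group
  have hρR : ρ ∈ R := hZ ρ (hle hρT) (hall ρ hρc0 hwρ) hρρ
  have hρ1 : ρ ≠ 1 := by
    intro h1
    apply hyR
    refine hZ y (hle hyT) (hall y hyc ?_) hyy
    have e : y' = y := by
      have : y' = y⁻¹ := eq_inv_of_mul_eq_one_right (hρ.symm.trans h1)
      rw [this]
      exact inv_eq_of_mul_eq_one_left hyy
    apply conj_comm
    exact e
  have hyinv : y⁻¹ = y := inv_eq_of_mul_eq_one_left hyy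
  have hwy : w * y * w⁻¹ = ρ * y := by
    rw [← hy', hρ, hwy0]
  -- it is enough to compare with `ρ`
  suffices hmain : ∀ r' ∈ R, r' ≠ 1 → r' = ρ by
    intro r hr r' hr' h1 h1'
    rw [hmain r hr h1, hmain r' hr' h1']
  intro r' hr' hr'1
  by_contra hne
  obtain ⟨d, hd1, hdy, hdT, hdX⟩ := htr ρ hρR r' hr' hρ1 hr'1
  set w' := d * w * d⁻¹ with hw'
  have hw'X : w' ∈ X := hdX w (hX₁X hwX)
  have hw'y : w' * y * w'⁻¹ = r' * y := by
    have e : d⁻¹ * y * d = y := by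
      calc d⁻¹ * y * d = d⁻¹ * (y * d) := by group
        _ = d⁻¹ * (d * y) := by rw [hdy]
        _ = y := by group
    calc w' * y * w'⁻¹ = d * (w * (d⁻¹ * y * d) * w⁻¹) * d⁻¹ := by rw [hw']; group
      _ = d * (ρ * y) * d⁻¹ := by rw [e, hwy]
      _ = (d * ρ * d⁻¹) * (d * y * d⁻¹) := by group
      _ = r' * y := by rw [hd1, comm_conj hdy]
  -- the subgroup `{g ∈ X : [g, y] ∈ R}` and the map `g ↦ g y g⁻¹ y⁻¹`
  let H : Subgroup G :=
    { carrier := {g | g ∈ X ∧ g * y * g⁻¹ * y⁻¹ ∈ R}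
      one_mem' := ⟨one_mem _, by simp⟩
      mul_mem' := by
        rintro a b ⟨ha, ha'⟩ ⟨hb, hb'⟩
        refine ⟨mul_mem ha hb, ?_⟩
        have e : a * b * y * (a * b)⁻¹ * y⁻¹ =
            (a * (b * y * b⁻¹ * y⁻¹) * a⁻¹) * (a * y * a⁻¹ * y⁻¹) := by group
        rw [e, comm_conj (hXR a ha _ hb')]
        exact mul_mem hb' ha'
      inv_mem' := by
        rintro a ⟨ha, ha'⟩
        refine ⟨inv_mem ha, ?_⟩
        have e : a⁻¹ * y * a⁻¹⁻¹ * y⁻¹ = a⁻¹ * (a * y * a⁻¹ * y⁻¹)⁻¹ * a⁻¹⁻¹ := by group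
        rw [e, comm_conj (hXR a⁻¹ (inv_mem ha) _ (inv_mem ha'))]
        exact inv_mem ha' }
  have hHX : H ≤ X := fun g hg => hg.1
  let φ : H →* G :=
    { toFun := fun g => ((g : G) * y * (g : G)⁻¹ * y⁻¹)⁻¹
      map_one' := by simp
      map_mul' := by
        rintro ⟨a, ha, ha'⟩ ⟨b, hb, hb'⟩
        change (a * b * y * (a * b)⁻¹ * y⁻¹)⁻¹ = (a * y * a⁻¹ * y⁻¹)⁻¹ * (b * y * b⁻¹ * y⁻¹)⁻¹
        have e : a * b * y * (a * b)⁻¹ * y⁻¹ =
            (a * (b * y * b⁻¹ * y⁻¹) * a⁻¹) * (a * y * a⁻¹ * y⁻¹) := by group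
        rw [e, comm_conj (hXR a ha _ hb'), mul_inv_rev] }
  have hφR : φ.range ≤ R := by
    rintro _ ⟨⟨a, ha, ha'⟩, rfl⟩
    exact inv_mem ha'
  have hR2 : IsPGroup 2 R := hT2.to_le hRT
  have hρinv : ρ⁻¹ = ρ := inv_eq_of_mul_eq_one_left hρρ
  -- `ρ`, `r'⁻¹` lie in the range
  have hr1 : ρ⁻¹ ∈ φ.range := by
    refine ⟨⟨w, hX₁X hwX, ?_⟩, ?_⟩
    · rw [hwy, mul_inv_cancel_right]; exact hρR
    · change (w * y * w⁻¹ * y⁻¹)⁻¹ = ρ⁻¹
      rw [hwy, mul_inv_cancel_right]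
  have hr2 : r'⁻¹ ∈ φ.range := by
    refine ⟨⟨w', hw'X, ?_⟩, ?_⟩
    · rw [hw'y, mul_inv_cancel_right]; exact hr'
    · change (w' * y * w'⁻¹ * y⁻¹)⁻¹ = r'⁻¹
      rw [hw'y, mul_inv_cancel_right]
  -- so `4 ∣ |range|`
  have hcr : 4 ∣ Nat.card φ.range := by
    obtain ⟨n, hn⟩ := (hR2.to_le hφR).exists_card_eq
    rw [hn]
    have h2n : 2 ≤ n := by
      by_contra hcon
      push Not at hcon
      have hcard : Nat.card φ.range ≤ 2 := by
        rw [hn]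
        calc 2 ^ n ≤ 2 ^ 1 := Nat.pow_le_pow_right (by norm_num) (by omega)
          _ = 2 := by norm_num
      have h3 : ∀ a b c : φ.range, a ≠ b → a ≠ c → b ≠ c → False := by
        intro a b c hab hac hbc
        classical
        have : ({a, b, c} : Finset φ.range).card = 3 :=
          Finset.card_eq_three.2 ⟨a, b, c, hab, hac, hbc, rfl⟩
        have : Fintype φ.range := Fintype.ofFinite _
        have h4 := Finset.card_le_univ ({a, b, c} : Finset φ.range)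
        rw [← Nat.card_eq_fintype_card] at h4
        omega
      refine h3 ⟨1, one_mem _⟩ ⟨ρ⁻¹, hr1⟩ ⟨r'⁻¹, hr2⟩ ?_ ?_ ?_
      · intro h; exact hρ1 (inv_eq_one.1 (congrArg Subtype.val h).symm)
      · intro h; exact hr'1 (inv_eq_one.1 (congrArg Subtype.val h).symm)
      · intro h; exact hne (inv_injective (congrArg Subtype.val h)).symm
    calc 4 = 2 ^ 2 := by norm_num
      _ ∣ 2 ^ n := pow_dvd_pow 2 h2n
  -- `|T₀|` divides the kernel
  have hTH : T₀ ≤ H := by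
    intro t ht
    refine ⟨hX₁X (hle ht), ?_⟩
    rw [comm_conj (hyc t ht), mul_inv_cancel]
    exact one_mem _
  have hck : Nat.card T₀ ∣ Nat.card φ.ker := by
    have h1 : T₀.subgroupOf H ≤ φ.ker := by
      rintro ⟨t, ht'⟩ ht
      rw [mem_subgroupOf] at ht
      rw [MonoidHom.mem_ker]
      change (t * y * t⁻¹ * y⁻¹)⁻¹ = 1
      rw [comm_conj (hyc t ht), mul_inv_cancel, inv_one]
    have h3 := card_dvd_of_le h1
    rwa [Nat.card_congr (subgroupOfEquivOfLe hTH).toEquiv] at h3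
  apply h4
  have h5 : Nat.card φ.ker * Nat.card φ.range = Nat.card H := by
    rw [← Nat.card_congr (QuotientGroup.quotientKerEquivRange φ).toEquiv]
    rw [mul_comm]
    exact (card_eq_card_quotient_mul_card_subgroup φ.ker).symm
  calc 4 * Nat.card T₀ = Nat.card T₀ * 4 := mul_comm _ _
    _ ∣ Nat.card φ.ker * Nat.card φ.range := Nat.mul_dvd_mul hck hcr
    _ = Nat.card H := h5
    _ ∣ Nat.card X := card_dvd_of_le hHX

end Cfsg.Agent.Omega.IId.MixedK
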