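import Cfsg.Agent.Omega.IId.Fin

/-!
# II.d does not need `NO3S.Two K` (helper540)

Superseded: `In.symWr'`, `In.wr'`, `InQ.symWr2'`, `InQ.leafSymWr'`, `InQ.leafWr'`, `InQ.wr2'` are in `IId/Fin.lean`.
-/
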