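import Cfsg.Agent.Omega.IId.OneBase
import Cfsg.Agent.Omega.IId.ThmJFull

/-!
# II.d, `q = 2`, CASE 1, case B: THEOREM J for the configuration `One`

helper895, OMEGA / II.d (#12430, #13722).  `N₁ = nc v₁ {v₂}`, `N₂ = nc v₂ {v₁}`.

* `Base.z_mem` : `v₁v₂` lies in every nontrivial elementary abelian subgroup of `T` normalised by `T` and `s`;
* `Base.v1_mem` : `[N₁, N₂] ≠ 1` implies `v₁ ∈ N₁`;
* `One.side`, `One.ctx` : the hypotheses of THEOREM J;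
* `One.inter` : `N₁ ∩ N₂ = {1, v₁, v₂, v₁v₂}`;
* `Base.gsys` : the data of THEOREM TV for `C(v₁)` acting on `N₁`, base point `v₂` (no case distinction).
-/

set_option autoImplicit false
set_option linter.dupNamespace false
set_option linter.unusedSectionVars false

namespace Cfsg.Agent.Omega.IId.One

open Subgroup Cfsg Cfsg.Agent.ZN Cfsg.Agent.ZN.ChoiceBase Cfsg.Agent.Omega.IId.ThmJ
open Cfsg.Agent.Omega.TV

universe u

variable {G : Type u} [Group G]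

theorem nc_eq_NN (v : G) (A : Subgroup G) : nc v (A : Set G) = NN A v :=
  le_antisymm (nc_le (le_NN A v) (CC_le_normalizer_NN A v))
    (NN_le (subset_nc v _) (le_normalizer_nc v _))

/-- A nontrivial subgroup normalised by the 2-group `T ≥ X` contains a nontrivial fixed point. -/
theorem exists_fixed [Finite G] {T X : Subgroup G} (hT : IsPGroup 2 T) (hXT : X ≤ T)
    (hn : ∀ t ∈ T, ∀ x ∈ X, t * x * t⁻¹ ∈ X) (hne : X ≠ ⊥) :
    ∃ z ∈ X, z ≠ 1 ∧ ∀ t ∈ T, t * z = z * t := by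
  have hf : Fact (Nat.Prime 2) := ⟨Nat.prime_two⟩
  let _ : MulAction T X :=
    { smul := fun s x => ⟨s * x * (s : G)⁻¹, hn s s.2 x x.2⟩
      one_smul := fun x => Subtype.ext (by
        show ((1 : T) : G) * x * ((1 : T) : G)⁻¹ = x
        simp)
      mul_smul := fun s t x => Subtype.ext (by
        show ((s * t : T) : G) * x * ((s * t : T) : G)⁻¹ = s * (t * x * (t : G)⁻¹) * (s : G)⁻¹
        rw [coe_mul]; group) }
  have hval : ∀ (s : T) (x : X), ((s • x : X) : G) = s * x * (s : G)⁻¹ := fun s x => rfl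
  have hcard : 2 ∣ Nat.card X := by
    have hX : IsPGroup 2 X := hT.to_le hXT
    obtain ⟨n, hn'⟩ := IsPGroup.iff_card.1 hX
    rw [hn']
    have : n ≠ 0 := by
      rintro rfl
      rw [pow_zero] at hn'
      exact hne (Subgroup.card_eq_one.1 hn')
    exact dvd_pow_self 2 this
  have h1 : (1 : X) ∈ MulAction.fixedPoints T X := fun s => Subtype.ext (by rw [hval]; simp)
  obtain ⟨z, hz, hz1⟩ := hT.exists_fixed_point_of_prime_dvd_card_of_fixed_point X hcard h1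
  refine ⟨z, z.2, fun h => hz1 (Subtype.ext h.symm), fun s hs => ?_⟩
  have h3 := congrArg Subtype.val (hz ⟨s, hs⟩)
  rw [hval] at h3
  calc s * (z : G) = s * z * s⁻¹ * s := by group
    _ = z * s := by rw [h3]

namespace Base

variable [Finite G] {T V₁ V₂ L₁ L₂ : Subgroup G} {v₁ v₂ s : G}

section

variable (h : Base T V₁ V₂ L₁ L₂ v₁ v₂ s)
include h

/-- `v₁v₂` lies in every nontrivial elementary abelian subgroup of `T` normalised by `T`, `s`. -/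
theorem z_mem {X : Subgroup G} (hXT : X ≤ T) (hn : ∀ t ∈ T, ∀ x ∈ X, t * x * t⁻¹ ∈ X)
    (hs : ∀ x ∈ X, s * x * s⁻¹ ∈ X) (h2 : ∀ x ∈ X, x * x = 1) (hne : X ≠ ⊥) : v₁ * v₂ ∈ X := by
  obtain ⟨z, hz, hz1, hzT⟩ := exists_fixed h.pT hXT hn hne
  rcases h.fix z (hXT hz) (h2 z hz) hzT with e | e | e | e
  · exact absurd e hz1
  · have h3 := hs z hz
    rw [e] at hz h3
    rw [h.sv1] at h3
    exact mul_mem hz h3
  · have h3 := hs z hz
    rw [e] at hz h3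
    rw [h.sv2] at h3
    exact mul_mem h3 hz
  · rwa [e] at hz

theorem cj_s_V1 : cj s V₁ = V₂ := by
  apply Subgroup.eq_of_le_of_card_ge
  · rintro _ ⟨v, hv, rfl⟩
    exact h.s1 v hv
  · rw [card_cj, h.card1, h.card2]

theorem cj_s_V2 : cj s V₂ = V₁ := h.symm.cj_s_V1

theorem s_N1 {x : G} (hx : x ∈ nc v₁ {v₂}) : s * x * s⁻¹ ∈ nc v₂ {v₁} :=
  conj_nc h.sv1 (fun a ha => by rw [Set.mem_singleton_iff.1 ha]; exact h.sv2) hx

theorem s_N2 {x : G} (hx : x ∈ nc v₂ {v₁}) : s * x * s⁻¹ ∈ nc v₁ {v₂} :=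
  conj_nc h.sv2 (fun a ha => by rw [Set.mem_singleton_iff.1 ha]; exact h.sv1) hx

theorem T_N1 {t x : G} (ht : t ∈ T) (hx : x ∈ nc v₁ {v₂}) : t * x * t⁻¹ ∈ nc v₁ {v₂} :=
  (mem_normalizer_iff.1 (le_normalizer_nc v₁ _ (h.T_le ht)) x).1 hx

theorem T_N2 {t x : G} (ht : t ∈ T) (hx : x ∈ nc v₂ {v₁}) : t * x * t⁻¹ ∈ nc v₂ {v₁} :=
  h.symm.T_N1 ht hx

theorem comm_mem_inf {x y : G} (hx : x ∈ nc v₁ {v₂}) (hy : y ∈ nc v₂ {v₁}) :
    x * y * x⁻¹ * y⁻¹ ∈ nc v₁ {v₂} ⊓ nc v₂ {v₁} := by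
  refine Subgroup.mem_inf.2 ⟨?_, ?_⟩
  · have e : x * y * x⁻¹ * y⁻¹ = x * (y * x⁻¹ * y⁻¹) := by group
    rw [e]
    exact mul_mem hx (h.T_N1 (h.symm.N1_le_T hy) (inv_mem hx))
  · exact mul_mem (h.T_N2 (h.N1_le_T hx) hy) (inv_mem hy)

/-- `[N₁, N₂] ≠ 1` implies `v₁v₂ ∈ N₁ ∩ N₂`. -/
theorem z_mem_inf (hI : ∃ x ∈ nc v₁ {v₂}, ∃ y ∈ nc v₂ {v₁}, x * y ≠ y * x) :
    v₁ * v₂ ∈ nc v₁ {v₂} ⊓ nc v₂ {v₁} := by
  apply h.z_mem (X := nc v₁ {v₂} ⊓ nc v₂ {v₁})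
  · exact inf_le_left.trans h.N1_le_T
  · exact fun t ht x hx => Subgroup.mem_inf.2 ⟨h.T_N1 ht hx.1, h.T_N2 ht hx.2⟩
  · exact fun x hx => Subgroup.mem_inf.2 ⟨h.s_N2 hx.2, h.s_N1 hx.1⟩
  · exact fun x hx => h.N1_sq hx.1
  · intro h0
    obtain ⟨x, hx, y, hy, hxy⟩ := hI
    apply hxy
    have h1 := h.comm_mem_inf hx hy
    rw [h0, mem_bot] at h1
    calc x * y = x * y * x⁻¹ * y⁻¹ * (y * x) := by group
      _ = y * x := by rw [h1, one_mul]

/-- Case B: `v₁ ∈ N₁`. -/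
theorem v1_mem (hI : ∃ x ∈ nc v₁ {v₂}, ∃ y ∈ nc v₂ {v₁}, x * y ≠ y * x) : v₁ ∈ nc v₁ {v₂} := by
  have h2 := mul_mem (h.z_mem_inf hI).1 h.v2_mem_N1
  rwa [mul_assoc, h.vq2, mul_one] at h2

theorem tr1 : ∀ p ∈ V₁, p ≠ 1 → ∀ p' ∈ V₁, p' ≠ 1 →
    ∃ l ∈ centralizer (V₂ : Set G) ⊓ normalizer (V₁ : Set G), l * p' * l⁻¹ = p := by
  intro p hp hp1 p' hp' hp1'
  obtain ⟨l, hl, e⟩ := h.t1 p' hp' hp1' p hp hp1
  exact ⟨l, ⟨mem_centralizer_iff.2 fun v hv => (h.L12 l hl v hv).symm, h.L_norm1 hl⟩, e⟩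

theorem tr2 : ∀ q ∈ V₂, q ≠ 1 → ∀ q' ∈ V₂, q' ≠ 1 →
    ∃ l ∈ centralizer (V₁ : Set G) ⊓ normalizer (V₂ : Set G), l * q' * l⁻¹ = q := h.symm.tr1

/-- `[w, O₂(C(v₁))] ≤ ⟨v₁⟩` for `w ∈ Kk v₁`. -/
theorem Kk_comm {w x : G} (hw : w ∈ Kk v₁) (hx : x ∈ ZN.o2 (cz v₁)) :
    w * x * w⁻¹ * x⁻¹ = 1 ∨ w * x * w⁻¹ * x⁻¹ = v₁ := mem_zp h.vq1 (hw.2 x hx)

end

end Base

/-- The data of THEOREM TV for `C` acting on `N`: the chain condition from a Sylow 2-subgroup of `C`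
fixing `q`. -/
theorem gsys_of [Finite G] {C N T : Subgroup G} {q : G} (hsqN : ∀ x ∈ N, x * x = 1)
    (hnor : ∀ c ∈ C, ∀ n ∈ N, c * n * c⁻¹ ∈ N) (hq : q ∈ N) (hq1 : q ≠ 1)
    (hgen : N ≤ closure {x | ∃ c ∈ C, x = c * q * c⁻¹}) (hTp : T ≤ C) (hT : IsPGroup 2 T)
    (hi : ¬ 2 ∣ T.relIndex C) (hTq : ∀ t ∈ T, t * q = q * t) : GSys C N q where
  sq := hsqN
  nor := hnor
  mem := hq
  ne := hq1
  gen := hgen
  chain := by
    have : Fact (Nat.Prime 2) := ⟨Nat.prime_two⟩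
    intro U hUN hU c hc hcU hcN n hn
    -- the kernel of the action and the stabilizer of the chain, inside `C`
    let F : Subgroup C :=
      { carrier := {c | ∀ n ∈ N, (c : G) * n * (c : G)⁻¹ = n}
        one_mem' := fun n _ => by simp
        mul_mem' := by
          intro a b ha hb n hn
          have e : ((a * b : C) : G) * n * ((a * b : C) : G)⁻¹
              = (a : G) * ((b : G) * n * (b : G)⁻¹) * (a : G)⁻¹ := by
            rw [Subgroup.coe_mul]; group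
          rw [e, hb n hn, ha n hn]
        inv_mem' := by
          intro a ha n hn
          have e : ((a⁻¹ : C) : G) * n * ((a⁻¹ : C) : G)⁻¹
              = (a : G)⁻¹ * n * (a : G) := by
            rw [Subgroup.coe_inv]; group
          rw [e]
          nth_rewrite 1 [← ha n hn]
          group }
    let K : Subgroup C :=
      { carrier := {c | (∀ u ∈ U, (c : G) * u * (c : G)⁻¹ = u) ∧
          ∀ n ∈ N, (c : G) * n * (c : G)⁻¹ * n⁻¹ ∈ U}
        one_mem' := ⟨fun u _ => by simp, fun n _ => by simp⟩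
        mul_mem' := by
          rintro a b ⟨ha, ha'⟩ ⟨hb, hb'⟩
          refine ⟨fun u hu => ?_, fun n hn => ?_⟩
          · have e : ((a * b : C) : G) * u * ((a * b : C) : G)⁻¹
                = (a : G) * ((b : G) * u * (b : G)⁻¹) * (a : G)⁻¹ := by
              rw [Subgroup.coe_mul]; group
            rw [e, hb u hu, ha u hu]
          · have h1 := hb' n hn
            have h2 := ha' n hn
            have e : ((a * b : C) : G) * n * ((a * b : C) : G)⁻¹ * n⁻¹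
                = (a : G) * ((b : G) * n * (b : G)⁻¹ * n⁻¹) * (a : G)⁻¹ *
                  ((a : G) * n * (a : G)⁻¹ * n⁻¹) := by
              rw [Subgroup.coe_mul]; group
            rw [e]
            exact mul_mem (hU a a.2 _ h1) h2
        inv_mem' := by
          rintro a ⟨ha, ha'⟩
          have hinv : ∀ u ∈ U, (a : G)⁻¹ * u * (a : G) = u := by
            intro u hu
            nth_rewrite 1 [← ha u hu]
            group
          refine ⟨fun u hu => ?_, fun n hn => ?_⟩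
          · have e : ((a⁻¹ : C) : G) * u * ((a⁻¹ : C) : G)⁻¹
                = (a : G)⁻¹ * u * (a : G) := by
              rw [Subgroup.coe_inv]; group
            rw [e, hinv u hu]
          · have h1 := ha' n hn
            have e : ((a⁻¹ : C) : G) * n * ((a⁻¹ : C) : G)⁻¹ * n⁻¹
                = (a : G)⁻¹ * ((a : G) * n * (a : G)⁻¹ * n⁻¹)⁻¹ * (a : G) := by
              rw [Subgroup.coe_inv]; group
            rw [e, hinv _ (inv_mem h1)]
            exact inv_mem h1 }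
    have hFn : F.Normal := by
      constructor
      intro a ha g n hn
      have hn' : (g : G)⁻¹ * n * (g : G) ∈ N := by
        have := hnor _ (inv_mem g.2) n hn
        simpa using this
      have e : ((g * a * g⁻¹ : C) : G) * n * ((g * a * g⁻¹ : C) : G)⁻¹
          = (g : G) * ((a : G) * ((g : G)⁻¹ * n * (g : G)) * (a : G)⁻¹) * (g : G)⁻¹ := by
        simp only [Subgroup.coe_mul, Subgroup.coe_inv]; group
      rw [e, ha _ hn']
      group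
    have hKn : K.Normal := by
      constructor
      rintro a ⟨ha, ha'⟩ g
      refine ⟨fun u hu => ?_, fun n hn => ?_⟩
      · have hu' : (g : G)⁻¹ * u * (g : G) ∈ U := by
          have := hU _ (inv_mem g.2) u hu
          simpa using this
        have e : ((g * a * g⁻¹ : C) : G) * u * ((g * a * g⁻¹ : C) : G)⁻¹
            = (g : G) * ((a : G) * ((g : G)⁻¹ * u * (g : G)) * (a : G)⁻¹) * (g : G)⁻¹ := by
          simp only [Subgroup.coe_mul, Subgroup.coe_inv]; group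
        rw [e, ha _ hu']
        group
      · have hn' : (g : G)⁻¹ * n * (g : G) ∈ N := by
          have := hnor _ (inv_mem g.2) n hn
          simpa using this
        have h1 := hU g g.2 _ (ha' _ hn')
        have e : ((g * a * g⁻¹ : C) : G) * n * ((g * a * g⁻¹ : C) : G)⁻¹ * n⁻¹
            = (g : G) * ((a : G) * ((g : G)⁻¹ * n * (g : G)) * (a : G)⁻¹ *
              ((g : G)⁻¹ * n * (g : G))⁻¹) * (g : G)⁻¹ := by
          simp only [Subgroup.coe_mul, Subgroup.coe_inv]; group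
        rw [e]
        exact h1
    have hsqK : ∀ k ∈ K, k * k ∈ F := by
      rintro k ⟨hk, hk'⟩ n hn
      have h1 := hk' n hn
      have h2 := hsqN _ (hUN h1)
      have e1 : (k : G) * n * (k : G)⁻¹ = (k : G) * n * (k : G)⁻¹ * n⁻¹ * n := by group
      have e2 : ((k * k : C) : G) * n * ((k * k : C) : G)⁻¹
          = (k : G) * ((k : G) * n * (k : G)⁻¹) * (k : G)⁻¹ := by
        rw [Subgroup.coe_mul]; group
      rw [e2, e1]
      have e3 : (k : G) * ((k : G) * n * (k : G)⁻¹ * n⁻¹ * n) * (k : G)⁻¹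
          = (k : G) * ((k : G) * n * (k : G)⁻¹ * n⁻¹) * (k : G)⁻¹ *
            ((k : G) * n * (k : G)⁻¹ * n⁻¹) * n := by group
      rw [e3, hk _ h1, h2, one_mul]
    have hTS : IsPGroup 2 (T.subgroupOf C) := hT.of_equiv (subgroupOfEquivOfLe hTp).symm
    -- `K` centralizes `q`
    have hKq : ∀ k ∈ K, (k : G) * q * (k : G)⁻¹ = q := by
      intro k hk
      obtain ⟨t, ht, hf⟩ := exists_mem_sylow_of_sq (hTS.toSylow hi) hKn hFn hsqK hk
      have ht' : (t : G) ∈ T := ht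
      have htq : (t : G) * q * (t : G)⁻¹ = q := by
        rw [hTq _ ht']
        group
      have h1 := hf q hq
      have e : (k : G) * q * (k : G)⁻¹
          = (t : G) * (((t⁻¹ * k : C) : G) * q * ((t⁻¹ * k : C) : G)⁻¹) * (t : G)⁻¹ := by
        simp only [Subgroup.coe_mul, Subgroup.coe_inv]; group
      rw [e, h1, htq]
    -- hence all conjugates of `q`, hence `N`
    have hKall : ∀ x ∈ closure {x | ∃ c ∈ C, x = c * q * c⁻¹}, ∀ k ∈ K,
        (k : G) * x * (k : G)⁻¹ = x := by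
      intro x hx
      induction hx using closure_induction with
      | mem x hx =>
        obtain ⟨d, hd, rfl⟩ := hx
        intro k hk
        have h1 := hKq _ (hKn.conj_mem k hk (⟨d, hd⟩⁻¹ : C))
        have e : (k : G) * (d * q * d⁻¹) * (k : G)⁻¹
            = d * ((((⟨d, hd⟩⁻¹ * k * ((⟨d, hd⟩ : C)⁻¹)⁻¹ : C)) : G) * q *
              (((⟨d, hd⟩⁻¹ * k * ((⟨d, hd⟩ : C)⁻¹)⁻¹ : C)) : G)⁻¹) * d⁻¹ := by
          simp only [Subgroup.coe_mul, Subgroup.coe_inv]; group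
        rw [e, h1]
      | one => intro k _; simp
      | mul x y _ _ hx hy =>
        intro k hk
        have e : (k : G) * (x * y) * (k : G)⁻¹
            = (k : G) * x * (k : G)⁻¹ * ((k : G) * y * (k : G)⁻¹) := by group
        rw [e, hx k hk, hy k hk]
      | inv x _ hx =>
        intro k hk
        have e : (k : G) * x⁻¹ * (k : G)⁻¹ = ((k : G) * x * (k : G)⁻¹)⁻¹ := by group
        rw [e, hx k hk]
    exact hKall n (hgen hn) ⟨c, hc⟩ ⟨hcU, hcN⟩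

/-- **The data of THEOREM TV** for `C(v₁)` acting on `N₁`, base point `v₂`. -/
theorem Base.gsys [Finite G] {T V₁ V₂ L₁ L₂ : Subgroup G} {v₁ v₂ s : G}
    (h : Base T V₁ V₂ L₁ L₂ v₁ v₂ s) : GSys (cz v₁) (nc v₁ {v₂}) v₂ := by
  refine gsys_of (T := T) (fun x hx => h.N1_sq hx)
    (fun c hc n hn => (mem_normalizer_iff.1 (le_normalizer_nc v₁ _ hc) n).1 hn) h.v2_mem_N1 h.v2 ?_
    h.T_le h.pT (h.syl h.T_le le_rfl) h.Tv2
  rw [nc, closure_le]
  rintro _ ⟨g, hg, a, ha, rfl⟩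
  rw [Set.mem_singleton_iff.1 ha]
  exact subset_closure ⟨g, hg, rfl⟩

namespace One

variable {T V₁ V₂ L₁ L₂ : Subgroup G} {v₁ v₂ s : G}

section

variable [Finite G] (h : One T V₁ V₂ L₁ L₂ v₁ v₂ s)
include h

theorem side (hI : ∃ x ∈ nc v₁ {v₂}, ∃ y ∈ nc v₂ {v₁}, x * y ≠ y * x) :
    Side V₁ V₂ := by
  refine Side.of_point (v₁ := v₁) h.q1 h.card1 (fun p hp hp1 => h.tr1 p hp hp1 v₁ h.vV1 h.v1)
    h.half1 ?_ h.V1_le_Q (h.Q_le.trans h.T_norm1) ?_ ?_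
  · exact fun x hx => mem_centralizer_iff.2 fun v hv => (h.halfc1 x hx v hv).symm
  · obtain ⟨w, hw, v, hv, hne⟩ := h.k1
    exact ⟨w, h.Kk_le_Q hw, fun hc => hne (mem_centralizer_iff.1 hc v hv).symm, fun x hx =>
      h.Kk_comm hw hx⟩
  · rw [← nc_eq_NN, ← h.N1_eq]
    exact h.v1_mem hI

omit [Finite G] h in
theorem hI_symm (hI : ∃ x ∈ nc v₁ {v₂}, ∃ y ∈ nc v₂ {v₁}, x * y ≠ y * x) :
    ∃ x ∈ nc v₂ {v₁}, ∃ y ∈ nc v₁ {v₂}, x * y ≠ y * x := by
  obtain ⟨x, hx, y, hy, e⟩ := hI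
  exact ⟨y, hy, x, hx, fun h => e h.symm⟩

/-- The hypotheses of THEOREM J. -/
theorem ctx (hI : ∃ x ∈ nc v₁ {v₂}, ∃ y ∈ nc v₂ {v₁}, x * y ≠ y * x) :
    Ctx V₁ V₂ := by
  have s1 := h.side hI
  have s2 := h.symm.side (hI_symm hI)
  refine ⟨s1, s2, ?_⟩
  by_contra hne
  have hle1 : ThmJ.FF V₁ V₂ ≤ nc v₁ {v₂} := fun x hx => by
    rw [h.N1_eq, nc_eq_NN]
    exact mem_FF.1 hx v₁ h.vV1 h.v1
  have hzm : v₁ * v₂ ∈ (ThmJ.FF V₁ V₂ ⊓ ThmJ.FF V₂ V₁ : Subgroup G) := by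
    apply h.z_mem (X := ThmJ.FF V₁ V₂ ⊓ ThmJ.FF V₂ V₁) (inf_le_left.trans (hle1.trans h.N1_le_T)) _ _ _ hne
    · intro t ht x hx
      have e1 := cj_eq_of_mem_normalizer (h.T_norm1 ht)
      have e2 := cj_eq_of_mem_normalizer (h.T_norm2 ht)
      have h1 : t * x * t⁻¹ ∈ cj t (ThmJ.FF V₁ V₂ ⊓ ThmJ.FF V₂ V₁) := mem_map_of_mem _ hx
      rwa [cj_inf, cj_FF, cj_FF, e1, e2] at h1
    · intro x hx
      have h1 : s * x * s⁻¹ ∈ cj s (ThmJ.FF V₁ V₂ ⊓ ThmJ.FF V₂ V₁) := mem_map_of_mem _ hx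
      rwa [cj_inf, cj_FF, cj_FF, h.cj_s_V1, h.cj_s_V2, inf_comm] at h1
    · exact fun x hx => h.N1_sq (hle1 hx.1)
  obtain ⟨q, hq, hq1, hne2⟩ := four_exists s2.card v₂
  obtain ⟨w, hw, hw', -⟩ := s2.tv q hq hq1
  have hwz : w * (v₁ * v₂) * w⁻¹ = v₁ * v₂ := by
    rw [← mem_centralizer_iff.1 (s2.o2_le_cent_NN hq hq1 hw) _ (mem_FF.1 hzm.2 q hq hq1)]
    group
  have hwv : w * v₁ * w⁻¹ = v₁ := by
    rw [← mem_centralizer_iff.1 (s2.cent q hq hq1 hw) _ h.vV1]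
    group
  have hws := s2.swap hq hq1 h.vV2 h.v2 hne2.symm hw hw'
  have e : w * (v₁ * v₂) * w⁻¹ = w * v₁ * w⁻¹ * (w * v₂ * w⁻¹) := by group
  rw [e, hwv, hws] at hwz
  exact hq1 (mul_eq_right.1 (mul_left_cancel hwz))

/-- **THEOREM J for CASE 1, case B**: `N₁ ∩ N₂ = {1, v₁, v₂, v₁v₂}`. -/
theorem inter (hI : ∃ x ∈ nc v₁ {v₂}, ∃ y ∈ nc v₂ {v₁}, x * y ≠ y * x) {j : G}
    (hj : j ∈ nc v₁ {v₂}) (hj' : j ∈ nc v₂ {v₁}) :
    j = 1 ∨ j = v₁ ∨ j = v₂ ∨ j = v₁ * v₂ := by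
  rw [h.N1_eq, nc_eq_NN] at hj
  rw [h.symm.N1_eq, nc_eq_NN] at hj'
  exact (h.ctx hI).inter h.tr1 h.tr2 h.vV1 h.v1 h.vV2 h.v2 h.T_le h.pT (h.syl h.T_le le_rfl)
    h.T_le2 hj hj'

/-- The commutators `[x, y]`, `x ∈ N₁`, `y ∈ N₂`, lie in `{1, v₁, v₂, v₁v₂}`. -/
theorem comm_mem (hI : ∃ x ∈ nc v₁ {v₂}, ∃ y ∈ nc v₂ {v₁}, x * y ≠ y * x) {x y : G}
    (hx : x ∈ nc v₁ {v₂}) (hy : y ∈ nc v₂ {v₁}) :
    x * y * x⁻¹ * y⁻¹ = 1 ∨ x * y * x⁻¹ * y⁻¹ = v₁ ∨ x * y * x⁻¹ * y⁻¹ = v₂ ∨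
      x * y * x⁻¹ * y⁻¹ = v₁ * v₂ := by
  have h1 := h.comm_mem_inf hx hy
  exact h.inter hI h1.1 h1.2

end

end One

end Cfsg.Agent.Omega.IId.One
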