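import Cfsg.Agent.Omega.NoFF.Basic
import Cfsg.Agent.ZN.Facts

/-!
# II.d, CASE 1, `q = 2`: the groups `N_p`, `p ∈ V₁#` (#13722 (0), (1); #14451 (a), (b), (c))

`Side V W N v v' w l`: `V = {1, v, v', vv'}` (`V₁`), `W` (`V₂`), `N` (`N₁ = ⟨W^{C(v)}⟩`) an elementary abelian
normal subgroup of `C_G(v)` containing `W` and `v`, centralising `V`; `l` (in `L₁`) normalises `V`, centralises
`W` and maps `v` to `v'`; `w ∈ O₂(C_G(v))` centralises `N` and maps `v'` to `vv'`, `[O₂(C_G(v)), w] ≤ ⟨v⟩`.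
-/

set_option autoImplicit false

namespace Cfsg.Agent.Omega.IId.SpSide

open Subgroup Cfsg.Agent.Omega.NoFF.Basic Cfsg Cfsg.Agent.ZN
open scoped Pointwise

variable {G : Type*} [Group G]

/-- `K ≤ H` of index at most 2. -/
theorem card_le_two_mul [Finite G] {K H : Subgroup G}
    (h : ∀ x ∈ H, ∀ y ∈ H, x ∉ K → y ∉ K → x⁻¹ * y ∈ K) : Nat.card H ≤ 2 * Nat.card (K ⊓ H : Subgroup G) := by
  have e1 : Nat.card H = (H : Set G).ncard := Nat.card_coe_set_eq _
  have e2 : Nat.card (K ⊓ H : Subgroup G) = ((K ⊓ H : Subgroup G) : Set G).ncard := Nat.card_coe_set_eq _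
  rw [e1, e2]
  by_cases hH : ∀ x ∈ H, x ∈ K
  · have : K ⊓ H = H := inf_eq_right.2 hH
    rw [this]
    omega
  · push Not at hH
    obtain ⟨a, ha, haK⟩ := hH
    have h1 : (H : Set G) ⊆ ((K ⊓ H : Subgroup G) : Set G) ∪ (fun x => a * x) '' ((K ⊓ H : Subgroup G) : Set G) := by
      intro x hx
      by_cases hxK : x ∈ K
      · exact Or.inl ⟨hxK, hx⟩
      · exact Or.inr ⟨a⁻¹ * x, ⟨h a ha x hx haK hxK, H.mul_mem (H.inv_mem ha) hx⟩, by simp⟩
    refine (Set.ncard_le_ncard h1 (Set.toFinite _)).trans ((Set.ncard_union_le _ _).trans ?_)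
    have := Set.ncard_image_le (f := fun x => a * x) (Set.toFinite ((K ⊓ H : Subgroup G) : Set G))
    omega

theorem mem_centralizer_singleton {v g : G} : g ∈ centralizer ({v} : Set G) ↔ g * v = v * g := by
  rw [mem_centralizer_iff]
  simp only [Set.mem_singleton_iff, forall_eq]
  exact eq_comm

theorem conj_eq {B : Subgroup G} {g : G} (hg : g ∈ normalizer (B : Set G)) : MulAut.conj g • B = B := by
  ext x
  rw [mem_conj]
  have := (mem_normalizer_iff.1 ((normalizer (B : Set G)).inv_mem hg)) x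
  rw [inv_inv] at this
  exact this.symm

theorem mem_normalizer_of_conj {B : Subgroup G} {x : G} (h : MulAut.conj x • B = B) : x ∈ normalizer (B : Set G) := by
  rw [mem_normalizer_iff]
  intro y
  constructor
  · intro hy
    rw [← h, mem_conj]
    simpa [mul_assoc] using hy
  · intro hy
    rw [← h, mem_conj] at hy
    simpa [mul_assoc] using hy

theorem conj_eq_of_centralizer {B : Subgroup G} {g : G} (hg : g ∈ centralizer (B : Set G)) : MulAut.conj g • B = B :=
  conj_eq (centralizer_le_normalizer _ hg)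

theorem conj_mem {g x : G} {H : Subgroup G} (hx : x ∈ H) : g * x * g⁻¹ ∈ MulAut.conj g • H := by
  rw [mem_conj]
  simpa [mul_assoc] using hx

/-- the elements fixed by an element of the centraliser -/
theorem fix {B : Subgroup G} {g x : G} (hg : g ∈ centralizer (B : Set G)) (hx : x ∈ B) : g * x * g⁻¹ = x := by
  rw [← mem_centralizer_iff.1 hg x hx, mul_inv_cancel_right]

structure Side (V W N : Subgroup G) (v v' w l : G) : Prop where
  memV : ∀ x, x ∈ V ↔ x = 1 ∨ x = v ∨ x = v' ∨ x = v * v'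
  v1 : v ≠ 1
  v'1 : v' ≠ 1
  ne : v ≠ v'
  vv : v * v = 1
  v'v' : v' * v' = 1
  comm : v * v' = v' * v
  nor : centralizer ({v} : Set G) ≤ normalizer (N : Set G)
  ab : N ≤ centralizer (N : Set G)
  sq : ∀ x ∈ N, x * x = 1
  WN : W ≤ N
  vN : v ∈ N
  NV : N ≤ centralizer (V : Set G)
  l_v : l * v * l⁻¹ = v'
  l_V : l ∈ normalizer (V : Set G)
  l_W : l ∈ centralizer (W : Set G)
  w_v' : w * v' * w⁻¹ = v * v'
  w_N : w ∈ centralizer (N : Set G)
  w_Q : ∀ x ∈ o2 (centralizer ({v} : Set G)), x⁻¹ * (w * x * w⁻¹) = 1 ∨ x⁻¹ * (w * x * w⁻¹) = v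

namespace Side

variable {V W N : Subgroup G} {v v' w l : G} (h : Side V W N v v' w l)
include h

theorem vV : v ∈ V := (h.memV v).2 (Or.inr (Or.inl rfl))

theorem v'V : v' ∈ V := (h.memV v').2 (Or.inr (Or.inr (Or.inl rfl)))

theorem w_v : w * v * w⁻¹ = v := fix h.w_N h.vN

theorem w_vv' : w * (v * v') * w⁻¹ = v' := by
  have h1 : w * (v * v') * w⁻¹ = (w * v * w⁻¹) * (w * v' * w⁻¹) := by group
  rw [h1, h.w_v, h.w_v', ← mul_assoc, h.vv, one_mul]

/-- `l⁻¹vl ∈ {v', vv'}` -/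
theorem l_inv : l⁻¹ * v * l = v' ∨ l⁻¹ * v * l = v * v' := by
  have h1 : l⁻¹ * v * l ∈ V := by
    have := (mem_normalizer_iff.1 (inv_mem h.l_V) v).1 h.vV
    rwa [inv_inv] at this
  rcases (h.memV _).1 h1 with h2 | h2 | h2 | h2
  · exfalso
    apply h.v1
    have : v = l * (l⁻¹ * v * l) * l⁻¹ := by group
    rw [this, h2]; group
  · exfalso
    apply h.ne
    have h3 : v = l * (l⁻¹ * v * l) * l⁻¹ := by group
    rw [h2, h.l_v] at h3
    exact h3
  · exact Or.inl h2
  · exact Or.inr h2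

/-- `w' = l w l⁻¹` fixes `v'` and maps `v` to `vv'`. -/
theorem w'_v : (l * w * l⁻¹) * v * (l * w * l⁻¹)⁻¹ = v * v' := by
  have h1 : (l * w * l⁻¹) * v * (l * w * l⁻¹)⁻¹ = l * (w * (l⁻¹ * v * l) * w⁻¹) * l⁻¹ := by group
  rw [h1]
  rcases h.l_inv with h2 | h2
  · rw [h2, h.w_v']
    have h3 : l * (v * v') * l⁻¹ = (l * v * l⁻¹) * (l * v' * l⁻¹) := by group
    have h4 : l * v' * l⁻¹ = v := by rw [← h2]; group
    rw [h3, h.l_v, h4, h.comm]
  · rw [h2, h.w_vv']
    have h4 : l * v' * l⁻¹ = v * v' := by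
      have h5 : v' = v * (l⁻¹ * v * l) := by rw [h2, ← mul_assoc, h.vv, one_mul]
      have h6 : l * v' * l⁻¹ = (l * v * l⁻¹) * v := by
        conv_lhs => rw [h5]
        group
      rw [h6, h.l_v, h.comm]
    rw [h4]

/-- any element mapping `v` to `v'` maps `N` to `N'` -/
theorem conj_N_eq {g g' : G} (hg : g * v * g⁻¹ = g' * v * g'⁻¹) : MulAut.conj g • N = MulAut.conj g' • N := by
  have h1 : g'⁻¹ * g ∈ centralizer ({v} : Set G) := by
    rw [mem_centralizer_singleton]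
    have h2 := congrArg (fun t => g'⁻¹ * t * g) hg
    simpa [mul_assoc] using h2
  have h2 := conj_eq (h.nor h1)
  have h3 : g = g' * (g'⁻¹ * g) := by group
  conv_lhs => rw [h3, ← conj_conj, h2]

/-- `N' = N^l`, `F = N ∩ N'` -/
theorem w'_N' : l * w * l⁻¹ ∈ centralizer ((MulAut.conj l • N : Subgroup G) : Set G) := by
  rw [mem_centralizer_iff]
  intro x hx
  have hx' : x ∈ MulAut.conj l • N := hx
  rw [mem_conj] at hx'
  have h1 := mem_centralizer_iff.1 h.w_N _ hx'
  have h2 := congrArg (fun t => l * t * l⁻¹) h1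
  simpa [mul_assoc] using h2

/-- `v ∉ F` -/
theorem v_not_mem : v ∉ MulAut.conj l • N := by
  intro hv
  have h1 := fix h.w'_N' hv
  rw [h.w'_v] at h1
  exact h.v'1 (mul_eq_left.1 h1)

theorem W_le_N' : W ≤ MulAut.conj l • N := by
  intro x hx
  have h1 := fix h.l_W hx
  rw [← h1]
  exact conj_mem (h.WN hx)

theorem W_le_F : W ≤ N ⊓ MulAut.conj l • N := le_inf h.WN h.W_le_N'

/-- `N' ≤ C_G(V)` -/
theorem N'_V : MulAut.conj l • N ≤ centralizer (V : Set G) := by
  have h1 := conj_le_centralizer (g := l) h.NV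
  rwa [conj_eq h.l_V] at h1

theorem centralizer_V_le : centralizer (V : Set G) ≤ centralizer ({v} : Set G) := by
  refine centralizer_le ?_
  rintro _ rfl
  exact h.vV

theorem centralizer_V_le' : centralizer (V : Set G) ≤ centralizer ({v'} : Set G) := by
  refine centralizer_le ?_
  rintro _ rfl
  exact h.v'V

/-- `C_G(v') ≤ N_G(N')` -/
theorem nor' : centralizer ({v'} : Set G) ≤ normalizer ((MulAut.conj l • N : Subgroup G) : Set G) := by
  intro g hg
  apply mem_normalizer_of_conj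
  rw [conj_conj]
  apply h.conj_N_eq
  have h1 : g * l * v * (g * l)⁻¹ = g * (l * v * l⁻¹) * g⁻¹ := by group
  rw [h1, h.l_v]
  rw [mem_centralizer_singleton] at hg
  rw [hg, mul_inv_cancel_right]

theorem N'_le_normalizer : MulAut.conj l • N ≤ normalizer (N : Set G) :=
  h.N'_V.trans (h.centralizer_V_le.trans h.nor)

theorem N_le_normalizer : N ≤ normalizer ((MulAut.conj l • N : Subgroup G) : Set G) :=
  h.NV.trans (h.centralizer_V_le'.trans h.nor')

/-- `[N, N'] ≤ F` -/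
theorem comm_mem {x y : G} (hx : x ∈ N) (hy : y ∈ MulAut.conj l • N) :
    x⁻¹ * (y * x * y⁻¹) ∈ N ⊓ MulAut.conj l • N := by
  refine ⟨N.mul_mem (N.inv_mem hx) ((mem_normalizer_iff.1 (h.N'_le_normalizer hy) x).1 hx), ?_⟩
  have h1 := (mem_normalizer_iff.1 (inv_mem (h.N_le_normalizer hx)) y).1 hy
  rw [inv_inv] at h1
  have h2 := (MulAut.conj l • N : Subgroup G).mul_mem h1 ((MulAut.conj l • N : Subgroup G).inv_mem hy)
  have h3 : x⁻¹ * (y * x * y⁻¹) = x⁻¹ * y * x * y⁻¹ := by group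
  rw [h3]
  exact h2

/-- an element swapping `v` and `v'` maps `N` to `N'` and `N'` to `N` -/
theorem swap : ∃ g : G, MulAut.conj g • N = MulAut.conj l • N ∧ MulAut.conj g • (MulAut.conj l • N) = N := by
  have hw1 : w⁻¹ * v * w⁻¹⁻¹ = v := by
    have := congrArg (fun t => w⁻¹ * t * w) h.w_v
    simp only [mul_assoc, inv_mul_cancel_left, inv_mul_cancel, mul_one] at this
    rw [inv_inv, mul_assoc]
    exact this.symm
  have hw2 : w⁻¹ * v' * w⁻¹⁻¹ = v * v' := by
    have := congrArg (fun t => w⁻¹ * t * w) h.w_vv'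
    simp only [mul_assoc, inv_mul_cancel_left, inv_mul_cancel, mul_one] at this
    rw [inv_inv, mul_assoc]
    exact this.symm
  have hw3 : (l * w * l⁻¹) * v' * (l * w * l⁻¹)⁻¹ = v' := by
    have h1 : (l * w * l⁻¹) * v' * (l * w * l⁻¹)⁻¹ = l * (w * (l⁻¹ * v' * l) * w⁻¹) * l⁻¹ := by group
    have h2 : l⁻¹ * v' * l = v := by rw [← h.l_v]; group
    rw [h1, h2, h.w_v, h.l_v]
  have hw4 : (l * w * l⁻¹) * (v * v') * (l * w * l⁻¹)⁻¹ = v := by
    have h1 : (l * w * l⁻¹) * (v * v') * (l * w * l⁻¹)⁻¹ =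
        ((l * w * l⁻¹) * v * (l * w * l⁻¹)⁻¹) * ((l * w * l⁻¹) * v' * (l * w * l⁻¹)⁻¹) := by group
    rw [h1, h.w'_v, hw3, mul_assoc, h.v'v', mul_one]
  refine ⟨w * (l * w * l⁻¹) * w⁻¹, ?_, ?_⟩
  · apply h.conj_N_eq
    have h1 : w * (l * w * l⁻¹) * w⁻¹ * v * (w * (l * w * l⁻¹) * w⁻¹)⁻¹ =
        w * ((l * w * l⁻¹) * (w⁻¹ * v * w⁻¹⁻¹) * (l * w * l⁻¹)⁻¹) * w⁻¹ := by group
    rw [h1, hw1, h.w'_v, h.w_vv', h.l_v]
  · rw [conj_conj]
    have e : N = MulAut.conj (1 : G) • N := by rw [map_one, one_smul]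
    conv_rhs => rw [e]
    apply h.conj_N_eq
    have h1 : w * (l * w * l⁻¹) * w⁻¹ * l * v * (w * (l * w * l⁻¹) * w⁻¹ * l)⁻¹ =
        w * ((l * w * l⁻¹) * (w⁻¹ * (l * v * l⁻¹) * w⁻¹⁻¹) * (l * w * l⁻¹)⁻¹) * w⁻¹ := by group
    rw [h1, h.l_v, hw2, hw4, h.w_v]
    group

omit h in
theorem conj_inf (g : G) (A B : Subgroup G) : MulAut.conj g • (A ⊓ B) = MulAut.conj g • A ⊓ MulAut.conj g • B :=
  Subgroup.smul_inf _ _ _

omit h in
theorem conj_centralizer (g : G) (A : Subgroup G) :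
    MulAut.conj g • centralizer (A : Set G) = centralizer ((MulAut.conj g • A : Subgroup G) : Set G) := by
  ext x
  rw [mem_conj, mem_centralizer_iff, mem_centralizer_iff]
  constructor
  · intro H y hy
    have hy' : y ∈ MulAut.conj g • A := hy
    rw [mem_conj] at hy'
    have h2 := congrArg (fun t => g * t * g⁻¹) (H _ hy')
    simpa [mul_assoc] using h2
  · intro H y hy
    have h2 := congrArg (fun t => g⁻¹ * t * g) (H _ (conj_mem (g := g) hy))
    simpa [mul_assoc] using h2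

omit h in
theorem card_conj (g : G) (A : Subgroup G) : Nat.card (MulAut.conj g • A : Subgroup G) = Nat.card A :=
  Nat.card_congr (Subgroup.equivSMul (MulAut.conj g) A).symm.toEquiv

/-- (c) `|C_N(N')| = |C_{N'}(N)|` -/
theorem card_cent : Nat.card (N ⊓ centralizer ((MulAut.conj l • N : Subgroup G) : Set G) : Subgroup G) =
    Nat.card ((MulAut.conj l • N) ⊓ centralizer (N : Set G) : Subgroup G) := by
  obtain ⟨g, h1, h2⟩ := h.swap
  have h3 : MulAut.conj g • (N ⊓ centralizer ((MulAut.conj l • N : Subgroup G) : Set G)) =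
      (MulAut.conj l • N) ⊓ centralizer (N : Set G) := by
    rw [conj_inf, conj_centralizer, h1, h2]
  rw [← h3, card_conj]

/-- `N'' = N'^w` -/
theorem conj_w' : MulAut.conj (l * w * l⁻¹) • N = MulAut.conj w • (MulAut.conj l • N) := by
  rw [conj_conj]
  apply h.conj_N_eq
  have h1 : w * l * v * (w * l)⁻¹ = w * (l * v * l⁻¹) * w⁻¹ := by group
  rw [h.w'_v, h1, h.l_v, h.w_v']

/-- `N' ∩ N'' = F` -/
theorem inf_eq : (MulAut.conj l • N) ⊓ (MulAut.conj w • (MulAut.conj l • N)) = N ⊓ MulAut.conj l • N := by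
  have h1 : MulAut.conj (l * w * l⁻¹) • (N ⊓ MulAut.conj l • N) = N ⊓ MulAut.conj l • N :=
    conj_eq_of_centralizer (centralizer_le (fun x hx => hx.2) h.w'_N')
  rw [conj_inf, h.conj_w', conj_eq_of_centralizer h.w'_N'] at h1
  rw [inf_comm, h1]

/-- `N ∩ N'' = F` -/
theorem inf_eq' : N ⊓ (MulAut.conj w • (MulAut.conj l • N)) = N ⊓ MulAut.conj l • N := by
  have h1 : MulAut.conj w • (N ⊓ MulAut.conj l • N) = N ⊓ MulAut.conj l • N :=
    conj_eq_of_centralizer (centralizer_le (fun x hx => hx.1) h.w_N)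
  rw [conj_inf, conj_eq_of_centralizer h.w_N] at h1
  exact h1

/-- (b) If `[N, N'] = 1` and `C_G(N)` normalises `V` then `|N : F| ≤ 2`. -/
theorem card_le [Finite G] (hc : MulAut.conj l • N ≤ centralizer (N : Set G))
    (hV : centralizer (N : Set G) ≤ normalizer (V : Set G)) :
    Nat.card N ≤ 2 * Nat.card (N ⊓ MulAut.conj l • N : Subgroup G) := by
  -- `N' ≤ O₂(C_G(v))`
  have hCN : centralizer (N : Set G) ≤ centralizer ({v} : Set G) := by
    refine centralizer_le ?_
    rintro _ rfl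
    exact h.vN
  have h2' : IsPGroup 2 (MulAut.conj l • N : Subgroup G) := by
    intro x
    refine ⟨1, Subtype.ext ?_⟩
    have h1 := x.2
    rw [mem_conj] at h1
    have h3 := h.sq _ h1
    have h4 : (x : G) * x = l * ((l⁻¹ * x * l) * (l⁻¹ * x * l)) * l⁻¹ := by group
    rw [h3] at h4
    change (x : G) ^ 2 ^ 1 = 1
    rw [pow_one, pow_two, h4]
    group
  -- `R = C_G(N) ∩ C_G(V)` is normal in `C_G(N)`
  set R : Subgroup G := centralizer (N : Set G) ⊓ centralizer (V : Set G) with hR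
  have hRn : centralizer (N : Set G) ≤ normalizer (R : Set G) := by
    intro g hg
    apply mem_normalizer_of_conj
    rw [hR, conj_inf, conj_centralizer, conj_centralizer, conj_eq_of_centralizer hg, conj_eq (hV hg)]
  have hN'R : MulAut.conj l • N ≤ R := le_inf hc h.N'_V
  have hle1 : MulAut.conj l • N ≤ o2 R :=
    le_o2 hN'R h2' (inf_le_right.trans (h.centralizer_V_le'.trans h.nor'))
  have hle2 : o2 R ≤ o2 (centralizer (N : Set G)) :=
    le_o2 ((o2_le R).trans inf_le_left) (isPGroup_o2 R) (hRn.trans (normalizer_le_normalizer_o2 R))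
  have hle3 : o2 (centralizer (N : Set G)) ≤ o2 (centralizer ({v} : Set G)) := by
    refine le_o2 ((o2_le _).trans hCN) (isPGroup_o2 _) ?_
    refine le_trans ?_ (normalizer_le_normalizer_o2 _)
    intro g hg
    apply mem_normalizer_of_conj
    rw [conj_centralizer, conj_eq (h.nor hg)]
  have hQ := hle1.trans (hle2.trans hle3)
  rw [← h.inf_eq, ← card_conj l N, ← card_conj w (MulAut.conj l • N)]
  refine card_le_two_mul fun x hx y hy hxK hyK => ?_
  -- every element of `N''` is `n` or `n v`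
  have key : ∀ x ∈ MulAut.conj w • (MulAut.conj l • N), x ∉ MulAut.conj l • N → ∃ n ∈ MulAut.conj l • N, x = n * v := by
    intro x hx hxK
    rw [mem_conj] at hx
    have h1 := h.w_Q _ (hQ hx)
    have h3 : w * (w⁻¹ * x * w) * w⁻¹ = x := by group
    rw [h3] at h1
    rcases h1 with h1 | h1
    · exfalso
      apply hxK
      have : x = w⁻¹ * x * w := (inv_mul_eq_one.1 h1).symm
      rw [this]
      exact hx
    · exact ⟨_, hx, by rw [← h1]; group⟩
  obtain ⟨n, hn, rfl⟩ := key x hx hxK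
  obtain ⟨m, hm, rfl⟩ := key y hy hyK
  have h5 : ∀ t ∈ MulAut.conj l • N, v * t = t * v := fun t ht => mem_centralizer_iff.1 (h.N'_V ht) v h.vV
  have h6 : (n * v)⁻¹ * (m * v) = n⁻¹ * m := by
    have h7 := h5 _ (mul_mem (inv_mem hn) hm)
    calc (n * v)⁻¹ * (m * v) = v⁻¹ * ((n⁻¹ * m) * v) := by group
      _ = n⁻¹ * m := by rw [← h7, inv_mul_cancel_left]
  rw [h6]
  exact mul_mem (inv_mem hn) hm

/-- `C_G(V) ≤ N_G(F)` -/
theorem centralizer_le_normalizer_F : centralizer (V : Set G) ≤ normalizer ((N ⊓ MulAut.conj l • N : Subgroup G) : Set G) := by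
  intro g hg
  apply mem_normalizer_of_conj
  rw [conj_inf, conj_eq (h.nor (h.centralizer_V_le hg)), conj_eq (h.nor' (h.centralizer_V_le' hg))]

/-- An element of `C_G(v)` normalising `V` normalises `F`. -/
theorem conj_F {t : G} (ht : t ∈ centralizer ({v} : Set G)) (htV : t * v' * t⁻¹ ∈ V) :
    MulAut.conj t • (N ⊓ MulAut.conj l • N) = N ⊓ MulAut.conj l • N := by
  have h0 : t * v = v * t := mem_centralizer_singleton.1 ht
  have h1 : MulAut.conj t • (MulAut.conj l • N) = MulAut.conj l • N ∨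
      MulAut.conj t • (MulAut.conj l • N) = MulAut.conj w • (MulAut.conj l • N) := by
    rw [conj_conj]
    have e : t * l * v * (t * l)⁻¹ = t * v' * t⁻¹ := by rw [← h.l_v]; group
    rcases (h.memV _).1 htV with h2 | h2 | h2 | h2
    · exfalso
      apply h.v'1
      calc v' = t⁻¹ * (t * v' * t⁻¹) * t := by group
        _ = 1 := by rw [h2]; group
    · exfalso
      apply h.ne
      calc v = t⁻¹ * (v * t) := by rw [← h0]; group
        _ = t⁻¹ * (t * v' * t⁻¹) * t := by rw [h2]; group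
        _ = v' := by group
    · left
      apply h.conj_N_eq
      rw [e, h2, h.l_v]
    · right
      rw [conj_conj]
      apply h.conj_N_eq
      have e2 : w * l * v * (w * l)⁻¹ = w * (l * v * l⁻¹) * w⁻¹ := by group
      rw [e, h2, e2, h.l_v, h.w_v']
  rw [conj_inf, conj_eq (h.nor ht)]
  rcases h1 with h1 | h1
  · rw [h1]
  · rw [h1, h.inf_eq']

/-- a subgroup of `C_G(v)` normalising `V` normalises `F` -/
theorem le_normalizer_F {T : Subgroup G} (hT : T ≤ centralizer ({v} : Set G)) (hTV : ∀ t ∈ T, t * v' * t⁻¹ ∈ V) :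
    T ≤ normalizer ((N ⊓ MulAut.conj l • N : Subgroup G) : Set G) := fun t ht =>
  mem_normalizer_of_conj (h.conj_F (hT ht) (hTV t ht))

end Side

end Cfsg.Agent.Omega.IId.SpSide
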