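import Cfsg.Agent.Omega.IId.PlaneRk
import Cfsg.Agent.Omega.IId.OneOrth
import Cfsg.Agent.Omega.IId.SpSide

/-!
# II.d, CASE 1, `q = 2`: `F₁ = C(N₁)` normalises `V₁` (bb OMEGA #15930 (A))

helper310.  `One`, `[N₁, N₂] ≠ 1` : every element of `C_G(v₁)` centralising `N₁` normalises `V₁`.  [Otherwise
`A = ⟨V₁^{F₁}⟩ ≤ N₂` is normal in `C₁`, `D = C_{C₁}(A) ≥ N₂` is transitive on `v₂^{C₁}` and normalises `N₁^l`, `l ∈ L₁`:
`N₁ ≤ N₁^l`, against `v₁ ∉ N₁^l`.]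
-/

set_option autoImplicit false
set_option linter.unusedSectionVars false
set_option linter.unusedVariables false

namespace Cfsg.Agent.Omega.IId.PlaneF

open Cfsg.Agent.Omega.TV hiding z2
open Subgroup Cfsg Cfsg.Agent.ZN Cfsg.Agent.Omega.IId.PlaneSy Cfsg.Agent.Omega.IId.PlaneRk
open Cfsg.Agent.Omega.IId.One
open Cfsg.Agent.Omega.IId.Two (le_normalizer_of)
open scoped Pointwise

universe u

variable {G : Type u} [Group G]

section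

variable [Finite G] {T V₁ V₂ L₁ L₂ : Subgroup G} {v₁ v₂ s : G} (h : One T V₁ V₂ L₁ L₂ v₁ v₂ s)

include h

/-- an element of `V₁ ∖ ⟨v₁⟩` -/
theorem exists_x : ∃ x ∈ V₁, x ≠ 1 ∧ x ≠ v₁ := by
  obtain ⟨w, hw, x, hx, hne⟩ := h.k1
  exact ⟨x, hx, fun e => hne (by rw [e]; group), fun e => hne (by rw [e]; exact mem_cz.1 hw.1)⟩

omit [Finite G] in
/-- `Q₁` is zero on `V₂`, for every pair with the same `T`, `v₁`, `v₂` -/
theorem Q_zero {T' V₁' V₂' L₁' L₂' : Subgroup G} (h' : Base T' V₁' V₂' L₁' L₂' v₁ v₂ s) {x : G} (hx : x ∈ V₂') :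
    Qg (cz v₁) v₂ x = 0 := by
  by_cases hx1 : x = 1
  · rw [hx1]; exact Qg_one
  · obtain ⟨l, hl, e⟩ := h'.t2 v₂ h'.vV2 h'.v2 x hx hx1
    rw [← e]
    exact Qg_conj (h'.L2_le hl)

omit [Finite G] in
theorem B_zero {T' V₁' V₂' L₁' L₂' : Subgroup G} (h' : Base T' V₁' V₂' L₁' L₂' v₁ v₂ s) {x y : G} (hx : x ∈ V₂')
    (hy : y ∈ V₂') : Bg (cz v₁) v₂ x y = 0 := by
  unfold Bg
  rw [Q_zero h h' hx, Q_zero h h' hy, Q_zero h h' (mul_mem hx hy), add_zero, add_zero]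

/-- `C₁ = ⟨M, L₂⟩` -/
theorem gen (o : GOrth (cz v₁) (nc v₁ {v₂}) v₂ v₁) : cz v₁ ≤ (cz v₁ ⊓ cz v₂) ⊔ L₂ := by
  have hs := sy_of o
  obtain ⟨u, hu, hu1, huv⟩ := exists_x h.symm
  obtain ⟨l, hl, e⟩ := h.t2 v₂ h.vV2 h.v2 u hu hu1
  refine hs.perp_gen (p := v₂) (k := l) o.r_mem ?_ ?_ (mem_sup_right hl) (h.L2_le hl) ?_ ?_
  · intro e
    rcases (mem_zp2 h.vq1).1 e with e | e
    · exact h.v2 e
    · exact h.ne e.symm
  · intro g hg e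
    apply mem_sup_left
    refine ⟨hg, ?_⟩
    have hgN := o.nor g hg v₂ o.r_mem
    rcases (mem_zp2 h.vq1).1 e with e | e
    · have e1 : g * v₂ * g⁻¹ = v₂ := by
        calc g * v₂ * g⁻¹ = g * v₂ * g⁻¹ * v₂ * v₂ := by rw [mul_assoc _ v₂ v₂, h.vq2, mul_one]
          _ = v₂ := by rw [e, one_mul]
      exact mem_cz.2 (mul_inv_eq_iff_eq_mul.1 e1)
    · exfalso
      have e1 : g * v₂ * g⁻¹ = v₂ * v₁ := by
        calc g * v₂ * g⁻¹ = g * v₂ * g⁻¹ * v₂ * v₂ := by rw [mul_assoc _ v₂ v₂, h.vq2, mul_one]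
          _ = v₂ * v₁ := by rw [e, h.vc]
      have h1 : Qg (cz v₁) v₂ (g * v₂ * g⁻¹) = 0 := Qg_conj hg
      rw [e1, o.Qmulc o.r_mem, Qg_self] at h1
      exact absurd h1 (by decide)
  · rw [e]; exact B_zero h h.toBase h.vV2 hu
  · rw [e]
    intro e2
    rcases (mem_zp2 h.vq1).1 e2 with e3 | e3
    · apply huv
      calc u = v₂ * (v₂ * u) := by rw [← mul_assoc, h.vq2, one_mul]
        _ = v₂ := by rw [e3, mul_one]
    · exact h.v1 (h.inf _ h.vV1 (e3 ▸ mul_mem h.vV2 hu))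

section point

variable (o : GOrth (cz v₂) (nc v₂ {v₁}) v₁ v₂)
include o

theorem mem_yr' {y : G} (hy : y ∈ yr (sy_of o) o.r_mem) : y = 1 ∨ y = v₂ ∨ y = v₁ ∨ y = v₁ * v₂ := by
  rcases hy with hy | ⟨hy, hy'⟩
  · rcases (mem_zp2 h.vq2).1 hy with e | e
    · exact Or.inl e
    · exact Or.inr (Or.inl e)
  · rcases (mem_zp2 h.vq2).1 hy' with e | e
    · right; right; left
      calc y = y * v₁ * v₁ := by rw [mul_assoc, h.vq1, mul_one]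
        _ = v₁ := by rw [e, one_mul]
    · right; right; right
      calc y = y * v₁ * v₁ := by rw [mul_assoc, h.vq1, mul_one]
        _ = v₁ * v₂ := by rw [e, h.vc]

theorem v1_yr : v₁ ∈ yr (sy_of o) o.r_mem :=
  Or.inr ⟨o.r_mem, by rw [h.vq1]; exact one_mem _⟩

/-- the point of a `T`-invariant line -/
theorem pt_mem {V₁' V₂' L₁' L₂' : Subgroup G} (h' : Base T V₁' V₂' L₁' L₂' v₁ v₂ s) {x : G} (hx : x ∈ V₁')
    (hx1 : x ≠ 1) (hxv : x ≠ v₁) : x ∈ (sy_of o).pp o.r_mem ∧ x ∉ yr (sy_of o) o.r_mem := by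
  refine ⟨⟨h'.V1_le_N2 hx, B_zero h.symm h'.symm h'.vV1 hx⟩, fun e => ?_⟩
  rcases mem_yr' h o e with e | e | e | e
  · exact hx1 e
  · exact h'.v2 (h'.inf _ (e ▸ hx) h'.vV2)
  · exact hxv e
  · apply h'.v2
    refine h'.inf _ ?_ h'.vV2
    have e2 : v₂ = v₁⁻¹ * x := by rw [e]; group
    rw [e2]
    exact mul_mem (inv_mem h'.vV1) hx

/-- the points over `yr` have two singular vectors: `y`, `v₁y` -/
theorem sing_of {x y : G} (hx : x ∈ nc v₂ {v₁}) (hxv : Bg (cz v₂) v₁ v₁ x = 0) (hy : y ∈ nc v₂ {v₁})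
    (hQx : Qg (cz v₂) v₁ x = 0) (hQy : Qg (cz v₂) v₁ y = 0) (e : y * x ∈ yr (sy_of o) o.r_mem) :
    y = x ∨ y = v₁ * x := by
  have hxx := o.sq x hx
  have hyx : ∀ t, y * x = t → y = t * x := fun t e => by
    rw [← e, mul_assoc, hxx, mul_one]
  have hQv : Qg (cz v₂) v₁ (v₁ * x) = 0 := by
    rw [GOrth.Q_mul, Qg_self, hQx, hxv]; decide
  have hv1x : v₁ * x ∈ nc v₂ {v₁} := mul_mem o.r_mem hx
  rcases mem_yr' h o e with e | e | e | e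
  · left; rw [hyx _ e, one_mul]
  · exfalso
    rw [hyx _ e, (sy_of o).mc o.c_mem hx, o.Qmulc hx, hQx] at hQy
    exact absurd hQy (by decide)
  · exact Or.inr (hyx _ e)
  · exfalso
    have e2 : v₁ * v₂ * x = v₁ * x * v₂ := by
      rw [mul_assoc, (sy_of o).mc o.c_mem hx, mul_assoc]
    rw [hyx _ e, e2, o.Qmulc hv1x, hQv] at hQy
    exact absurd hQy (by decide)

/-- The stabiliser of the point `x` in `M` is `N_M(V₁)`. -/
theorem stab_iff {x g : G} (hx : x ∈ V₁) (hx1 : x ≠ 1) (hxv : x ≠ v₁) (hg : g ∈ cz v₂ ⊓ cz v₁) :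
    g * x * g⁻¹ * x ∈ yr (sy_of o) o.r_mem ↔ g ∈ normalizer (V₁ : Set G) := by
  have hxN := h.V1_le_N2 hx
  have hB := B_zero h.symm h.toBase.symm h.vV1 hx
  have hQ := Q_zero h.symm h.toBase.symm hx
  have hgv : g * v₁ * g⁻¹ = v₁ := by rw [mem_cz.1 hg.2, mul_inv_cancel_right]
  constructor
  · intro e
    have h1 := sing_of h o hxN hB (o.nor g hg.1 x hxN) hQ (by rw [o.inv g hg.1 x hxN, hQ]) e
    have h2 : g * x * g⁻¹ ∈ V₁ := by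
      rcases h1 with h1 | h1
      · rw [h1]; exact hx
      · rw [h1]; exact mul_mem h.vV1 hx
    apply SpSide.mem_normalizer_of_conj
    apply Subgroup.eq_of_le_of_card_ge
    · rintro _ ⟨y, hy, rfl⟩
      show g * y * g⁻¹ ∈ V₁
      rcases h.toBase.mem_V1 hy hx hx1 hxv with rfl | rfl | rfl | rfl
      · simp
      · rw [hgv]; exact h.vV1
      · exact h2
      · have e3 : g * (v₁ * x) * g⁻¹ = g * v₁ * g⁻¹ * (g * x * g⁻¹) := by group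
        rw [e3, hgv]
        exact mul_mem h.vV1 h2
    · exact (SpSide.Side.card_conj g V₁).symm.le
  · intro hn
    have h1 := (mem_normalizer_iff.1 hn x).1 hx
    rcases h.toBase.conj1 hg.2 h1 hx with e | e
    · rw [e, h.q1 x hx]; exact one_mem _
    · rw [e, mul_assoc, h.q1 x hx, mul_one]; exact v1_yr h o

/-- `F₁` transitive on `V₁^M`: `⟨V₁^{F₁}⟩` is normal in `C₁`. -/
theorem norm_of (o₁ : GOrth (cz v₁) (nc v₁ {v₂}) v₂ v₁)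
    (ht : ∀ m ∈ cz v₁ ⊓ cz v₂, ∃ f ∈ cz v₁ ⊓ centralizer (nc v₁ {v₂} : Set G), f⁻¹ * m ∈ normalizer (V₁ : Set G)) :
    ∃ A : Subgroup G, V₁ ≤ A ∧ A ≤ nc v₂ {v₁} ∧ cz v₁ ≤ normalizer (A : Set G) := by
  set F := cz v₁ ⊓ centralizer (nc v₁ {v₂} : Set G) with hF
  set N : Subgroup G := closure {y : G | ∃ f ∈ F, ∃ a ∈ V₁, y = f * a * f⁻¹} with hN
  have hsub : ∀ f ∈ F, ∀ a ∈ V₁, f * a * f⁻¹ ∈ N := fun f hf a ha => subset_closure ⟨f, hf, a, ha, rfl⟩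
  have hV : V₁ ≤ N := fun a ha => by simpa using hsub 1 (one_mem _) a ha
  have hFM : F ≤ cz v₁ ⊓ cz v₂ := h.F1_le
  have hnorm : ∀ g ∈ cz v₁, (∀ f ∈ F, ∀ a ∈ V₁, g * (f * a * f⁻¹) * g⁻¹ ∈ N) → g ∈ normalizer (N : Set G) := by
    intro g hg hga
    apply Cfsg.Agent.MinSimple.VModule.mem_normalizer_of_map_le
    rw [hN, MonoidHom.map_closure, closure_le]
    rintro _ ⟨y, ⟨f, hf, a, ha, rfl⟩, rfl⟩
    exact hga f hf a ha
  have hM : cz v₁ ⊓ cz v₂ ≤ normalizer (N : Set G) := by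
    intro m hm
    refine hnorm m hm.1 fun f hf a ha => ?_
    obtain ⟨f', hf', h1⟩ := ht (m * f) (mul_mem hm (hFM hf))
    have e : m * (f * a * f⁻¹) * m⁻¹ = f' * ((f'⁻¹ * (m * f)) * a * (f'⁻¹ * (m * f))⁻¹) * f'⁻¹ := by group
    rw [e]
    exact hsub f' hf' _ ((mem_normalizer_iff.1 h1 a).1 ha)
  have hL : L₂ ≤ normalizer (N : Set G) := by
    intro l hl
    refine hnorm l (h.L2_le hl) fun f hf a ha => ?_
    have h1 : l * f * l⁻¹ ∈ F := (mem_normalizer_iff.1 (h.F1_norm (h.L2_le hl)) f).1 hf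
    have e : l * (f * a * f⁻¹) * l⁻¹ = (l * f * l⁻¹) * (l * a * l⁻¹) * (l * f * l⁻¹)⁻¹ := by group
    have e2 : l * a * l⁻¹ = a := by rw [h.L21 l hl a ha, mul_inv_cancel_right]
    rw [e, e2]
    exact hsub _ h1 a ha
  refine ⟨N, hV, ?_, (gen h o₁).trans (sup_le hM hL)⟩
  rw [hN, closure_le]
  rintro _ ⟨f, hf, a, ha, rfl⟩
  exact (mem_normalizer_iff.1 (le_normalizer_nc v₂ {v₁} (hFM hf).2) a).1 (h.V1_le_N2 ha)

/-- **(A)** `F₁ ≤ N_G(V₁)`. -/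
theorem F_le (o₁ : GOrth (cz v₁) (nc v₁ {v₂}) v₂ v₁)
    (hI : ∃ x ∈ nc v₁ {v₂}, ∃ y ∈ nc v₂ {v₁}, x * y ≠ y * x) {v' w l : G}
    (S : SpSide.Side V₁ V₂ (nc v₁ {v₂}) v₁ v' w l) :
    cz v₁ ⊓ centralizer (nc v₁ {v₂} : Set G) ≤ normalizer (V₁ : Set G) := by
  intro f hf
  by_contra hfn
  obtain ⟨x, hx, hx1, hxv⟩ := exists_x h
  have hs := sy_perp (sy_of o) o.r_mem
  set F := cz v₁ ⊓ centralizer (nc v₁ {v₂} : Set G) with hF
  have hFM : F ≤ cz v₂ ⊓ cz v₁ := fun g hg => ⟨(h.F1_le hg).2, (h.F1_le hg).1⟩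
  have hFn : ∀ m ∈ cz v₂ ⊓ cz v₁, ∀ k ∈ F, m * k * m⁻¹ ∈ F := fun m hm k hk =>
    (mem_normalizer_iff.1 (h.F1_norm hm.2) k).1 hk
  obtain ⟨hxp, hxy⟩ := pt_mem h o h.toBase hx hx1 hxv
  have htr : ∀ q ∈ (sy_of o).pp o.r_mem, q ∉ yr (sy_of o) o.r_mem → ∃ g ∈ F, g * x * g⁻¹ * q ∈ yr (sy_of o) o.r_mem :=
    fun q hq hqy => hs.norm_trans hFM hFn hxp hxy hf (fun e => hfn ((stab_iff h o hx hx1 hxv (hFM hf)).1 e)) hq hqy
  have ht : ∀ m ∈ cz v₁ ⊓ cz v₂, ∃ f ∈ F, f⁻¹ * m ∈ normalizer (V₁ : Set G) := by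
    intro m hm
    have hm' : m ∈ cz v₂ ⊓ cz v₁ := ⟨hm.2, hm.1⟩
    have h1 : m * x * m⁻¹ ∉ yr (sy_of o) o.r_mem := fun e => hxy (by
      have := hs.norY' hm' e
      have e2 : m⁻¹ * (m * x * m⁻¹) * m = x := by group
      rwa [e2] at this)
    obtain ⟨g, hg, e⟩ := htr _ (hs.nor m hm' x hxp) h1
    refine ⟨g, hg, (stab_iff h o hx hx1 hxv (mul_mem (inv_mem (hFM hg)) hm')).1 ?_⟩
    have h2 := hs.norY' (hFM hg) (hs.eqv_symm (hs.nor g (hFM hg) x hxp) (hs.nor m hm' x hxp) e)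
    have e2 : g⁻¹ * (m * x * m⁻¹ * (g * x * g⁻¹)) * g = g⁻¹ * m * x * (g⁻¹ * m)⁻¹ * x := by group
    rwa [e2] at h2
  obtain ⟨A, hVA, hAN, hnA⟩ := norm_of h o o₁ ht
  -- `D = C_{C₁}(A)`
  set D : Subgroup G := cz v₁ ⊓ centralizer (A : Set G) with hD
  have hDn : ∀ m ∈ cz v₁, ∀ k ∈ D, m * k * m⁻¹ ∈ D := by
    intro m hm k hk
    refine mem_inf.2 ⟨mul_mem (mul_mem hm hk.1) (inv_mem hm), mem_centralizer_iff.2 fun a ha => ?_⟩
    have h1 := (mem_normalizer_iff.1 (inv_mem (hnA hm)) a).1 ha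
    rw [inv_inv] at h1
    have h2 := mem_centralizer_iff.1 hk.2 _ h1
    calc a * (m * k * m⁻¹) = m * (m⁻¹ * a * m * k) * m⁻¹ := by group
      _ = m * (k * (m⁻¹ * a * m)) * m⁻¹ := by rw [h2]
      _ = m * k * m⁻¹ * a := by group
  have hN2D : nc v₂ {v₁} ≤ D := fun y hy => ⟨h.T_le (h.symm.N1_le_T hy), mem_centralizer_iff.2 fun a ha =>
    h.symm.N1_comm (hAN ha) hy⟩
  -- `D` moves a point
  have hs1 := sy_of o₁
  have v2Y : v₂ ∉ zpowers v₁ := fun e => by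
    rcases (mem_zp2 h.vq1).1 e with e | e
    · exact h.v2 e
    · exact h.ne e.symm
  obtain ⟨d, hd, hdv⟩ : ∃ d ∈ D, d * v₂ * d⁻¹ * v₂ ∉ zpowers v₁ := by
    obtain ⟨n, hn, y, hy, hne⟩ := hI
    have hyD := hN2D hy
    -- `y` moves `n`
    obtain ⟨q, hq, hqB⟩ := hs1.sep1 hn fun e => by
      rcases (mem_zp2 h.vq1).1 e with e | e
      · exact hne (by rw [e]; group)
      · exact hne (by rw [e]; exact (mem_cz.1 hyD.1).symm)
    by_contra hcon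
    push Not at hcon
    -- `D` fixes all points
    have hfix : ∀ c ∈ cz v₁, ∀ d ∈ D, d * (c * v₂ * c⁻¹) * d⁻¹ = c * v₂ * c⁻¹ := by
      intro c hc d hd
      have h1 : c⁻¹ * d * c ∈ D := by
        have := hDn c⁻¹ (inv_mem hc) d hd
        rwa [inv_inv] at this
      have h2 := hcon _ h1
      have h3 : c⁻¹ * d * c * v₂ * (c⁻¹ * d * c)⁻¹ = v₂ := by
        rcases (mem_zp2 h.vq1).1 h2 with e | e
        · calc c⁻¹ * d * c * v₂ * (c⁻¹ * d * c)⁻¹ = c⁻¹ * d * c * v₂ * (c⁻¹ * d * c)⁻¹ * v₂ * v₂ := by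
                rw [mul_assoc _ v₂ v₂, h.vq2, mul_one]
            _ = v₂ := by rw [e, one_mul]
        · exfalso
          have e1 : c⁻¹ * d * c * v₂ * (c⁻¹ * d * c)⁻¹ = v₂ * v₁ := by
            calc c⁻¹ * d * c * v₂ * (c⁻¹ * d * c)⁻¹ = c⁻¹ * d * c * v₂ * (c⁻¹ * d * c)⁻¹ * v₂ * v₂ := by
                  rw [mul_assoc _ v₂ v₂, h.vq2, mul_one]
              _ = v₂ * v₁ := by rw [e, h.vc]
          have h1 : Qg (cz v₁) v₂ (c⁻¹ * d * c * v₂ * (c⁻¹ * d * c)⁻¹) = 0 := Qg_conj h1.1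
          rw [e1, o₁.Qmulc o₁.r_mem, Qg_self] at h1
          exact absurd h1 (by decide)
      calc d * (c * v₂ * c⁻¹) * d⁻¹ = c * (c⁻¹ * d * c * v₂ * (c⁻¹ * d * c)⁻¹) * c⁻¹ := by group
        _ = c * v₂ * c⁻¹ := by rw [h3]
    apply hne
    have h4 : nc v₁ {v₂} ≤ cz y := by
      rw [nc, closure_le]
      rintro _ ⟨c, hc, a, ha, rfl⟩
      rw [Set.mem_singleton_iff.1 ha]
      exact mem_cz.2 (mul_inv_eq_iff_eq_mul.1 (hfix c hc y hyD)).symm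
    exact mem_cz.1 (h4 hn)
  -- `D` is transitive on `v₂^{C₁}`
  have hDtr : ∀ c ∈ cz v₁, ∃ d ∈ D, d * v₂ * d⁻¹ = c * v₂ * c⁻¹ := by
    intro c hc
    have hcv := o₁.nor c hc v₂ o₁.r_mem
    obtain ⟨g, hg, e⟩ := hs1.norm_trans (inf_le_left : D ≤ cz v₁) hDn o₁.r_mem v2Y hd hdv hcv fun e => v2Y (by
      have := hs1.norY' hc e
      have e2 : c⁻¹ * (c * v₂ * c⁻¹) * c = v₂ := by group
      rwa [e2] at this)
    refine ⟨g, hg, ?_⟩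
    have hcc := o₁.sq _ hcv
    rcases (mem_zp2 h.vq1).1 e with e | e
    · calc g * v₂ * g⁻¹ = g * v₂ * g⁻¹ * (c * v₂ * c⁻¹) * (c * v₂ * c⁻¹) := by
            rw [mul_assoc _ (c * v₂ * c⁻¹) _, hcc, mul_one]
        _ = c * v₂ * c⁻¹ := by rw [e, one_mul]
    · exfalso
      have e1 : g * v₂ * g⁻¹ = c * v₂ * c⁻¹ * v₁ := by
        calc g * v₂ * g⁻¹ = g * v₂ * g⁻¹ * (c * v₂ * c⁻¹) * (c * v₂ * c⁻¹) := by
              rw [mul_assoc _ (c * v₂ * c⁻¹) _, hcc, mul_one]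
          _ = c * v₂ * c⁻¹ * v₁ := by rw [e, hs1.mc o₁.c_mem hcv]
      have h1 : Qg (cz v₁) v₂ (g * v₂ * g⁻¹) = 0 := Qg_conj hg.1
      rw [e1, o₁.Qmulc hcv, Qg_conj hc] at h1
      exact absurd h1 (by decide)
  -- `N₁ ≤ N₁^l`
  have hv2 : v₂ ∈ MulAut.conj l • nc v₁ {v₂} := S.W_le_N' h.vV2
  have hDV : D ≤ centralizer ({v'} : Set G) := fun d hd => SpSide.mem_centralizer_singleton.2
    (mem_centralizer_iff.1 hd.2 v' (hVA S.v'V)).symm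
  have hle : nc v₁ {v₂} ≤ MulAut.conj l • nc v₁ {v₂} := by
    conv_lhs => rw [nc]
    rw [closure_le]
    rintro _ ⟨c, hc, a, ha, rfl⟩
    rw [Set.mem_singleton_iff.1 ha]
    obtain ⟨d, hd, e⟩ := hDtr c hc
    rw [← e]
    exact (mem_normalizer_iff.1 (S.nor' (hDV hd)) _).1 hv2
  exact S.v_not_mem (hle o₁.c_mem)

end point

end

end Cfsg.Agent.Omega.IId.PlaneF
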