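import Cfsg.Agent.Omega.IId.PlaneF
import Cfsg.Agent.Omega.IId.SpKill

/-!
# II.d, CASE 1, `q = 2`: DIAGRAM + IDENTITY (bb OMEGA #15930)

helper310.  `One`, `[N₁, N₂] ≠ 1` : `|N₁| = 2⁷`, `R = [N₁, N₁^l]` is a totally singular plane of `N₁`
containing `V₂`, equal to the set of singular vectors of `C_{N₁}(N₁^l)`.
-/

set_option autoImplicit false
set_option linter.unusedSectionVars false
set_option linter.unusedVariables false

namespace Cfsg.Agent.Omega.IId.PlaneOf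

open Cfsg.Agent.Omega.TV hiding z2
open Subgroup Cfsg Cfsg.Agent.ZN Cfsg.Agent.Omega.IId.PlaneSy Cfsg.Agent.Omega.IId.PlaneRk
open Cfsg.Agent.Omega.IId.PlaneF
open Cfsg.Agent.Omega.IId.One Cfsg.Agent.Omega.IId.SpSide
open Cfsg.Agent.Omega.NoFF.Basic
open Cfsg.Agent.Omega.IId.SpKill (NN V2_le_NN NN_le_o2 NN_le_cent NN_comm NN_sq NN_le_cz2 conj_V2 conj_s exists_side)
open Cfsg.Agent.Omega.IId.SpForm (two_mul_card_le four_mem)
open scoped Pointwise commutatorElement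

universe u

variable {G : Type u} [Group G]

section side

variable {V W N : Subgroup G} {v v' w l : G} (S : Side V W N v v' w l)
include S

/-- an element of `C_G(v)` normalising `V` maps `N'` to `N'` or `N''` -/
theorem conj_N' {t : G} (ht : t ∈ centralizer ({v} : Set G)) (htV : t * v' * t⁻¹ ∈ V) :
    MulAut.conj t • (MulAut.conj l • N) = MulAut.conj l • N ∨
      MulAut.conj t • (MulAut.conj l • N) = MulAut.conj w • (MulAut.conj l • N) := by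
  have h0 : t * v = v * t := mem_centralizer_singleton.1 ht
  rw [conj_conj]
  have e : t * l * v * (t * l)⁻¹ = t * v' * t⁻¹ := by rw [← S.l_v]; group
  rcases (S.memV _).1 htV with h2 | h2 | h2 | h2
  · exfalso
    apply S.v'1
    calc v' = t⁻¹ * (t * v' * t⁻¹) * t := by group
      _ = 1 := by rw [h2]; group
  · exfalso
    apply S.ne
    calc v = t⁻¹ * (v * t) := by rw [← h0]; group
      _ = t⁻¹ * (t * v' * t⁻¹) * t := by rw [h2]; group
      _ = v' := by group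
  · left
    apply S.conj_N_eq
    rw [e, h2, S.l_v]
  · right
    rw [conj_conj]
    apply S.conj_N_eq
    have e2 : w * l * v * (w * l)⁻¹ = w * (l * v * l⁻¹) * w⁻¹ := by group
    rw [e, h2, e2, S.l_v, S.w_v']

/-- `R = [N, N'] ≤ N ∩ N'` -/
theorem R_le : ⁅N, MulAut.conj l • N⁆ ≤ N ⊓ MulAut.conj l • N :=
  le_inf (le_normalizer_iff_commutator_le_left.1 S.N'_le_normalizer)
    (le_normalizer_iff_commutator_le_right.1 S.N_le_normalizer)

/-- `N_{C_G(v)}(V)` normalises `R`. -/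
theorem conj_R {t : G} (ht : t ∈ centralizer ({v} : Set G)) (htV : t * v' * t⁻¹ ∈ V) :
    MulAut.conj t • ⁅N, MulAut.conj l • N⁆ = ⁅N, MulAut.conj l • N⁆ := by
  have h1 : MulAut.conj t • ⁅N, MulAut.conj l • N⁆ = ⁅MulAut.conj t • N, MulAut.conj t • (MulAut.conj l • N)⁆ :=
    Subgroup.map_commutator _ _ _
  have h2 : MulAut.conj t • N = N := conj_eq (S.nor ht)
  rw [h1, h2]
  rcases conj_N' S ht htV with h3 | h3
  · rw [h3]
  · rw [h3]
    have h4 : MulAut.conj w • ⁅N, MulAut.conj l • N⁆ = ⁅MulAut.conj w • N, MulAut.conj w • (MulAut.conj l • N)⁆ :=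
      Subgroup.map_commutator _ _ _
    rw [conj_eq_of_centralizer S.w_N] at h4
    rw [← h4]
    exact conj_eq_of_centralizer (centralizer_le ((R_le S).trans inf_le_left) S.w_N)

end side

section

variable [Finite G] {T V₁ V₂ L₁ L₂ : Subgroup G} {v₁ v₂ s : G}

/-- the index of `F` in `N₁` is not 2 -/
theorem not_index_two (h : One T V₁ V₂ L₁ L₂ v₁ v₂ s) (hB : ¬ NN v₁ V₂ ≤ centralizer (NN v₂ V₁ : Set G))
    (hv : v₁ ∈ NN v₁ V₂) {v' w l : G} (S1 : Side V₁ V₂ (NN v₁ V₂) v₁ v' w l) {w2 l2 : G}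
    (S2 : Side V₂ V₁ (NN v₂ V₁) v₂ (s * v' * s⁻¹) w2 l2)
    (h1 : ∀ x ∈ NN v₁ V₂, x ∈ NN v₁ V₂ ⊓ MulAut.conj l • NN v₁ V₂ ∨
      x * v₁ ∈ NN v₁ V₂ ⊓ MulAut.conj l • NN v₁ V₂) : False := by
  have hb := h.toBase
  have hNT := hb.Q_le
  have hv2 : v₂ ∈ NN v₂ V₁ := by
    rw [← conj_s hb, ← h.sv1]
    exact SpSide.conj_mem hv
  have hv' : v' ∈ V₁ := S1.v'V
  have hv2' : s * v' * s⁻¹ ∈ V₂ := h.s1 v' hv'
  have hv2'1 := S2.v'1
  set F : Subgroup G := NN v₁ V₂ ⊓ MulAut.conj l • NN v₁ V₂ with hF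
  set E : Subgroup G := NN v₂ V₁ ⊓ MulAut.conj l2 • NN v₂ V₁ with hE
  have hFE : MulAut.conj s • F = E := by
    rw [hF, hE, Side.conj_inf, conj_s hb]
    congr 1
    rw [← conj_s hb, conj_conj, conj_conj]
    apply S1.conj_N_eq
    have e1 : s * l * v₁ * (s * l)⁻¹ = s * (l * v₁ * l⁻¹) * s⁻¹ := by group
    have e2 : l2 * s * v₁ * (l2 * s)⁻¹ = l2 * (s * v₁ * s⁻¹) * l2⁻¹ := by group
    rw [e1, e2, S1.l_v, h.sv1, S2.l_v]
  apply hB
  have h2 : ∀ y ∈ NN v₂ V₁, y ∈ E ∨ y * v₂ ∈ E := by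
    intro y hy
    rw [← conj_s hb, mem_conj] at hy
    rcases h1 _ hy with h3 | h3
    · left
      rw [← hFE, mem_conj]
      exact h3
    · right
      rw [← hFE, mem_conj]
      have e : s⁻¹ * (y * v₂) * s = s⁻¹ * y * s * v₁ := by
        have e2 : s⁻¹ * v₂ * s = v₁ := by rw [← h.sv1]; group
        calc s⁻¹ * (y * v₂) * s = (s⁻¹ * y * s) * (s⁻¹ * v₂ * s) := by group
          _ = s⁻¹ * y * s * v₁ := by rw [e2]
      rw [e]
      exact h3
  -- `E ∩ F = 1`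
  have hEF : F ⊓ E = ⊥ := by
    by_contra hne
    have hT : T ≤ normalizer ((F ⊓ E : Subgroup G) : Set G) := by
      intro t ht
      apply mem_normalizer_of_conj
      rw [Side.conj_inf, S1.conj_F (hb.T_le ht) (h.T1 t ht _ hv'), S2.conj_F (hb.T_le2 ht) (h.T2 t ht _ hv2')]
    obtain ⟨x, hx, hx1, hxT⟩ := NoFF.LinesPlug.exists_fixed h.pT
      ((inf_le_left.trans inf_le_left).trans ((NN_le_o2 hb).trans hNT)) hT hne
    have hxF : x ∈ F := hx.1
    have hxE : x ∈ E := hx.2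
    rcases h.fix x (hNT (NN_le_o2 hb hxF.1)) (NN_sq hb x hxF.1) hxT with h3 | h3 | h3 | h3
    · exact hx1 h3
    · exact S1.v_not_mem (h3 ▸ hxF.2)
    · exact S2.v_not_mem (h3 ▸ hxE.2)
    · -- `l2 w2 l2⁻¹` centralises `E ∋ v₁v₂`, `v₁` and moves `v₂`
      have h4 : l2 * w2 * l2⁻¹ ∈ centralizer (E : Set G) := centralizer_le (fun y hy => hy.2) S2.w'_N'
      have h5 := SpSide.fix h4 hxE
      have h6 := SpSide.fix h4 (S2.W_le_F h.vV1)
      rw [h3] at h5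
      have h7 := S2.w'_v
      have h8 : l2 * w2 * l2⁻¹ * (v₁ * v₂) * (l2 * w2 * l2⁻¹)⁻¹ =
          (l2 * w2 * l2⁻¹ * v₁ * (l2 * w2 * l2⁻¹)⁻¹) * (l2 * w2 * l2⁻¹ * v₂ * (l2 * w2 * l2⁻¹)⁻¹) := by group
      rw [h8, h6, h7] at h5
      have h9 := mul_left_cancel h5
      exact hv2'1 (mul_eq_left.1 h9)
  -- `[F, E] = 1`
  have hFEc : ∀ x ∈ F, ∀ y ∈ E, x * y = y * x := by
    intro x hx y hy
    have hxE : x ∈ normalizer (E : Set G) := by
      apply S2.centralizer_le_normalizer_F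
      exact centralizer_le h.half1 (NN_le_cent hb hx.1)
    have hyF : y ∈ normalizer (F : Set G) := by
      apply S1.centralizer_le_normalizer_F
      exact centralizer_le h.half2 (NN_le_cent hb.symm hy.1)
    have h3 : x * y * x⁻¹ * y⁻¹ ∈ F ⊓ E := by
      refine ⟨?_, E.mul_mem ((mem_normalizer_iff.1 hxE y).1 hy) (E.inv_mem hy)⟩
      have h4 := F.mul_mem hx ((mem_normalizer_iff.1 hyF x⁻¹).1 (F.inv_mem hx))
      have e : x * y * x⁻¹ * y⁻¹ = x * (y * x⁻¹ * y⁻¹) := by group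
      rw [e]
      exact h4
    rw [hEF, mem_bot] at h3
    rw [mul_inv_eq_one, mul_inv_eq_iff_eq_mul] at h3
    exact h3
  -- `v₁`, `v₂` are central in `N₁N₂`
  have c11 : ∀ x ∈ NN v₁ V₂, x * v₁ = v₁ * x := fun x hx =>
    (mem_centralizer_iff.1 (NN_comm hb hx) v₁ hv).symm
  have c12 : ∀ x ∈ NN v₁ V₂, x * v₂ = v₂ * x := fun x hx => mem_cz.1 (NN_le_cz2 hb hx)
  have c21 : ∀ y ∈ NN v₂ V₁, y * v₁ = v₁ * y := fun y hy => mem_cz.1 (NN_le_cz2 hb.symm hy)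
  have c22 : ∀ y ∈ NN v₂ V₁, y * v₂ = v₂ * y := fun y hy => (mem_centralizer_iff.1 (NN_comm hb.symm hy) v₂ hv2).symm
  have key : ∀ x ∈ NN v₁ V₂, ∀ y ∈ E, x * y = y * x := by
    intro x hx y hy
    rcases h1 x hx with h3 | h3
    · exact hFEc x h3 y hy
    · have h4 := hFEc _ h3 y hy
      have h5 : x * y * v₁ = y * x * v₁ := by
        calc x * y * v₁ = x * (y * v₁) := by group
          _ = x * v₁ * y := by rw [c21 y hy.1]; group
          _ = y * x * v₁ := by rw [h4]; group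
      exact mul_right_cancel h5
  intro x hx
  rw [mem_centralizer_iff]
  intro y hy
  rcases h2 y hy with h3 | h3
  · exact (key x hx y h3).symm
  · have h4 := key x hx _ h3
    have h5 : y * x * v₂ = x * y * v₂ := by
      calc y * x * v₂ = y * (x * v₂) := by group
        _ = y * v₂ * x := by rw [c12 x hx]; group
        _ = x * y * v₂ := by rw [← h4]; group
    exact mul_right_cancel h5

end

/-! ### The form and `N'` -/

section form

variable {C V W N : Subgroup G} {v r v' w l : G} (S : Side V W N v v' w l) (o : GOrth C N r v)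
  (hC : centralizer ({v} : Set G) ≤ C)
include S o hC

theorem N'_C : MulAut.conj l • N ≤ C := (S.N'_V.trans S.centralizer_V_le).trans hC

/-- `C_N(N') ⊥ R` -/
theorem perp_R {x : G} (hx : x ∈ N) (hxc : ∀ y ∈ MulAut.conj l • N, y * x * y⁻¹ = x) :
    ∀ t ∈ ⁅N, MulAut.conj l • N⁆, Bg C r x t = 0 := by
  have hs := sy_of o
  have hle : ⁅N, MulAut.conj l • N⁆ ≤ hs.pp hx := by
    rw [Subgroup.commutator_le]
    intro n hn y hy
    have hyC := N'_C S o hC hy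
    have h1 : y * n⁻¹ * y⁻¹ ∈ N := o.nor y hyC _ (inv_mem hn)
    have e : ⁅n, y⁆ = n * (y * n⁻¹ * y⁻¹) := by rw [commutatorElement_def]; group
    refine ⟨by rw [e]; exact mul_mem hn h1, ?_⟩
    rw [e, o.add x hx n hn _ h1]
    nth_rewrite 2 [← hxc y hy]
    rw [o.B_inv hyC hx (inv_mem hn), hs.iv hn, z2_self]
  exact fun t ht => (hle ht).2

/-- `C_N(N') = R^⊥` -/
theorem cent_of_perp {x : G} (hx : x ∈ N) (hxp : ∀ t ∈ ⁅N, MulAut.conj l • N⁆, Bg C r x t = 0) :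
    ∀ y ∈ MulAut.conj l • N, y * x * y⁻¹ = x := by
  have hs := sy_of o
  intro y hy
  have hyC := N'_C S o hC hy
  have hR := R_le S
  -- `x⁻¹(y x y⁻¹)` is orthogonal to `N`
  have h1 : ⁅y, x⁆ ∈ ⁅N, MulAut.conj l • N⁆ := by
    have h2 : ⁅x, y⁆ ∈ ⁅N, MulAut.conj l • N⁆ := commutator_mem_commutator hx hy
    rw [← commutatorElement_inv] 
    exact inv_mem h2
  have h2 : ∀ n ∈ N, Bg C r ⁅y, x⁆ n = 0 := by
    intro n hn
    have e : ⁅y, x⁆ = (y * x * y⁻¹) * x⁻¹ := by rw [commutatorElement_def]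
    have hyx := o.nor y hyC x hx
    rw [e, o.add_left hyx (inv_mem hx) hn, hs.iv hx, hs.inv_left hyC hx hn]
    have hyn := hs.nor' hyC hn
    have e3 : y⁻¹ * n * y = (y⁻¹ * n * y * n⁻¹) * n := by group
    have h4 : y⁻¹ * n * y * n⁻¹ ∈ ⁅N, MulAut.conj l • N⁆ := by
      have h5 : ⁅n, y⁻¹⁆ ∈ ⁅N, MulAut.conj l • N⁆ := commutator_mem_commutator hn (inv_mem hy)
      have h6 := inv_mem h5
      have e6 : (⁅n, y⁻¹⁆)⁻¹ = y⁻¹ * n * y * n⁻¹ := by rw [commutatorElement_def]; group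
      rwa [e6] at h6
    rw [e3, o.add x hx _ (hR h4).1 n hn, hxp _ h4, zero_add, z2_self]
  rcases o.rad _ (hR h1).1 h2 with h3 | h3
  · rw [commutatorElement_def, mul_inv_eq_one] at h3
    exact h3
  · exact absurd (h3 ▸ (hR h1).2) S.v_not_mem

theorem R_iso : ∀ x ∈ ⁅N, MulAut.conj l • N⁆, ∀ y ∈ ⁅N, MulAut.conj l • N⁆, Bg C r x y = 0 := by
  intro x hx
  have hR := R_le S
  refine perp_R S o hC (hR hx).1 fun y hy => ?_
  have hx' : x ∈ MulAut.conj l • N := (hR hx).2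
  rw [mem_conj] at hy hx'
  have h1 := (sy_of o).mc hy hx'
  have h2 := congrArg (fun t => l * t * l⁻¹) h1
  have e1 : l * (l⁻¹ * y * l * (l⁻¹ * x * l)) * l⁻¹ = y * x := by group
  have e2 : l * (l⁻¹ * x * l * (l⁻¹ * y * l)) * l⁻¹ = x * y := by group
  rw [e1, e2] at h2
  rw [h2]; group

/-- `|R| ≠ 4`: the alternating argument -/
theorem card_R_ne [Finite G] (hR4 : Nat.card (⁅N, MulAut.conj l • N⁆ : Subgroup G) = 4)
    (hQ : ∀ x ∈ ⁅N, MulAut.conj l • N⁆, Qg C r x = 0) : False := by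
  have hs := sy_of o
  have hR := R_le S
  set R := ⁅N, MulAut.conj l • N⁆ with hRdef
  have hRN : R ≤ N := hR.trans inf_le_left
  have hvv := S.vv
  -- a basis of `R`
  obtain ⟨a, ha, ha1⟩ : ∃ a ∈ R, a ≠ 1 := by
    by_contra hcon
    push Not at hcon
    have h1 : R ≤ ⊥ := fun x hx => by rw [mem_bot]; exact hcon x hx
    have h2 := Subgroup.card_le_of_le h1
    rw [Subgroup.card_bot] at h2
    omega
  obtain ⟨b, hb, hb1, hba⟩ : ∃ b ∈ R, b ≠ 1 ∧ b ≠ a := by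
    by_contra hcon
    push Not at hcon
    have h1 : R ≤ zpowers a := fun x hx => by
      by_cases hx1 : x = 1
      · rw [hx1]; exact one_mem _
      · rw [hcon x hx hx1]; exact mem_zpowers _
    have h2 := Subgroup.card_le_of_le h1
    rw [Nat.card_zpowers] at h2
    have h3 : orderOf a ≤ 2 := orderOf_le_of_pow_eq_one (by norm_num) (by rw [pow_two, o.sq a (hRN ha)])
    omega
  have hmem : ∀ x ∈ R, x = 1 ∨ x = a ∨ x = b ∨ x = a * b := fun x hx =>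
    four_mem hR4 (fun y hy => o.sq y (hRN hy)) ha hb ha1 hb1 (Ne.symm hba) hx
  have vR : v ∉ R := fun e => S.v_not_mem (hR e).2
  have nz : ∀ t ∈ R, t ≠ 1 → t ∉ zpowers v := fun t ht ht1 e => by
    rcases (mem_zp2 hvv).1 e with h1 | h1
    · exact ht1 h1
    · exact vR (h1 ▸ ht)
  have hab1 : a * b ≠ 1 := fun e => hba (by
    calc b = a * (a * b) := by rw [← mul_assoc, o.sq a (hRN ha), one_mul]
      _ = a := by rw [e, mul_one])
  have haN := hRN ha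
  have hbN := hRN hb
  have nab := nz _ (mul_mem ha hb) hab1
  -- dual basis
  obtain ⟨x, hx, ax, bx⟩ := hs.sep2 haN hbN (nz a ha ha1) nab
  obtain ⟨y, hy, byy, ay⟩ := hs.sep2 hbN haN (nz b hb hb1) (by rwa [hs.mc hbN haN])
  -- `β_c(n) = n⁻¹ (c n c⁻¹)`
  have hcR : ∀ n ∈ N, ∀ c ∈ MulAut.conj l • N, n⁻¹ * (c * n * c⁻¹) ∈ R := by
    intro n hn c hc
    have h5 : ⁅n⁻¹, c⁆ ∈ ⁅N, MulAut.conj l • N⁆ := commutator_mem_commutator (inv_mem hn) hc
    have e : ⁅n⁻¹, c⁆ = n⁻¹ * (c * n * c⁻¹) := by rw [commutatorElement_def]; group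
    rwa [e] at h5
  have hCc : ∀ c ∈ MulAut.conj l • N, c ∈ C := fun c hc => N'_C S o hC hc
  have hself : ∀ n ∈ N, ∀ c ∈ MulAut.conj l • N, Bg C r n (n⁻¹ * (c * n * c⁻¹)) = 0 := by
    intro n hn c hc
    unfold Bg
    rw [mul_inv_cancel_left, o.inv c (hCc c hc) n hn, hQ _ (hcR n hn c hc), add_zero, z2_self]
  have hsymm : ∀ n ∈ N, ∀ n' ∈ N, ∀ c ∈ MulAut.conj l • N,
      Bg C r n (n'⁻¹ * (c * n' * c⁻¹)) = Bg C r n' (n⁻¹ * (c * n * c⁻¹)) := by
    intro n hn n' hn' c hc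
    have h1 := hself (n * n') (mul_mem hn hn') c hc
    have e : (n * n')⁻¹ * (c * (n * n') * c⁻¹) = (n⁻¹ * (c * n * c⁻¹)) * (n'⁻¹ * (c * n' * c⁻¹)) := by
      have h2 : (n * n')⁻¹ * (c * (n * n') * c⁻¹) = n'⁻¹ * (n⁻¹ * (c * n * c⁻¹)) * (c * n' * c⁻¹) := by group
      rw [h2, hs.mc (inv_mem hn') (hRN (hcR n hn c hc)), mul_assoc]
    rw [e] at h1
    have p1 := hRN (hcR n hn c hc)
    have p2 := hRN (hcR n' hn' c hc)
    rw [o.add _ (mul_mem hn hn') _ p1 _ p2, o.add_left hn hn' p1, o.add_left hn hn' p2, hself n hn c hc,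
      hself n' hn' c hc, zero_add, add_zero] at h1
    rcases z2 (Bg C r n (n'⁻¹ * (c * n' * c⁻¹))) with h2 | h2 <;>
      rcases z2 (Bg C r n' (n⁻¹ * (c * n * c⁻¹))) with h3 | h3
    · rw [h2, h3]
    · rw [h2, h3] at h1; exact absurd h1 (by decide)
    · rw [h2, h3] at h1; exact absurd h1 (by decide)
    · rw [h2, h3]
  -- an element of `R` orthogonal to `x` and `y` is 1
  have hxyR : ∀ t ∈ R, Bg C r x t = 0 → Bg C r y t = 0 → t = 1 := by
    intro t ht h1 h2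
    rw [o.comm _ haN _ hx] at ax
    rw [o.comm _ hbN _ hx] at bx
    rw [o.comm _ hbN _ hy] at byy
    rw [o.comm _ haN _ hy] at ay
    rcases hmem t ht with h3 | h3 | h3 | h3
    · exact h3
    · rw [h3, ax] at h1; exact absurd h1 (by decide)
    · rw [h3, byy] at h2; exact absurd h2 (by decide)
    · rw [h3, o.add x hx a haN b hbN, ax, bx] at h1; exact absurd h1 (by decide)
  -- `Z = R^⊥`
  have hZ : ∀ n ∈ N, Bg C r a n = 0 → Bg C r b n = 0 → ∀ c ∈ MulAut.conj l • N, c * n * c⁻¹ = n := by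
    intro n hn h1 h2
    refine cent_of_perp S o hC hn fun t ht => ?_
    rw [o.comm _ hn _ (hRN ht)]
    rcases hmem t ht with rfl | rfl | rfl | rfl
    · rw [o.comm _ N.one_mem _ hn]; exact GOrth.Bone
    · exact h1
    · exact h2
    · rw [o.add_left haN hbN hn, h1, h2, add_zero]
  -- if `f_c = 0` then `c` centralises `N`
  have hf0 : ∀ c ∈ MulAut.conj l • N, Bg C r x (y⁻¹ * (c * y * c⁻¹)) = 0 → c ∈ centralizer (N : Set G) := by
    intro c hc h0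
    have hy1 : y⁻¹ * (c * y * c⁻¹) = 1 := hxyR _ (hcR y hy c hc) h0 (hself y hy c hc)
    have hx1 : x⁻¹ * (c * x * c⁻¹) = 1 := hxyR _ (hcR x hx c hc) (hself x hx c hc)
      (by rw [hsymm y hy x hx c hc]; exact h0)
    have hy2 : c * y * c⁻¹ = y := (inv_mul_eq_one.1 hy1).symm
    have hx2 : c * x * c⁻¹ = x := (inv_mul_eq_one.1 hx1).symm
    rw [mem_centralizer_iff]
    intro n hn
    -- `n = z x^i y^j`
    have step : ∀ m ∈ N, Bg C r a m = 0 → c * m * c⁻¹ = m := by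
      intro m hm h1
      rcases z2 (Bg C r b m) with h2 | h2
      · exact hZ m hm h1 h2 c hc
      · have h3 := hZ (m * y) (mul_mem hm hy) (by rw [o.add a haN m hm y hy, h1, ay, add_zero])
          (by rw [o.add b hbN m hm y hy, h2, byy]; decide) c hc
        have e : c * (m * y) * c⁻¹ = c * m * c⁻¹ * (c * y * c⁻¹) := by group
        rw [e, hy2] at h3
        exact mul_right_cancel h3
    have h4 : c * n * c⁻¹ = n := by
      rcases z2 (Bg C r a n) with h1 | h1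
      · exact step n hn h1
      · have h3 := step (n * x) (mul_mem hn hx) (by rw [o.add a haN n hn x hx, h1, ax]; decide)
        have e : c * (n * x) * c⁻¹ = c * n * c⁻¹ * (c * x * c⁻¹) := by group
        rw [e, hx2] at h3
        exact mul_right_cancel h3
    exact (mul_inv_eq_iff_eq_mul.1 h4).symm
  -- `f` is additive
  have hN'ab : ∀ p ∈ MulAut.conj l • N, ∀ q ∈ MulAut.conj l • N, p * q = q * p := by
    intro p hp q hq
    rw [mem_conj] at hp hq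
    have h1 := hs.mc hp hq
    have h2 := congrArg (fun t => l * t * l⁻¹) h1
    simpa [mul_assoc] using h2
  have hadd : ∀ c ∈ MulAut.conj l • N, ∀ c' ∈ MulAut.conj l • N,
      Bg C r x (y⁻¹ * (c * c' * y * (c * c')⁻¹)) =
        Bg C r x (y⁻¹ * (c * y * c⁻¹)) + Bg C r x (y⁻¹ * (c' * y * c'⁻¹)) := by
    intro c hc c' hc'
    have p1 := hcR y hy c hc
    have p2 := hcR y hy c' hc'
    have e : y⁻¹ * (c * c' * y * (c * c')⁻¹) =
        (y⁻¹ * (c * y * c⁻¹)) * (c * (y⁻¹ * (c' * y * c'⁻¹)) * c⁻¹) := by group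
    have e2 : c * (y⁻¹ * (c' * y * c'⁻¹)) * c⁻¹ = y⁻¹ * (c' * y * c'⁻¹) := by
      rw [hN'ab c hc _ (hR p2).2, mul_inv_cancel_right]
    rw [e, e2, o.add x hx _ (hRN p1) _ (hRN p2)]
  -- `|N' : C_{N'}(N)| ≤ 2`
  have h1 : Nat.card (MulAut.conj l • N : Subgroup G) ≤
      2 * Nat.card (centralizer (N : Set G) ⊓ MulAut.conj l • N : Subgroup G) := by
    refine card_le_two_mul fun c hc c' hc' hcn hcn' => ?_
    have hc0 : Bg C r x (y⁻¹ * (c * y * c⁻¹)) = 1 := (z2 _).resolve_left fun e => hcn (hf0 c hc e)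
    have hc0' : Bg C r x (y⁻¹ * (c' * y * c'⁻¹)) = 1 := (z2 _).resolve_left fun e => hcn' (hf0 c' hc' e)
    refine hf0 _ (mul_mem (inv_mem hc) hc') ?_
    have h2 := hadd c hc (c⁻¹ * c') (mul_mem (inv_mem hc) hc')
    rw [mul_inv_cancel_left, hc0, hc0'] at h2
    rcases z2 (Bg C r x (y⁻¹ * (c⁻¹ * c' * y * (c⁻¹ * c')⁻¹))) with h3 | h3
    · exact h3
    · rw [h3] at h2; exact absurd h2 (by decide)
  -- `|N : C_N(N')| = 4`
  have a1 : Nat.card N = 2 * Nat.card (hs.pp haN) :=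
    card_ker (f := Bg C r a) (fun x hx y hy => o.add a haN x hx y hy) (fun x => Iff.rfl) ⟨x, hx, ax⟩
  have a2 : Nat.card (hs.pp haN) = 2 * Nat.card (hs.pp haN ⊓ hs.pp hbN : Subgroup G) :=
    card_ker (f := Bg C r b) (fun x hx y hy => o.add b hbN x hx.1 y hy.1)
      (fun x => ⟨fun hx => ⟨hx.1, hx.2.2⟩, fun hx => ⟨hx.1, hx.1.1, hx.2⟩⟩) ⟨y, ⟨hy, ay⟩, byy⟩
  have a3 : (hs.pp haN ⊓ hs.pp hbN : Subgroup G) =
      N ⊓ centralizer ((MulAut.conj l • N : Subgroup G) : Set G) := by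
    ext n
    constructor
    · rintro ⟨h2, h3⟩
      refine ⟨h2.1, mem_centralizer_iff.2 fun c hc => ?_⟩
      exact mul_inv_eq_iff_eq_mul.1 (hZ n h2.1 h2.2 h3.2 c hc)
    · rintro ⟨h2, h3⟩
      have h4 := perp_R S o hC h2 fun c hc => by
        rw [mem_centralizer_iff.1 h3 c hc, mul_inv_cancel_right]
      exact ⟨⟨h2, by rw [o.comm _ haN _ h2]; exact h4 a ha⟩, ⟨h2, by rw [o.comm _ hbN _ h2]; exact h4 b hb⟩⟩
  have a4 := S.card_cent
  have a5 : Nat.card (MulAut.conj l • N : Subgroup G) = Nat.card N := Side.card_conj l N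
  rw [inf_comm] at h1
  rw [a3, a4] at a2
  have a6 : 0 < Nat.card ((MulAut.conj l • N) ⊓ centralizer (N : Set G) : Subgroup G) := Nat.card_pos
  omega

end form

/-! ### The theorem -/

/-- The plane `R = [N₁, N₁^l]`. -/
structure Plane (V₁ V₂ : Subgroup G) (v₁ v₂ v' w l : G) : Prop where
  side : Side V₁ V₂ (nc v₁ {v₂}) v₁ v' w l
  rk : Rk (cz v₁) (nc v₁ {v₂}) ⁅nc v₁ {v₂}, MulAut.conj l • nc v₁ {v₂}⁆ v₂ v₁
  V2R : V₂ ≤ ⁅nc v₁ {v₂}, MulAut.conj l • nc v₁ {v₂}⁆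
  four : 4 < Nat.card (⁅nc v₁ {v₂}, MulAut.conj l • nc v₁ {v₂}⁆ : Subgroup G)
  /-- `F₁` normalises `V₁` -/
  F1 : cz v₁ ⊓ centralizer (nc v₁ {v₂} : Set G) ≤ normalizer (V₁ : Set G)
  /-- `N_{C₁}(V₁)` normalises `R` -/
  nor : cz v₁ ⊓ normalizer (V₁ : Set G) ≤ normalizer ((⁅nc v₁ {v₂}, MulAut.conj l • nc v₁ {v₂}⁆ : Subgroup G) : Set G)

section main

variable [Finite G] {T V₁ V₂ L₁ L₂ : Subgroup G} {v₁ v₂ s : G}

/-- **DIAGRAM + IDENTITY** -/
theorem exists_plane (h : One T V₁ V₂ L₁ L₂ v₁ v₂ s)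
    (hI : ∃ x ∈ nc v₁ {v₂}, ∃ y ∈ nc v₂ {v₁}, x * y ≠ y * x) {v' : G} (hv' : v' ∈ V₁) (hv'1 : v' ≠ 1)
    (hv'v : v' ≠ v₁) : ∃ w, ∃ l ∈ L₁, Plane V₁ V₂ v₁ v₂ v' w l := by
  have hb := h.toBase
  have o₁ := h.orth hI
  have o₂ := h.symm.orth (One.hI_symm hI)
  have hv : v₁ ∈ NN v₁ V₂ := by
    have := h.v1_mem hI
    rwa [hb.N1_eq] at this
  have hv2 : v₂ ∈ NN v₂ V₁ := by
    have := h.symm.v1_mem (One.hI_symm hI)
    rwa [hb.symm.N1_eq] at this
  have hB : ¬ NN v₁ V₂ ≤ centralizer (NN v₂ V₁ : Set G) := by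
    intro hc
    obtain ⟨x, hx, y, hy, hne⟩ := hI
    rw [hb.N1_eq] at hx
    rw [hb.symm.N1_eq] at hy
    exact hne (mem_centralizer_iff.1 (hc hx) y hy).symm
  obtain ⟨w, l, hl, S1⟩ := exists_side h hb.V1_le_Q hb.Kk_le_Q hv hv' hv'1 hv'v
  have hv2' : s * v' * s⁻¹ ∈ V₂ := h.s1 v' hv'
  have hv2'1 : s * v' * s⁻¹ ≠ 1 := fun e => hv'1 (by
    calc v' = s⁻¹ * (s * v' * s⁻¹) * s := by group
      _ = 1 := by rw [e]; group)
  have hv2'v : s * v' * s⁻¹ ≠ v₂ := fun e => hv'v (by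
    calc v' = s⁻¹ * (s * v' * s⁻¹) * s := by group
      _ = s⁻¹ * (s * v₁ * s⁻¹) * s := by rw [e, h.sv1]
      _ = v₁ := by group)
  obtain ⟨w2, l2, hl2, S2⟩ := exists_side h.symm hb.symm.V1_le_Q hb.symm.Kk_le_Q hv2 hv2' hv2'1 hv2'v
  have S : Side V₁ V₂ (nc v₁ {v₂}) v₁ v' w l := by rw [hb.N1_eq]; exact S1
  have hF := F_le h o₂ o₁ hI S
  have hR := R_le S
  set R : Subgroup G := ⁅nc v₁ {v₂}, MulAut.conj l • nc v₁ {v₂}⁆ with hRdef
  have hRN : R ≤ nc v₁ {v₂} := hR.trans inf_le_left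
  -- `N_{C₁}(V₁) ≤ N(R)`
  have hnor : ∀ t ∈ cz v₁, t * v' * t⁻¹ ∈ V₁ → t ∈ normalizer (R : Set G) := fun t ht htV =>
    mem_normalizer_of_conj (conj_R S ht htV)
  have hTR : T ≤ normalizer (R : Set G) := fun t ht => hnor t (hb.T_le ht) (h.T1 t ht _ hv')
  have hL2R : L₂ ≤ normalizer (R : Set G) := fun t ht => hnor t (hb.L2_le ht) (by
    rw [h.L21 t ht v' hv', mul_inv_cancel_right]; exact hv')
  have v1R : v₁ ∉ R := fun e => S.v_not_mem (hR e).2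
  -- `R ≠ 1`
  have hRne : R ≠ ⊥ := by
    intro h0
    rw [hRdef, hb.N1_eq] at h0
    have h1 : MulAut.conj l • NN v₁ V₂ ≤ centralizer (NN v₁ V₂ : Set G) := by
      rw [commutator_comm] at h0
      exact commutator_eq_bot_iff_le_centralizer.1 h0
    have h2 : centralizer (NN v₁ V₂ : Set G) ≤ normalizer (V₁ : Set G) := by
      refine le_trans (le_inf ?_ ?_) hF
      · refine centralizer_le ?_
        rintro _ rfl
        exact hv
      · rw [hb.N1_eq]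
    have h3 := S1.card_le h1 h2
    have hle : NN v₁ V₂ ⊓ MulAut.conj l • NN v₁ V₂ ≤ NN v₁ V₂ := inf_le_left
    have h4 := two_mul_card_le hle ⟨v₁, hv, fun e => S1.v_not_mem e.2⟩
    have h5 : ((NN v₁ V₂ ⊓ MulAut.conj l • NN v₁ V₂).subgroupOf (NN v₁ V₂)).index = 2 := by
      have h6 := ((NN v₁ V₂ ⊓ MulAut.conj l • NN v₁ V₂).subgroupOf (NN v₁ V₂)).card_mul_index
      rw [Nat.card_congr (subgroupOfEquivOfLe hle).toEquiv] at h6
      have h7 : 0 < Nat.card (NN v₁ V₂ ⊓ MulAut.conj l • NN v₁ V₂ : Subgroup G) := Nat.card_pos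
      have h8 : Nat.card (NN v₁ V₂) = Nat.card (NN v₁ V₂ ⊓ MulAut.conj l • NN v₁ V₂ : Subgroup G) * 2 := by omega
      rw [h8] at h6
      exact Nat.eq_of_mul_eq_mul_left h7 h6
    refine not_index_two h hB hv S1 S2 fun x hx => ?_
    by_cases hxF : x ∈ NN v₁ V₂ ⊓ MulAut.conj l • NN v₁ V₂
    · exact Or.inl hxF
    · right
      have h6 := (mul_mem_iff_of_index_two h5 (a := ⟨x, hx⟩) (b := ⟨v₁, hv⟩)).2
        ⟨fun e => absurd e hxF, fun e => absurd e.2 S1.v_not_mem⟩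
      exact h6
  -- `V₂ ≤ R`
  have v2R : v₂ ∈ R := by
    obtain ⟨x, hx, hx1, hxT⟩ := NoFF.LinesPlug.exists_fixed h.pT (hRN.trans hb.N1_le_T) hTR hRne
    refine hb.no_compl hL2R ?_
    rcases hb.N1_fix (hRN hx) hxT with e | e | e | e
    · exact absurd e hx1
    · exact absurd (e ▸ hx) v1R
    · exact Or.inl (e ▸ hx)
    · exact Or.inr (e ▸ hx)
  have hV2R : V₂ ≤ R := hb.symm.V1_le_of hL2R v2R
  have hiso := R_iso S o₁ le_rfl
  -- `|R| > 4`
  have h4 : 4 < Nat.card R := by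
    have h5 := Subgroup.card_le_of_le hV2R
    rw [h.card2] at h5
    rcases Nat.lt_or_ge 4 (Nat.card R) with h6 | h6
    · exact h6
    · exfalso
      have h7 : V₂ = R := Subgroup.eq_of_le_of_card_ge hV2R (by rw [h.card2]; exact h6)
      exact card_R_ne S o₁ le_rfl (by rw [← hRdef, ← h7, h.card2]) fun x hx => h.Q_V2 (h7 ▸ hx)
  -- the pigeon
  have hs := sy_perp (sy_of o₂) o₂.r_mem
  obtain ⟨hxp, hxy⟩ := pt_mem h o₂ hb hv' hv'1 hv'v
  have hst : ∀ m ∈ cz v₁ ⊓ centralizer {v₂}, m * v' * m⁻¹ * v' ∈ yr (sy_of o₂) o₂.r_mem → m ∈ normalizer (R : Set G) := by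
    intro m hm e
    have h5 := (stab_iff h o₂ hv' hv'1 hv'v ⟨hm.2, hm.1⟩).1 e
    exact hnor m hm.1 ((mem_normalizer_iff.1 h5 _).1 hv')
  refine ⟨w, l, hl, ⟨S, ⟨o₁, hRN, v2R, h.v2, v1R, hiso, ?_⟩, hV2R, h4, hF, ?_⟩⟩
  · intro m₁ hm₁ m₂ hm₂ m₃ hm₃ n1 n2 n3
    have dn : ∀ m m', Sy.DC (cz v₂ ⊓ centralizer {v₁}) (yr (sy_of o₂) o₂.r_mem) v' m m' → DN (cz v₁) R m m' := by
      rintro m m' ⟨a, ha, b, hb', ea, eb, e⟩
      exact ⟨a, ⟨ha.2, hst a ⟨ha.2, ha.1⟩ ea⟩, b, ⟨hb'.2, hst b ⟨hb'.2, hb'.1⟩ eb⟩, e⟩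
    rcases hs.pigeon hxp hxy ⟨hm₁.2, hm₁.1⟩ ⟨hm₂.2, hm₂.1⟩ ⟨hm₃.2, hm₃.1⟩ (fun e => n1 (hst _ hm₁ e))
      (fun e => n2 (hst _ hm₂ e)) (fun e => n3 (hst _ hm₃ e)) with h5 | h5 | h5
    · exact Or.inl (dn _ _ h5)
    · exact Or.inr (Or.inl (dn _ _ h5))
    · exact Or.inr (Or.inr (dn _ _ h5))
  · intro m hm
    exact hnor m hm.1 ((mem_normalizer_iff.1 hm.2 _).1 hv')

/-- `|N₁| = 2⁷` -/
theorem card_N1 (h : One T V₁ V₂ L₁ L₂ v₁ v₂ s)
    (hI : ∃ x ∈ nc v₁ {v₂}, ∃ y ∈ nc v₂ {v₁}, x * y ≠ y * x) : Nat.card (nc v₁ {v₂}) = 128 := by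
  obtain ⟨x, hx, hx1, hxv⟩ := exists_x h
  obtain ⟨w, l, hl, P⟩ := exists_plane h hI hx hx1 hxv
  exact P.rk.card_N P.four

end main

end Cfsg.Agent.Omega.IId.PlaneOf
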