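import Cfsg.Agent.Omega.IId.SpSide

/-!
# II.d, CASE 1, `q = 2`: the quadratic form of the `O₅(2)`-module `N₁` (#14451 (d))

`QF N C v Q` : `Q : G → ZMod 2` restricted to the elementary abelian group `N` is a quadratic form with
biadditive polar form `pol Q`, invariant under the subgroup `C`, `Q v = 1` and `rad = {1, v}`.
-/

set_option autoImplicit false

namespace Cfsg.Agent.Omega.IId.SpForm

open Subgroup Cfsg.Agent.Omega.NoFF.Basic Cfsg Cfsg.Agent.ZN Cfsg.Agent.Omega.IId.SpSide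
open scoped Pointwise

variable {G : Type*} [Group G]

/-- polar form -/
def pol (Q : G → ZMod 2) (x y : G) : ZMod 2 := Q (x * y) + Q x + Q y

/-- a quadratic form on `N` with radical `⟨v⟩` -/
structure QF (N C : Subgroup G) (v : G) (Q : G → ZMod 2) : Prop where
  add : ∀ x ∈ N, ∀ y ∈ N, ∀ z ∈ N, pol Q (x * y) z = pol Q x z + pol Q y z
  inv : ∀ c ∈ C, ∀ x ∈ N, Q (c * x * c⁻¹) = Q x
  Qv : Q v = 1
  vrad : ∀ y ∈ N, pol Q v y = 0
  rad : ∀ x ∈ N, (∀ y ∈ N, pol Q x y = 0) → x = 1 ∨ x = v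

theorem z2 (a : ZMod 2) : a = 0 ∨ a = 1 := by
  revert a; decide

theorem z2_add (a : ZMod 2) : a + a = 0 := by
  revert a; decide

namespace QF

variable {N C : Subgroup G} {v : G} {Q : G → ZMod 2} (q : QF N C v Q)
include q

theorem one_left {z : G} (hz : z ∈ N) : pol Q 1 z = 0 := by
  have := q.add 1 N.one_mem 1 N.one_mem z hz
  rw [one_mul, z2_add] at this
  exact this

theorem Q_one : Q 1 = 0 := by
  have := q.one_left N.one_mem
  unfold pol at this
  rw [one_mul, z2_add, zero_add] at this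
  exact this

theorem pol_inv {c : G} (hc : c ∈ C) {x y : G} (hx : x ∈ N) (hy : y ∈ N) :
    pol Q (c * x * c⁻¹) (c * y * c⁻¹) = pol Q x y := by
  unfold pol
  have h1 : c * x * c⁻¹ * (c * y * c⁻¹) = c * (x * y) * c⁻¹ := by group
  rw [h1, q.inv c hc _ (N.mul_mem hx hy), q.inv c hc x hx, q.inv c hc y hy]

end QF

/-- The data of (d): `N = N₁`, `N' = N₁'`, `W = V₂`, `F = N ∩ N' = W`. -/
structure Alt (N N' W : Subgroup G) (v : G) (Q : G → ZMod 2) : Prop where
  ab : ∀ x ∈ N, ∀ y ∈ N, x * y = y * x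
  ab' : ∀ x ∈ N', ∀ y ∈ N', x * y = y * x
  sq : ∀ x ∈ N, x * x = 1
  WN : W ≤ N
  WN' : W ≤ N'
  vN : v ∈ N
  v1 : v ≠ 1
  vN' : ∀ b ∈ N', b * v = v * b
  cm : ∀ x ∈ N, ∀ b ∈ N', x⁻¹ * (b * x * b⁻¹) ∈ W
  add : ∀ x ∈ N, ∀ y ∈ N, ∀ z ∈ N, pol Q (x * y) z = pol Q x z + pol Q y z
  inv : ∀ b ∈ N', ∀ x ∈ N, Q (b * x * b⁻¹) = Q x
  Qv : Q v = 1
  rad : ∀ x ∈ N, (∀ y ∈ N, pol Q x y = 0) → x = 1 ∨ x = v
  QW : ∀ x ∈ W, Q x = 0
  perp : ∀ x ∈ N, (∀ y ∈ W, pol Q x y = 0) → x ∈ W ∨ x * v ∈ W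
  W4 : ∀ a ∈ W, ∀ b ∈ W, a ≠ 1 → b ≠ 1 → a ≠ b → ∀ x ∈ W, x = 1 ∨ x = a ∨ x = b ∨ x = a * b

namespace Alt

variable {N N' W : Subgroup G} {v : G} {Q : G → ZMod 2} (h : Alt N N' W v Q)
include h

/-- `β_b(x) = [x, b]` -/
theorem pol_beta {x b : G} (hx : x ∈ N) (hb : b ∈ N') : pol Q x (x⁻¹ * (b * x * b⁻¹)) = 0 := by
  unfold pol
  have h1 : x * (x⁻¹ * (b * x * b⁻¹)) = b * x * b⁻¹ := by group
  rw [h1, h.inv b hb x hx, h.QW _ (h.cm x hx b hb), add_zero, z2_add]

theorem comm {x y : G} (hx : x ∈ N) (hy : y ∈ N) : pol Q x y = pol Q y x := by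
  unfold pol
  rw [h.ab x hx y hy]; ring

theorem add' {x y z : G} (hx : x ∈ N) (hy : y ∈ N) (hz : z ∈ N) : pol Q z (x * y) = pol Q z x + pol Q z y := by
  rw [h.comm hz (N.mul_mem hx hy), h.add x hx y hy z hz, h.comm hx hz, h.comm hy hz]

theorem beta_mul {x y b : G} (hx : x ∈ N) (hy : y ∈ N) (hb : b ∈ N') :
    (x * y)⁻¹ * (b * (x * y) * b⁻¹) = (x⁻¹ * (b * x * b⁻¹)) * (y⁻¹ * (b * y * b⁻¹)) := by
  have h1 := h.WN (h.cm x hx b hb)
  have h2 : (x * y)⁻¹ * (b * (x * y) * b⁻¹) = y⁻¹ * (x⁻¹ * (b * x * b⁻¹)) * (b * y * b⁻¹) := by group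
  rw [h2, h.ab _ (N.inv_mem hy) _ h1, mul_assoc]

/-- `f(x, β_b(y)) = f(y, β_b(x))` -/
theorem pol_symm {x y b : G} (hx : x ∈ N) (hy : y ∈ N) (hb : b ∈ N') :
    pol Q x (y⁻¹ * (b * y * b⁻¹)) = pol Q y (x⁻¹ * (b * x * b⁻¹)) := by
  have h1 := h.pol_beta (N.mul_mem hx hy) hb
  have hbx := h.WN (h.cm x hx b hb)
  have hby := h.WN (h.cm y hy b hb)
  rw [h.beta_mul hx hy hb, h.add x hx y hy _ (N.mul_mem hbx hby), h.add' hbx hby hx, h.add' hbx hby hy,
    h.pol_beta hx hb, h.pol_beta hy hb, zero_add, add_zero] at h1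
  rcases z2 (pol Q x (y⁻¹ * (b * y * b⁻¹))) with h2 | h2 <;> rcases z2 (pol Q y (x⁻¹ * (b * x * b⁻¹))) with h3 | h3
  · rw [h2, h3]
  · rw [h2, h3] at h1; exact absurd h1 (by decide)
  · rw [h2, h3] at h1; exact absurd h1 (by decide)
  · rw [h2, h3]

theorem one_right {x : G} (hx : x ∈ N) : pol Q x 1 = 0 := by
  have h1 := h.add 1 N.one_mem 1 N.one_mem x hx
  rw [one_mul, z2_add] at h1
  rw [h.comm hx N.one_mem]
  exact h1

theorem ne_rad {m : G} (hm : m ∈ W) (hm1 : m ≠ 1) : ∃ y ∈ N, pol Q m y = 1 := by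
  by_contra hcon
  push Not at hcon
  rcases h.rad m (h.WN hm) fun y hy => (z2 _).resolve_right (hcon y hy) with h1 | h1
  · exact hm1 h1
  · have := h.QW m hm
    rw [h1, h.Qv] at this
    exact absurd this (by decide)

/-- Claim A: if `β_b ≠ 1`, the kernel of `β_b` is `W⟨v⟩`. -/
theorem claimA {b x y : G} (hb : b ∈ N') (hx : x ∈ N) (hbx : x⁻¹ * (b * x * b⁻¹) ≠ 1) (hy : y ∈ N)
    (hby : y⁻¹ * (b * y * b⁻¹) = 1) : y ∈ W ∨ y * v ∈ W := by
  have hm := h.cm x hx b hb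
  obtain ⟨y0, hy0, h0⟩ := h.ne_rad hm hbx
  have h1 : pol Q x (y0⁻¹ * (b * y0 * b⁻¹)) = 1 := by
    rw [h.pol_symm hx hy0 hb, h.comm hy0 (h.WN hm), h0]
  have hm' := h.cm y0 hy0 b hb
  set m := x⁻¹ * (b * x * b⁻¹) with hmdef
  set m' := y0⁻¹ * (b * y0 * b⁻¹) with hm'def
  have hm'1 : m' ≠ 1 := by
    intro e
    rw [e, h.one_right hx] at h1
    exact absurd h1 (by decide)
  have hmm' : m ≠ m' := by
    intro e
    have h2 := h.pol_beta hx hb
    rw [← hmdef, e, h1] at h2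
    exact absurd h2 (by decide)
  -- `y` is orthogonal to the image of `β_b`
  have key : ∀ z ∈ N, pol Q y (z⁻¹ * (b * z * b⁻¹)) = 0 := by
    intro z hz
    rw [h.pol_symm hy hz hb, hby, h.one_right hz]
  have k1 : pol Q y m = 0 := key x hx
  have k2 : pol Q y m' = 0 := key y0 hy0
  refine h.perp y hy fun w hw => ?_
  rcases h.W4 m hm m' hm' hbx hm'1 hmm' w hw with h3 | h3 | h3 | h3
  · rw [h3, h.one_right hy]
  · rw [h3, k1]
  · rw [h3, k2]
  · rw [h3, h.add' (h.WN hm) (h.WN hm') hy, k1, k2, zero_add]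

/-- `β_b` vanishes on `W⟨v⟩`. -/
theorem beta_one {b y : G} (hb : b ∈ N') (hy : y ∈ W ∨ y * v ∈ W) : b * y = y * b := by
  have h1 : ∀ y ∈ W, b * y = y * b := fun y hy => h.ab' b hb y (h.WN' hy)
  rcases hy with h2 | h2
  · exact h1 y h2
  · have h3 := h1 _ h2
    have h4 := h.vN' b hb
    have h5 : b * y * v = y * b * v := by rw [mul_assoc, h3, mul_assoc, mul_assoc, ← h4]
    exact mul_right_cancel h5

/-- Claim B: two nontrivial `β_b` are equal. -/
theorem claimB {b b' x x' : G} (hb : b ∈ N') (hb' : b' ∈ N') (hx : x ∈ N) (hbx : x⁻¹ * (b * x * b⁻¹) ≠ 1)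
    (hx' : x' ∈ N) (hbx' : x'⁻¹ * (b' * x' * b'⁻¹) ≠ 1) (y : G) (hy : y ∈ N) :
    b * y * b⁻¹ = b' * y * b'⁻¹ := by
  by_cases hyW : y ∈ W ∨ y * v ∈ W
  · rw [h.beta_one hb hyW, h.beta_one hb' hyW]; group
  · have n1 : y⁻¹ * (b * y * b⁻¹) ≠ 1 := fun e => hyW (h.claimA hb hx hbx hy e)
    have n2 : y⁻¹ * (b' * y * b'⁻¹) ≠ 1 := fun e => hyW (h.claimA hb' hx' hbx' hy e)
    have o1 := h.pol_beta hy hb
    have o2 := h.pol_beta hy hb'
    have m1 := h.cm y hy b hb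
    have m2 := h.cm y hy b' hb'
    by_contra hne
    have hne' : y⁻¹ * (b * y * b⁻¹) ≠ y⁻¹ * (b' * y * b'⁻¹) := fun e => hne (mul_left_cancel e)
    apply hyW
    refine h.perp y hy fun w hw => ?_
    rcases h.W4 _ m1 _ m2 n1 n2 hne' w hw with h3 | h3 | h3 | h3
    · rw [h3, h.one_right hy]
    · rw [h3, o1]
    · rw [h3, o2]
    · rw [h3, h.add' (h.WN m1) (h.WN m2) hy, o1, o2, zero_add]

/-- `|N'| ≤ 2 |C_{N'}(N)|` -/
theorem card_le [Finite G] : Nat.card N' ≤ 2 * Nat.card (N' ⊓ centralizer (N : Set G) : Subgroup G) := by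
  rw [inf_comm]
  refine card_le_two_mul fun b hb b' hb' hbC hbC' => ?_
  have key : ∀ b ∈ N', b ∉ centralizer (N : Set G) → ∃ x ∈ N, x⁻¹ * (b * x * b⁻¹) ≠ 1 := by
    intro b _ hbC
    by_contra hcon
    push Not at hcon
    apply hbC
    rw [mem_centralizer_iff]
    intro x hx
    have h1 := inv_mul_eq_one.1 (hcon x hx)
    rw [eq_mul_inv_iff_mul_eq] at h1
    exact h1
  obtain ⟨x, hx, h1⟩ := key b hb hbC
  obtain ⟨x', hx', h1'⟩ := key b' hb' hbC'
  rw [mem_centralizer_iff]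
  intro y hy
  have h2 := h.claimB hb hb' hx h1 hx' h1' y hy
  have h3 : b⁻¹ * (b * y * b⁻¹) * b' = b⁻¹ * (b' * y * b'⁻¹) * b' := by rw [h2]
  calc y * (b⁻¹ * b') = b⁻¹ * (b * y * b⁻¹) * b' := by group
    _ = b⁻¹ * (b' * y * b'⁻¹) * b' := h3
    _ = b⁻¹ * b' * y := by group

/-- If `[N, N'] ≠ 1` then `|C_N(N')| ≤ 2|W|`. -/
theorem card_cent_le [Finite G] (hne : ¬ N' ≤ centralizer (N : Set G)) :
    Nat.card (N ⊓ centralizer (N' : Set G) : Subgroup G) ≤ 2 * Nat.card W := by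
  have h1 : ∃ b ∈ N', ∃ x ∈ N, x⁻¹ * (b * x * b⁻¹) ≠ 1 := by
    by_contra hcon
    push Not at hcon
    apply hne
    intro b hb
    rw [mem_centralizer_iff]
    intro x hx
    have h1 := inv_mul_eq_one.1 (hcon b hb x hx)
    rw [eq_mul_inv_iff_mul_eq] at h1
    exact h1
  obtain ⟨b, hb, x, hx, hbx⟩ := h1
  have key : ∀ y ∈ N ⊓ centralizer (N' : Set G), y ∈ W ∨ y * v ∈ W := by
    rintro y ⟨hy, hyc⟩
    refine h.claimA hb hx hbx hy ?_
    have := mem_centralizer_iff.1 hyc b hb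
    rw [this]; group
  refine (card_le_two_mul (K := W) fun x hx y hy hxW hyW => ?_).trans ?_
  · have h2 := (key x hx).resolve_left hxW
    have h3 := (key y hy).resolve_left hyW
    have h4 := W.mul_mem (W.inv_mem h2) h3
    have h5 : (x * v)⁻¹ * (y * v) = x⁻¹ * y := by
      have e : v⁻¹ * (x⁻¹ * y) = (x⁻¹ * y) * v⁻¹ :=
        h.ab _ (N.inv_mem h.vN) _ (N.mul_mem (N.inv_mem hx.1) hy.1)
      calc (x * v)⁻¹ * (y * v) = v⁻¹ * (x⁻¹ * y) * v := by group
        _ = x⁻¹ * y := by rw [e, inv_mul_cancel_right]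
    rwa [h5] at h4
  · exact Nat.mul_le_mul_left 2 (Subgroup.card_le_of_le inf_le_left)

end Alt

/-! ### Four-groups -/

/-- A group of order 4 and exponent 2 is `{1, a, b, ab}`. -/
theorem four_mem [Finite G] {W : Subgroup G} (hc : Nat.card W = 4) (hsq : ∀ x ∈ W, x * x = 1) {a b : G} (ha : a ∈ W)
    (hb : b ∈ W) (ha1 : a ≠ 1) (hb1 : b ≠ 1) (hab : a ≠ b) {x : G} (hx : x ∈ W) :
    x = 1 ∨ x = a ∨ x = b ∨ x = a * b := by
  classical
  by_contra hcon
  push Not at hcon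
  have c1 : a * b ≠ 1 := fun e => hab (by
    calc a = a * (b * b) := by rw [hsq b hb, mul_one]
      _ = b := by rw [← mul_assoc, e, one_mul])
  have h5 : ({1, a, b, a * b, x} : Finset G).card ≤ 4 := by
    have e1 : Nat.card W = (W : Set G).ncard := rfl
    rw [← hc, e1, ← Set.ncard_coe_finset]
    apply Set.ncard_le_ncard _ (Set.toFinite _)
    intro y hy
    simp only [Finset.coe_insert, Finset.coe_singleton, Set.mem_insert_iff, Set.mem_singleton_iff] at hy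
    rcases hy with rfl | rfl | rfl | rfl | rfl
    · exact one_mem _
    · exact ha
    · exact hb
    · exact mul_mem ha hb
    · exact hx
  have c3 : a ≠ a * b := fun e => hb1 (mul_eq_left.1 e.symm)
  have c4 : b ≠ a * b := fun e => ha1 (mul_eq_right.1 e.symm)
  have : ({1, a, b, a * b, x} : Finset G).card = 5 := by
    rw [Finset.card_insert_of_notMem, Finset.card_insert_of_notMem, Finset.card_insert_of_notMem,
      Finset.card_insert_of_notMem, Finset.card_singleton]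
    · simpa using Ne.symm hcon.2.2.2
    · simp only [Finset.mem_insert, Finset.mem_singleton, not_or]
      exact ⟨c4, Ne.symm hcon.2.2.1⟩
    · simp only [Finset.mem_insert, Finset.mem_singleton, not_or]
      exact ⟨hab, c3, Ne.symm hcon.2.1⟩
    · simp only [Finset.mem_insert, Finset.mem_singleton, not_or]
      exact ⟨Ne.symm ha1, Ne.symm hb1, Ne.symm c1, Ne.symm hcon.1⟩
  omega

/-- A proper subgroup has at most half the order. -/
theorem two_mul_card_le [Finite G] {K H : Subgroup G} (hKH : K ≤ H) (hne : ∃ x ∈ H, x ∉ K) :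
    2 * Nat.card K ≤ Nat.card H := by
  obtain ⟨x, hx, hxK⟩ := hne
  obtain ⟨c, hc⟩ := Subgroup.card_dvd_of_le hKH
  have hK : 0 < Nat.card K := Nat.card_pos
  have hH : 0 < Nat.card H := Nat.card_pos
  rcases Nat.lt_or_ge c 2 with h2 | h2
  · exfalso
    have h1 : c = 1 := by
      rcases Nat.lt_or_ge c 1 with h0 | h0
      · have : c = 0 := by omega
        rw [this, mul_zero] at hc
        omega
      · omega
    rw [h1, mul_one] at hc
    have h3 : K = H := Subgroup.eq_of_le_of_card_ge hKH hc.le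
    exact hxK (h3 ▸ hx)
  · rw [hc, mul_comm]
    exact Nat.mul_le_mul_left _ h2

/-- The form data of `N₁`, `V₂`: `|N| = 32`, `|W| = 4`, `Q = 0` on `W`. -/
structure Frm (N W C : Subgroup G) (v : G) (Q : G → ZMod 2) : Prop extends QF N C v Q where
  ab : ∀ x ∈ N, ∀ y ∈ N, x * y = y * x
  sq : ∀ x ∈ N, x * x = 1
  WN : W ≤ N
  vN : v ∈ N
  cN : Nat.card N = 32
  cW : Nat.card W = 4
  QW : ∀ x ∈ W, Q x = 0

namespace Frm

variable {N W C : Subgroup G} {v : G} {Q : G → ZMod 2} (h : Frm N W C v Q)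
include h

theorem v_not_mem : v ∉ W := fun hv => by
  have := h.QW v hv
  rw [h.Qv] at this
  exact absurd this (by decide)

theorem comm {x y : G} (hx : x ∈ N) (hy : y ∈ N) : pol Q x y = pol Q y x := by
  unfold pol
  rw [h.ab x hx y hy]; ring

theorem add' {x y z : G} (hx : x ∈ N) (hy : y ∈ N) (hz : z ∈ N) : pol Q z (x * y) = pol Q z x + pol Q z y := by
  rw [h.comm hz (N.mul_mem hx hy), h.add x hx y hy z hz, h.comm hx hz, h.comm hy hz]

theorem one_right {x : G} (hx : x ∈ N) : pol Q x 1 = 0 := by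
  rw [h.comm hx N.one_mem, h.toQF.one_left hx]

theorem polW {x y : G} (hx : x ∈ W) (hy : y ∈ W) : pol Q x y = 0 := by
  unfold pol
  rw [h.QW _ (W.mul_mem hx hy), h.QW x hx, h.QW y hy]; decide

theorem ne_rad {m : G} (hm : m ∈ W) (hm1 : m ≠ 1) : ∃ y ∈ N, pol Q y m = 1 := by
  by_contra hcon
  push Not at hcon
  rcases h.rad m (h.WN hm) fun y hy => by
    rw [h.comm (h.WN hm) hy]
    exact (z2 _).resolve_right (hcon y hy) with h1 | h1
  · exact hm1 h1
  · exact h.v_not_mem (h1 ▸ hm)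

/-- the orthogonal of `a` -/
def orth (N : Subgroup G) (Q : G → ZMod 2) (h : ∀ x ∈ N, ∀ y ∈ N, ∀ z ∈ N, pol Q (x * y) z = pol Q x z + pol Q y z)
    (h2 : ∀ x ∈ N, x * x = 1) {a : G} (ha : a ∈ N) : Subgroup G where
  carrier := {x | x ∈ N ∧ pol Q x a = 0}
  one_mem' := by
    refine ⟨N.one_mem, ?_⟩
    have := h 1 N.one_mem 1 N.one_mem a ha
    rw [one_mul, z2_add] at this
    exact this
  mul_mem' := by
    rintro x y ⟨hx, hx'⟩ ⟨hy, hy'⟩
    exact ⟨N.mul_mem hx hy, by rw [h x hx y hy a ha, hx', hy', add_zero]⟩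
  inv_mem' := by
    rintro x ⟨hx, hx'⟩
    have : x⁻¹ = x := inv_eq_of_mul_eq_one_left (h2 x hx)
    rw [this]
    exact ⟨hx, hx'⟩

/-- `W^⊥ = W⟨v⟩` -/
theorem perp [Finite G] : ∀ x ∈ N, (∀ y ∈ W, pol Q x y = 0) → x ∈ W ∨ x * v ∈ W := by
  classical
  -- a basis of `W`
  obtain ⟨a, ha, ha1⟩ : ∃ a ∈ W, a ≠ 1 := by
    by_contra hcon
    push Not at hcon
    have : W = ⊥ := (eq_bot_iff_forall _).2 hcon
    have h4 := h.cW
    rw [this, Subgroup.card_bot] at h4
    omega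
  obtain ⟨b, hb, hb1, hab⟩ : ∃ b ∈ W, b ≠ 1 ∧ b ≠ a := by
    by_contra hcon
    push Not at hcon
    have h5 : (W : Set G).ncard ≤ ({1, a} : Finset G).card := by
      rw [← Set.ncard_coe_finset]
      apply Set.ncard_le_ncard _ (Set.toFinite _)
      intro y hy
      by_cases h1 : y = 1
      · simp [h1]
      · simp [hcon y hy h1]
    have h6 : Nat.card W = (W : Set G).ncard := rfl
    have h7 := Finset.card_le_two (a := (1 : G)) (b := a)
    have h8 := h.cW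
    omega
  have haN := h.WN ha
  have hbN := h.WN hb
  set A := orth N Q h.add h.sq haN with hA
  set B := orth N Q h.add h.sq hbN with hB
  have hcA : 2 * Nat.card A ≤ 32 := by
    rw [← h.cN]
    refine two_mul_card_le (fun x hx => hx.1) ?_
    obtain ⟨y, hy, h1⟩ := h.ne_rad ha ha1
    exact ⟨y, hy, fun h2 => by rw [h2.2] at h1; exact absurd h1 (by decide)⟩
  have hcB : 2 * Nat.card (A ⊓ B : Subgroup G) ≤ Nat.card A := by
    refine two_mul_card_le inf_le_left ?_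
    by_contra hcon
    push Not at hcon
    -- `f(·, a) = f(·, b)`
    obtain ⟨y, hy, h1⟩ := h.ne_rad hb hb1
    have h2 : pol Q y a = 1 := (z2 _).resolve_left fun h2 => by
      have := (hcon y ⟨hy, h2⟩).2.2
      rw [this] at h1; exact absurd h1 (by decide)
    have hab1 : a * b ≠ 1 := fun e => hab (by
      calc b = (a * a) * b := by rw [h.sq a haN, one_mul]
        _ = a := by rw [mul_assoc, e, mul_one])
    obtain ⟨x, hx, h3⟩ := h.ne_rad (W.mul_mem ha hb) hab1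
    rw [h.add' haN hbN hx] at h3
    rcases z2 (pol Q x a) with h4 | h4
    · have h5 := (hcon x ⟨hx, h4⟩).2.2
      rw [h4, h5] at h3; exact absurd h3 (by decide)
    · have h6 : pol Q (x * y) a = 0 := by rw [h.add x hx y hy a haN, h4, h2]; decide
      have h5 := (hcon (x * y) ⟨N.mul_mem hx hy, h6⟩).2.2
      rw [h.add x hx y hy b hbN, h1] at h5
      rcases z2 (pol Q x b) with h7 | h7
      · rw [h7] at h5; exact absurd h5 (by decide)
      · rw [h4, h7] at h3; exact absurd h3 (by decide)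
  -- the set `W ∪ Wv`
  set X : Set G := (W : Set G) ∪ (fun x => x * v) '' (W : Set G) with hX
  have hX8 : X.ncard = 8 := by
    rw [hX, Set.ncard_union_eq ?_ (Set.toFinite _) (Set.toFinite _), Set.ncard_image_of_injective _ (mul_left_injective v)]
    · have h6 : Nat.card W = (W : Set G).ncard := rfl
      have h8 := h.cW
      omega
    · rw [Set.disjoint_left]
      rintro x hx ⟨y, hy, rfl⟩
      apply h.v_not_mem
      have := W.mul_mem (W.inv_mem hy) hx
      simpa using this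
  have hXs : X ⊆ ((A ⊓ B : Subgroup G) : Set G) := by
    have hv : ∀ c ∈ W, pol Q v c = 0 := fun c hc => h.vrad c (h.WN hc)
    rintro x (hx | ⟨y, hy, rfl⟩)
    · exact ⟨⟨h.WN hx, h.polW hx ha⟩, ⟨h.WN hx, h.polW hx hb⟩⟩
    · have e : ∀ c ∈ W, pol Q (y * v) c = 0 := fun c hc => by
        rw [h.add y (h.WN hy) v h.vN c (h.WN hc), h.polW hy hc, hv c hc, add_zero]
      exact ⟨⟨N.mul_mem (h.WN hy) h.vN, e a ha⟩, ⟨N.mul_mem (h.WN hy) h.vN, e b hb⟩⟩
  have hXe : X = ((A ⊓ B : Subgroup G) : Set G) := by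
    apply Set.eq_of_subset_of_ncard_le hXs _ (Set.toFinite _)
    have h6 : Nat.card (A ⊓ B : Subgroup G) = ((A ⊓ B : Subgroup G) : Set G).ncard := rfl
    omega
  intro x hx hxW
  have h9 : x ∈ ((A ⊓ B : Subgroup G) : Set G) := ⟨⟨hx, hxW a ha⟩, ⟨hx, hxW b hb⟩⟩
  rw [← hXe] at h9
  rcases h9 with h9 | ⟨y, hy, rfl⟩
  · exact Or.inl h9
  · right
    rw [mul_assoc, h.sq v h.vN, mul_one]
    exact hy

/-- A functional on `W`: zero, or with kernel `{1, k}`. -/
theorem ker [Finite G] {x : G} (hx : x ∈ N) (hne : ∃ c ∈ W, pol Q x c = 1) :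
    ∃ k ∈ W, k ≠ 1 ∧ pol Q x k = 0 ∧ ∀ w ∈ W, w ≠ 1 → w ≠ k → pol Q x w = 1 := by
  classical
  obtain ⟨c, hc, hxc⟩ := hne
  have hc1 : c ≠ 1 := by
    rintro rfl
    rw [h.one_right hx] at hxc
    exact absurd hxc (by decide)
  obtain ⟨b, hb, hb1, hbc⟩ : ∃ b ∈ W, b ≠ 1 ∧ b ≠ c := by
    by_contra hcon
    push Not at hcon
    have h5 : (W : Set G).ncard ≤ ({1, c} : Finset G).card := by
      rw [← Set.ncard_coe_finset]
      apply Set.ncard_le_ncard _ (Set.toFinite _)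
      intro y hy
      by_cases h1 : y = 1
      · simp [h1]
      · simp [hcon y hy h1]
    have h6 : Nat.card W = (W : Set G).ncard := rfl
    have h7 := Finset.card_le_two (a := (1 : G)) (b := c)
    have h8 := h.cW
    omega
  have hsq : ∀ x ∈ W, x * x = 1 := fun x hx => h.sq x (h.WN hx)
  obtain ⟨k, hk, hk1, hxk⟩ : ∃ k ∈ W, k ≠ 1 ∧ pol Q x k = 0 := by
    rcases z2 (pol Q x b) with h1 | h1
    · exact ⟨b, hb, hb1, h1⟩
    · refine ⟨b * c, W.mul_mem hb hc, fun e => hbc ?_, ?_⟩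
      · calc b = b * (c * c) := by rw [hsq c hc, mul_one]
          _ = c := by rw [← mul_assoc, e, one_mul]
      · rw [h.add' (h.WN hb) (h.WN hc) hx, h1, hxc]; decide
  refine ⟨k, hk, hk1, hxk, fun w hw hw1 hwk => ?_⟩
  by_contra h2
  have h3 := (z2 _).resolve_right h2
  rcases four_mem h.cW hsq hk hw hk1 hw1 (Ne.symm hwk) hc with h4 | h4 | h4 | h4
  · exact hc1 h4
  · rw [h4, hxk] at hxc; exact absurd hxc (by decide)
  · rw [h4, h3] at hxc; exact absurd hxc (by decide)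
  · rw [h4, h.add' (h.WN hk) (h.WN hw) hx, hxk, h3] at hxc; exact absurd hxc (by decide)

/-- An invariant subgroup `F ≥ W` without `v` is `W` or has index 2. -/
theorem dich [Finite G] {F L : Subgroup G} (hFN : F ≤ N) (hWF : W ≤ F) (hvF : v ∉ F) (hLC : L ≤ C)
    (hLF : L ≤ normalizer (F : Set G)) (hLW : ∀ l ∈ L, ∀ w ∈ W, l * w * l⁻¹ ∈ W)
    (htr : ∀ a ∈ W, a ≠ 1 → ∀ b ∈ W, b ≠ 1 → ∃ l ∈ L, l * a * l⁻¹ = b) :
    F = W ∨ ∀ y ∈ N, y ∈ F ∨ y * v ∈ F := by
  by_cases hF : ∀ x ∈ F, ∀ y ∈ W, pol Q x y = 0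
  · left
    refine le_antisymm (fun x hx => ?_) hWF
    rcases h.perp x (hFN hx) (hF x hx) with h1 | h1
    · exact h1
    · exfalso
      apply hvF
      have := F.mul_mem (F.inv_mem hx) (hWF h1)
      rwa [inv_mul_cancel_left] at this
  · right
    push Not at hF
    obtain ⟨x, hx, c, hc, hxc⟩ := hF
    have hxc' := (z2 _).resolve_left hxc
    obtain ⟨k, hk, hk1, hxk, hxk'⟩ := h.ker (hFN hx) ⟨c, hc, hxc'⟩
    intro y hy
    by_cases hyW : ∀ w ∈ W, pol Q y w = 0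
    · rcases h.perp y hy hyW with h1 | h1
      · exact Or.inl (hWF h1)
      · exact Or.inr (hWF h1)
    · push Not at hyW
      obtain ⟨d, hd, hyd⟩ := hyW
      obtain ⟨m, hm, hm1, hym, hym'⟩ := h.ker hy ⟨d, hd, (z2 _).resolve_left hyd⟩
      obtain ⟨l, hl, hlk⟩ := htr k hk hk1 m hm hm1
      set x' := l * x * l⁻¹ with hx'
      have hx'F : x' ∈ F := (mem_normalizer_iff.1 (hLF hl) x).1 hx
      -- `f(x', w) = f(x, l⁻¹ w l)`
      have h1 : ∀ w ∈ W, pol Q x' w = pol Q x (l⁻¹ * w * l) := by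
        intro w hw
        have h2 : l⁻¹ * w * l ∈ W := by
          have := hLW l⁻¹ (L.inv_mem hl) w hw
          rwa [inv_inv] at this
        have h3 := h.pol_inv (hLC hl) (hFN hx) (h.WN h2)
        have h4 : l * (l⁻¹ * w * l) * l⁻¹ = w := by group
        rw [h4] at h3
        exact h3
      have h2 : ∀ w ∈ W, pol Q (x' * y) w = 0 := by
        intro w hw
        rw [h.add x' (hFN hx'F) y hy w (h.WN hw)]
        by_cases hw1 : w = 1
        · rw [hw1, h.one_right (hFN hx'F), h.one_right hy, add_zero]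
        by_cases hwm : w = m
        · rw [hwm, hym, h1 m hm, ← hlk]
          have e : l⁻¹ * (l * k * l⁻¹) * l = k := by group
          rw [e, hxk, add_zero]
        · have h3 : l⁻¹ * w * l ∈ W := by
            have := hLW l⁻¹ (L.inv_mem hl) w hw
            rwa [inv_inv] at this
          rw [hym' w hw hw1 hwm, h1 w hw, hxk' _ h3 (fun e => hw1 ?_) (fun e => hwm ?_)]
          · decide
          · calc w = l * (l⁻¹ * w * l) * l⁻¹ := by group
              _ = 1 := by rw [e]; group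
          · calc w = l * (l⁻¹ * w * l) * l⁻¹ := by group
              _ = m := by rw [e, hlk]
      have h3 : ∀ t, x' * y * t ∈ F → y * t ∈ F := fun t ht => by
        have := F.mul_mem (F.inv_mem hx'F) ht
        have e : x'⁻¹ * (x' * y * t) = y * t := by group
        rwa [e] at this
      rcases h.perp _ (N.mul_mem (hFN hx'F) hy) h2 with h4 | h4
      · left
        have := h3 1 (by rw [mul_one]; exact hWF h4)
        rwa [mul_one] at this
      · exact Or.inr (h3 v (hWF h4))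

end Frm

end Cfsg.Agent.Omega.IId.SpForm
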