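import Cfsg.Agent.Omega.IId.PlaneSy
import Cfsg.Agent.Omega.IId.SpForm

/-!
# II.d, CASE 1, `q = 2`: the rank argument (bb OMEGA #15930 (C))

helper310.  `GOrth C N r c`; `R ≤ N` totally isotropic, `r ∈ R`, `c ∉ R`; `M = C_C(r)`.  If among any three elements
of `M` not normalising `R` two lie in the same double coset of `N_M(R)`, and `|R| > 4`, then `|R| = 8` and
`R` is the set of singular vectors of `R^⊥`; `|N| = 128`.
-/

set_option autoImplicit false
set_option linter.unusedSectionVars false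
set_option linter.unusedVariables false

namespace Cfsg.Agent.Omega.IId.PlaneRk

open Cfsg.Agent.Omega.TV hiding z2
open Subgroup Cfsg.Agent.Omega.IId.PlaneSy
open Cfsg.Agent.Omega.IId.SpForm (two_mul_card_le)
open Cfsg.Agent.Omega.IId.SpSide (card_le_two_mul)

variable {G : Type*} [Group G]

theorem mem_zp2 {c x : G} (hc : c * c = 1) : x ∈ zpowers c ↔ x = 1 ∨ x = c := by
  constructor
  · intro hx
    obtain ⟨k, rfl⟩ := mem_zpowers_iff.1 hx
    have h2 : c ^ (2 : ℤ) = 1 := by rw [zpow_two, hc]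
    rcases Int.even_or_odd' k with ⟨m, hm | hm⟩
    · left
      rw [hm, zpow_mul, h2, one_zpow]
    · right
      rw [hm, zpow_add, zpow_mul, h2, one_zpow, one_mul, zpow_one]
  · rintro (rfl | rfl)
    · exact one_mem _
    · exact mem_zpowers _

/-- kernel of a nonzero functional -/
theorem card_ker [Finite G] {A K : Subgroup G} {f : G → ZMod 2} (hadd : ∀ x ∈ A, ∀ y ∈ A, f (x * y) = f x + f y)
    (hK : ∀ x, x ∈ K ↔ x ∈ A ∧ f x = 0) (hne : ∃ x ∈ A, f x = 1) : Nat.card A = 2 * Nat.card K := by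
  have hKA : K ≤ A := fun x hx => ((hK x).1 hx).1
  have f1 : f 1 = 0 := by
    have := hadd 1 A.one_mem 1 A.one_mem
    rw [one_mul, z2_self] at this
    exact this
  apply le_antisymm
  · have h1 := card_le_two_mul (K := K) (H := A) (fun x hx y hy hxK hyK => by
      have hx1 : f x = 1 := (z2 _).resolve_left fun e => hxK ((hK x).2 ⟨hx, e⟩)
      have hy1 : f y = 1 := (z2 _).resolve_left fun e => hyK ((hK y).2 ⟨hy, e⟩)
      refine (hK _).2 ⟨mul_mem (inv_mem hx) hy, ?_⟩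
      have h2 := hadd x⁻¹ (inv_mem hx) x hx
      rw [inv_mul_cancel, f1, hx1] at h2
      rw [hadd _ (inv_mem hx) _ hy, hy1, ← h2])
    rwa [inf_eq_left.2 hKA] at h1
  · obtain ⟨x, hx, hx1⟩ := hne
    exact two_mul_card_le hKA ⟨x, hx, fun e => by
      rw [((hK x).1 e).2] at hx1
      exact absurd hx1 (by decide)⟩

/-! ### symplectic systems from an orthogonal module -/

/-- The symplectic system of an orthogonal module. -/
theorem sy_of {C N : Subgroup G} {r c : G} (h : GOrth C N r c) : Sy C N (zpowers c) (Bg C r) where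
  sq := h.sq
  nor := h.nor
  YP := zpowers_le.2 h.c_mem
  add := h.add
  comm := h.comm
  self := h.self
  inv := fun g hg x hx y hy => h.B_inv hg hx hy
  zero := fun x hx y hy => by
    rcases (mem_zp2 (h.sq c h.c_mem)).1 hx with rfl | rfl
    · rw [h.comm _ N.one_mem _ hy]; exact GOrth.Bone
    · exact h.Bc y hy
  rad := fun x hx hx0 => (mem_zp2 (h.sq c h.c_mem)).2 (h.rad x hx hx0)
  tv := fun z hz hzY => by
    have hcc := h.sq c h.c_mem
    have hz1 : z ≠ 1 := fun e => hzY (e ▸ one_mem _)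
    have hzc : z ≠ c := fun e => hzY (e ▸ mem_zpowers c)
    rcases z2 (Qg C r z) with hQ | hQ
    · obtain ⟨g, hg, hgn⟩ := h.refl z hz hz1 hQ
      exact ⟨z * c, mul_mem hz h.c_mem, by
        rw [← mul_assoc, h.sq z hz, one_mul]; exact mem_zpowers c, g, hg, hgn⟩
    · have hzc1 : z * c ≠ 1 := fun e => hzc (by
        calc z = z * (c * c) := by rw [hcc, mul_one]
          _ = c := by rw [← mul_assoc, e, one_mul])
      obtain ⟨g, hg, hgn⟩ := h.refl (z * c) (mul_mem hz h.c_mem) hzc1 (by rw [h.Qmulc hz, hQ]; decide)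
      refine ⟨z, hz, by rw [h.sq z hz]; exact one_mem _, g, hg, fun n hn => ?_⟩
      have e1 : Bg C r (z * c) n = Bg C r z n := by
        rw [h.add_left hz h.c_mem hn, h.Bc n hn, add_zero]
      have e2 : z * c * c = z := by rw [mul_assoc, hcc, mul_one]
      rw [← e1, ← e2]
      simpa [mul_assoc, hcc] using hgn n hn

section perp

variable {M P Y : Subgroup G} {B : G → G → ZMod 2} (h : Sy M P Y B)
include h

/-- `⟨Y, r⟩` -/
def yr {r : G} (hr : r ∈ P) : Subgroup G where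
  carrier := {x | x ∈ Y ∨ (x ∈ P ∧ x * r ∈ Y)}
  one_mem' := Or.inl (one_mem _)
  mul_mem' := by
    rintro x y (hx | ⟨hx, hx'⟩) (hy | ⟨hy, hy'⟩)
    · exact Or.inl (mul_mem hx hy)
    · exact Or.inr ⟨mul_mem (h.YP hx) hy, by rw [mul_assoc]; exact mul_mem hx hy'⟩
    · refine Or.inr ⟨mul_mem hx (h.YP hy), ?_⟩
      rw [mul_assoc, h.mc (h.YP hy) hr, ← mul_assoc]
      exact mul_mem hx' hy
    · left
      have e : x * y = x * r * (y * r) := by
        have h1 : x * r * (y * r) = x * (r * (y * r)) := by group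
        rw [h1, ← mul_assoc r, h.mc hr hy, mul_assoc y, h.sq r hr, mul_one]
      rw [e]
      exact mul_mem hx' hy'
  inv_mem' := by
    rintro x (hx | ⟨hx, hx'⟩)
    · exact Or.inl (inv_mem hx)
    · exact Or.inr ⟨inv_mem hx, by rw [h.iv hx]; exact hx'⟩

theorem mem_yr {r : G} (hr : r ∈ P) {x : G} : x ∈ yr h hr ↔ x ∈ Y ∨ (x ∈ P ∧ x * r ∈ Y) := Iff.rfl

theorem mem_pp {r : G} (hr : r ∈ P) {x : G} : x ∈ h.pp hr ↔ x ∈ P ∧ B r x = 0 := Iff.rfl

/-- The symplectic system on `r^⊥`. -/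
theorem sy_perp {r : G} (hr : r ∈ P) : Sy (M ⊓ centralizer {r}) (h.pp hr) (yr h hr) B where
  sq := fun x hx => h.sq x hx.1
  nor := fun g hg x hx => by
    refine ⟨h.nor g hg.1 x hx.1, ?_⟩
    have e : r = g * r * g⁻¹ := by
      rw [mem_centralizer_singleton_iff.1 hg.2, mul_inv_cancel_right]
    rw [e, h.inv g hg.1 r hr x hx.1]
    exact hx.2
  YP := by
    rintro x (hx | ⟨hx, hx'⟩)
    · exact ⟨h.YP hx, by rw [h.comm _ hr _ (h.YP hx)]; exact h.zero x hx r hr⟩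
    · refine ⟨hx, ?_⟩
      have h1 := h.zero _ hx' r hr
      rw [h.add_left hx hr hr, h.self r hr, add_zero] at h1
      rw [h.comm _ hr _ hx, h1]
  add := fun x hx y hy z hz => h.add x hx.1 y hy.1 z hz.1
  comm := fun x hx y hy => h.comm x hx.1 y hy.1
  self := fun x hx => h.self x hx.1
  inv := fun g hg x hx y hy => h.inv g hg.1 x hx.1 y hy.1
  zero := by
    rintro x (hx | ⟨hx, hx'⟩) y hy
    · exact h.zero x hx y hy.1
    · have h1 := h.zero _ hx' y hy.1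
      rw [h.add_left hx hr hy.1, hy.2, add_zero] at h1
      exact h1
  rad := fun x hx hx0 => by
    rcases h.radstep le_rfl hr hx.1 (fun z hz hz0 => hx0 z ⟨hz, hz0⟩) with h1 | h1
    · exact Or.inl (h.rad x hx.1 h1)
    · exact Or.inr ⟨hx.1, h.rad _ (mul_mem hx.1 hr) h1⟩
  tv := fun z hz hzY => by
    obtain ⟨z', hz', hzz, g, hg, hgn⟩ := h.tv z hz.1 fun e => hzY (Or.inl e)
    refine ⟨z', ⟨hz', ?_⟩, Or.inl hzz, g, ⟨hg, ?_⟩, fun n hn => hgn n hn.1⟩
    · have h1 := hz.2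
      rw [h.comm _ hr _ hz.1, h.congr hz.1 hz' hr hzz] at h1
      rw [h.comm _ hr _ hz', h1]
    · rcases hgn r hr with ⟨-, h1⟩ | ⟨h1, -⟩
      · exact mem_centralizer_singleton_iff.2 (mul_inv_eq_iff_eq_mul.1 h1)
      · rw [h.comm _ hz.1 _ hr, hz.2] at h1
        exact absurd h1 (by decide)

end perp

/-! ### The rank argument -/

/-- `{t ∈ R | m t m⁻¹ ∈ R}` -/
def II (R : Subgroup G) (m : G) : Subgroup G where
  carrier := {t | t ∈ R ∧ m * t * m⁻¹ ∈ R}
  one_mem' := ⟨one_mem _, by simp⟩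
  mul_mem' := by
    rintro x y ⟨hx, hx'⟩ ⟨hy, hy'⟩
    refine ⟨mul_mem hx hy, ?_⟩
    have e : m * (x * y) * m⁻¹ = m * x * m⁻¹ * (m * y * m⁻¹) := by group
    rw [e]
    exact mul_mem hx' hy'
  inv_mem' := by
    rintro x ⟨hx, hx'⟩
    refine ⟨inv_mem hx, ?_⟩
    have e : m * x⁻¹ * m⁻¹ = (m * x * m⁻¹)⁻¹ := by group
    rw [e]
    exact inv_mem hx'

theorem mem_II {R : Subgroup G} {m t : G} : t ∈ II R m ↔ t ∈ R ∧ m * t * m⁻¹ ∈ R := Iff.rfl

/-- `m' = a m b` with `a`, `b` in `C`, normalising `R` -/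
def DN (C R : Subgroup G) (m m' : G) : Prop :=
  ∃ a ∈ C ⊓ normalizer (R : Set G), ∃ b ∈ C ⊓ normalizer (R : Set G), m' = a * m * b

theorem DN.card {C R : Subgroup G} {m m' : G} (h : DN C R m m') : Nat.card (II R m') = Nat.card (II R m) := by
  obtain ⟨a, ha, b, hb, rfl⟩ := h
  refine Nat.card_congr
    { toFun := fun t => ⟨b * t * b⁻¹, (mem_normalizer_iff.1 hb.2 _).1 t.2.1, ?_⟩
      invFun := fun t => ⟨b⁻¹ * t * b, ?_, ?_⟩
      left_inv := fun t => Subtype.ext (by show b⁻¹ * (b * t * b⁻¹) * b = t; group)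
      right_inv := fun t => Subtype.ext (by show b * (b⁻¹ * t * b) * b⁻¹ = t; group) }
  · have h1 := (mem_normalizer_iff.1 (inv_mem ha.2) _).1 t.2.2
    have e : a⁻¹ * (a * m * b * t * (a * m * b)⁻¹) * a⁻¹⁻¹ = m * (b * t * b⁻¹) * m⁻¹ := by group
    rwa [e] at h1
  · have h1 := (mem_normalizer_iff.1 (inv_mem hb.2) _).1 t.2.1
    rwa [inv_inv] at h1
  · have h1 := (mem_normalizer_iff.1 ha.2 _).1 t.2.2
    have e : a * (m * t * m⁻¹) * a⁻¹ = a * m * b * (b⁻¹ * t * b) * (a * m * b)⁻¹ := by group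
    rwa [e] at h1

structure Rk (C N R : Subgroup G) (r c : G) : Prop where
  o : GOrth C N r c
  RN : R ≤ N
  rR : r ∈ R
  r1 : r ≠ 1
  cR : c ∉ R
  iso : ∀ x ∈ R, ∀ y ∈ R, Bg C r x y = 0
  pig : ∀ m₁ ∈ C ⊓ centralizer {r}, ∀ m₂ ∈ C ⊓ centralizer {r}, ∀ m₃ ∈ C ⊓ centralizer {r},
    m₁ ∉ normalizer (R : Set G) → m₂ ∉ normalizer (R : Set G) → m₃ ∉ normalizer (R : Set G) →
    DN C R m₁ m₂ ∨ DN C R m₁ m₃ ∨ DN C R m₂ m₃

namespace Rk

variable {C N R : Subgroup G} {r c : G} (h : Rk C N R r c)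
include h

theorem cc : c * c = 1 := h.o.sq c h.o.c_mem

/-- elements of `R` are outside the radical -/
theorem not_zp {t : G} (ht : t ∈ R) (ht1 : t ≠ 1) : t ∉ zpowers c := fun e => by
  rcases (mem_zp2 h.cc).1 e with h1 | h1
  · exact ht1 h1
  · exact h.cR (h1 ▸ ht)

/-- a functional vanishing on `r`, not on `t` -/
theorem exists_dual {t : G} (ht : t ∈ R) (ht1 : t ≠ 1) (htr : t ≠ r) : ∃ d ∈ N, Bg C r d r = 0 ∧ Bg C r d t = 1 := by
  have hs := sy_of h.o
  have hrr := h.o.sq r h.o.r_mem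
  have h1 : t * r ≠ 1 := fun e => htr (by
    calc t = t * (r * r) := by rw [hrr, mul_one]
      _ = r := by rw [← mul_assoc, e, one_mul])
  obtain ⟨z, hz, z1, z0⟩ := hs.sep2 (h.RN ht) (h.RN h.rR) (h.not_zp ht ht1) (h.not_zp (mul_mem ht h.rR) h1)
  exact ⟨z, hz, by rw [h.o.comm _ hz _ h.o.r_mem]; exact z0, by rw [h.o.comm _ hz _ (h.RN ht)]; exact z1⟩

/-- the transvection `τ_d` -/
theorem exists_tau {d t : G} (hd : d ∈ N) (hdr : Bg C r d r = 0) (ht : t ∈ N) (hdt : Bg C r d t = 1) :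
    ∃ d' ∈ N, d * d' ∈ zpowers c ∧ (∀ n ∈ N, Bg C r d' n = Bg C r d n) ∧ ∃ g ∈ C ⊓ centralizer {r}, ∀ n ∈ N,
      (Bg C r d n = 0 ∧ g * n * g⁻¹ = n) ∨ (Bg C r d n = 1 ∧ g * n * g⁻¹ = n * d') := by
  have hs := sy_of h.o
  obtain ⟨d', hd', hdd, g, hg, hgn⟩ := hs.tv d hd (hs.not_mem_of ht hdt)
  refine ⟨d', hd', hdd, fun n hn => (hs.congr hd hd' hn hdd).symm, g, ⟨hg, ?_⟩, hgn⟩
  rcases hgn r h.o.r_mem with ⟨-, h1⟩ | ⟨h1, -⟩
  · exact mem_centralizer_singleton_iff.2 (mul_inv_eq_iff_eq_mul.1 h1)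
  · rw [hdr] at h1; exact absurd h1 (by decide)

/-- One more transvection. -/
theorem next [Finite G] {m : G} {S : Subgroup G} (hm : m ∈ C ⊓ centralizer {r}) (hS : S ≤ R) (hrS : r ∈ S)
    (hmS : ∀ t ∈ R, m * t * m⁻¹ ∈ R ↔ t ∈ S) (hmf : ∀ t ∈ S, m * t * m⁻¹ = t) (hc : 2 < Nat.card S) :
    ∃ m' ∈ C ⊓ centralizer {r}, ∃ S' ≤ R, r ∈ S' ∧ (∀ t ∈ R, m' * t * m'⁻¹ ∈ R ↔ t ∈ S') ∧
      (∀ t ∈ S', m' * t * m'⁻¹ = t) ∧ Nat.card S = 2 * Nat.card S' ∧
      ∃ t ∈ R, Bg C r t (m' * t * m'⁻¹) = 1 := by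
  have hs := sy_of h.o
  -- an element of `S` outside `{1, r}`
  obtain ⟨t₀, ht₀, ht1, htr⟩ : ∃ t ∈ S, t ≠ 1 ∧ t ≠ r := by
    by_contra hcon
    push Not at hcon
    have h1 : S ≤ zpowers r := by
      intro x hx
      by_cases hx1 : x = 1
      · rw [hx1]; exact one_mem _
      · rw [hcon x hx hx1]; exact mem_zpowers _
    have h2 := Subgroup.card_le_of_le h1
    rw [Nat.card_zpowers] at h2
    have h3 : orderOf r ≤ 2 := orderOf_le_of_pow_eq_one (by norm_num) (by rw [pow_two, h.o.sq r h.o.r_mem])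
    omega
  have ht₀N := h.RN (hS ht₀)
  obtain ⟨d, hd, dr, dt⟩ := h.exists_dual (hS ht₀) ht1 htr
  obtain ⟨d', hd', -, hdB, g, hg, hgn⟩ := h.exists_tau hd dr ht₀N dt
  -- `S' = S ∩ d^⊥`
  refine ⟨g * m, mul_mem hg hm, S ⊓ hs.pp hd, inf_le_left.trans hS, ⟨hrS, h.o.r_mem, dr⟩, ?_, ?_, ?_, ?_⟩
  · intro t ht
    have e : g * m * t * (g * m)⁻¹ = g * (m * t * m⁻¹) * g⁻¹ := by group
    rw [e]
    have hx := h.o.nor m hm.1 t (h.RN ht)
    -- `m t m⁻¹ ⊥ S`
    have hxS : Bg C r (m * t * m⁻¹) t₀ = 0 := by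
      rw [← hmf t₀ ht₀, h.o.B_inv hm.1 (h.RN ht) ht₀N]
      exact h.iso t ht t₀ (hS ht₀)
    rcases hgn _ hx with ⟨h1, h2⟩ | ⟨h1, h2⟩
    · rw [h2, hmS t ht]
      constructor
      · intro h3
        rw [hmf t h3] at h1
        exact ⟨h3, h.RN ht, h1⟩
      · exact fun h3 => h3.1
    · rw [h2]
      constructor
      · intro h3
        exfalso
        have h4 := h.iso _ h3 t₀ (hS ht₀)
        rw [h.o.add_left hx hd' ht₀N, hxS, hdB t₀ ht₀N, dt] at h4
        exact absurd h4 (by decide)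
      · intro h3
        rw [hmf t h3.1, h3.2.2] at h1
        exact absurd h1 (by decide)
  · intro t ht
    have e : g * m * t * (g * m)⁻¹ = g * (m * t * m⁻¹) * g⁻¹ := by group
    rw [e, hmf t ht.1]
    rcases hgn _ (h.RN (hS ht.1)) with ⟨-, h2⟩ | ⟨h1, -⟩
    · exact h2
    · rw [ht.2.2] at h1; exact absurd h1 (by decide)
  · refine card_ker (f := Bg C r d) (fun x hx y hy => h.o.add d hd x (h.RN (hS hx)) y (h.RN (hS hy))) (fun x => ?_)
      ⟨t₀, ht₀, dt⟩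
    exact ⟨fun hx => ⟨hx.1, hx.2.2⟩, fun hx => ⟨hx.1, h.RN (hS hx.1), hx.2⟩⟩
  · refine ⟨t₀, hS ht₀, ?_⟩
    have e : g * m * t₀ * (g * m)⁻¹ = g * (m * t₀ * m⁻¹) * g⁻¹ := by group
    rw [e, hmf t₀ ht₀]
    rcases hgn _ ht₀N with ⟨h1, -⟩ | ⟨-, h2⟩
    · rw [dt] at h1; exact absurd h1 (by decide)
    · rw [h2, h.o.add _ ht₀N _ ht₀N _ hd', h.o.self _ ht₀N, h.o.comm _ ht₀N _ hd', hdB _ ht₀N, dt]; decide

theorem card_II {m : G} {S : Subgroup G} (hS : S ≤ R) (hmS : ∀ t ∈ R, m * t * m⁻¹ ∈ R ↔ t ∈ S) : II R m = S := by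
  ext t
  exact ⟨fun ht => (hmS t ht.1).1 ht.2, fun ht => ⟨hS ht, (hmS t (hS ht)).2 ht⟩⟩

/-- `m` normalises `R` iff `II R m = R` -/
theorem not_norm {m : G} {S : Subgroup G} [Finite G] (hS : S ≤ R) (hmS : ∀ t ∈ R, m * t * m⁻¹ ∈ R ↔ t ∈ S)
    (hc : Nat.card S < Nat.card R) : m ∉ normalizer (R : Set G) := fun hm => by
  have h1 : R ≤ S := fun t ht => (hmS t ht).1 ((mem_normalizer_iff.1 hm t).1 ht)
  have h2 := Subgroup.card_le_of_le h1
  omega

/-- The first two elements. -/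
theorem two_steps [Finite G] (h4 : 4 < Nat.card R) : ∃ m₁ ∈ C ⊓ centralizer {r}, ∃ m₂ ∈ C ⊓ centralizer {r},
    ∃ S₁ ≤ R, ∃ S₂ ≤ R, r ∈ S₂ ∧ (∀ t ∈ R, m₁ * t * m₁⁻¹ ∈ R ↔ t ∈ S₁) ∧ (∀ t ∈ R, m₂ * t * m₂⁻¹ ∈ R ↔ t ∈ S₂) ∧
      (∀ t ∈ S₂, m₂ * t * m₂⁻¹ = t) ∧ Nat.card R = 2 * Nat.card S₁ ∧ Nat.card S₁ = 2 * Nat.card S₂ ∧
      ∃ t ∈ R, Bg C r t (m₁ * t * m₁⁻¹) = 1 := by
  obtain ⟨m₁, hm₁, S₁, hS₁, hr₁, hmS₁, hmf₁, hc₁, hn⟩ := h.next (m := 1) (S := R) (one_mem _) le_rfl h.rR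
    (fun t ht => by simp [ht]) (fun t _ => by group) (by omega)
  obtain ⟨m₂, hm₂, S₂, hS₂, hr₂, hmS₂, hmf₂, hc₂, -⟩ := h.next hm₁ hS₁ hr₁ hmS₁ hmf₁ (by omega)
  exact ⟨m₁, hm₁, m₂, hm₂, S₁, hS₁, S₂, hS₂, hr₂, hmS₁, hmS₂, hmf₂, hc₁, hc₂, hn⟩

/-- `|R| = 8` -/
theorem card_eq [Finite G] (h4 : 4 < Nat.card R) : Nat.card R = 8 := by
  obtain ⟨m₁, hm₁, m₂, hm₂, S₁, hS₁, S₂, hS₂, hr₂, hmS₁, hmS₂, hmf₂, hc₁, hc₂, -⟩ := h.two_steps h4
  have h2 : 1 < Nat.card S₂ := by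
    have : Nontrivial S₂ := ⟨⟨1, ⟨r, hr₂⟩, fun e => h.r1 (congrArg Subtype.val e).symm⟩⟩
    exact Finite.one_lt_card
  rcases Nat.lt_or_ge 2 (Nat.card S₂) with h3 | h3
  · exfalso
    obtain ⟨m₃, hm₃, S₃, hS₃, hr₃, hmS₃, hmf₃, hc₃, -⟩ := h.next hm₂ hS₂ hr₂ hmS₂ hmf₂ h3
    have p3 : 0 < Nat.card S₃ := Nat.card_pos
    have e1 := h.card_II hS₁ hmS₁
    have e2 := h.card_II hS₂ hmS₂
    have e3 := h.card_II hS₃ hmS₃
    rcases h.pig m₁ hm₁ m₂ hm₂ m₃ hm₃ (h.not_norm hS₁ hmS₁ (by omega)) (h.not_norm hS₂ hmS₂ (by omega))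
      (h.not_norm hS₃ hmS₃ (by omega)) with h5 | h5 | h5
    · have := h5.card
      rw [e1, e2] at this; omega
    · have := h5.card
      rw [e1, e3] at this; omega
    · have := h5.card
      rw [e2, e3] at this; omega
  · omega

/-- `R` is the set of singular vectors of `R^⊥`. -/
theorem sing [Finite G] (h4 : 4 < Nat.card R) {y : G} (hy : y ∈ N) (hyR : ∀ t ∈ R, Bg C r y t = 0)
    (hQ : Qg C r y = 0) : y ∈ R := by
  by_contra hyn
  have hs := sy_of h.o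
  obtain ⟨m₁, hm₁, m₂, hm₂, S₁, hS₁, S₂, hS₂, hr₂, hmS₁, hmS₂, hmf₂, hc₁, hc₂, t₁, ht₁, hn⟩ := h.two_steps h4
  have h8 := h.card_eq h4
  -- the vector `a`
  obtain ⟨a, ha, ar, ay, t₀, ht₀, at₀⟩ : ∃ a ∈ N, Bg C r a r = 0 ∧ Bg C r a y = 0 ∧ ∃ t ∈ R, Bg C r a t = 1 := by
    by_contra hcon
    push Not at hcon
    have key : ∀ t ∈ R, t = 1 ∨ t = r ∨ t = y * c ∨ t = y * c * r := by
      intro t ht
      have htN := h.RN ht
      have h0 : ∀ z ∈ hs.pp h.o.r_mem, Bg C r y z = 0 → Bg C r t z = 0 := by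
        intro z hz hyz
        have h1 := hcon z hz.1 (by rw [h.o.comm _ hz.1 _ h.o.r_mem]; exact hz.2)
          (by rw [h.o.comm _ hz.1 _ hy]; exact hyz) t ht
        rw [h.o.comm _ htN _ hz.1]
        exact (z2 _).resolve_right h1
      have fin : ∀ x ∈ N, (∀ z ∈ hs.pp h.o.r_mem, Bg C r x z = 0) → x = 1 ∨ x = c ∨ x * r = 1 ∨ x * r = c := by
        intro x hx hx0
        rcases hs.radstep le_rfl h.o.r_mem hx (fun z hz hz0 => hx0 z ⟨hz, hz0⟩) with h1 | h1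
        · rcases (mem_zp2 h.cc).1 (hs.rad x hx h1) with h2 | h2
          · exact Or.inl h2
          · exact Or.inr (Or.inl h2)
        · rcases (mem_zp2 h.cc).1 (hs.rad _ (mul_mem hx h.o.r_mem) h1) with h2 | h2
          · exact Or.inr (Or.inr (Or.inl h2))
          · exact Or.inr (Or.inr (Or.inr h2))
      have hrr := h.o.sq r h.o.r_mem
      have hyy := h.o.sq y hy
      have tr_of : t * r = 1 → t = r := fun e => by
        calc t = t * r * r := by rw [mul_assoc, hrr, mul_one]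
          _ = r := by rw [e, one_mul]
      rcases hs.radstep (Z := hs.pp h.o.r_mem) (fun z hz => hz.1) hy htN h0 with h1 | h1
      · rcases fin t htN h1 with h2 | h2 | h2 | h2
        · exact Or.inl h2
        · exact absurd (h2 ▸ ht) h.cR
        · exact Or.inr (Or.inl (tr_of h2))
        · exact absurd (h2 ▸ mul_mem ht h.rR) h.cR
      · have ty : ∀ x, t * y = x → t = x * y := fun x e => by
          rw [← e, mul_assoc, hyy, mul_one]
        have hcy : c * y = y * c := hs.mc h.o.c_mem hy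
        rcases fin _ (mul_mem htN hy) h1 with h2 | h2 | h2 | h2
        · exfalso
          apply hyn
          have := ty 1 h2
          rw [one_mul] at this
          exact this ▸ ht
        · right; right; left
          rw [ty c h2, hcy]
        · exfalso
          apply hyn
          have e1 : t * y = r := by
            calc t * y = t * y * r * r := by rw [mul_assoc _ r r, hrr, mul_one]
              _ = r := by rw [h2, one_mul]
          have e2 : y = t * r := by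
            rw [← e1, ← mul_assoc, h.o.sq t htN, one_mul]
          rw [e2]
          exact mul_mem ht h.rR
        · right; right; right
          have e1 : t * y = c * r := by
            calc t * y = t * y * r * r := by rw [mul_assoc _ r r, hrr, mul_one]
              _ = c * r := by rw [h2]
          rw [ty _ e1, mul_assoc, hs.mc h.o.r_mem hy, ← mul_assoc, hcy]
    -- `|R| ≤ 4`
    classical
    have h5 : (R : Set G) ⊆ (({1, r, y * c, y * c * r} : Finset G) : Set G) := by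
      intro t ht
      simpa using key t ht
    have h6 := Set.ncard_le_ncard h5 (Finset.finite_toSet _)
    rw [Set.ncard_coe_finset] at h6
    have h7 : Nat.card R = (R : Set G).ncard := Nat.card_coe_set_eq _
    have h9 : ({1, r, y * c, y * c * r} : Finset G).card ≤ 4 := Finset.card_le_four
    omega
  have ht₀N := h.RN ht₀
  have hay : a * y ∈ N := mul_mem ha hy
  -- the two transvections
  obtain ⟨a', ha', haa, haB, g, hg, hgn⟩ := h.exists_tau ha ar ht₀N at₀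
  obtain ⟨b', hb', hbb, hbB, k, hk, hkn⟩ := h.exists_tau hay
    (by rw [h.o.add_left ha hy h.o.r_mem, ar, hyR r h.rR, add_zero]) ht₀N
    (by rw [h.o.add_left ha hy ht₀N, at₀, hyR t₀ ht₀, add_zero])
  have hyr : ∀ x ∈ R, Bg C r (a * y) x = Bg C r a x := fun x hx => by
    rw [h.o.add_left ha hy (h.RN hx), hyR x hx, add_zero]
  -- action on `R`
  have act : ∀ x ∈ R, (Bg C r a x = 0 ∧ k * g * x * (k * g)⁻¹ = x) ∨
      (Bg C r a x = 1 ∧ k * g * x * (k * g)⁻¹ = x * (a' * b')) := by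
    intro x hx
    have hxN := h.RN hx
    have e : k * g * x * (k * g)⁻¹ = k * (g * x * g⁻¹) * k⁻¹ := by group
    rw [e]
    rcases hgn x hxN with ⟨h1, h2⟩ | ⟨h1, h2⟩
    · left
      refine ⟨h1, ?_⟩
      rw [h2]
      rcases hkn x hxN with ⟨-, h3⟩ | ⟨h3, -⟩
      · exact h3
      · rw [hyr x hx, h1] at h3; exact absurd h3 (by decide)
    · right
      refine ⟨h1, ?_⟩
      rw [h2]
      rcases hkn _ (mul_mem hxN ha') with ⟨h3, -⟩ | ⟨-, h3⟩
      · exfalso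
        rw [h.o.add _ hay _ hxN _ ha', hyr x hx, h1, h.o.add_left ha hy ha', h.o.comm _ ha _ ha', haB a ha,
          h.o.self a ha, h.o.comm _ hy _ ha', haB y hy, ay] at h3
        exact absurd h3 (by decide)
      · rw [h3, mul_assoc]
  -- `a'b' = y`
  have hcN := h.o.c_mem
  have hab : a' * b' = y := by
    have hyy : a' * b' = y ∨ a' * b' = y * c := by
      have e1 : a = a' ∨ a = c * a' := by
        have haa' := h.o.sq a' ha'
        rcases (mem_zp2 h.cc).1 haa with e | e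
        · left
          calc a = a * a' * a' := by rw [mul_assoc, haa', mul_one]
            _ = a' := by rw [e, one_mul]
        · right
          calc a = a * a' * a' := by rw [mul_assoc, haa', mul_one]
            _ = c * a' := by rw [e]
      have e2 : b' = a * y ∨ b' = a * y * c := by
        have hay2 := h.o.sq _ hay
        rcases (mem_zp2 h.cc).1 hbb with e | e
        · left
          calc b' = a * y * (a * y * b') := by rw [← mul_assoc, hay2, one_mul]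
            _ = a * y := by rw [e, mul_one]
        · right
          calc b' = a * y * (a * y * b') := by rw [← mul_assoc, hay2, one_mul]
            _ = a * y * c := by rw [e]
      have haa' := h.o.sq a' ha'
      have hca : c * a' = a' * c := hs.mc hcN ha'
      have hcy : c * y = y * c := hs.mc hcN hy
      rcases e1 with e1 | e1 <;> rcases e2 with e2 | e2 <;> rw [e2]
      · left
        calc a' * (a * y) = a' * a * y := by group
          _ = y := by rw [e1, haa', one_mul]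
      · right
        calc a' * (a * y * c) = a' * a * y * c := by group
          _ = y * c := by rw [e1, haa', one_mul]
      · right
        calc a' * (a * y) = a' * a * y := by group
          _ = a' * (a' * c) * y := by rw [e1, hca]
          _ = (a' * a') * (c * y) := by group
          _ = y * c := by rw [haa', one_mul, hcy]
      · left
        calc a' * (a * y * c) = a' * a * y * c := by group
          _ = a' * (a' * c) * y * c := by rw [e1, hca]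
          _ = (a' * a') * (c * y) * c := by group
          _ = y * (c * c) := by rw [haa', one_mul, hcy]; group
          _ = y := by rw [h.cc, mul_one]
    rcases hyy with e | e
    · exact e
    · exfalso
      rcases act t₀ ht₀ with ⟨h1, -⟩ | ⟨-, h2⟩
      · rw [at₀] at h1; exact absurd h1 (by decide)
      · have hyc : y * c ∈ N := mul_mem hy hcN
        have h3 := h.o.inv _ (mul_mem hk hg).1 t₀ ht₀N
        rw [h2, e, GOrth.Q_mul, h.o.Qmulc hy, hQ, h.o.add _ ht₀N _ hy _ hcN, h.o.comm _ ht₀N _ hy, hyR t₀ ht₀,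
          h.o.comm _ ht₀N _ hcN, h.o.Bc t₀ ht₀N] at h3
        have h4 : ∀ u : ZMod 2, u + (0 + 1) + (0 + 0) ≠ u := by decide
        exact h4 _ h3
  rw [hab] at act
  -- `S₃ = R ∩ a^⊥`
  have hS₃ : ∀ t ∈ R, k * g * t * (k * g)⁻¹ ∈ R ↔ t ∈ R ⊓ hs.pp ha := by
    intro t ht
    rcases act t ht with ⟨h1, h2⟩ | ⟨h1, h2⟩
    · rw [h2]
      exact ⟨fun _ => ⟨ht, h.RN ht, h1⟩, fun _ => ht⟩
    · rw [h2]
      constructor
      · intro h3
        exfalso
        apply hyn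
        have h4 := mul_mem (inv_mem ht) h3
        rwa [inv_mul_cancel_left] at h4
      · intro h3
        rw [h3.2.2] at h1
        exact absurd h1 (by decide)
  have hc₃ : Nat.card R = 2 * Nat.card (R ⊓ hs.pp ha : Subgroup G) := by
    refine card_ker (f := Bg C r a) (fun x hx y hy => h.o.add a ha x (h.RN hx) y (h.RN hy)) (fun x => ?_)
      ⟨t₀, ht₀, at₀⟩
    exact ⟨fun hx => ⟨hx.1, hx.2.2⟩, fun hx => ⟨hx.1, h.RN hx.1, hx.2⟩⟩
  have hperp : ∀ t ∈ R, ∀ t' ∈ R, Bg C r t (k * g * t' * (k * g)⁻¹) = 0 := by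
    intro t ht t' ht'
    rcases act t' ht' with ⟨-, h2⟩ | ⟨-, h2⟩
    · rw [h2]; exact h.iso t ht t' ht'
    · rw [h2, h.o.add _ (h.RN ht) _ (h.RN ht') _ hy, h.iso t ht t' ht', h.o.comm _ (h.RN ht) _ hy, hyR t ht, add_zero]
  have e1 := h.card_II hS₁ hmS₁
  have e2 := h.card_II hS₂ hmS₂
  have e3 := h.card_II inf_le_left hS₃
  rcases h.pig m₁ hm₁ m₂ hm₂ (k * g) (mul_mem hk hg) (h.not_norm hS₁ hmS₁ (by omega))
    (h.not_norm hS₂ hmS₂ (by omega)) (h.not_norm inf_le_left hS₃ (by omega)) with h5 | h5 | h5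
  · have := h5.card
    rw [e1, e2] at this; omega
  · -- both of index 2
    obtain ⟨u, hu, v, hv, e⟩ := h5
    have h6 := hperp (u * t₁ * u⁻¹) ((mem_normalizer_iff.1 hu.2 _).1 ht₁) (v⁻¹ * t₁ * v) (by
      have := (mem_normalizer_iff.1 (inv_mem hv.2) _).1 ht₁
      rwa [inv_inv] at this)
    have e7 : k * g * (v⁻¹ * t₁ * v) * (k * g)⁻¹ = u * (m₁ * t₁ * m₁⁻¹) * u⁻¹ := by
      rw [e]; group
    rw [e7, h.o.B_inv hu.1 (h.RN ht₁) (h.o.nor _ hm₁.1 _ (h.RN ht₁)), hn] at h6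
    exact absurd h6 (by decide)
  · have := h5.card
    rw [e2, e3] at this; omega

/-- `|N| = 128` -/
theorem card_N [Finite G] (h4 : 4 < Nat.card R) : Nat.card N = 128 := by
  have hs := sy_of h.o
  have h8 := h.card_eq h4
  have hcN := h.o.c_mem
  -- `|r^⊥| = |N| / 2`, ...
  obtain ⟨m₁, hm₁, m₂, hm₂, S₁, hS₁, S₂, hS₂, hr₂, hmS₁, hmS₂, hmf₂, hc₁, hc₂, -⟩ := h.two_steps h4
  have hr₁ : r ∈ S₁ := (hmS₁ r h.rR).1 (by
    have : m₁ * r * m₁⁻¹ = r := by rw [mem_centralizer_singleton_iff.1 hm₁.2, mul_inv_cancel_right]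
    rw [this]; exact h.rR)
  obtain ⟨t, ht, htr⟩ : ∃ t ∈ S₁, t ≠ 1 ∧ t ≠ r := by
    by_contra hcon
    push Not at hcon
    have h1 : S₁ ≤ zpowers r := by
      intro x hx
      by_cases hx1 : x = 1
      · rw [hx1]; exact one_mem _
      · rw [hcon x hx hx1]; exact mem_zpowers _
    have h2 := Subgroup.card_le_of_le h1
    rw [Nat.card_zpowers] at h2
    have h3 : orderOf r ≤ 2 := orderOf_le_of_pow_eq_one (by norm_num) (by rw [pow_two, h.o.sq r h.o.r_mem])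
    omega
  obtain ⟨u, hu, hu1⟩ : ∃ u ∈ R, u ∉ S₁ := by
    by_contra hcon
    push Not at hcon
    have := Subgroup.card_le_of_le (show R ≤ S₁ from hcon)
    omega
  have htR := hS₁ ht
  have htN := h.RN htR
  have huN := h.RN hu
  have hrN := h.o.r_mem
  have hrr := h.o.sq r hrN
  have eqr : ∀ x y : G, y ∈ N → x * y = 1 → x = y := fun x y hy e => by
    calc x = x * (y * y) := by rw [h.o.sq y hy, mul_one]
      _ = y := by rw [← mul_assoc, e, one_mul]
  have n1 : t * r ∉ zpowers c := h.not_zp (mul_mem htR h.rR) fun e => htr.2 (eqr _ _ hrN e)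
  have n2 : ∀ x ∈ S₁, u * x ∉ zpowers c := fun x hx => h.not_zp (mul_mem hu (hS₁ hx)) fun e =>
    hu1 (by rw [eqr u x (h.RN (hS₁ hx)) e]; exact hx)
  obtain ⟨z₁, hz₁, z₁r⟩ := hs.sep1 hrN (h.not_zp h.rR h.r1)
  obtain ⟨z₂, hz₂, z₂t, z₂r⟩ := hs.sep2 htN hrN (h.not_zp htR htr.1) n1
  obtain ⟨z₃, hz₃, z₃u, z₃t, z₃r⟩ := hs.sep3 huN htN hrN (by simpa using n2 1 (one_mem _)) (n2 t ht) (n2 r hr₁)
    (by rw [mul_assoc]; exact n2 _ (mul_mem ht hr₁))
  have a1 : Nat.card N = 2 * Nat.card (hs.pp hrN) :=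
    card_ker (f := Bg C r r) (fun x hx y hy => h.o.add r hrN x hx y hy) (fun x => Iff.rfl) ⟨z₁, hz₁, z₁r⟩
  have a2 : Nat.card (hs.pp hrN) = 2 * Nat.card (hs.pp hrN ⊓ hs.pp htN : Subgroup G) :=
    card_ker (f := Bg C r t) (fun x hx y hy => h.o.add t htN x hx.1 y hy.1)
      (fun x => ⟨fun hx => ⟨hx.1, hx.2.2⟩, fun hx => ⟨hx.1, hx.1.1, hx.2⟩⟩) ⟨z₂, ⟨hz₂, z₂r⟩, z₂t⟩
  have a3 : Nat.card (hs.pp hrN ⊓ hs.pp htN : Subgroup G) =
      2 * Nat.card (hs.pp hrN ⊓ hs.pp htN ⊓ hs.pp huN : Subgroup G) :=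
    card_ker (f := Bg C r u) (fun x hx y hy => h.o.add u huN x hx.1.1 y hy.1.1)
      (fun x => ⟨fun hx => ⟨hx.1, hx.2.2⟩, fun hx => ⟨hx.1, hx.1.1.1, hx.2⟩⟩) ⟨z₃, ⟨⟨hz₃, z₃r⟩, ⟨hz₃, z₃t⟩⟩, z₃u⟩
  -- `R = ⟨r, t, u⟩`
  have hgen : ∀ x ∈ hs.pp hrN ⊓ hs.pp htN ⊓ hs.pp huN, ∀ y ∈ R, Bg C r x y = 0 := by
    intro x hx
    have hxN : x ∈ N := hx.1.1.1
    have hp : R ≤ hs.pp hxN := by
      have hle : R ⊓ hs.pp hxN ≤ R := inf_le_left
      -- a subgroup of `R` containing `r`, `t`, `u` is `R`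
      have c1 : S₁ ≤ hs.pp hxN := by
        have h4 : 2 * Nat.card (zpowers r) ≤ Nat.card (S₁ ⊓ hs.pp hxN : Subgroup G) := by
          refine two_mul_card_le (zpowers_le.2 ⟨hr₁, hrN, ?_⟩) ⟨t, ⟨ht, htN, ?_⟩, fun e => ?_⟩
          · rw [h.o.comm _ hxN _ hrN]; exact hx.1.1.2
          · rw [h.o.comm _ hxN _ htN]; exact hx.1.2.2
          · rcases (mem_zp2 hrr).1 e with e1 | e1
            · exact htr.1 e1
            · exact htr.2 e1
        have h5 : Nat.card (zpowers r) = 2 := by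
          rw [Nat.card_zpowers]
          exact orderOf_eq_prime (by rw [pow_two, hrr]) h.r1
        have h6 : S₁ ⊓ hs.pp hxN = S₁ := Subgroup.eq_of_le_of_card_ge inf_le_left (by omega)
        exact inf_eq_left.1 h6
      have h4 : 2 * Nat.card S₁ ≤ Nat.card (R ⊓ hs.pp hxN : Subgroup G) := by
        refine two_mul_card_le (le_inf hS₁ c1) ⟨u, ⟨hu, huN, ?_⟩, hu1⟩
        rw [h.o.comm _ hxN _ huN]; exact hx.2.2
      have h6 : R ⊓ hs.pp hxN = R := Subgroup.eq_of_le_of_card_ge inf_le_left (by omega)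
      exact inf_eq_left.1 h6
    exact fun y hy => (hp hy).2
  -- `R^⊥ = R ∪ Rc`
  have a4 : Nat.card (hs.pp hrN ⊓ hs.pp htN ⊓ hs.pp huN : Subgroup G) = 2 * Nat.card R := by
    have hRle : R ≤ hs.pp hrN ⊓ hs.pp htN ⊓ hs.pp huN := fun x hx =>
      ⟨⟨⟨h.RN hx, h.iso r h.rR x hx⟩, ⟨h.RN hx, h.iso t htR x hx⟩⟩, ⟨h.RN hx, h.iso u hu x hx⟩⟩
    apply le_antisymm
    · have h5 := card_le_two_mul (K := R) (H := hs.pp hrN ⊓ hs.pp htN ⊓ hs.pp huN) (fun x hx y hy hxR hyR => by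
        have key : ∀ x ∈ hs.pp hrN ⊓ hs.pp htN ⊓ hs.pp huN, x ∉ R → x * c ∈ R := by
          intro x hx hxR
          have hxN : x ∈ N := hx.1.1.1
          rcases z2 (Qg C r x) with h6 | h6
          · exact absurd (h.sing h4 hxN (hgen x hx) h6) hxR
          · refine h.sing h4 (mul_mem hxN hcN) (fun y hy => ?_) (by rw [h.o.Qmulc hxN, h6]; decide)
            rw [h.o.add_left hxN hcN (h.RN hy), hgen x hx y hy, h.o.Bc _ (h.RN hy), add_zero]
        have h6 := mul_mem (inv_mem (key x hx hxR)) (key y hy hyR)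
        have hxN : x ∈ N := hx.1.1.1
        have hyN : y ∈ N := hy.1.1.1
        have e : (x * c)⁻¹ * (y * c) = x⁻¹ * y := by
          rw [hs.mc hxN hcN, mul_inv_rev, mul_assoc, hs.mc hyN hcN, ← mul_assoc c⁻¹, inv_mul_cancel, one_mul]
        rwa [e] at h6)
      rwa [inf_eq_left.2 hRle] at h5
    · refine two_mul_card_le hRle ⟨c, ⟨⟨⟨hcN, ?_⟩, ⟨hcN, ?_⟩⟩, ⟨hcN, ?_⟩⟩, h.cR⟩
      · rw [h.o.comm _ hrN _ hcN]; exact h.o.Bc _ hrN
      · rw [h.o.comm _ htN _ hcN]; exact h.o.Bc _ htN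
      · rw [h.o.comm _ huN _ hcN]; exact h.o.Bc _ huN
  omega

end Rk

end Cfsg.Agent.Omega.IId.PlaneRk
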