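import Cfsg.Agent.Omega.TV.GOrth

/-!
# II.d, CASE 1, `q = 2`: symplectic systems (bb OMEGA #15930)

helper310.  `Sy M P Y B`: `P` elementary abelian, `B` an `M`-invariant alternating form with radical `Y`, `M`
induces all transvections of `P / Y`.  `St M Y p` : the stabiliser of the point `pY`.

* `norm_trans` : a normal subgroup of `M` moving the point `pY` is transitive on the points;
* `perp_gen` : if `H ≥ St` moves `pY` to a perpendicular point then `M ≤ H`;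
* `dc_np`, `dc_p` : `St` is transitive on the points perpendicular (not perpendicular) to `pY`;
* `pigeon` : three elements of `M ∖ St` lie in at most two double cosets of `St`.
-/

set_option autoImplicit false

namespace Cfsg.Agent.Omega.IId.PlaneSy

open Subgroup

variable {G : Type*} [Group G]

/-- A symplectic system. -/
structure Sy (M P Y : Subgroup G) (B : G → G → ZMod 2) : Prop where
  sq : ∀ x ∈ P, x * x = 1
  nor : ∀ g ∈ M, ∀ x ∈ P, g * x * g⁻¹ ∈ P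
  YP : Y ≤ P
  add : ∀ x ∈ P, ∀ y ∈ P, ∀ z ∈ P, B x (y * z) = B x y + B x z
  comm : ∀ x ∈ P, ∀ y ∈ P, B x y = B y x
  self : ∀ x ∈ P, B x x = 0
  inv : ∀ g ∈ M, ∀ x ∈ P, ∀ y ∈ P, B (g * x * g⁻¹) (g * y * g⁻¹) = B x y
  zero : ∀ x ∈ Y, ∀ y ∈ P, B x y = 0
  rad : ∀ x ∈ P, (∀ y ∈ P, B x y = 0) → x ∈ Y
  tv : ∀ z ∈ P, z ∉ Y → ∃ z' ∈ P, z * z' ∈ Y ∧ ∃ g ∈ M, ∀ n ∈ P,
    (B z n = 0 ∧ g * n * g⁻¹ = n) ∨ (B z n = 1 ∧ g * n * g⁻¹ = n * z')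

/-- An elementary abelian 2-group is commutative. -/
theorem comm_of_sq {P : Subgroup G} (h : ∀ x ∈ P, x * x = 1) {x y : G} (hx : x ∈ P) (hy : y ∈ P) : x * y = y * x := by
  have h1 : x * y = (x * y)⁻¹ := eq_inv_of_mul_eq_one_left (h _ (mul_mem hx hy))
  have h2 : x⁻¹ = x := inv_eq_of_mul_eq_one_left (h x hx)
  have h3 : y⁻¹ = y := inv_eq_of_mul_eq_one_left (h y hy)
  rw [h1, mul_inv_rev, h2, h3]

theorem z2 (a : ZMod 2) : a = 0 ∨ a = 1 := by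
  revert a; decide

theorem z2_self (a : ZMod 2) : a + a = 0 := by
  revert a; decide

namespace Sy

variable {M P Y : Subgroup G} {B : G → G → ZMod 2} (h : Sy M P Y B)
include h

theorem mc {x y : G} (hx : x ∈ P) (hy : y ∈ P) : x * y = y * x := comm_of_sq h.sq hx hy

theorem iv {x : G} (hx : x ∈ P) : x⁻¹ = x := inv_eq_of_mul_eq_one_left (h.sq x hx)

theorem add_left {x y z : G} (hx : x ∈ P) (hy : y ∈ P) (hz : z ∈ P) : B (x * y) z = B x z + B y z := by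
  rw [h.comm _ (mul_mem hx hy) _ hz, h.add z hz x hx y hy, h.comm z hz x hx, h.comm z hz y hy]

theorem one_right {x : G} (hx : x ∈ P) : B x 1 = 0 := by
  have := h.add x hx 1 P.one_mem 1 P.one_mem
  rw [one_mul, z2_self] at this
  exact this

theorem nor' {g x : G} (hg : g ∈ M) (hx : x ∈ P) : g⁻¹ * x * g ∈ P := by
  have := h.nor _ (inv_mem hg) x hx
  rwa [inv_inv] at this

theorem inv_left {g x y : G} (hg : g ∈ M) (hx : x ∈ P) (hy : y ∈ P) : B (g * x * g⁻¹) y = B x (g⁻¹ * y * g) := by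
  have e : y = g * (g⁻¹ * y * g) * g⁻¹ := by group
  conv_lhs => rw [e]
  rw [h.inv g hg x hx _ (h.nor' hg hy)]

theorem inv_right {g x y : G} (hg : g ∈ M) (hx : x ∈ P) (hy : y ∈ P) : B x (g * y * g⁻¹) = B (g⁻¹ * x * g) y := by
  rw [h.comm _ hx _ (h.nor g hg y hy), h.inv_left hg hy hx, h.comm _ hy _ (h.nor' hg hx)]

/-- `M` normalises `Y`. -/
theorem norY {g y : G} (hg : g ∈ M) (hy : y ∈ Y) : g * y * g⁻¹ ∈ Y := by
  refine h.rad _ (h.nor g hg y (h.YP hy)) fun x hx => ?_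
  rw [h.inv_left hg (h.YP hy) hx]
  exact h.zero y hy _ (h.nor' hg hx)

theorem norY' {g y : G} (hg : g ∈ M) (hy : y ∈ Y) : g⁻¹ * y * g ∈ Y := by
  have := h.norY (inv_mem hg) hy
  rwa [inv_inv] at this

/-- `x ≡ x'`: the forms agree. -/
theorem congr {x x' y : G} (hx : x ∈ P) (hx' : x' ∈ P) (hy : y ∈ P) (e : x * x' ∈ Y) : B x y = B x' y := by
  have h1 := h.zero _ e y hy
  rw [h.add_left hx hx' hy] at h1
  rcases z2 (B x y) with h2 | h2 <;> rcases z2 (B x' y) with h3 | h3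
  · rw [h2, h3]
  · rw [h2, h3] at h1; exact absurd h1 (by decide)
  · rw [h2, h3] at h1; exact absurd h1 (by decide)
  · rw [h2, h3]

theorem eqv_symm {x y : G} (hx : x ∈ P) (hy : y ∈ P) (e : x * y ∈ Y) : y * x ∈ Y := by
  rwa [← h.mc hx hy]

theorem eqv_trans {x y z : G} (hy : y ∈ P) (e : x * y ∈ Y) (e' : y * z ∈ Y) : x * z ∈ Y := by
  have := mul_mem e e'
  have h1 : x * y * (y * z) = x * (y * y) * z := by group
  rwa [h1, h.sq y hy, mul_one] at this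

theorem eqv_conj {g x y : G} (hg : g ∈ M) (e : x * y ∈ Y) : g * x * g⁻¹ * (g * y * g⁻¹) ∈ Y := by
  have := h.norY hg e
  have h1 : g * (x * y) * g⁻¹ = g * x * g⁻¹ * (g * y * g⁻¹) := by group
  rwa [h1] at this

/-- The step of the duality. -/
theorem radstep {Z : Subgroup G} (hZ : Z ≤ P) {b x : G} (hb : b ∈ P) (hx : x ∈ P)
    (hz : ∀ z ∈ Z, B b z = 0 → B x z = 0) : (∀ z ∈ Z, B x z = 0) ∨ (∀ z ∈ Z, B (x * b) z = 0) := by
  by_cases hb0 : ∀ z ∈ Z, B b z = 0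
  · exact Or.inl fun z hz' => hz z hz' (hb0 z hz')
  push Not at hb0
  obtain ⟨z₁, hz₁, hb₁⟩ := hb0
  have hb₁ : B b z₁ = 1 := (z2 _).resolve_left hb₁
  have key : ∀ z ∈ Z, B b z = 1 → B x z = B x z₁ := by
    intro z hz' hbz
    have h1 := hz (z * z₁) (mul_mem hz' hz₁) (by
      rw [h.add b hb z (hZ hz') z₁ (hZ hz₁), hbz, hb₁]; decide)
    rw [h.add x hx z (hZ hz') z₁ (hZ hz₁)] at h1
    rcases z2 (B x z) with h2 | h2 <;> rcases z2 (B x z₁) with h3 | h3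
    · rw [h2, h3]
    · rw [h2, h3] at h1; exact absurd h1 (by decide)
    · rw [h2, h3] at h1; exact absurd h1 (by decide)
    · rw [h2, h3]
  rcases z2 (B x z₁) with h2 | h2
  · left
    intro z hz'
    rcases z2 (B b z) with h3 | h3
    · exact hz z hz' h3
    · rw [key z hz' h3, h2]
  · right
    intro z hz'
    rw [h.add_left hx hb (hZ hz')]
    rcases z2 (B b z) with h3 | h3
    · rw [hz z hz' h3, h3, add_zero]
    · rw [key z hz' h3, h2, h3]; decide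

theorem sep1 {a : G} (ha : a ∈ P) (ha' : a ∉ Y) : ∃ z ∈ P, B a z = 1 := by
  by_contra hcon
  push Not at hcon
  exact ha' (h.rad a ha fun z hz => (z2 _).resolve_right (hcon z hz))

theorem sep2 {a b : G} (ha : a ∈ P) (hb : b ∈ P) (h1 : a ∉ Y) (h2 : a * b ∉ Y) :
    ∃ z ∈ P, B a z = 1 ∧ B b z = 0 := by
  by_contra hcon
  push Not at hcon
  rcases h.radstep le_rfl hb ha (fun z hz hbz => (z2 _).resolve_right fun e => hcon z hz e hbz) with h3 | h3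
  · exact h1 (h.rad a ha h3)
  · exact h2 (h.rad _ (mul_mem ha hb) h3)

/-- `b^⊥` -/
def pp {b : G} (hb : b ∈ P) : Subgroup G where
  carrier := {z | z ∈ P ∧ B b z = 0}
  one_mem' := ⟨P.one_mem, h.one_right hb⟩
  mul_mem' := by
    rintro x y ⟨hx, hx'⟩ ⟨hy, hy'⟩
    exact ⟨mul_mem hx hy, by rw [h.add b hb x hx y hy, hx', hy', add_zero]⟩
  inv_mem' := by
    rintro x ⟨hx, hx'⟩
    exact ⟨inv_mem hx, by rw [h.iv hx, hx']⟩

theorem sep3 {a b c : G} (ha : a ∈ P) (hb : b ∈ P) (hc : c ∈ P) (h1 : a ∉ Y) (h2 : a * b ∉ Y) (h3 : a * c ∉ Y)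
    (h4 : a * b * c ∉ Y) : ∃ z ∈ P, B a z = 1 ∧ B b z = 0 ∧ B c z = 0 := by
  by_contra hcon
  push Not at hcon
  rcases h.radstep (Z := h.pp hc) (fun z hz => hz.1) hb ha
    (fun z hz hbz => (z2 _).resolve_right fun e => hcon z hz.1 e hbz hz.2) with h5 | h5
  · rcases h.radstep le_rfl hc ha (fun z hz hcz => h5 z ⟨hz, hcz⟩) with h6 | h6
    · exact h1 (h.rad a ha h6)
    · exact h3 (h.rad _ (mul_mem ha hc) h6)
  · rcases h.radstep le_rfl hc (mul_mem ha hb) (fun z hz hcz => h5 z ⟨hz, hcz⟩) with h6 | h6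
    · exact h2 (h.rad _ (mul_mem ha hb) h6)
    · exact h4 (h.rad _ (mul_mem (mul_mem ha hb) hc) h6)

/-- two prescribed values -/
theorem val2 {a b : G} (ha : a ∈ P) (hb : b ∈ P) (h1 : a ∉ Y) (h2 : b ∉ Y) (h3 : a * b ∉ Y) (α β : ZMod 2) :
    ∃ z ∈ P, B a z = α ∧ B b z = β := by
  obtain ⟨u, hu, ua, ub⟩ := h.sep2 ha hb h1 h3
  obtain ⟨w, hw, wb, wa⟩ := h.sep2 hb ha h2 (by rwa [h.mc hb ha])
  rcases z2 α with rfl | rfl <;> rcases z2 β with rfl | rfl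
  · exact ⟨1, P.one_mem, h.one_right ha, h.one_right hb⟩
  · exact ⟨w, hw, wa, wb⟩
  · exact ⟨u, hu, ua, ub⟩
  · exact ⟨u * w, mul_mem hu hw, by rw [h.add a ha u hu w hw, ua, wa, add_zero],
      by rw [h.add b hb u hu w hw, ub, wb, zero_add]⟩

/-- three prescribed values -/
theorem val3 {a b c : G} (ha : a ∈ P) (hb : b ∈ P) (hc : c ∈ P) (h1 : a ∉ Y) (h2 : b ∉ Y) (h3 : c ∉ Y)
    (h4 : a * b ∉ Y) (h5 : a * c ∉ Y) (h6 : b * c ∉ Y) (h7 : a * b * c ∉ Y) (α β γ : ZMod 2) :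
    ∃ z ∈ P, B a z = α ∧ B b z = β ∧ B c z = γ := by
  obtain ⟨u, hu, ua, ub, uc⟩ := h.sep3 ha hb hc h1 h4 h5 h7
  have e1 : b * a * c = a * b * c := by rw [h.mc hb ha]
  have e2 : b * c * a = a * b * c := by rw [h.mc (mul_mem hb hc) ha, mul_assoc]
  obtain ⟨w, hw, wb, wc, wa⟩ := h.sep3 hb hc ha h2 h6 (by rwa [h.mc hb ha]) (by rwa [e2])
  have e3 : c * a * b = a * b * c := by rw [mul_assoc, h.mc hc (mul_mem ha hb)]
  obtain ⟨x, hx, xc, xa, xb⟩ := h.sep3 hc ha hb h3 (by rwa [h.mc hc ha]) (by rwa [h.mc hc hb]) (by rwa [e3])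
  have step : ∀ (ε : ZMod 2) (t : G), t ∈ P → ∃ t' ∈ P, ∀ y ∈ P, B y t' = ε * B y t := by
    intro ε t ht
    rcases z2 ε with rfl | rfl
    · exact ⟨1, P.one_mem, fun y hy => by rw [h.one_right hy, zero_mul]⟩
    · exact ⟨t, ht, fun y hy => by rw [one_mul]⟩
  obtain ⟨u', hu', e4⟩ := step α u hu
  obtain ⟨w', hw', e5⟩ := step β w hw
  obtain ⟨x', hx', e6⟩ := step γ x hx
  have add3 : ∀ y ∈ P, B y (u' * w' * x') = α * B y u + β * B y w + γ * B y x := by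
    intro y hy
    rw [h.add y hy _ (mul_mem hu' hw') _ hx', h.add y hy _ hu' _ hw', e4 y hy, e5 y hy, e6 y hy]
  refine ⟨u' * w' * x', mul_mem (mul_mem hu' hw') hx', ?_, ?_, ?_⟩
  · rw [add3 a ha, ua, wa, xa]; ring
  · rw [add3 b hb, ub, wb, xb]; ring
  · rw [add3 c hc, uc, wc, xc]; ring

theorem not_mem_of {a z : G} (hz : z ∈ P) (e : B a z = 1) : a ∉ Y := fun ha => by
  have := h.zero a ha z hz
  rw [e] at this
  exact one_ne_zero this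

/-- one transvection: `q₁ → q₂` fixing `p` -/
theorem tr {q₁ q₂ : G} (h1 : q₁ ∈ P) (h2 : q₂ ∈ P) (h12 : B q₁ q₂ = 1) :
    ∃ g ∈ M, (∀ p ∈ P, B p q₁ = B p q₂ → g * p * g⁻¹ = p) ∧ g * q₁ * g⁻¹ * q₂ ∈ Y := by
  have hz : q₁ * q₂ ∈ P := mul_mem h1 h2
  have hzB : B (q₁ * q₂) q₁ = 1 := by
    rw [h.add_left h1 h2 h1, h.self _ h1, h.comm _ h2 _ h1, h12, zero_add]
  obtain ⟨z', hz', hzz, g, hg, hgn⟩ := h.tv _ hz (h.not_mem_of h1 hzB)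
  refine ⟨g, hg, fun p hp e => ?_, ?_⟩
  · rcases hgn p hp with ⟨-, h3⟩ | ⟨h3, -⟩
    · exact h3
    · rw [h.add_left h1 h2 hp, h.comm _ h1 _ hp, h.comm _ h2 _ hp, e, z2_self] at h3
      exact absurd h3 (by decide)
  · rcases hgn q₁ h1 with ⟨h3, -⟩ | ⟨-, h3⟩
    · rw [hzB] at h3; exact absurd h3 (by decide)
    · rw [h3]
      have e : q₁ * z' * q₂ = q₁ * q₂ * z' := by rw [mul_assoc, h.mc hz' h2, mul_assoc]
      rwa [e]

/-- two transvections -/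
theorem tr2 {q₁ q₂ q₃ : G} (h1 : q₁ ∈ P) (h2 : q₂ ∈ P) (h3 : q₃ ∈ P) (h13 : B q₁ q₃ = 1) (h23 : B q₂ q₃ = 1) :
    ∃ g ∈ M, (∀ p ∈ P, B p q₁ = B p q₃ → B p q₂ = B p q₃ → g * p * g⁻¹ = p) ∧ g * q₁ * g⁻¹ * q₂ ∈ Y := by
  obtain ⟨g, hg, g1, g2⟩ := h.tr h1 h3 h13
  obtain ⟨k, hk, k1, k2⟩ := h.tr h3 h2 (by rw [h.comm _ h3 _ h2]; exact h23)
  refine ⟨k * g, mul_mem hk hg, fun p hp e1 e2 => ?_, ?_⟩
  · have e : k * g * p * (k * g)⁻¹ = k * (g * p * g⁻¹) * k⁻¹ := by group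
    rw [e, g1 p hp e1]
    exact k1 p hp e2.symm
  · have e : k * g * q₁ * (k * g)⁻¹ = k * (g * q₁ * g⁻¹) * k⁻¹ := by group
    rw [e]
    exact h.eqv_trans (h.nor k hk q₃ h3) (h.eqv_conj hk g2) k2

/-- `M_p` is transitive on the points not perpendicular to `p`. -/
theorem trans_np {p q₁ q₂ : G} (hp : p ∈ P) (h1 : q₁ ∈ P) (h2 : q₂ ∈ P) (hp1 : B p q₁ = 1) (hp2 : B p q₂ = 1) :
    ∃ g ∈ M, g * p * g⁻¹ = p ∧ g * q₁ * g⁻¹ * q₂ ∈ Y := by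
  rcases z2 (B q₁ q₂) with h12 | h12
  · by_cases hY : q₁ * q₂ ∈ Y
    · exact ⟨1, M.one_mem, by group, by simpa using hY⟩
    have n1 : p ∉ Y := h.not_mem_of h1 hp1
    have n2 : q₁ ∉ Y := h.not_mem_of hp (by rw [h.comm _ h1 _ hp]; exact hp1)
    have n3 : q₂ ∉ Y := h.not_mem_of hp (by rw [h.comm _ h2 _ hp]; exact hp2)
    have n4 : p * q₁ ∉ Y := h.not_mem_of h1 (by rw [h.add_left hp h1 h1, hp1, h.self _ h1, add_zero])
    have n5 : p * q₂ ∉ Y := h.not_mem_of h2 (by rw [h.add_left hp h2 h2, hp2, h.self _ h2, add_zero])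
    have n6 : p * q₁ * q₂ ∉ Y := h.not_mem_of h1 (by
      rw [h.add_left (mul_mem hp h1) h2 h1, h.add_left hp h1 h1, hp1, h.self _ h1, h.comm _ h2 _ h1, h12]; decide)
    obtain ⟨q₃, h3, e1, e2, e3⟩ := h.val3 hp h1 h2 n1 n2 n3 n4 n5 hY n6 1 1 1
    obtain ⟨g, hg, g1, g2⟩ := h.tr2 h1 h2 h3 e2 e3
    exact ⟨g, hg, g1 p hp (by rw [hp1, e1]) (by rw [hp2, e1]), g2⟩
  · obtain ⟨g, hg, g1, g2⟩ := h.tr h1 h2 h12
    exact ⟨g, hg, g1 p hp (by rw [hp1, hp2]), g2⟩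

/-- `M_p` is transitive on the points perpendicular to `p`. -/
theorem trans_p {p q₁ q₂ : G} (hp : p ∈ P) (h1 : q₁ ∈ P) (h2 : q₂ ∈ P) (hp1 : B p q₁ = 0) (hp2 : B p q₂ = 0)
    (np : p ∉ Y) (n1 : q₁ ∉ Y) (n2 : q₂ ∉ Y) (m1 : p * q₁ ∉ Y) (m2 : p * q₂ ∉ Y) :
    ∃ g ∈ M, g * p * g⁻¹ = p ∧ g * q₁ * g⁻¹ * q₂ ∈ Y := by
  rcases z2 (B q₁ q₂) with h12 | h12
  · by_cases hY : q₁ * q₂ ∈ Y
    · exact ⟨1, M.one_mem, by group, by simpa using hY⟩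
    obtain ⟨q₃, h3, e1, e2, e3⟩ : ∃ q₃ ∈ P, B p q₃ = 0 ∧ B q₁ q₃ = 1 ∧ B q₂ q₃ = 1 := by
      by_cases n6 : p * q₁ * q₂ ∈ Y
      · obtain ⟨q₃, h3, e1, e2⟩ := h.val2 hp h1 np n1 m1 0 1
        refine ⟨q₃, h3, e1, e2, ?_⟩
        have e4 := h.zero _ n6 q₃ h3
        rw [h.add_left (mul_mem hp h1) h2 h3, h.add_left hp h1 h3, e1, e2] at e4
        rcases z2 (B q₂ q₃) with h5 | h5
        · rw [h5] at e4; exact absurd e4 (by decide)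
        · exact h5
      · exact h.val3 hp h1 h2 np n1 n2 m1 m2 hY n6 0 1 1
    obtain ⟨g, hg, g1, g2⟩ := h.tr2 h1 h2 h3 e2 e3
    exact ⟨g, hg, g1 p hp (by rw [hp1, e1]) (by rw [hp2, e1]), g2⟩
  · obtain ⟨g, hg, g1, g2⟩ := h.tr h1 h2 h12
    exact ⟨g, hg, g1 p hp (by rw [hp1, hp2]), g2⟩

/-- A normal subgroup moving `pY` contains `k` with `p`, `kp` not perpendicular. -/
theorem norm_np {K : Subgroup G} (hK : K ≤ M) (hn : ∀ m ∈ M, ∀ k ∈ K, m * k * m⁻¹ ∈ K) {p k : G} (hp : p ∈ P)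
    (np : p ∉ Y) (hk : k ∈ K) (hkp : k * p * k⁻¹ * p ∉ Y) : ∃ g ∈ K, B p (g * p * g⁻¹) = 1 := by
  have hkM := hK hk
  have hp2 : k⁻¹ * p * k ∈ P := h.nor' hkM hp
  have n2 : k⁻¹ * p * k ∉ Y := fun e => np (by
    have := h.norY hkM e
    have e2 : k * (k⁻¹ * p * k) * k⁻¹ = p := by group
    rwa [e2] at this)
  have n3 : p * (k⁻¹ * p * k) ∉ Y := fun e => hkp (by
    have := h.norY hkM e
    have e2 : k * (p * (k⁻¹ * p * k)) * k⁻¹ = k * p * k⁻¹ * p := by group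
    rwa [e2] at this)
  obtain ⟨a, ha, e1, e2⟩ := h.val2 hp hp2 np n2 n3 1 0
  rw [h.comm _ hp _ ha] at e1
  rw [h.comm _ hp2 _ ha] at e2
  obtain ⟨a', ha', haa, g, hg, hgn⟩ := h.tv a ha (h.not_mem_of hp e1)
  have hB : ∀ y ∈ P, B a' y = B a y := fun y hy => (h.congr ha ha' hy haa).symm
  -- `g` fixes `a'`, `p₂`
  have ga : g * a' * g⁻¹ = a' := by
    rcases hgn a' ha' with ⟨-, h3⟩ | ⟨h3, -⟩
    · exact h3
    · rw [h.comm _ ha _ ha', hB a ha, h.self a ha] at h3; exact absurd h3 (by decide)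
  have gp : g * p * g⁻¹ = p * a' := by
    rcases hgn p hp with ⟨h3, -⟩ | ⟨-, h3⟩
    · rw [e1] at h3; exact absurd h3 (by decide)
    · exact h3
  have gp' : g⁻¹ * p * g = p * a' := by
    have e3 : g * (p * a') * g⁻¹ = p := by
      have e4 : g * (p * a') * g⁻¹ = g * p * g⁻¹ * (g * a' * g⁻¹) := by group
      rw [e4, gp, ga, mul_assoc, h.sq a' ha', mul_one]
    calc g⁻¹ * p * g = g⁻¹ * (g * (p * a') * g⁻¹) * g := by rw [e3]
      _ = p * a' := by group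
  have gp2 : g * (k⁻¹ * p * k) * g⁻¹ = k⁻¹ * p * k := by
    rcases hgn _ hp2 with ⟨-, h3⟩ | ⟨h3, -⟩
    · exact h3
    · rw [e2] at h3; exact absurd h3 (by decide)
  have ha2 : k⁻¹ * a' * k ∈ P := h.nor' hkM ha'
  -- the commutator
  refine ⟨k * (g * k⁻¹ * g⁻¹), mul_mem hk (hn g hg _ (inv_mem hk)), ?_⟩
  have e5 : k * (g * k⁻¹ * g⁻¹) * p * (k * (g * k⁻¹ * g⁻¹))⁻¹ =
      k * (g * (k⁻¹ * (g⁻¹ * p * g) * k) * g⁻¹) * k⁻¹ := by group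
  have e6 : k⁻¹ * (p * a') * k = (k⁻¹ * p * k) * (k⁻¹ * a' * k) := by group
  have e7 : g * ((k⁻¹ * p * k) * (k⁻¹ * a' * k)) * g⁻¹ =
      g * (k⁻¹ * p * k) * g⁻¹ * (g * (k⁻¹ * a' * k) * g⁻¹) := by group
  rw [e5, gp', e6, e7, gp2]
  rcases hgn _ ha2 with ⟨-, h3⟩ | ⟨-, h3⟩
  · rw [h3]
    have e8 : k * (k⁻¹ * p * k * (k⁻¹ * a' * k)) * k⁻¹ = p * a' := by group
    rw [e8, h.add p hp p hp a' ha', h.self p hp, h.comm _ hp _ ha', hB p hp, e1, zero_add]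
  · rw [h3]
    have e8 : k * (k⁻¹ * p * k * (k⁻¹ * a' * k * a')) * k⁻¹ = p * (a' * (k * a' * k⁻¹)) := by group
    rw [e8, h.add p hp p hp _ (mul_mem ha' (h.nor k hkM a' ha')), h.self p hp,
      h.add p hp a' ha' _ (h.nor k hkM a' ha'), h.comm _ hp _ ha', hB p hp, e1, h.inv_right hkM hp ha',
      h.comm _ hp2 _ ha', hB _ hp2, e2]
    decide

/-- A normal subgroup moving the point `pY` is transitive on the points. -/
theorem norm_trans {K : Subgroup G} (hK : K ≤ M) (hn : ∀ m ∈ M, ∀ k ∈ K, m * k * m⁻¹ ∈ K) {p k : G} (hp : p ∈ P)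
    (np : p ∉ Y) (hk : k ∈ K) (hkp : k * p * k⁻¹ * p ∉ Y) {q : G} (hq : q ∈ P) (nq : q ∉ Y) :
    ∃ g ∈ K, g * p * g⁻¹ * q ∈ Y := by
  obtain ⟨k₁, hk₁, e1⟩ := h.norm_np hK hn hp np hk hkp
  -- the step
  have step : ∀ k₂ ∈ K, ∀ o ∈ P, ∀ q ∈ P, k₂ * p * k₂⁻¹ * o ∈ Y → B o q = 1 → ∃ g ∈ K, g * p * g⁻¹ * q ∈ Y := by
    intro k₂ hk₂ o ho q hq eo eq
    have hkp2 : k₂ * p * k₂⁻¹ ∈ P := h.nor k₂ (hK hk₂) p hp
    have e2 : B p (k₂⁻¹ * q * k₂) = 1 := by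
      rw [← h.inv_left (hK hk₂) hp hq, h.congr hkp2 ho hq eo, eq]
    obtain ⟨g, hg, g1, g2⟩ := h.trans_np hp (h.nor k₁ (hK hk₁) p hp) (h.nor' (hK hk₂) hq) e1 e2
    refine ⟨k₂ * (g * k₁ * g⁻¹), mul_mem hk₂ (hn g hg k₁ hk₁), ?_⟩
    have e3 : k₂ * (g * k₁ * g⁻¹) * p * (k₂ * (g * k₁ * g⁻¹))⁻¹ * q =
        k₂ * ((g * (k₁ * (g⁻¹ * p * g) * k₁⁻¹) * g⁻¹) * (k₂⁻¹ * q * k₂)) * k₂⁻¹ := by group
    have e4 : g⁻¹ * p * g = p := by
      calc g⁻¹ * p * g = g⁻¹ * (g * p * g⁻¹) * g := by rw [g1]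
        _ = p := by group
    rw [e3, e4]
    exact h.norY (hK hk₂) g2
  have pY : p * p ∈ Y := by rw [h.sq p hp]; exact one_mem _
  rcases z2 (B p q) with e2 | e2
  · by_cases hpq : p * q ∈ Y
    · exact ⟨1, one_mem _, by simpa using hpq⟩
    · obtain ⟨r, hr, r1, r2⟩ := h.val2 hp hq np nq hpq 1 1
      obtain ⟨g, hg, hgr⟩ := step 1 (one_mem _) p hp r hr (by simpa using pY) r1
      exact step g hg r hr q hq hgr (by rw [h.comm _ hr _ hq]; exact r2)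
  · exact step 1 (one_mem _) p hp q hq (by simpa using pY) e2

/-- A subgroup containing the stabiliser of `pY` and moving `pY` to a perpendicular point contains `M`. -/
theorem perp_gen {H : Subgroup G} {p k : G} (hp : p ∈ P) (np : p ∉ Y)
    (hst : ∀ g ∈ M, g * p * g⁻¹ * p ∈ Y → g ∈ H) (hk : k ∈ H) (hkM : k ∈ M) (hB : B p (k * p * k⁻¹) = 0)
    (hne : p * (k * p * k⁻¹) ∉ Y) : M ≤ H := by
  set u := k * p * k⁻¹ with hu
  have huP : u ∈ P := h.nor k hkM p hp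
  have nu : u ∉ Y := fun e => np (by
    have := h.norY' hkM e
    have e2 : k⁻¹ * u * k = p := by rw [hu]; group
    rwa [e2] at this)
  have step : ∀ g₂ ∈ H, g₂ ∈ M → ∀ o ∈ P, ∀ q ∈ P, q ∉ Y → g₂ * p * g₂⁻¹ * o ∈ Y → B o q = 0 → o * q ∉ Y →
      ∃ g ∈ H, g ∈ M ∧ g * p * g⁻¹ * q ∈ Y := by
    intro g₂ hg₂ hg₂M o ho q hq nq eo eq noq
    have hgp : g₂ * p * g₂⁻¹ ∈ P := h.nor g₂ hg₂M p hp
    have e2 : B p (g₂⁻¹ * q * g₂) = 0 := by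
      rw [← h.inv_left hg₂M hp hq, h.congr hgp ho hq eo, eq]
    have n1 : g₂⁻¹ * q * g₂ ∉ Y := fun e => nq (by
      have := h.norY hg₂M e
      have e3 : g₂ * (g₂⁻¹ * q * g₂) * g₂⁻¹ = q := by group
      rwa [e3] at this)
    have n2 : p * (g₂⁻¹ * q * g₂) ∉ Y := fun e => noq (by
      have := h.norY hg₂M e
      have e3 : g₂ * (p * (g₂⁻¹ * q * g₂)) * g₂⁻¹ = g₂ * p * g₂⁻¹ * q := by group
      rw [e3] at this
      exact h.eqv_trans hgp (h.eqv_symm hgp ho eo) this)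
    obtain ⟨g, hg, g1, g2⟩ := h.trans_p hp huP (h.nor' hg₂M hq) hB e2 np nu n1 hne n2
    have hgH : g ∈ H := hst g hg (by rw [g1, h.sq p hp]; exact one_mem _)
    refine ⟨g₂ * g * k, mul_mem (mul_mem hg₂ hgH) hk, mul_mem (mul_mem hg₂M hg) hkM, ?_⟩
    have e3 : g₂ * g * k * p * (g₂ * g * k)⁻¹ * q =
        g₂ * ((g * (k * p * k⁻¹) * g⁻¹) * (g₂⁻¹ * q * g₂)) * g₂⁻¹ := by group
    rw [e3]
    exact h.norY hg₂M g2
  have pY : p * p ∈ Y := by rw [h.sq p hp]; exact one_mem _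
  have key : ∀ q ∈ P, q ∉ Y → ∃ g ∈ H, g ∈ M ∧ g * p * g⁻¹ * q ∈ Y := by
    intro q hq nq
    by_cases hpq : p * q ∈ Y
    · exact ⟨1, one_mem _, one_mem _, by simpa using hpq⟩
    rcases z2 (B p q) with e2 | e2
    · exact step 1 (one_mem _) (one_mem _) p hp q hq nq (by simpa using pY) e2 hpq
    · -- the common neighbour
      obtain ⟨r, hr, nr, r1, r2, r3⟩ : ∃ r ∈ P, r ∉ Y ∧ B p r = 0 ∧ B r q = 0 ∧ p * r ∉ Y := by
        rcases z2 (B u q) with e3 | e3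
        · exact ⟨u, huP, nu, hB, e3, hne⟩
        · refine ⟨u * p, mul_mem huP hp, ?_, ?_, ?_, ?_⟩
          · rwa [h.mc huP hp]
          · rw [h.add p hp u huP p hp, hB, h.self p hp, add_zero]
          · rw [h.add_left huP hp hq, e3, e2]; decide
          · have e4 : p * (u * p) = u * (p * p) := by rw [← mul_assoc, h.mc hp huP, mul_assoc]
            rw [e4, h.sq p hp, mul_one]
            exact nu
      obtain ⟨g, hg, hgM, hgr⟩ := step 1 (one_mem _) (one_mem _) p hp r hr nr (by simpa using pY) r1 r3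
      refine step g hg hgM r hr q hq nq hgr r2 fun e => ?_
      have e4 := h.zero _ e p hp
      rw [h.add_left hr hq hp, h.comm _ hr _ hp, r1, h.comm _ hq _ hp, e2] at e4
      exact absurd e4 (by decide)
  intro c hc
  have hcp : c * p * c⁻¹ ∈ P := h.nor c hc p hp
  have nc : c * p * c⁻¹ ∉ Y := fun e => np (by
    have := h.norY' hc e
    have e2 : c⁻¹ * (c * p * c⁻¹) * c = p := by group
    rwa [e2] at this)
  obtain ⟨g, hg, hgM, e⟩ := key _ hcp nc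
  have h1 : g⁻¹ * c ∈ H := by
    refine hst _ (mul_mem (inv_mem hgM) hc) ?_
    have h2 := h.norY' hgM (h.eqv_symm (h.nor g hgM p hp) hcp e)
    have e2 : g⁻¹ * (c * p * c⁻¹ * (g * p * g⁻¹)) * g = g⁻¹ * c * p * (g⁻¹ * c)⁻¹ * p := by group
    rwa [e2] at h2
  have e2 : c = g * (g⁻¹ * c) := by group
  rw [e2]
  exact mul_mem hg h1

/-! ### double cosets -/

/-- `m' = a m b` -/
def DC (M Y : Subgroup G) (p m m' : G) : Prop :=
  ∃ a ∈ M, ∃ b ∈ M, a * p * a⁻¹ * p ∈ Y ∧ b * p * b⁻¹ * p ∈ Y ∧ m' = a * m * b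

theorem dc_of {p m m' g : G} (hp : p ∈ P) (hm : m ∈ M) (hm' : m' ∈ M) (hg : g ∈ M) (g1 : g * p * g⁻¹ = p)
    (g2 : g * (m * p * m⁻¹) * g⁻¹ * (m' * p * m'⁻¹) ∈ Y) : DC M Y p m m' := by
  refine ⟨g, hg, m⁻¹ * g⁻¹ * m', mul_mem (mul_mem (inv_mem hm) (inv_mem hg)) hm', ?_, ?_, by group⟩
  · rw [g1, h.sq p hp]; exact one_mem _
  · have h1 := h.norY' (mul_mem hg hm) g2
    have hgm : g * (m * p * m⁻¹) * g⁻¹ ∈ P := h.nor g hg _ (h.nor m hm p hp)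
    have e1 : (g * m)⁻¹ * (g * (m * p * m⁻¹) * g⁻¹ * (m' * p * m'⁻¹)) * (g * m) =
        p * (m⁻¹ * g⁻¹ * m' * p * (m⁻¹ * g⁻¹ * m')⁻¹) := by group
    rw [e1] at h1
    exact h.eqv_symm hp (h.nor _ (mul_mem (mul_mem (inv_mem hm) (inv_mem hg)) hm') p hp) h1

theorem dc_np {p m m' : G} (hp : p ∈ P) (hm : m ∈ M) (hm' : m' ∈ M) (h1 : B p (m * p * m⁻¹) = 1)
    (h2 : B p (m' * p * m'⁻¹) = 1) : DC M Y p m m' := by
  obtain ⟨g, hg, g1, g2⟩ := h.trans_np hp (h.nor m hm p hp) (h.nor m' hm' p hp) h1 h2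
  exact h.dc_of hp hm hm' hg g1 g2

theorem dc_p {p m m' : G} (hp : p ∈ P) (np : p ∉ Y) (hm : m ∈ M) (hm' : m' ∈ M) (h1 : B p (m * p * m⁻¹) = 0)
    (h2 : B p (m' * p * m'⁻¹) = 0) (n1 : p * (m * p * m⁻¹) ∉ Y) (n2 : p * (m' * p * m'⁻¹) ∉ Y) : DC M Y p m m' := by
  have nn : ∀ c ∈ M, c * p * c⁻¹ ∉ Y := fun c hc e => np (by
    have := h.norY' hc e
    have e2 : c⁻¹ * (c * p * c⁻¹) * c = p := by group
    rwa [e2] at this)
  obtain ⟨g, hg, g1, g2⟩ := h.trans_p hp (h.nor m hm p hp) (h.nor m' hm' p hp) h1 h2 np (nn m hm) (nn m' hm') n1 n2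
  exact h.dc_of hp hm hm' hg g1 g2

/-- Three elements outside the stabiliser of `pY`: two of them lie in the same double coset. -/
theorem pigeon {p m₁ m₂ m₃ : G} (hp : p ∈ P) (np : p ∉ Y) (h1 : m₁ ∈ M) (h2 : m₂ ∈ M) (h3 : m₃ ∈ M)
    (n1 : m₁ * p * m₁⁻¹ * p ∉ Y) (n2 : m₂ * p * m₂⁻¹ * p ∉ Y) (n3 : m₃ * p * m₃⁻¹ * p ∉ Y) :
    DC M Y p m₁ m₂ ∨ DC M Y p m₁ m₃ ∨ DC M Y p m₂ m₃ := by
  have sw : ∀ m ∈ M, m * p * m⁻¹ * p ∉ Y → p * (m * p * m⁻¹) ∉ Y := fun m hm hn e =>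
    hn (h.eqv_symm hp (h.nor m hm p hp) e)
  rcases z2 (B p (m₁ * p * m₁⁻¹)) with e1 | e1 <;> rcases z2 (B p (m₂ * p * m₂⁻¹)) with e2 | e2 <;>
    rcases z2 (B p (m₃ * p * m₃⁻¹)) with e3 | e3
  · exact Or.inl (h.dc_p hp np h1 h2 e1 e2 (sw _ h1 n1) (sw _ h2 n2))
  · exact Or.inl (h.dc_p hp np h1 h2 e1 e2 (sw _ h1 n1) (sw _ h2 n2))
  · exact Or.inr (Or.inl (h.dc_p hp np h1 h3 e1 e3 (sw _ h1 n1) (sw _ h3 n3)))
  · exact Or.inr (Or.inr (h.dc_np hp h2 h3 e2 e3))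
  · exact Or.inr (Or.inr (h.dc_p hp np h2 h3 e2 e3 (sw _ h2 n2) (sw _ h3 n3)))
  · exact Or.inr (Or.inl (h.dc_np hp h1 h3 e1 e3))
  · exact Or.inl (h.dc_np hp h1 h2 e1 e2)
  · exact Or.inl (h.dc_np hp h1 h2 e1 e2)

end Sy

end Cfsg.Agent.Omega.IId.PlaneSy
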