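import Cfsg.Agent.Omega.SQT.RankAbs

/-!
# Sections `S₃ × ⋯ × S₃` and the 3-rank

helper304.  `le_of_surjective`: a finite group of 3-rank at most `m` with a quotient `S₃^n` has `n ≤ m` (no
condition on the kernel).  `rank_of_triples`: the same for a group permuting `n` triples of elements
independently.
-/

set_option autoImplicit false

namespace Cfsg.Agent.Omega.IId.RankPlanes

open Subgroup Cfsg

/-- A finite group of 3-rank at most `m` with a quotient `S₃^n` has `n ≤ m`. -/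
theorem le_of_surjective {Γ : Type*} [Group Γ] [Finite Γ] {m n : ℕ} (hr : PRankLE 3 m Γ)
    (φ : Γ →* (Fin n → Equiv.Perm (Fin 3))) (hφ : Function.Surjective φ) : n ≤ m := by
  classical
  have h2 : Fact (Nat.Prime 2) := ⟨Nat.prime_two⟩
  -- a Sylow 2-subgroup of the kernel and its normaliser
  let P : Sylow 2 φ.ker := default
  set R : Subgroup Γ := (P : Subgroup φ.ker).map φ.ker.subtype with hR
  have hF : normalizer (R : Set Γ) ⊔ φ.ker = ⊤ := Sylow.normalizer_sup_eq_top P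
  have hRk : R ≤ φ.ker := by
    rintro _ ⟨x, _, rfl⟩
    exact x.2
  have hRp : IsPGroup 2 R := P.isPGroup'.map _
  set Δ : Subgroup Γ := normalizer (R : Set Γ) with hΔ
  have hRΔ : R ≤ Δ := le_normalizer
  have hN : (R.subgroupOf Δ).Normal := normal_subgroupOf_of_le_normalizer le_rfl
  refine SQT.RankAbs.le_of_range (Γ := Δ) (M := Fin n → Equiv.Perm (Fin 3))
    (Sec.Reduce.prankLE_of_injective Δ.subtype Δ.subtype_injective hr) (φ.comp Δ.subtype) (MonoidHom.id _) Function.injective_id ?_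
    (R.subgroupOf Δ) (hRp.of_equiv (subgroupOfEquivOfLe hRΔ).symm) ?_ ?_
  · rintro σ -
    obtain ⟨g, rfl⟩ := hφ σ
    have hg : g ∈ Δ ⊔ φ.ker := by rw [hF]; trivial
    have hkn : φ.ker.Normal := MonoidHom.normal_ker φ
    obtain ⟨d, hd, k, hk, rfl⟩ := mem_sup_of_normal_right.1 hg
    refine ⟨⟨d, hd⟩, ?_⟩
    rw [map_mul, MonoidHom.mem_ker.1 hk, mul_one]
    rfl
  · intro x hx
    exact MonoidHom.mem_ker.2 (MonoidHom.mem_ker.1 (hRk (mem_subgroupOf.1 hx)))
  · rintro ⟨x, hx⟩ hxk ⟨k, hk⟩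
    rw [mem_subgroupOf]
    have hxk' : x ∈ φ.ker := hxk
    have hk' : x ^ 2 ^ k = 1 := congrArg Subtype.val hk
    -- `⟨x⟩` is a 2-subgroup of the kernel normalising `P`
    have h3 : (⟨x, hxk'⟩ : φ.ker) ∈ normalizer ((P : Subgroup φ.ker) : Set φ.ker) := by
      rw [mem_normalizer_iff]
      intro y
      have h4 := mem_normalizer_iff.1 hx (y : Γ)
      have e : ∀ z : φ.ker, z ∈ (P : Subgroup φ.ker) ↔ (z : Γ) ∈ R := by
        intro z
        constructor
        · intro hz; exact ⟨z, hz, rfl⟩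
        · rintro ⟨z', hz', e⟩
          rwa [← Subtype.ext (a1 := z') (a2 := z) e]
      rw [e, e]
      exact h4
    have h5 : IsPGroup 2 (zpowers (⟨x, hxk'⟩ : φ.ker)) := by
      rintro ⟨z, n, rfl⟩
      refine ⟨k, Subtype.ext ?_⟩
      rw [SubmonoidClass.coe_pow, Subgroup.coe_one]
      show ((⟨x, hxk'⟩ : φ.ker) ^ n) ^ 2 ^ k = 1
      rw [← zpow_natCast, ← zpow_mul, mul_comm, zpow_mul, zpow_natCast]
      have h4 : (⟨x, hxk'⟩ : φ.ker) ^ 2 ^ k = 1 := Subtype.ext hk'
      rw [h4, one_zpow]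
    have h6 : zpowers (⟨x, hxk'⟩ : φ.ker) ≤ (P : Subgroup φ.ker) := by
      have h7 : IsPGroup 2 (zpowers (⟨x, hxk'⟩ : φ.ker) ⊔ (P : Subgroup φ.ker) : Subgroup φ.ker) :=
        h5.to_sup_of_normal_right' P.isPGroup' (by rwa [zpowers_le])
      have h8 := P.3 h7 le_sup_right
      rw [← h8]
      exact le_sup_left
    exact ⟨⟨x, hxk'⟩, h6 (mem_zpowers _), rfl⟩

/-- A group permuting `n` triples independently (all transpositions of every triple) has 3-rank at least `n`. -/
theorem rank_of_triples {G : Type*} [Group G] [Finite G] {m n : ℕ} (w : Fin n → Fin 3 → G)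
    (hw : ∀ i, Function.Injective (w i))
    (ht : ∀ i j k, j ≠ k → ∃ g : G, (∀ l, g * w i l * g⁻¹ = w i (Equiv.swap j k l)) ∧
      ∀ i', i' ≠ i → ∀ l, g * w i' l * g⁻¹ = w i' l) (hr : PRankLE 3 m G) : n ≤ m := by
  classical
  let Γ : Subgroup G :=
    { carrier := {g | ∃ σ : Fin n → Equiv.Perm (Fin 3), ∀ i l, g * w i l * g⁻¹ = w i (σ i l)}
      one_mem' := ⟨1, fun i l => by simp⟩
      mul_mem' := by
        rintro a b ⟨σ, hσ⟩ ⟨τ, hτ⟩
        refine ⟨σ * τ, fun i l => ?_⟩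
        have e : a * b * w i l * (a * b)⁻¹ = a * (b * w i l * b⁻¹) * a⁻¹ := by group
        rw [e, hτ, hσ]
        rfl
      inv_mem' := by
        rintro a ⟨σ, hσ⟩
        refine ⟨σ⁻¹, fun i l => ?_⟩
        have h1 := hσ i ((σ i)⁻¹ l)
        have h2 : σ i ((σ i)⁻¹ l) = l := (σ i).apply_symm_apply l
        rw [h2] at h1
        rw [← h1]
        show a⁻¹ * (a * w i ((σ i)⁻¹ l) * a⁻¹) * a⁻¹⁻¹ = w i ((σ i)⁻¹ l)
        group }
  have hval : ∀ g : Γ, ∃ σ : Fin n → Equiv.Perm (Fin 3), ∀ i l, (g : G) * w i l * (g : G)⁻¹ = w i (σ i l) :=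
    fun g => g.2
  choose f hf using hval
  have huniq : ∀ (g : Γ) (σ : Fin n → Equiv.Perm (Fin 3)),
      (∀ i l, (g : G) * w i l * (g : G)⁻¹ = w i (σ i l)) → f g = σ := by
    intro g σ hσ
    funext i
    ext l
    have h1 := (hf g i l).symm.trans (hσ i l)
    rw [hw i h1]
  let φ : Γ →* (Fin n → Equiv.Perm (Fin 3)) :=
    { toFun := f
      map_one' := huniq 1 1 fun i l => by simp
      map_mul' := by
        intro a b
        apply huniq
        intro i l
        have e : ((a * b : Γ) : G) * w i l * ((a * b : Γ) : G)⁻¹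
            = (a : G) * ((b : G) * w i l * (b : G)⁻¹) * (a : G)⁻¹ := by
          rw [Subgroup.coe_mul]; group
        rw [e, hf, hf]
        rfl }
  refine le_of_surjective (Γ := Γ) (Sec.Reduce.prankLE_of_injective Γ.subtype Γ.subtype_injective hr) φ ?_
  intro σ
  have hrange : σ ∈ φ.range := by
    apply Subgroup.pi_mem_of_mulSingle_mem
    intro i
    have h1 : (φ.range.comap (MonoidHom.mulSingle (fun _ : Fin n => Equiv.Perm (Fin 3)) i)) = ⊤ := by
      rw [eq_top_iff, ← Equiv.Perm.closure_isSwap, closure_le]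
      rintro _ ⟨j, k, hjk, rfl⟩
      obtain ⟨g, hg1, hg2⟩ := ht i j k hjk
      have hgΓ : ∀ i' l, g * w i' l * g⁻¹ =
          w i' ((Pi.mulSingle i (Equiv.swap j k) : Fin n → Equiv.Perm (Fin 3)) i' l) := by
        intro i' l
        by_cases h : i' = i
        · subst h
          rw [Pi.mulSingle_eq_same]
          exact hg1 l
        · rw [Pi.mulSingle_eq_of_ne h]
          exact hg2 i' h l
      exact ⟨⟨g, ⟨_, hgΓ⟩⟩, huniq _ _ hgΓ⟩
    have h2 : σ i ∈ φ.range.comap (MonoidHom.mulSingle (fun _ : Fin n => Equiv.Perm (Fin 3)) i) := by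
      rw [h1]; trivial
    exact h2
  exact hrange

end Cfsg.Agent.Omega.IId.RankPlanes
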