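import Cfsg.Agent.Omega.IId.OneOrth
import Cfsg.Agent.Omega.IId.SpKill
import Cfsg.Agent.Omega.SQT.RankThree

/-!
# II.d, `q = 2`, CASE 1, case B: `m_3(G) ≤ 2` implies `|N₁| = 32` (B.4 of OMEGA-IId-L1-v2)

`card_eq` : if `N` is the orthogonal module of `C` (`GOrth C N r c`), some `v ∈ N` is orthogonal to `r` and not
in `{1, c, r, rc}`, and `PRankLE 3 2 G`, then `|N| = 32`: otherwise there are three orthogonal hyperbolic
pairs, whose reflections generate `S₃ × S₃ × S₃`.  No information about `C_C(N)` is needed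
(`SQT.RankThree.no_act`).  `One.card_N1` : the case `N = nc v₁ {v₂}`; `One.false_of_rank` : the configuration
`One` with `[N₁, N₂] ≠ 1` is impossible.
-/

set_option autoImplicit false
set_option linter.dupNamespace false
set_option linter.unusedSectionVars false

namespace Cfsg.Agent.Omega.IId.RankTwo

open Subgroup Cfsg Cfsg.Agent.Omega.TV Cfsg.Agent.Omega.SQT.RankThree

variable {G : Type*} [Group G] {C N : Subgroup G} {r c : G}

theorem sq_of (h : GOrth C N r c) {x : G} (hx : x ∈ N) : x * x = 1 := h.sq x hx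

theorem inv_of (h : GOrth C N r c) {x : G} (hx : x ∈ N) : x⁻¹ = x := inv_eq_of_mul_eq_one_left (h.sq x hx)

theorem B_c (h : GOrth C N r c) {x : G} (hx : x ∈ N) : Bg C r x c = 0 := by
  rw [h.comm x hx c h.c_mem, h.Bc x hx]

/-- `U` contains `c` and is nondegenerate modulo `c`. -/
structure Nd (C N : Subgroup G) (r c : G) (U : Subgroup G) : Prop where
  le : U ≤ N
  c_mem : c ∈ U
  rad : ∀ x ∈ U, (∀ y ∈ U, Bg C r x y = 0) → x = 1 ∨ x = c

/-- A hyperbolic pair. -/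
structure Hp (C N : Subgroup G) (r x y : G) : Prop where
  x_mem : x ∈ N
  y_mem : y ∈ N
  Qx : Qg C r x = 0
  Qy : Qg C r y = 0
  B : Bg C r x y = 1

/-- `{u ∈ U | B(x, u) = B(y, u) = 0}` -/
def perp (h : GOrth C N r c) {U : Subgroup G} (hU : U ≤ N) {x y : G} (hx : x ∈ N) (hy : y ∈ N) :
    Subgroup G where
  carrier := {u | u ∈ U ∧ Bg C r x u = 0 ∧ Bg C r y u = 0}
  one_mem' := ⟨one_mem _, GOrth.Bone, GOrth.Bone⟩
  mul_mem' := by
    rintro a b ⟨ha, ha1, ha2⟩ ⟨hb, hb1, hb2⟩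
    refine ⟨mul_mem ha hb, ?_, ?_⟩
    · rw [h.add x hx a (hU ha) b (hU hb), ha1, hb1, add_zero]
    · rw [h.add y hy a (hU ha) b (hU hb), ha2, hb2, add_zero]
  inv_mem' := by
    rintro a ⟨ha, ha1, ha2⟩
    rw [inv_of h (hU ha)]
    exact ⟨ha, ha1, ha2⟩

theorem mem_perp {h : GOrth C N r c} {U : Subgroup G} {hU : U ≤ N} {x y : G} {hx : x ∈ N} {hy : y ∈ N}
    {u : G} : u ∈ perp h hU hx hy ↔ u ∈ U ∧ Bg C r x u = 0 ∧ Bg C r y u = 0 := Iff.rfl

theorem perp_le {h : GOrth C N r c} {U : Subgroup G} {hU : U ≤ N} {x y : G} {hx : x ∈ N} {hy : y ∈ N} :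
    perp h hU hx hy ≤ U := fun _ hu => hu.1

/-- an element `x ∈ U - {1, c}` is in a hyperbolic pair in `U`, after multiplication with `c` -/
theorem exists_hp (h : GOrth C N r c) {U : Subgroup G} (hU : Nd C N r c U) {x : G} (hx : x ∈ U)
    (h1 : x ≠ 1) (hc : x ≠ c) : ∃ x' y' : G, x' ∈ U ∧ y' ∈ U ∧ Hp C N r x' y' ∧ (x' = x ∨ x' = x * c) ∧
      (Qg C r x = 0 → x' = x) := by
  obtain ⟨y, hy, hB⟩ : ∃ y ∈ U, Bg C r x y = 1 := by
    by_contra hcon
    push Not at hcon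
    rcases hU.rad x hx (fun y hy => z2_ne_one (hcon y hy)) with e | e
    · exact h1 e
    · exact hc e
  obtain ⟨x', hx', hxQ, hxe, hxe2⟩ : ∃ x' ∈ U, Qg C r x' = 0 ∧ (x' = x ∨ x' = x * c) ∧
      (Qg C r x = 0 → x' = x) := by
    rcases z2 (Qg C r x) with e | e
    · exact ⟨x, hx, e, Or.inl rfl, fun _ => rfl⟩
    · refine ⟨x * c, mul_mem hx hU.c_mem, ?_, Or.inr rfl, fun e' => ?_⟩
      · rw [h.Qmulc (hU.le hx), e]; exact z2_add_self 1
      · rw [e] at e'; exact absurd e' one_ne_zero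
  obtain ⟨y', hy', hyQ, hye⟩ : ∃ y' ∈ U, Qg C r y' = 0 ∧ (y' = y ∨ y' = y * c) := by
    rcases z2 (Qg C r y) with e | e
    · exact ⟨y, hy, e, Or.inl rfl⟩
    · refine ⟨y * c, mul_mem hy hU.c_mem, ?_, Or.inr rfl⟩
      rw [h.Qmulc (hU.le hy), e]; exact z2_add_self 1
  refine ⟨x', y', hx', hy', ⟨hU.le hx', hU.le hy', hxQ, hyQ, ?_⟩, hxe, hxe2⟩
  have hB1 : Bg C r x' y = 1 := by
    rcases hxe with e | e
    · rw [e, hB]
    · rw [e, h.add_left (hU.le hx) h.c_mem (hU.le hy), hB, h.Bc y (hU.le hy), add_zero]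
  rcases hye with e | e
  · rw [e, hB1]
  · rw [e, h.add x' (hU.le hx') y (hU.le hy) c h.c_mem, hB1, B_c h (hU.le hx'), add_zero]

/-- the projection of `w` to the orthogonal complement of a hyperbolic pair -/
theorem exists_proj (h : GOrth C N r c) {U : Subgroup G} (hU : U ≤ N) {x y : G} (hp : Hp C N r x y)
    (hx : x ∈ U) (hy : y ∈ U) {w : G} (hw : w ∈ U) :
    ∃ a ∈ U, w * a ∈ perp h hU hp.x_mem hp.y_mem ∧
      ∀ u ∈ N, Bg C r x u = 0 → Bg C r y u = 0 → Bg C r u a = 0 := by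
  have yx : Bg C r y x = 1 := by rw [h.comm y hp.y_mem x hp.x_mem, hp.B]
  have xx := h.self x hp.x_mem
  have yy := h.self y hp.y_mem
  have key : ∀ a ∈ U, Bg C r x w + Bg C r x a = 0 → Bg C r y w + Bg C r y a = 0 →
      w * a ∈ perp h hU hp.x_mem hp.y_mem := by
    intro a ha h1 h2
    refine ⟨mul_mem hw ha, ?_, ?_⟩
    · rw [h.add x hp.x_mem w (hU hw) a (hU ha), h1]
    · rw [h.add y hp.y_mem w (hU hw) a (hU ha), h2]
  have xu : ∀ u ∈ N, Bg C r x u = 0 → Bg C r u x = 0 := fun u hu e => by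
    rw [h.comm u hu x hp.x_mem, e]
  have yu : ∀ u ∈ N, Bg C r y u = 0 → Bg C r u y = 0 := fun u hu e => by
    rw [h.comm u hu y hp.y_mem, e]
  rcases z2 (Bg C r x w) with e1 | e1 <;> rcases z2 (Bg C r y w) with e2 | e2
  · refine ⟨1, one_mem _, key 1 (one_mem _) ?_ ?_, fun u _ _ _ => GOrth.Bone⟩
    · rw [e1, GOrth.Bone, add_zero]
    · rw [e2, GOrth.Bone, add_zero]
  · refine ⟨x, hx, key x hx ?_ ?_, fun u hu h1 _ => xu u hu h1⟩
    · rw [e1, xx, add_zero]
    · rw [e2, yx]; exact z2_add_self 1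
  · refine ⟨y, hy, key y hy ?_ ?_, fun u hu _ h2 => yu u hu h2⟩
    · rw [e1, hp.B]; exact z2_add_self 1
    · rw [e2, yy, add_zero]
  · refine ⟨x * y, mul_mem hx hy, key _ (mul_mem hx hy) ?_ ?_, fun u hu h1 h2 => ?_⟩
    · rw [e1, h.add x hp.x_mem x hp.x_mem y hp.y_mem, xx, hp.B, zero_add]; exact z2_add_self 1
    · rw [e2, h.add y hp.y_mem x hp.x_mem y hp.y_mem, yx, yy, add_zero]; exact z2_add_self 1
    · rw [h.add u hu x hp.x_mem y hp.y_mem, xu u hu h1, yu u hu h2, add_zero]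

theorem perp_nd (h : GOrth C N r c) {U : Subgroup G} (hU : Nd C N r c U) {x y : G} (hp : Hp C N r x y)
    (hx : x ∈ U) (hy : y ∈ U) : Nd C N r c (perp h hU.le hp.x_mem hp.y_mem) where
  le := perp_le.trans hU.le
  c_mem := ⟨hU.c_mem, B_c h hp.x_mem, B_c h hp.y_mem⟩
  rad := by
    rintro u ⟨hu, h1, h2⟩ hall
    refine hU.rad u hu fun w hw => ?_
    obtain ⟨a, ha, hwa, hB⟩ := exists_proj h hU.le hp hx hy hw
    have h3 := hall _ hwa
    rwa [h.add u (hU.le hu) w (hU.le hw) a (hU.le ha), hB u (hU.le hu) h1 h2, add_zero] at h3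

theorem card_perp [Finite G] (h : GOrth C N r c) {U : Subgroup G} (hU : U ≤ N) {x y : G}
    (hp : Hp C N r x y) (hx : x ∈ U) (hy : y ∈ U) :
    Nat.card U = 4 * Nat.card (perp h hU hp.x_mem hp.y_mem) := by
  let f : U →* Multiplicative (ZMod 2) × Multiplicative (ZMod 2) :=
    { toFun := fun u => (Multiplicative.ofAdd (Bg C r x u), Multiplicative.ofAdd (Bg C r y u))
      map_one' := by
        rw [OneMemClass.coe_one, GOrth.Bone, GOrth.Bone]; rfl
      map_mul' := by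
        intro a b
        rw [Subgroup.coe_mul, h.add x hp.x_mem a (hU a.2) b (hU b.2), h.add y hp.y_mem a (hU a.2) b (hU b.2)]
        rfl }
  have hf : ∀ u : U, f u = (Multiplicative.ofAdd (Bg C r x u), Multiplicative.ofAdd (Bg C r y u)) :=
    fun _ => rfl
  have hsur : Function.Surjective f := by
    have yx : Bg C r y x = 1 := by rw [h.comm y hp.y_mem x hp.x_mem, hp.B]
    have ex : f ⟨x, hx⟩ = (Multiplicative.ofAdd 0, Multiplicative.ofAdd 1) := by
      rw [hf]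
      change (Multiplicative.ofAdd (Bg C r x x), Multiplicative.ofAdd (Bg C r y x)) = _
      rw [h.self x hp.x_mem, yx]
    have ey : f ⟨y, hy⟩ = (Multiplicative.ofAdd 1, Multiplicative.ofAdd 0) := by
      rw [hf]
      change (Multiplicative.ofAdd (Bg C r x y), Multiplicative.ofAdd (Bg C r y y)) = _
      rw [h.self y hp.y_mem, hp.B]
    rintro ⟨a, b⟩
    rcases z2 (Multiplicative.toAdd a) with e1 | e1 <;> rcases z2 (Multiplicative.toAdd b) with e2 | e2
    · exact ⟨1, by rw [map_one]; exact Prod.ext e1.symm e2.symm⟩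
    · exact ⟨⟨x, hx⟩, by rw [ex]; exact Prod.ext e1.symm e2.symm⟩
    · exact ⟨⟨y, hy⟩, by rw [ey]; exact Prod.ext e1.symm e2.symm⟩
    · exact ⟨⟨x, hx⟩ * ⟨y, hy⟩, by rw [map_mul, ex, ey]; exact Prod.ext e1.symm e2.symm⟩
  have h1 := f.ker.card_mul_index
  rw [Subgroup.index_ker, MonoidHom.range_eq_top.mpr hsur, Subgroup.card_top, Nat.card_prod] at h1
  have h2 : Nat.card (Multiplicative (ZMod 2)) = 2 := by
    rw [Nat.card_congr Multiplicative.toAdd, Nat.card_zmod]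
  rw [h2] at h1
  have h3 : f.ker.map U.subtype = perp h hU hp.x_mem hp.y_mem := by
    ext u
    constructor
    · rintro ⟨w, hw, rfl⟩
      have h4 := (MonoidHom.mem_ker).1 hw
      rw [hf] at h4
      exact ⟨w.2, congrArg (fun p => Multiplicative.toAdd p.1) h4, congrArg (fun p => Multiplicative.toAdd p.2) h4⟩
    · rintro ⟨hu, e1, e2⟩
      refine ⟨⟨u, hu⟩, (MonoidHom.mem_ker).2 ?_, rfl⟩
      rw [hf]
      change (Multiplicative.ofAdd (Bg C r x u), Multiplicative.ofAdd (Bg C r y u)) = _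
      rw [e1, e2]
      rfl
  rw [← h3, card_map_of_injective U.subtype_injective]
  omega

/-! ### Three hyperbolic pairs -/

/-- There are no three orthogonal hyperbolic pairs. -/
theorem no_three [Finite G] (h : GOrth C N r c) (hr : PRankLE 3 2 G) (x y : Fin 3 → G)
    (hp : ∀ i, Hp C N r (x i) (y i))
    (o : ∀ i j, i ≠ j → Bg C r (x i) (x j) = 0 ∧ Bg C r (x i) (y j) = 0 ∧ Bg C r (y i) (x j) = 0 ∧
      Bg C r (y i) (y j) = 0) : False := by
  have yx : ∀ i, Bg C r (y i) (x i) = 1 := fun i => by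
    rw [h.comm _ (hp i).y_mem _ (hp i).x_mem, (hp i).B]
  have xx : ∀ i, Bg C r (x i) (x i) = 0 := fun i => h.self _ (hp i).x_mem
  have yy : ∀ i, Bg C r (y i) (y i) = 0 := fun i => h.self _ (hp i).y_mem
  have xc : ∀ i, Bg C r (x i) c = 0 := fun i => B_c h (hp i).x_mem
  have yc : ∀ i, Bg C r (y i) c = 0 := fun i => B_c h (hp i).y_mem
  have xN : ∀ i, x i ∈ N := fun i => (hp i).x_mem
  have yN : ∀ i, y i ∈ N := fun i => (hp i).y_mem
  have cm : ∀ a ∈ N, ∀ b ∈ N, a * b = b * a := fun a ha b hb => EA.comm_of h.sq ha hb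
  have x1 : ∀ i, x i ≠ 1 := fun i e => by
    have := yx i
    rw [e, GOrth.Bone] at this
    exact zero_ne_one this
  have y1 : ∀ i, y i ≠ 1 := fun i e => by
    have := (hp i).B
    rw [e, GOrth.Bone] at this
    exact zero_ne_one this
  have xnc : ∀ i, x i ≠ c := fun i e => by
    have := yx i
    rw [e, yc] at this
    exact zero_ne_one this
  have ync : ∀ i, y i ≠ c := fun i e => by
    have := (hp i).B
    rw [e, xc] at this
    exact zero_ne_one this
  have xny : ∀ i, x i ≠ y i := fun i e => by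
    have := (hp i).B
    rw [← e, xx] at this
    exact zero_ne_one this
  let d : Fin 3 → Fin 3 → G := fun i => ![x i * c, y i * c, x i * y i]
  have d0 : ∀ i, d i 0 = x i * c := fun _ => rfl
  have d1 : ∀ i, d i 1 = y i * c := fun _ => rfl
  have d2 : ∀ i, d i 2 = x i * y i := fun _ => rfl
  have dN : ∀ i a, d i a ∈ N := by
    intro i a
    fin_cases a
    · exact mul_mem (xN i) h.c_mem
    · exact mul_mem (yN i) h.c_mem
    · exact mul_mem (xN i) (yN i)
  have s1 : (Equiv.swap (1 : Fin 3) 2) 0 = 0 ∧ (Equiv.swap (1 : Fin 3) 2) 1 = 2 ∧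
    (Equiv.swap (1 : Fin 3) 2) 2 = 1 := by decide
  have s2 : (Equiv.swap (0 : Fin 3) 2) 0 = 2 ∧ (Equiv.swap (0 : Fin 3) 2) 1 = 1 ∧
    (Equiv.swap (0 : Fin 3) 2) 2 = 0 := by decide
  have other : ∀ (i j : Fin 3) (a : Fin 3), i ≠ j → Bg C r (x i) (d j a) = 0 ∧ Bg C r (y i) (d j a) = 0 := by
    intro i j a hij
    obtain ⟨o1, o2, o3, o4⟩ := o i j hij
    fin_cases a
    · change Bg C r (x i) (x j * c) = 0 ∧ Bg C r (y i) (x j * c) = 0
      rw [h.add _ (xN i) _ (xN j) _ h.c_mem, h.add _ (yN i) _ (xN j) _ h.c_mem, o1, o3, xc, yc]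
      exact ⟨add_zero _, add_zero _⟩
    · change Bg C r (x i) (y j * c) = 0 ∧ Bg C r (y i) (y j * c) = 0
      rw [h.add _ (xN i) _ (yN j) _ h.c_mem, h.add _ (yN i) _ (yN j) _ h.c_mem, o2, o4, xc, yc]
      exact ⟨add_zero _, add_zero _⟩
    · change Bg C r (x i) (x j * y j) = 0 ∧ Bg C r (y i) (x j * y j) = 0
      rw [h.add _ (xN i) _ (xN j) _ (yN j), h.add _ (yN i) _ (xN j) _ (yN j), o1, o2, o3, o4]
      exact ⟨add_zero _, add_zero _⟩
  refine no_act hr C d (fun i => ?_) (fun i => ?_) (fun i => ?_)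
  · intro a b hab
    have n01 : x i * c ≠ y i * c := fun e => xny i (mul_right_cancel e)
    have n02 : x i * c ≠ x i * y i := fun e => ync i (mul_left_cancel e).symm
    have n12 : y i * c ≠ x i * y i := fun e => xnc i (by
      rw [cm _ (xN i) _ (yN i)] at e
      exact (mul_left_cancel e).symm)
    fin_cases a <;> fin_cases b
    · rfl
    · exact absurd hab n01
    · exact absurd hab n02
    · exact absurd hab.symm n01
    · rfl
    · exact absurd hab n12
    · exact absurd hab.symm n02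
    · exact absurd hab.symm n12
    · rfl
  · obtain ⟨g, hg, hgn⟩ := h.refl (x i) (xN i) (x1 i) (hp i).Qx
    refine ⟨g, hg, fun j a => ?_⟩
    have f0 : ∀ n ∈ N, Bg C r (x i) n = 0 → g * n * g⁻¹ = n := by
      intro n hn e
      rcases hgn n hn with h1 | h1
      · exact h1.2
      · rw [h1.1] at e; exact absurd e one_ne_zero
    have f1 : ∀ n ∈ N, Bg C r (x i) n = 1 → g * n * g⁻¹ = n * (x i * c) := by
      intro n hn e
      rcases hgn n hn with h1 | h1
      · rw [h1.1] at e; exact absurd e zero_ne_one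
      · exact h1.2
    by_cases hij : j = i
    · subst hij
      rw [Pi.mulSingle_eq_same]
      fin_cases a
      · change g * d j 0 * g⁻¹ = d j (Equiv.swap 1 2 0)
        rw [s1.1]
        refine f0 _ (dN j 0) ?_
        rw [d0, h.add _ (xN j) _ (xN j) _ h.c_mem, xx, xc, add_zero]
      · change g * d j 1 * g⁻¹ = d j (Equiv.swap 1 2 1)
        rw [s1.2.1, f1 _ (dN j 1) ?_, d1, d2]
        · calc y j * c * (x j * c) = y j * (c * x j) * c := by group
            _ = y j * x j * (c * c) := by rw [cm _ h.c_mem _ (xN j)]; group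
            _ = x j * y j := by rw [h.sq c h.c_mem, mul_one, cm _ (yN j) _ (xN j)]
        · rw [d1, h.add _ (xN j) _ (yN j) _ h.c_mem, (hp j).B, xc, add_zero]
      · change g * d j 2 * g⁻¹ = d j (Equiv.swap 1 2 2)
        rw [s1.2.2, f1 _ (dN j 2) ?_, d1, d2]
        · calc x j * y j * (x j * c) = x j * (y j * x j) * c := by group
            _ = x j * x j * (y j * c) := by rw [cm _ (yN j) _ (xN j)]; group
            _ = y j * c := by rw [h.sq _ (xN j), one_mul]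
        · rw [d2, h.add _ (xN j) _ (xN j) _ (yN j), (hp j).B, xx, zero_add]
    · have e1 : (Pi.mulSingle i (Equiv.swap 1 2) : Fin 3 → Equiv.Perm (Fin 3)) j = 1 := by
        rw [Pi.mulSingle_apply, if_neg hij]
      rw [e1]
      exact f0 _ (dN j a) (other i j a (Ne.symm hij)).1
  · obtain ⟨g, hg, hgn⟩ := h.refl (y i) (yN i) (y1 i) (hp i).Qy
    refine ⟨g, hg, fun j a => ?_⟩
    have f0 : ∀ n ∈ N, Bg C r (y i) n = 0 → g * n * g⁻¹ = n := by
      intro n hn e
      rcases hgn n hn with h1 | h1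
      · exact h1.2
      · rw [h1.1] at e; exact absurd e one_ne_zero
    have f1 : ∀ n ∈ N, Bg C r (y i) n = 1 → g * n * g⁻¹ = n * (y i * c) := by
      intro n hn e
      rcases hgn n hn with h1 | h1
      · rw [h1.1] at e; exact absurd e zero_ne_one
      · exact h1.2
    by_cases hij : j = i
    · subst hij
      rw [Pi.mulSingle_eq_same]
      fin_cases a
      · change g * d j 0 * g⁻¹ = d j (Equiv.swap 0 2 0)
        rw [s2.1, f1 _ (dN j 0) ?_, d0, d2]
        · calc x j * c * (y j * c) = x j * (c * y j) * c := by group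
            _ = x j * y j * (c * c) := by rw [cm _ h.c_mem _ (yN j)]; group
            _ = x j * y j := by rw [h.sq c h.c_mem, mul_one]
        · rw [d0, h.add _ (yN j) _ (xN j) _ h.c_mem, yx, yc, add_zero]
      · change g * d j 1 * g⁻¹ = d j (Equiv.swap 0 2 1)
        rw [s2.2.1]
        refine f0 _ (dN j 1) ?_
        rw [d1, h.add _ (yN j) _ (yN j) _ h.c_mem, yy, yc, add_zero]
      · change g * d j 2 * g⁻¹ = d j (Equiv.swap 0 2 2)
        rw [s2.2.2, f1 _ (dN j 2) ?_, d0, d2]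
        · calc x j * y j * (y j * c) = x j * (y j * y j) * c := by group
            _ = x j * c := by rw [h.sq _ (yN j), mul_one]
        · rw [d2, h.add _ (yN j) _ (xN j) _ (yN j), yx, yy, add_zero]
    · have e1 : (Pi.mulSingle i (Equiv.swap 0 2) : Fin 3 → Equiv.Perm (Fin 3)) j = 1 := by
        rw [Pi.mulSingle_apply, if_neg hij]
      rw [e1]
      exact f0 _ (dN j a) (other i j a (Ne.symm hij)).2

/-- **`|N| = 32`.** -/
theorem card_eq [Finite G] (h : GOrth C N r c) (hr : PRankLE 3 2 G) (r1 : r ≠ 1) {v : G} (hv : v ∈ N)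
    (hB : Bg C r r v = 0) (v1 : v ≠ 1) (vc : v ≠ c) (vr : v ≠ r) (vrc : v ≠ r * c) : Nat.card N = 32 := by
  have rc : r ≠ c := fun e => by
    have h1 := h.Qc
    rw [← e, Qg_self] at h1
    exact zero_ne_one h1
  have c1 : c ≠ 1 := fun e => by
    have h1 := h.Qc
    rw [e, Qg_one] at h1
    exact zero_ne_one h1
  have cm : ∀ a ∈ N, ∀ b ∈ N, a * b = b * a := fun a ha b hb => EA.comm_of h.sq ha hb
  have nN : Nd C N r c N := ⟨le_rfl, h.c_mem, h.rad⟩
  obtain ⟨x0, y0, hx0, hy0, p0, -, e0⟩ := exists_hp h nN h.r_mem r1 rc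
  have ex0 : x0 = r := e0 Qg_self
  subst ex0
  have n1 := perp_nd h nN p0 hx0 hy0
  have k1 := card_perp h nN.le p0 hx0 hy0
  -- an element of the complement
  obtain ⟨w, hw, w1, wc⟩ : ∃ w ∈ perp h nN.le p0.x_mem p0.y_mem, w ≠ 1 ∧ w ≠ c := by
    rcases z2 (Bg C x0 y0 v) with e | e
    · exact ⟨v, ⟨hv, hB, e⟩, v1, vc⟩
    · refine ⟨v * x0, ⟨mul_mem hv hx0, ?_, ?_⟩, fun e1 => vr ?_, fun e1 => vrc ?_⟩
      · rw [h.add x0 p0.x_mem v hv x0 hx0, hB, h.self x0 hx0, add_zero]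
      · rw [h.add y0 p0.y_mem v hv x0 hx0, e, h.comm y0 hy0 x0 hx0, p0.B]
        exact z2_add_self 1
      · calc v = v * (x0 * x0) := by rw [h.sq x0 hx0, mul_one]
          _ = x0 := by rw [← mul_assoc, e1, one_mul]
      · calc v = v * (x0 * x0) := by rw [h.sq x0 hx0, mul_one]
          _ = c * x0 := by rw [← mul_assoc, e1]
          _ = x0 * c := cm c h.c_mem x0 hx0
  obtain ⟨x1, y1, hx1, hy1, p1, -, -⟩ := exists_hp h n1 hw w1 wc
  have n2 := perp_nd h n1 p1 hx1 hy1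
  have k2 := card_perp h n1.le p1 hx1 hy1
  by_cases hc : ∀ u ∈ perp h n1.le p1.x_mem p1.y_mem, u = 1 ∨ u = c
  · have h3 : (perp h n1.le p1.x_mem p1.y_mem : Set G) = {1, c} := by
      ext u
      constructor
      · intro hu
        exact hc u hu
      · rintro (e | e)
        · rw [e]; exact one_mem _
        · rw [e]; exact n2.c_mem
    have h4 : Nat.card (perp h n1.le p1.x_mem p1.y_mem) = 2 := by
      change (perp h n1.le p1.x_mem p1.y_mem : Set G).ncard = 2
      rw [h3, Set.ncard_pair (Ne.symm c1)]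
    rw [h4] at k2
    omega
  · exfalso
    push Not at hc
    obtain ⟨u, hu, u1, uc⟩ := hc
    obtain ⟨x2, y2, hx2, hy2, p2, -, -⟩ := exists_hp h n2 hu u1 uc
    have sy : ∀ a ∈ N, ∀ b ∈ N, Bg C x0 a b = 0 → Bg C x0 b a = 0 := fun a ha b hb e => by
      rw [h.comm b hb a ha, e]
    -- orthogonality
    have q01 : ∀ b ∈ perp h nN.le p0.x_mem p0.y_mem, Bg C x0 x0 b = 0 ∧ Bg C x0 y0 b = 0 :=
      fun b hb => hb.2
    have q12 : ∀ b ∈ perp h n1.le p1.x_mem p1.y_mem, Bg C x0 x1 b = 0 ∧ Bg C x0 y1 b = 0 :=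
      fun b hb => hb.2
    have a1 := q01 x1 hx1
    have a2 := q01 y1 hy1
    have a3 := q01 x2 hx2.1
    have a4 := q01 y2 hy2.1
    have a5 := q12 x2 hx2
    have a6 := q12 y2 hy2
    refine no_three h hr ![x0, x1, x2] ![y0, y1, y2] (fun i => ?_) (fun i j hij => ?_)
    · fin_cases i
      · exact p0
      · exact p1
      · exact p2
    · fin_cases i <;> fin_cases j
      · exact absurd rfl hij
      · exact ⟨a1.1, a2.1, a1.2, a2.2⟩
      · exact ⟨a3.1, a4.1, a3.2, a4.2⟩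
      · exact ⟨sy _ p0.x_mem _ p1.x_mem a1.1, sy _ p0.y_mem _ p1.x_mem a1.2, sy _ p0.x_mem _ p1.y_mem a2.1,
          sy _ p0.y_mem _ p1.y_mem a2.2⟩
      · exact absurd rfl hij
      · exact ⟨a5.1, a6.1, a5.2, a6.2⟩
      · exact ⟨sy _ p0.x_mem _ p2.x_mem a3.1, sy _ p0.y_mem _ p2.x_mem a3.2, sy _ p0.x_mem _ p2.y_mem a4.1,
          sy _ p0.y_mem _ p2.y_mem a4.2⟩
      · exact ⟨sy _ p1.x_mem _ p2.x_mem a5.1, sy _ p1.y_mem _ p2.x_mem a5.2, sy _ p1.x_mem _ p2.y_mem a6.1,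
          sy _ p1.y_mem _ p2.y_mem a6.2⟩
      · exact absurd rfl hij

end Cfsg.Agent.Omega.IId.RankTwo

namespace Cfsg.Agent.Omega.IId.RankTwo

open Subgroup Cfsg Cfsg.Agent.ZN Cfsg.Agent.Omega.TV Cfsg.Agent.Omega.IId.One Cfsg.Agent.Omega.IId.SpForm

universe u

variable {G : Type u} [Group G] [Finite G] {T V₁ V₂ L₁ L₂ : Subgroup G} {v₁ v₂ s : G}

/-- **(B.4)**: `m_3(G) ≤ 2` implies `|N₁| = 32`. -/
theorem card_N1 (h : One T V₁ V₂ L₁ L₂ v₁ v₂ s) (hr : PRankLE 3 2 G)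
    (hI : ∃ x ∈ nc v₁ {v₂}, ∃ y ∈ nc v₂ {v₁}, x * y ≠ y * x) : Nat.card (nc v₁ {v₂}) = 32 := by
  have hO := h.orth hI
  -- another element of `V₂`
  obtain ⟨v, hv, hv1, hv2⟩ : ∃ v ∈ V₂, v ≠ 1 ∧ v ≠ v₂ := by
    by_contra hcon
    push Not at hcon
    have h1 : V₂ ≤ zpowers v₂ := by
      intro x hx
      by_cases hx1 : x = 1
      · rw [hx1]; exact one_mem _
      · rw [hcon x hx hx1]; exact mem_zpowers _
    have h2 := card_le_of_le h1
    rw [h.card2, Nat.card_zpowers] at h2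
    have h3 : orderOf v₂ ≤ 2 := orderOf_le_of_pow_eq_one (by norm_num) (by rw [pow_two, h.vq2])
    omega
  refine card_eq hO hr h.v2 (h.V2_le_N1 hv) (h.B_V2 h.vV2 hv) hv1 (fun e => ?_) hv2 (fun e => ?_)
  · exact h.v1 (h.inf _ h.vV1 (e ▸ hv))
  · -- `v = v₂ v₁` gives `v₁ ∈ V₂`
    refine h.v1 (h.inf _ h.vV1 ?_)
    have e2 : v₁ = v₂⁻¹ * v := by rw [e]; group
    rw [e2]
    exact mul_mem (inv_mem h.vV2) hv

/-- `N₁` with the quadratic form `Qg`. -/
theorem qf_of {C N : Subgroup G} {r c : G} (h : GOrth C N r c) : QF N C c (Qg C r) where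
  add := fun _ hx _ hy _ hz => h.add_left hx hy hz
  inv := fun g hg x hx => h.inv g hg x hx
  Qv := h.Qc
  vrad := fun y hy => h.Bc y hy
  rad := fun x hx hall => h.rad x hx hall

/-- **The configuration `One` with `[N₁, N₂] ≠ 1` does not occur if `m_3(G) ≤ 2`.** -/
theorem false_of_rank (h : One T V₁ V₂ L₁ L₂ v₁ v₂ s) (hr : PRankLE 3 2 G)
    (hB : ¬ nc v₁ {v₂} ≤ centralizer (nc v₂ {v₁} : Set G)) : False := by
  have hI : ∃ x ∈ nc v₁ {v₂}, ∃ y ∈ nc v₂ {v₁}, x * y ≠ y * x := by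
    by_contra hcon
    push Not at hcon
    exact hB fun x hx => mem_centralizer_iff.2 fun y hy => (hcon x hx y hy).symm
  exact SpKill.false_of h hB (qf_of (h.orth hI)) Qg_self (card_N1 h hr hI)

end Cfsg.Agent.Omega.IId.RankTwo
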