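import Cfsg.Agent.Omega.IId.SpPlug
import Cfsg.Agent.Omega.IId.OrthRank

/-!
# II.d, CASE 1, `q = 2`, case B: impossible if `G` has 3-rank at most 2
-/

set_option autoImplicit false

namespace Cfsg.Agent.Omega.IId.SpStrQ

open Subgroup Cfsg Cfsg.Agent.ZN Cfsg.Agent.Omega.IId.One

universe u

variable {G : Type u} [Group G]

/-- **Case B of CASE 1 is impossible for groups of 3-rank at most 2** (kill of `Sp₄(2)`). -/
theorem false_of [Finite G] {T V₁ V₂ L₁ L₂ : Subgroup G} {v₁ v₂ s : G} (h : One T V₁ V₂ L₁ L₂ v₁ v₂ s)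
    (hI : ∃ x ∈ nc v₁ {v₂}, ∃ y ∈ nc v₂ {v₁}, x * y ≠ y * x) (hr : PRankLE 3 2 G) : False := by
  refine SpPlug.false_of h ?_ (h.orth_all hI).1 (h.card_N1 hI hr)
  obtain ⟨x, hx, y, hy, hne⟩ := hI
  intro hle
  exact hne (mem_centralizer_iff.1 (hle hx) y hy).symm

end Cfsg.Agent.Omega.IId.SpStrQ
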