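import Cfsg.Agent.Omega.IId.NoOne
import Cfsg.Agent.Omega.IId.SymFin

/-!
# II.d in the strongly quasithin case: the state of the node (assembler: helper36)

`WrSym QK`, `WrTwo QK`, `WrBig QK`, `WrTri QK`, `WrMain2 QK` are closed (up to the leaves `NO3S.Two QK` and
`LeafSymWr QK` of the tree); what is left of `SQT.Multi.Wr2` is `WrCv QK` and `WrMain4 QK`.
-/

set_option autoImplicit false

namespace Cfsg.Agent.Omega.IId.Strq

open Cfsg Cfsg.Agent.Omega Cfsg.Agent.Omega.Frame Cfsg.Agent.Omega.FrameMulti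
open Cfsg.Agent.Omega.SQT.Main (QK)

universe u

/-- **`Wr2` from its open sub-leaves `WrCv QK`, `WrMain4 QK`.** -/
theorem wr2_fin (hTwo : NO3S.Two QK.{u}) (hSW : LeafSymWr QK.{u}) (h1 : WrCv QK.{u}) (h7 : WrMain4 QK.{u}) :
    SQT.Multi.Wr2.{u} :=
  wr2 h1 (Sym.wrSymQK hSW hTwo) (wrTri hTwo) NoOne.wrMain2 h7

end Cfsg.Agent.Omega.IId.Strq
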