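import Cfsg.Agent.Omega.IId.SwNatOne
import Cfsg.Agent.Omega.IId.LFour.LemX
import Cfsg.Agent.Omega.IId.LFour.AThree
import Cfsg.Agent.Omega.IId.LFour.Of
import Cfsg.Agent.Omega.IId.MatchSym
import Cfsg.Agent.Omega.IId.SMain

/-!
# II.d, `SwNat K` : `S₅ wr 2` against one or two natural factors

helper341 (head of `SwNat`), text of helper84 #16986 (2), referee helper930 #17244.

* `sn_nn` : `V₁ ≤ K_n` (A (3)) and LEMMA X for the adapted pair `n = M₁.e nn`;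
* `SN.conj` : conjugates;
* `exists_sn` : for a mutual pair, the data of `SwNatOne.lean`;
* `swNat'` : `SwNat K` from `NodeN2 K` and `NoOne K` (`swNat` : the old interface, with an unused `NO3S.Two K`).
-/

set_option autoImplicit false
set_option linter.unusedSectionVars false

namespace Cfsg.Agent.Omega.IId.SwN

open Subgroup Pointwise Cfsg Cfsg.Agent.ZN.ChoiceBase
open Cfsg.Agent.ZN (o2 zc zl)
open Cfsg.Agent.Omega.MinPar Cfsg.Agent.Omega.FFThm Cfsg.Agent.Omega.Frame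
open Cfsg.Agent.Omega.S5.Mod Cfsg.Agent.Omega.S5.TT
open Cfsg.Agent.Omega.Half.SymA (E)
open Cfsg.Agent.Omega.Half (Amb amb_of_loc)
open Cfsg.Agent.Omega.IId.LFour (Wr md exists_wr)
open Cfsg.Agent.Omega.IId.One (cz Kk)

universe u

variable {G : Type u} [Group G] [Finite G] {S : Sylow 2 G} {P V₁ V₂ L₁ L₂ : Subgroup G} {M₁ : FiveMod V₁ L₁}
  {M₂ : FiveMod V₂ L₂}

/-- The supply. -/
theorem le_Kk (wr : Wr S P M₁ M₂) : V₁ ≤ Kk (M₁.e nn) := by
  intro v hv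
  obtain ⟨y, rfl⟩ := (M₁.mem_iff v).1 hv
  refine ⟨One.mem_cz.2 (M₁.e_comm y nn), fun x hx => ?_⟩
  have h1 : M₁.e y * x * (M₁.e y)⁻¹ * x⁻¹ = (x * M₁.e y * x⁻¹ * (M₁.e y)⁻¹)⁻¹ := by group
  rw [h1]
  apply inv_mem
  rcases wr.Q_ind hx with h2 | h2
  · rw [h2.comm_eq]
    have e : y ∘ (1 : Equiv.Perm (Fin 5)).symm + y = 0 := add_self y
    rw [e, M₁.e_zero]
    exact one_mem _
  · rw [h2.comm_eq]
    rcases LFour.swap_add y with h3 | h3
    · rw [h3, M₁.e_zero]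
      exact one_mem _
    · rw [h3]
      exact mem_zpowers _

theorem sn_nn (wr : Wr S P M₁ M₂) : SN V₁ (M₁.e nn) where
  kk := le_Kk wr
  x := fun _ hU hU1 hC ho => wr.lemX hU hU1 hC ho

omit [Finite G] in
theorem cj_cz (g n : G) : cj g⁻¹ (cz (g * n * g⁻¹)) = cz n := by
  ext x
  rw [mem_cj, inv_inv, One.mem_cz, One.mem_cz]
  have e1 : g * x * g⁻¹ * (g * n * g⁻¹) = g * (x * n) * g⁻¹ := by group
  have e2 : g * n * g⁻¹ * (g * x * g⁻¹) = g * (n * x) * g⁻¹ := by group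
  rw [e1, e2]
  exact ⟨fun h => mul_left_cancel (mul_right_cancel h), fun h => by rw [h]⟩

theorem SN.conj {n g : G} (h : SN V₁ n) (hg : g ∈ normalizer (V₁ : Set G)) : SN V₁ (g * n * g⁻¹) where
  kk := by
    intro u hu
    have h1 : g⁻¹ * u * g ∈ V₁ := by
      have := (mem_normalizer_iff.1 (inv_mem hg) u).1 hu
      rwa [inv_inv] at this
    have h2 := One.conj_Kk (s := g) rfl (h.kk h1)
    have e : g * (g⁻¹ * u * g) * g⁻¹ = u := by group
    rwa [e] at h2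
  x := by
    intro U hU hU1 hC ho
    have h1 : cz n ≤ normalizer ((cj g⁻¹ U : Subgroup G) : Set G) := by
      rw [← cj_normalizer, ← cj_cz g n]
      exact cj_mono _ hC
    have e1 : o2 (normalizer ((cj g⁻¹ U : Subgroup G) : Set G)) = cj g⁻¹ (o2 (normalizer (U : Set G))) := by
      rw [← cj_normalizer, ZN.ChoiceSit.o2_cj]
    have h2 : o2 (normalizer ((cj g⁻¹ U : Subgroup G) : Set G)) ≤ cz n := by
      rw [e1, ← cj_cz g n]
      exact cj_mono _ ho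
    have h3 : cj g⁻¹ U ≠ ⊥ := by
      intro h0
      apply hU1
      rw [← cj_cj_inv g U, h0]
      exact Subgroup.map_bot _
    have h4 := h.x _ (isPGroup_cj _ hU) h3 h1 h2
    rw [e1] at h4
    have h5 := cj_mono g h4
    rwa [cj_cj_inv, cj_eq_of_mem_normalizer hg] at h5

/-! ### Pairs of letters -/

theorem exists_nn : ∀ a b : Fin 5, a ≠ b → ∃ ρ : Equiv.Perm (Fin 5),
    nn ∘ ρ.symm = Pi.single a 1 + Pi.single b 1 := by
  decide +kernel

theorem sn_pair (wr : Wr S P M₁ M₂) {a b : Fin 5} (hab : a ≠ b) :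
    SN V₁ (M₁.e (Pi.single a 1 + Pi.single b 1)) := by
  obtain ⟨ρ, hρ⟩ := exists_nn a b hab
  obtain ⟨g, hg, hi⟩ := M₁.exists_lift ρ
  have h1 := (sn_nn wr).conj (M₁.le_normalizer hg)
  rwa [hi nn, hρ] at h1

/-! ### The mutual pair -/

theorem comp_single (σ : Equiv.Perm (Fin 5)) (a : Fin 5) :
    (Pi.single (σ⁻¹ a) (1 : ZMod 2) : Fin 5 → ZMod 2) ∘ σ.symm = Pi.single a 1 := by
  funext x
  change (Pi.single (σ⁻¹ a) (1 : ZMod 2) : Fin 5 → ZMod 2) (σ⁻¹ x) = _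
  by_cases h : x = a
  · rw [h, Pi.single_eq_same, Pi.single_eq_same]
  · rw [Pi.single_eq_of_ne h, Pi.single_eq_of_ne fun h0 => h (σ⁻¹.injective h0)]

/-- The data of `SwNatOne.lean`. -/
theorem exists_sn {F : Type} [Field F] [Finite F] {S' : Sylow 2 G} {P' : Subgroup G} {k : ℕ}
    {M : SymK (S : Subgroup G) P (zl (S : Subgroup G) P) ⊥ 2 2}
    {M' : NatK F (S' : Subgroup G) P' (zl (S' : Subgroup G) P') ⊥ k} {I : Set (Fin k)} (h : Mix M' M I)
    {i : Fin k} (hi : i ∈ I) :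
    ∃ (W : Subgroup G) (n : G), n ∈ line M' i ∧ n ≠ 1 ∧ SN W n ∧ ∃ w ∈ fac M' i, ∃ u ∈ W, w * u ≠ u * w := by
  obtain ⟨w, hw, hwe⟩ := exists_fac M' i ![0, 1]
  have hwi : M'.e w i 1 ≠ 0 := by rw [hwe]; exact one_ne_zero
  obtain ⟨p, q, hpq, hpq1, hp2, hq2, hact, hz⟩ := h.exists_pair hi hw hwi
  obtain ⟨n, hn, hn1⟩ : ∃ n ∈ line M' i, n ≠ 1 := by
    by_contra hcon
    push Not at hcon
    exact line_ne_bot (M := M') i ((eq_bot_iff_forall _).2 hcon)
  have hE := hz n hn hn1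
  obtain ⟨a₀, ha₀, hna⟩ := (h.ind.mem_line_iff h.V'P hi hw hwi).1 hn
  have hnV : n ∈ zl (S : Subgroup G) P := hna ▸ comm_mem h.amb' (h.VP' hw.1) ha₀
  obtain ⟨i₀, a⟩ := p
  obtain ⟨i₁, b⟩ := q
  obtain rfl : i₀ = i₁ := hpq1
  have hab : a ≠ b := fun h0 => hpq (by rw [h0])
  obtain ⟨j₀, hij⟩ : ∃ j : Fin 2, i₀ ≠ j := ⟨i₀ + 1, by omega⟩
  obtain ⟨σ₁, σ₂, wr⟩ := exists_wr h.c2 S h.pair.star' M hij
  have hA := amb_of_loc h.c2 S h.pair.star'.isLoc
  -- `n` in the labels of the first summand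
  have hnf : n ∈ LFour.SymF.fac M i₀ := by
    refine ⟨hnV, fun j hj => funext fun y => ?_⟩
    have h1 := hE (j, y)
    rw [if_neg (fun h0 => hj (congrArg Prod.fst h0)), if_neg (fun h0 => hj (congrArg Prod.fst h0)), add_zero] at h1
    exact h1
  have hne : M.e n i₀ = Pi.single a 1 + Pi.single b 1 := by
    funext y
    have h1 := hE (i₀, y)
    have h2 : E M n (i₀, y) = M.e n i₀ y := rfl
    rw [← h2, h1]
    by_cases hya : y = a
    · have hyb : y ≠ b := fun h0 => hab (hya.symm.trans h0)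
      rw [hya] at hyb ⊢
      rw [if_pos rfl, if_neg (fun h0 => hyb (congrArg Prod.snd h0)), Pi.add_apply, Pi.single_eq_same,
        Pi.single_eq_of_ne hyb]
    · by_cases hyb : y = b
      · rw [hyb] at hya ⊢
        rw [if_neg (fun h0 => hya (congrArg Prod.snd h0)), if_pos rfl, Pi.add_apply, Pi.single_eq_same,
          Pi.single_eq_of_ne hya]
      · rw [if_neg (fun h0 => hya (congrArg Prod.snd h0)), if_neg (fun h0 => hyb (congrArg Prod.snd h0)),
          Pi.add_apply, Pi.single_eq_of_ne hya, Pi.single_eq_of_ne hyb]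
  have hn' : n = ((md M hA i₀).relabel σ₁).e (Pi.single (σ₁⁻¹ a) 1 + Pi.single (σ₁⁻¹ b) 1) := by
    rw [FiveMod.relabel_e]
    have e : (Pi.single (σ₁⁻¹ a) 1 + Pi.single (σ₁⁻¹ b) 1 : Vec) ∘ σ₁.symm = Pi.single a 1 + Pi.single b 1 := by
      rw [← comp_single σ₁ a, ← comp_single σ₁ b]
      rfl
    rw [e, LFour.md_e]
    rw [← LFour.SymF.lab_e M (by norm_num) hnf, hne]
  have hsn := sn_pair wr (a := σ₁⁻¹ a) (b := σ₁⁻¹ b) fun h0 => hab (σ₁⁻¹.injective h0)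
  rw [← hn'] at hsn
  refine ⟨_, n, hn, hn1, hsn, w, hw, LFour.SymF.lab M (by norm_num) i₀ (Pi.single a 1 + Pi.single 0 1),
    LFour.SymF.lab_mem_fac M (by norm_num) i₀ _, fun hcom => ?_⟩
  set u := LFour.SymF.lab M (by norm_num) i₀ (Pi.single a 1 + Pi.single 0 1) with hu
  have huV : u ∈ zl (S : Subgroup G) P := LFour.SymF.lab_mem M (by norm_num) i₀ _
  have h1 := hact u huV (i₀, b)
  rw [hcom, mul_inv_cancel_right, Equiv.swap_apply_right] at h1
  have hs : (∑ y, (Pi.single a 1 + Pi.single 0 1 : Fin (2 ^ 2 + 1) → ZMod 2) y) = 0 := by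
    simp only [Pi.add_apply, Finset.sum_add_distrib, Finset.sum_pi_single', Finset.mem_univ, if_true]
    decide
  have h2 : M.e u i₀ = Pi.single a 1 + Pi.single 0 1 := by
    rw [hu, LFour.SymF.e_lab, Pi.single_eq_same, LFour.SymF.hat_of_even hs]
  have h3 : M.e u i₀ a = M.e u i₀ b := h1
  rw [h2, Pi.add_apply, Pi.add_apply, Pi.single_eq_same, Pi.single_eq_of_ne hp2, Pi.single_eq_of_ne hab.symm,
    Pi.single_eq_of_ne hq2] at h3
  simp at h3

/-- **`SwNat K`** (no `NO3S.Two K`). -/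
theorem swNat' {K : Cls.{u}} (hN2 : S5.Main.NodeN2 K) (hNo : NoOne K) : SwNat K := by
  intro G _ _ S S' hH P P' hp F' _ _ _ k' M M' hk' hk2
  have hc := hH.ctx.char2
  obtain ⟨t1, t2⟩ := hH.typed' hp
  obtain ⟨I, hI⟩ := exists_ind M' hp.symm.le (hp.symm.off hc t1.noOver)
  have hX : Mix M' M I := ⟨hp.symm, hc, by norm_num, hp.off hc t2.noOver, hI⟩
  have hIne : I.Nonempty := lines_ne_bot (M := M') ((hI.commutator_eq hX.V'P) ▸ hp.symm.ne)
  obtain ⟨i, hi⟩ := hIne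
  obtain ⟨W, n, hn, hn1, hsn, hne⟩ := exists_sn hX hi
  exact known' hN2 hNo (hH.conj S') hp.star' hk' hk2 M' hX.card_two hn hn1 hsn hne

/-- The old interface of `swNat'`, with the unused `NO3S.Two K`. -/
theorem swNat {K : Cls.{u}} (hN2 : S5.Main.NodeN2 K) (_hTwo : NO3S.Two K) (hNo : NoOne K) : SwNat K :=
  swNat' hN2 hNo

end Cfsg.Agent.Omega.IId.SwN
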