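import Cfsg.Agent.Omega.IId.OneOf
import Cfsg.Agent.Omega.IId.SymMain
import Cfsg.Agent.Omega.IId.LineAct
import Cfsg.Agent.Omega.IId.M4.HypCj
import Cfsg.Agent.Omega.S5.Main
import Cfsg.Agent.Omega.IId.TriFalse

/-!
# II.d, `SwNat` : a natural member `P'` (`k' = 1, 2`) against a partner which supplies transvections

helper341 (head of `SwNat`), text of helper84 #16986 (2) (referee helper930 #17244).

`SN V₁ n` : `V₁ ≤ K_n`, and `V₁ ≤ O₂(H)` for every 2-local `H ≥ C_G(n)` with `O₂(H) ≤ C_G(n)` (LEMMA X).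
If `n ∈ line M' i` and some element of `fac M' i` does not commute with `V₁`:

* `exitN2` : `k' = 1` : `ExitN2 S' P'`;
* `false_tri` : `k' = 2`, `N_{S'}(V'_i)` is Sylow in `C_G(n)` (there is no triangle, `TriFalse`);
* `one_of`, `nonLoc_of` : `k' = 2`, `N_{S'}(V'_i)` Sylow in `C_G(n)` : `One` with `⟨C₁, C₂⟩` nonlocal;
* `known'` : together (`known`, `known_tri` : the old interface, with an unused `NO3S.Two K`).
-/

set_option autoImplicit false
set_option linter.unusedSectionVars false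

namespace Cfsg.Agent.Omega.IId.SwN

open Subgroup Cfsg Cfsg.Agent.ZN.ChoiceBase
open Cfsg.Agent.ZN (o2 zc zl)
open Cfsg.Agent.Omega.MinPar Cfsg.Agent.Omega.FFThm Cfsg.Agent.Omega.Frame
open Cfsg.Agent.Omega.IId.Sym (exists_tri base_of)
open Cfsg.Agent.Omega.IId.One (cz Kk)

universe u

variable {G : Type u} [Group G]

/-- `V₁ ≤ K_n` and LEMMA X for `V₁`, `n`. -/
structure SN (V₁ : Subgroup G) (n : G) : Prop where
  kk : V₁ ≤ Kk n
  x : ∀ U : Subgroup G, IsPGroup 2 U → U ≠ ⊥ → cz n ≤ normalizer (U : Set G) →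
    o2 (normalizer (U : Set G)) ≤ cz n → V₁ ≤ o2 (normalizer (U : Set G))

variable [Finite G] {F : Type} [Field F] [Finite F] [CharP F 2] {S : Sylow 2 G} {P : Subgroup G}

/-- The natural member: `n ∈ line M i`, `w ∈ fac M i` does not commute with `u ∈ V₁`. -/
theorem false_of_le {V₁ U A : Subgroup G} {n w u : G} (h : SN V₁ n) (hU : IsPGroup 2 U) (hU1 : U ≠ ⊥)
    (hC : cz n ≤ normalizer (U : Set G)) (ho : o2 (normalizer (U : Set G)) ≤ cz n)
    (hA : A ≤ zc (o2 (normalizer (U : Set G)))) (hw : w ∈ A) (hu : u ∈ V₁) (hne : w * u ≠ u * w) : False := by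
  have h1 := h.x U hU hU1 hC ho hu
  exact hne ((MinSimple.VModule.mem_zc.1 (hA hw)).2.1 u h1).symm

/-- `n ∈ Ω₁Z(O₂(H))` -/
theorem mem_zc_of {U : Subgroup G} {n : G} (hc : IsCharacteristicTwoType G) (hn2 : n * n = 1)
    (hU : IsPGroup 2 U) (hU1 : U ≠ ⊥) (hnU : n ∈ normalizer (U : Set G))
    (ho : o2 (normalizer (U : Set G)) ≤ cz n) : n ∈ zc (o2 (normalizer (U : Set G))) := by
  have h2 := MinSimple.Basic.char2_normalizer hc hU hU1
  have h3 : ∀ y ∈ o2 (normalizer (U : Set G)), y * n = n * y := fun y hy => One.mem_cz.1 (ho hy)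
  exact MinSimple.VModule.mem_zc.2 ⟨h2 ⟨hnU, mem_centralizer_iff.2 h3⟩, h3, by rw [pow_two, hn2]⟩

/-! ### `k' = 1` -/

theorem stab_eq_one (M : NatK F (S : Subgroup G) P (zl (S : Subgroup G) P) ⊥ 1) (hSP : (S : Subgroup G) ≤ P) :
    (S : Subgroup G) ≤ stab M 0 := by
  refine le_inf le_rfl ?_
  have h1 : fac M 0 = zl (S : Subgroup G) P := by
    apply le_antisymm (fac_le M 0)
    intro v hv
    exact ⟨hv, fun j hj => absurd (Subsingleton.elim j 0) hj⟩
  rw [h1]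
  exact hSP.trans (MinSimple.VModule.le_normalizer_zl _ _)

/-- **`k' = 1`: exit N2.** -/
theorem exitN2 (hc : IsCharacteristicTwoType G) (hP : IsParS (S : Subgroup G) P)
    (M : NatK F (S : Subgroup G) P (zl (S : Subgroup G) P) ⊥ 1) (hF : Nat.card F = 2) {V₁ : Subgroup G} {n : G}
    (hn : n ∈ line M 0) (hn1 : n ≠ 1) (h : SN V₁ n)
    (hne : ∃ w ∈ zl (S : Subgroup G) P, ∃ u ∈ V₁, w * u ≠ u * w) : S5.Main.ExitN2 (S : Subgroup G) P := by
  have hSP := hP.isLoc.le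
  have hst := stab_eq_one M hSP
  have hSn : (S : Subgroup G) ≤ cz n := fun x hx => One.mem_cz.2 (stab_comm_line M hSP hF hn (hst hx))
  refine ⟨hP, ?_, ?_⟩
  · rw [S5.Nat.card_eq M rfl, hF]
    norm_num
  · intro U hU h1 h2
    by_contra hU1
    have hzn : zc (S : Subgroup G) ≤ zpowers n := by
      intro z hz
      by_cases hz1 : z = 1
      · rw [hz1]; exact one_mem _
      have h3 : z ∈ fac M 0 := ⟨ZN.ChoiceSit.zc_le_zl _ _ hz, fun j hj => absurd (Subsingleton.elim j 0) hj⟩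
      have h4 : z ∈ line M 0 := fix_le_line M hSP h3 fun t ht =>
        (MinSimple.VModule.mem_zc.1 hz).2.1 t (stab_le M 0 ht)
      have h5 : Nat.card (line M 0) = 2 := by rw [card_line, hF]
      rw [(Two.eq_or_eq_of_card_two h5 hn hn1 h4).resolve_left hz1]
      exact mem_zpowers n
    have hC : cz n ≤ normalizer (U : Set G) := by
      refine le_trans ?_ h2
      intro x hx
      refine mem_centralizer_iff.2 fun z hz => ?_
      obtain ⟨k, rfl⟩ := mem_zpowers_iff.1 (hzn hz)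
      exact (Commute.zpow_left (One.mem_cz.1 hx).symm k)
    have hSU : (S : Subgroup G) ≤ normalizer (U : Set G) := hSP.trans h1
    have ho : o2 (normalizer (U : Set G)) ≤ (S : Subgroup G) :=
      MinSimple.VModule.o2_le_of_sylow S.isPGroup' (MinSimple.Basic.not_dvd_relIndex S hSU)
    have hz : zc (S : Subgroup G) ≤ zc (o2 (normalizer (U : Set G))) :=
      MinSimple.VModule.zc_le_zc_o2 hSU S.isPGroup' (MinSimple.Basic.not_dvd_relIndex S hSU) (MinSimple.Basic.char2_normalizer hc hU hU1)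
    have hV : zl (S : Subgroup G) P ≤ zc (o2 (normalizer (U : Set G))) :=
      MinSimple.VModule.zl_le hz (h1.trans ((MinSimple.VModule.le_normalizer_o2 _).trans
        (MinSimple.VModule.normalizer_le_normalizer_zc _)))
    obtain ⟨w, hw, u, hu, hwu⟩ := hne
    exact false_of_le h hU hU1 hC (ho.trans hSn) hV hw hu hwu

/-! ### `k' = 2` -/

section two

variable (M : NatK F (S : Subgroup G) P (zl (S : Subgroup G) P) ⊥ 2) {i j : Fin 2}

/-- `N_S(V_i)` is Sylow in `C_G(n)`: there is no triangle. -/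
theorem false_tri (hc : IsCharacteristicTwoType G) (hP : IsParS (S : Subgroup G) P) (hF : Nat.card F = 2)
    (hij : i ≠ j) {n : G} (hn : n ∈ line M i) (hn1 : n ≠ 1)
    (h2 : 2 ∣ (stab M i).relIndex (centralizer ({n} : Set G))) : False := by
  obtain ⟨T, s, hT⟩ := exists_tri hc hP M hF hij hn hn1 h2
  exact TriFalse.false_of hT hc

/-- `N_S(V_i)` not Sylow in `C_G(n)` (the old interface, with the unused `NO3S.Two K`). -/
theorem known_tri {K : Cls.{u}} (_hTwo : NO3S.Two K) (hH : Hyp K S) (hP : IsParS (S : Subgroup G) P)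
    (hF : Nat.card F = 2) (hij : i ≠ j) {V₁ : Subgroup G} {n : G} (hn : n ∈ line M i) (hn1 : n ≠ 1)
    (h2 : 2 ∣ (stab M i).relIndex (centralizer ({n} : Set G))) (_h : SN V₁ n)
    (_hne : ∃ w ∈ fac M i, ∃ u ∈ V₁, w * u ≠ u * w) : IsKnownSimple' G :=
  (false_tri M hH.ctx.char2 hP hF hij hn hn1 h2).elim

/-- `N_S(V_i)` Sylow in `C_G(n)`: `One`. -/
theorem one_of (hc : IsCharacteristicTwoType G) (hP : IsParS (S : Subgroup G) P) (hF : Nat.card F = 2)
    (hij : i ≠ j) {V₁ : Subgroup G} {n s : G} (hn : n ∈ line M i) (hn1 : n ≠ 1)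
    (hs : s ∈ (S : Subgroup G)) (hs1 : s ∉ stab M i)
    (hsyl : ¬ 2 ∣ (stab M i).relIndex (centralizer ({n} : Set G))) (h : SN V₁ n)
    (hne : ∃ w ∈ fac M i, ∃ u ∈ V₁, w * u ≠ u * w) :
    One.One (stab M i) (fac M i) (fac M j) (grp M {i}) (grp M {j}) n (s * n * s⁻¹) s := by
  have hb := base_of hc hP M hF hij hn hn1 hs hs1 hsyl
  have h2 := two_of hc hP M hij
  obtain ⟨w, hw, u, hu, hwu⟩ := hne
  have n1 : ¬ cz n ≤ normalizer (fac M j : Set G) := by
    intro hle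
    have hp : IsPGroup 2 (fac M j) := hb.pT.to_le hb.V2T
    have ho : o2 (normalizer (fac M j : Set G)) ≤ stab M i :=
      MinSimple.VModule.o2_le_of_sylow hb.pT hb.syl_N2
    exact false_of_le h hp hb.symm.V1_ne_bot hle (ho.trans hb.T_le) hb.V1_le_zcN hw hu hwu
  refine ⟨hb, ⟨u, h.kk hu, w, hw, Ne.symm hwu⟩, ⟨s * u * s⁻¹, One.conj_Kk hb.sv1 (h.kk hu), s * w * s⁻¹,
    hb.s1 w hw, fun e => hwu ?_⟩, n1, ?_⟩
  · have e1 : s * u * s⁻¹ * (s * w * s⁻¹) = s * (u * w) * s⁻¹ := by group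
    have e2 : s * w * s⁻¹ * (s * u * s⁻¹) = s * (w * u) * s⁻¹ := by group
    rw [e1, e2] at e
    exact (mul_left_cancel (mul_right_cancel e)).symm
  · intro hn'
    apply n1
    apply Two.le_normalizer_of
    intro c hcc v hv
    have h3 := One.conj_cz hb.sv1 hcc
    have h4 := (mem_normalizer_iff.1 (hn' h3) _).1 (hb.s2 v hv)
    have h5 := h2.sw1 s⁻¹ (inv_mem hs) (fun h0 => hs1 (inv_mem_iff.1 h0)) _ h4
    have e : s⁻¹ * (s * c * s⁻¹ * (s * v * s⁻¹) * (s * c * s⁻¹)⁻¹) * s⁻¹⁻¹ = c * v * c⁻¹ := by group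
    rwa [e] at h5

/-- `N_S(V_i)` Sylow in `C_G(n)`: `⟨C₁, C₂⟩` is nonlocal. -/
theorem nonLoc_of (hc : IsCharacteristicTwoType G) (hP : IsParS (S : Subgroup G) P) (hF : Nat.card F = 2)
    (hij : i ≠ j) {V₁ : Subgroup G} {n s : G} (hn : n ∈ line M i) (hn1 : n ≠ 1)
    (hs : s ∈ (S : Subgroup G)) (hs1 : s ∉ stab M i)
    (hsyl : ¬ 2 ∣ (stab M i).relIndex (centralizer ({n} : Set G))) (h : SN V₁ n)
    (hne : ∃ w ∈ fac M i, ∃ u ∈ V₁, w * u ≠ u * w) : NonLoc (cz n) (cz (s * n * s⁻¹)) := by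
  intro U hU h1 h2
  by_contra hU1
  have hb := base_of hc hP M hF hij hn hn1 hs hs1 hsyl
  have htwo := two_of hc hP M hij
  have hT2 : ∀ U : Subgroup G, IsPGroup 2 U → stab M i ≤ U → Nat.card U ≤ 2 * Nat.card (stab M i) :=
    fun U hU _ => One.card_le_two htwo U hU
  have hTU : stab M i ≤ normalizer (U : Set G) := hb.T_le.trans h1
  have hLU : grp M {j} ≤ normalizer (U : Set G) := hb.L2_le.trans h1
  have hz := hb.vi_mem_zc hT2 hU hU1 hTU hLU
  have ho := hb.o2_le_T hT2 hTU hLU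
  have hnn : normalizer (U : Set G) ≤ normalizer (zc (o2 (normalizer (U : Set G))) : Set G) :=
    (MinSimple.VModule.le_normalizer_o2 _).trans (MinSimple.VModule.normalizer_le_normalizer_zc _)
  have hV : fac M i ≤ zc (o2 (normalizer (U : Set G))) := hb.V1_le_of (hb.L1_le.trans (h2.trans hnn)) hz.1
  obtain ⟨w, hw, u, hu, hwu⟩ := hne
  exact false_of_le h hU hU1 h1 (ho.trans hb.T_le) hV hw hu hwu

end two

/-- **`SwNat`, the natural side.** -/
theorem known' {K : Cls.{u}} (hN2 : S5.Main.NodeN2 K) (hNo : NoOne K) (hH : Hyp K S)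
    (hP : IsParS (S : Subgroup G) P) {k : ℕ} (hk : 1 ≤ k) (hk2 : k ≤ 2)
    (M : NatK F (S : Subgroup G) P (zl (S : Subgroup G) P) ⊥ k) (hF : Nat.card F = 2) {i : Fin k}
    {V₁ : Subgroup G} {n : G} (hn : n ∈ line M i) (hn1 : n ≠ 1) (h : SN V₁ n)
    (hne : ∃ w ∈ fac M i, ∃ u ∈ V₁, w * u ≠ u * w) : IsKnownSimple' G := by
  obtain rfl | rfl : k = 1 ∨ k = 2 := by omega
  · obtain rfl : i = 0 := Subsingleton.elim i 0
    obtain ⟨w, hw, u, hu, hwu⟩ := hne
    exact hN2 G hH.ctx hH.cls S hH.full hH.allIn P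
      (exitN2 hH.ctx.char2 hP M hF hn hn1 h ⟨w, fac_le M 0 hw, u, hu, hwu⟩)
  · obtain ⟨j, hij⟩ : ∃ j : Fin 2, i ≠ j := ⟨i + 1, by omega⟩
    by_cases h2 : 2 ∣ (stab M i).relIndex (centralizer ({n} : Set G))
    · exact (false_tri M hH.ctx.char2 hP hF hij hn hn1 h2).elim
    · have hT := two_of hH.ctx.char2 hP M hij
      obtain ⟨s, hs, hs1⟩ := Two.exists_not_mem hT.SoS hT.card
      exact (hNo G S hH _ _ _ _ _ _ _ s hT.SoS hs hT.card
        (one_of M hH.ctx.char2 hP hF hij hn hn1 hs hs1 h2 h hne)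
        (nonLoc_of M hH.ctx.char2 hP hF hij hn hn1 hs hs1 h2 h hne)).elim

/-- The old interface of `known'`, with the unused `NO3S.Two K`. -/
theorem known {K : Cls.{u}} (hN2 : S5.Main.NodeN2 K) (_hTwo : NO3S.Two K) (hNo : NoOne K) (hH : Hyp K S)
    (hP : IsParS (S : Subgroup G) P) {k : ℕ} (hk : 1 ≤ k) (hk2 : k ≤ 2)
    (M : NatK F (S : Subgroup G) P (zl (S : Subgroup G) P) ⊥ k) (hF : Nat.card F = 2) {i : Fin k}
    {V₁ : Subgroup G} {n : G} (hn : n ∈ line M i) (hn1 : n ≠ 1) (h : SN V₁ n)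
    (hne : ∃ w ∈ fac M i, ∃ u ∈ V₁, w * u ≠ u * w) : IsKnownSimple' G :=
  known' hN2 hNo hH hP hk hk2 M hF hn hn1 h hne

end Cfsg.Agent.Omega.IId.SwN
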