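import Cfsg.Agent.Omega.IId.SymNf
import Cfsg.Agent.Omega.IId.NonLoc

/-!
# II.d, mixed pairs, CASE 1: `V_i* = V_i` is impossible

`N` : adapted labels of an `O₄⁻(2)`-module `V` over `S`.

* `same_of_centre` : two elements of `N_G(V)` which act on `V` as transvections with the same centre act in the
  same way.
-/

set_option autoImplicit false
set_option linter.unusedSectionVars false

namespace Cfsg.Agent.Omega.IId.Sym

open Subgroup Cfsg Cfsg.Agent.ZN.ChoiceBase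
open Cfsg.Agent.ZN (o2 zc zl)
open Cfsg.Agent.Omega.MinPar
open Cfsg.Agent.Omega.S5.Mod Cfsg.Agent.Omega.S5.TT Cfsg.Agent.Omega.S5.Types
open Cfsg.Agent.Omega.IId.Two

universe u

variable {G : Type u} [Group G]

/-- The transvections in `D₈`. -/
theorem tv_d8 : ∀ p : Equiv.Perm (Fin 5), p * dd = dd * p → ∀ y : Vec,
    (∀ x : Vec, (x ∘ p.symm + x = 0 ∨ x ∘ p.symm + x = 1) ∨ (x ∘ p.symm + x = y ∨ x ∘ p.symm + x = y + 1)) →
    p = 1 ∨ (p = Equiv.swap 0 1 ∧ (y = nn ∨ y = nn + 1)) ∨ (p = Equiv.swap 2 3 ∧ (y = aa ∨ y = aa + 1)) := by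
  decide +kernel

/-- `g` acts on `V` as `1` or as a transvection with centre `w`. -/
def Tv (V : Subgroup G) (w g : G) : Prop :=
  g ∈ normalizer (V : Set G) ∧ ∀ v ∈ V, g * v * g⁻¹ = v ∨ g * v * g⁻¹ = w * v

section tv

variable {V : Subgroup G} {w : G} (hw : w ∈ V) (hq : ∀ v ∈ V, v * v = 1)

include hq in
theorem comm_of_sq {x y : G} (hx : x ∈ V) (hy : y ∈ V) : x * y = y * x := by
  have h1 := hq _ (mul_mem hx hy)
  have h2 := hq _ hx
  have h3 := hq _ hy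
  calc x * y = x * (x * y * (x * y)) * y := by rw [h1, mul_one]
    _ = (x * x) * (y * x) * (y * y) := by group
    _ = y * x := by rw [h2, h3, one_mul, mul_one]

include hw hq in
theorem Tv.fix {g : G} (h : Tv V w g) : g * w * g⁻¹ = w := by
  rcases h.2 w hw with h1 | h1
  · exact h1
  · rw [hq w hw] at h1
    have h2 : w = g⁻¹ * (g * w * g⁻¹) * g := by group
    rw [h1] at h2
    have h3 : w = 1 := by rw [h2]; group
    rw [h3]; group

/-- The group of the elements which act as `1` or as a transvection with centre `w`. -/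
def tvg (hw : w ∈ V) (hq : ∀ v ∈ V, v * v = 1) : Subgroup G where
  carrier := {g | Tv V w g}
  one_mem' := ⟨one_mem _, fun v _ => by left; group⟩
  mul_mem' := by
    rintro a b ha hb
    refine ⟨mul_mem ha.1 hb.1, fun v hv => ?_⟩
    have e : a * b * v * (a * b)⁻¹ = a * (b * v * b⁻¹) * a⁻¹ := by group
    rw [e]
    rcases hb.2 v hv with h1 | h1
    · rw [h1]; exact ha.2 v hv
    · rw [h1]
      have e2 : a * (w * v) * a⁻¹ = (a * w * a⁻¹) * (a * v * a⁻¹) := by group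
      rw [e2, ha.fix hw hq]
      rcases ha.2 v hv with h2 | h2
      · right; rw [h2]
      · left; rw [h2, ← mul_assoc, hq w hw, one_mul]
  inv_mem' := by
    rintro a ha
    refine ⟨inv_mem ha.1, fun v hv => ?_⟩
    have hu : a⁻¹ * v * a⁻¹⁻¹ ∈ V := (mem_normalizer_iff.1 (inv_mem ha.1) v).1 hv
    have e : a * (a⁻¹ * v * a⁻¹⁻¹) * a⁻¹ = v := by group
    rcases ha.2 _ hu with h1 | h1
    · left; rw [← h1, e]
    · right
      rw [e] at h1
      calc a⁻¹ * v * a⁻¹⁻¹ = w * (w * (a⁻¹ * v * a⁻¹⁻¹)) := by rw [← mul_assoc w w, hq w hw, one_mul]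
        _ = w * v := by rw [← h1]

theorem mem_tvg {hw : w ∈ V} {hq : ∀ v ∈ V, v * v = 1} {g : G} : g ∈ tvg hw hq ↔ Tv V w g := Iff.rfl

/-- The elements which act on `V` as an element of `R`. -/
def actg {V R : Subgroup G} (hR : R ≤ normalizer (V : Set G)) : Subgroup G where
  carrier := {g | g ∈ normalizer (V : Set G) ∧ ∃ r ∈ R, ∀ v ∈ V, g * v * g⁻¹ = r * v * r⁻¹}
  one_mem' := ⟨one_mem _, 1, one_mem _, fun v _ => rfl⟩
  mul_mem' := by
    rintro a b ⟨ha, r, hr, h1⟩ ⟨hb, r', hr', h2⟩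
    refine ⟨mul_mem ha hb, r * r', mul_mem hr hr', fun v hv => ?_⟩
    have h3 : r' * v * r'⁻¹ ∈ V := (mem_normalizer_iff.1 (hR hr') v).1 hv
    calc a * b * v * (a * b)⁻¹ = a * (b * v * b⁻¹) * a⁻¹ := by group
      _ = r * (r' * v * r'⁻¹) * r⁻¹ := by rw [h2 v hv, h1 _ h3]
      _ = r * r' * v * (r * r')⁻¹ := by group
  inv_mem' := by
    rintro a ⟨ha, r, hr, h1⟩
    refine ⟨inv_mem ha, r⁻¹, inv_mem hr, fun v hv => ?_⟩
    have h2 : r⁻¹ * v * r⁻¹⁻¹ ∈ V := (mem_normalizer_iff.1 (inv_mem (hR hr)) v).1 hv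
    have h3 := h1 _ h2
    have e : r * (r⁻¹ * v * r⁻¹⁻¹) * r⁻¹ = v := by group
    rw [e] at h3
    calc a⁻¹ * v * a⁻¹⁻¹ = a⁻¹ * (a * (r⁻¹ * v * r⁻¹⁻¹) * a⁻¹) * a⁻¹⁻¹ := by rw [h3]
      _ = r⁻¹ * v * r⁻¹⁻¹ := by group

/-- Two elements of a group `A` of automorphisms of `V` with `A/C_A(V)` elementary abelian act like elements of
a 2-group. -/
theorem exists_two_group [Finite G] (hw : w ∈ V) (hq : ∀ v ∈ V, v * v = 1) :
    ∃ R : Subgroup G, IsPGroup 2 R ∧ R ≤ normalizer (V : Set G) ∧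
      ∀ g, Tv V w g → ∃ r ∈ R, ∀ v ∈ V, g * v * g⁻¹ = r * v * r⁻¹ := by
  set K := tvg hw hq with hK
  have hKV : K ≤ normalizer (V : Set G) := fun g hg => (mem_tvg.1 hg).1
  obtain ⟨R, -, hRK, hR, hs⟩ := Half.exists_sylow_le (IsPGroup.of_bot : IsPGroup 2 (⊥ : Subgroup G))
    (bot_le : (⊥ : Subgroup G) ≤ K)
  have hKF : K ≤ normalizer ((centralizer (V : Set G) : Subgroup G) : Set G) := by
    apply le_normalizer_of
    intro k hk c hc
    rw [mem_centralizer_iff] at hc ⊢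
    intro v hv
    have h1 : k⁻¹ * v * k ∈ V := by
      have := (mem_normalizer_iff.1 (inv_mem (hKV hk)) v).1 hv
      rwa [inv_inv] at this
    have h2 := hc _ h1
    calc v * (k * c * k⁻¹) = k * (k⁻¹ * v * k * c) * k⁻¹ := by group
      _ = k * c * k⁻¹ * v := by rw [h2]; group
  have hle : K ≤ R ⊔ centralizer (V : Set G) := by
    refine One.le_sup_of_two hKF le_rfl le_normalizer hR hs ?_
    intro a ha
    refine ⟨1, ?_⟩
    rw [pow_one, pow_two, mem_centralizer_iff]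
    intro v hv
    have h1 : a * a * v * (a * a)⁻¹ = v := by
      have e : a * a * v * (a * a)⁻¹ = a * (a * v * a⁻¹) * a⁻¹ := by group
      rw [e]
      have ha' : Tv V w a := ha
      rcases ha'.2 v hv with h2 | h2
      · rw [h2, h2]
      · rw [h2]
        have e2 : a * (w * v) * a⁻¹ = (a * w * a⁻¹) * (a * v * a⁻¹) := by group
        rw [e2, ha'.fix hw hq, h2, ← mul_assoc, hq w hw, one_mul]
    exact (mul_inv_eq_iff_eq_mul.1 h1).symm
  refine ⟨R, hR, hRK.trans hKV, fun g hg => ?_⟩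
  have h1 : R ⊔ centralizer (V : Set G) ≤ actg (hRK.trans hKV) := by
    refine sup_le ?_ ?_
    · exact fun r hr => ⟨(hRK.trans hKV) hr, r, hr, fun v _ => rfl⟩
    · intro c hc
      refine ⟨centralizer_le_normalizer _ hc, 1, one_mem _, fun v hv => ?_⟩
      have h2 := mem_centralizer_iff.1 hc v hv
      rw [← h2]; group
  exact (h1 (hle (show g ∈ K from hg))).2

end tv

/-- **Two transvections of `N_G(V)` with the same centre act in the same way.** -/
theorem same_of_centre [Finite G] {V L : Subgroup G} {S : Sylow 2 G} {N : FiveMod V L}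
    (h : Adapt (S : Subgroup G) N) {a b w : G} (hw : w ∈ V) (ha : Tv V w a) (hb : Tv V w b)
    (ha1 : ∃ v ∈ V, a * v * a⁻¹ ≠ v) (hb1 : ∃ v ∈ V, b * v * b⁻¹ ≠ v) :
    ∀ v ∈ V, a * v * a⁻¹ = b * v * b⁻¹ := by
  have hq : ∀ v ∈ V, v * v = 1 := fun v hv => N.sq hv
  obtain ⟨R, hR, hRV, hRact⟩ := exists_two_group hw hq
  have hSV : (S : Subgroup G) ≤ normalizer (V : Set G) := h.SL.trans N.le_normalizer
  obtain ⟨g, hg, hgR⟩ := exists_conj_le_sylow S (normalizer (V : Set G)) R hSV hR hRV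
  have hgV : ∀ v ∈ V, g * v * g⁻¹ ∈ V := fun v hv => (mem_normalizer_iff.1 hg v).1 hv
  have hgV' : ∀ v ∈ V, g⁻¹ * v * g ∈ V := fun v hv => by
    have := (mem_normalizer_iff.1 (inv_mem hg) v).1 hv
    rwa [inv_inv] at this
  obtain ⟨y, hy⟩ := (N.mem_iff _).1 (hgV w hw)
  -- the permutation of a transvection
  have key : ∀ c : G, Tv V w c → (∃ v ∈ V, c * v * c⁻¹ ≠ v) → ∃ r : G, (∀ v ∈ V, c * v * c⁻¹ = r * v * r⁻¹) ∧
      ∃ p, N.Ind (g * r * g⁻¹) p ∧ ((p = Equiv.swap 0 1 ∧ (y = nn ∨ y = nn + 1)) ∨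
        (p = Equiv.swap 2 3 ∧ (y = aa ∨ y = aa + 1))) := by
    intro c hc hc1
    obtain ⟨r, hr, hr1⟩ := hRact c hc
    have hrS := hgR r hr
    obtain ⟨p, hp⟩ := N.exists_ind (h.SL hrS)
    refine ⟨r, hr1, p, hp, ?_⟩
    have hact : ∀ v ∈ V, g * r * g⁻¹ * v * (g * r * g⁻¹)⁻¹ = v ∨
        g * r * g⁻¹ * v * (g * r * g⁻¹)⁻¹ = (g * w * g⁻¹) * v := by
      intro v hv
      have h1 := hr1 _ (hgV' v hv)
      rcases hc.2 _ (hgV' v hv) with h2 | h2
      · left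
        calc g * r * g⁻¹ * v * (g * r * g⁻¹)⁻¹ = g * (r * (g⁻¹ * v * g) * r⁻¹) * g⁻¹ := by group
          _ = g * (g⁻¹ * v * g) * g⁻¹ := by rw [← h1, h2]
          _ = v := by group
      · right
        calc g * r * g⁻¹ * v * (g * r * g⁻¹)⁻¹ = g * (r * (g⁻¹ * v * g) * r⁻¹) * g⁻¹ := by group
          _ = g * (w * (g⁻¹ * v * g)) * g⁻¹ := by rw [← h1, h2]
          _ = g * w * g⁻¹ * v := by group
    have h3 : ∀ x : Vec, (x ∘ p.symm + x = 0 ∨ x ∘ p.symm + x = 1) ∨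
        (x ∘ p.symm + x = y ∨ x ∘ p.symm + x = y + 1) := by
      intro x
      have h4 := hp x
      have h5 : N.e (x ∘ p.symm + x) = g * r * g⁻¹ * N.e x * (g * r * g⁻¹)⁻¹ * N.e x := by
        rw [N.e_add, ← h4]
      rcases hact _ (N.e_mem x) with h6 | h6
      · left
        rw [← N.ker, h5, h6, N.e_sq]
      · right
        rw [← N.e_eq_iff, h5, h6, mul_assoc, N.e_sq, mul_one, ← hy]
    rcases tv_d8 p (h.d8 _ hrS p hp) y h3 with h4 | h4
    · exfalso
      obtain ⟨v, hv, hv1⟩ := hc1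
      apply hv1
      rw [h4] at hp
      have h5 := mem_centralizer_iff.1 (FiveMod.ind_one_iff.1 hp) _ (hgV v hv)
      rw [hr1 v hv]
      have h6 : g * v * g⁻¹ = g * (r * v * r⁻¹) * g⁻¹ := by
        calc g * v * g⁻¹ = g * v * g⁻¹ * (g * r * g⁻¹) * (g * r * g⁻¹)⁻¹ := by group
          _ = g * (r * v * r⁻¹) * g⁻¹ := by rw [h5]; group
      calc r * v * r⁻¹ = g⁻¹ * (g * (r * v * r⁻¹) * g⁻¹) * g := by group
        _ = v := by rw [← h6]; group
    · exact h4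
  obtain ⟨r, hr1, p, hp, hp1⟩ := key a ha ha1
  obtain ⟨r', hr1', p', hp', hp1'⟩ := key b hb hb1
  have hpp : p = p' := by
    rcases hp1 with ⟨h1, h2⟩ | ⟨h1, h2⟩ <;> rcases hp1' with ⟨h3, h4⟩ | ⟨h3, h4⟩
    · rw [h1, h3]
    · exfalso
      rcases h2 with rfl | rfl <;> rcases h4 with h5 | h5 <;> revert h5 <;> decide
    · exfalso
      rcases h2 with rfl | rfl <;> rcases h4 with h5 | h5 <;> revert h5 <;> decide
    · rw [h1, h3]
  subst hpp
  intro v hv
  rw [hr1 v hv, hr1' v hv]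
  obtain ⟨x, hx⟩ := (N.mem_iff _).1 (hgV v hv)
  have h1 := hp x
  have h2 := hp' x
  rw [hx] at h1 h2
  have h3 := h1.trans h2.symm
  calc r * v * r⁻¹ = g⁻¹ * (g * r * g⁻¹ * (g * v * g⁻¹) * (g * r * g⁻¹)⁻¹) * g := by group
    _ = r' * v * r'⁻¹ := by rw [h3]; group

end Cfsg.Agent.Omega.IId.Sym
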