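import Cfsg.Agent.Omega.Half.Gen
import Cfsg.Agent.Omega.S5.Types

/-!
# II.d, mixed pairs: HALF LEMMA, APPLICATION 2 of helper7 #11954, one natural `O₄⁻(2)`-module

`M : FiveMod V L`, `S ≤ L` a Sylow 2-subgroup of `G` which induces `D₈ = C((0 1)(2 3))` on `V` (`Adapt`),
`n = M.e nn` the pair `{0, 1}`, `vn M` the even subsets of `{2, 3, 4}`, `C = C_G(n)`:

* `vn_le` : `vn M ≤ O₂(C)`, `O₂(C)` centralises `vn M`;
* `o2_le` : `O₂(C) ≤ C_S(n)`;
* `comm` : `[v, x] ∈ ⟨n⟩` for `v ∈ V`, `x ∈ O₂(C)`.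
-/

set_option autoImplicit false
set_option linter.unusedSectionVars false

namespace Cfsg.Agent.Omega.IId.Sym

open Subgroup Cfsg Cfsg.Agent.ZN.ChoiceBase
open Cfsg.Agent.ZN (o2 zc zl)
open Cfsg.Agent.MinSimple.VModule (mem_zc zc_le o2_isPGroup le_normalizer_o2)
open Cfsg.Agent.Omega.S5.Mod Cfsg.Agent.Omega.S5.TT Cfsg.Agent.Omega.S5.Types

universe u

variable {G : Type u} [Group G]

/-! ### Permutations -/

/-- `{2, 4}` -/
def bb : Vec := ![0, 0, 1, 0, 1]

/-- `{3, 4}` -/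
def cc : Vec := ![0, 0, 0, 1, 1]

/-- the even subsets of `{2, 3, 4}` -/
def InU (x : Vec) : Prop := x = 0 ∨ x = aa ∨ x = bb ∨ x = cc

instance : DecidablePred InU := fun _ => by unfold InU; infer_instance

theorem inU_add : ∀ x : Vec, InU x → ∀ y : Vec, InU y → InU (x + y) := by
  rintro x (rfl | rfl | rfl | rfl) y (rfl | rfl | rfl | rfl) <;> decide

theorem inU_fix : ∀ p : Equiv.Perm (Fin 5), (nn ∘ p.symm = nn ∨ nn ∘ p.symm = nn + 1) →
    InU (aa ∘ p.symm) ∧ InU (bb ∘ p.symm) ∧ InU (cc ∘ p.symm) := by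
  decide +kernel

theorem ttp_mul : ∀ p q : Equiv.Perm (Fin 5), TTp (p * S5.TT.tt) → TTp (q * S5.TT.tt) → TTp (p * q) := by
  have e : S5.TT.tt * S5.TT.tt = 1 := by decide
  have key : ∀ p r : Equiv.Perm (Fin 5), p * S5.TT.tt = r → p = r * S5.TT.tt := by
    rintro p _ rfl
    rw [mul_assoc, e, mul_one]
  rintro p q (h1 | h1 | h1 | h1) (h2 | h2 | h2 | h2) <;> rw [key p _ h1, key q _ h2] <;> decide

theorem ss_not : ∀ p : Equiv.Perm (Fin 5), nn ∘ p.symm ≠ ss ∧ nn ∘ p.symm ≠ ss + 1 ∧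
    nn ∘ p.symm ≠ 0 ∧ nn ∘ p.symm ≠ 1 := by
  decide +kernel

/-! ### The group `V_n` -/

section

variable {V L : Subgroup G} (M : FiveMod V L)

/-- `V_n`, the even subsets of `{2, 3, 4}`. -/
def vn : Subgroup G where
  carrier := {v | ∃ x : Vec, InU x ∧ M.e x = v}
  one_mem' := ⟨0, Or.inl rfl, M.e_zero⟩
  mul_mem' := by
    rintro _ _ ⟨x, hx, rfl⟩ ⟨y, hy, rfl⟩
    exact ⟨x + y, inU_add x hx y hy, M.e_add x y⟩
  inv_mem' := by
    rintro _ ⟨x, hx, rfl⟩
    exact ⟨x, hx, (M.e_inv x).symm⟩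

theorem mem_vn {v : G} : v ∈ vn M ↔ ∃ x : Vec, InU x ∧ M.e x = v := Iff.rfl

theorem vn_le_V : vn M ≤ V := by
  rintro _ ⟨x, -, rfl⟩
  exact M.e_mem x

theorem aa_mem : M.e aa ∈ vn M := ⟨aa, Or.inr (Or.inl rfl), rfl⟩

theorem bb_mem : M.e bb ∈ vn M := ⟨bb, Or.inr (Or.inr (Or.inl rfl)), rfl⟩

theorem cc_mem : M.e cc ∈ vn M := ⟨cc, Or.inr (Or.inr (Or.inr rfl)), rfl⟩

theorem n_sq : M.e nn ^ 2 = 1 := by rw [pow_two, M.e_sq]

theorem n_ne_one : M.e nn ≠ 1 := by
  intro h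
  rcases (M.ker nn).1 h with h1 | h1
  · revert h1; decide
  · revert h1; decide

/-- `C_L(n)` -/
def lz : Subgroup G := L ⊓ centralizer ({M.e nn} : Set G)

theorem mem_lz {g : G} : g ∈ lz M ↔ g ∈ L ∧ g * M.e nn = M.e nn * g := by
  rw [lz, mem_inf, mem_centralizer_singleton_iff]

variable {M} in
/-- An element of `C(n)` permutes `{2, 3, 4}`. -/
theorem conj_vn {g : G} {p : Equiv.Perm (Fin 5)} (hg : M.Ind g p)
    (hn : nn ∘ p.symm = nn ∨ nn ∘ p.symm = nn + 1) {v : G} (hv : v ∈ vn M) : g * v * g⁻¹ ∈ vn M := by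
  obtain ⟨x, hx, rfl⟩ := hv
  obtain ⟨h1, h2, h3⟩ := inU_fix p hn
  rw [hg x]
  rcases hx with rfl | rfl | rfl | rfl
  · exact ⟨0, Or.inl rfl, rfl⟩
  · exact ⟨_, h1, rfl⟩
  · exact ⟨_, h2, rfl⟩
  · exact ⟨_, h3, rfl⟩

theorem lz_normalizes : lz M ≤ normalizer (vn M : Set G) := by
  have key : ∀ g ∈ lz M, ∀ v ∈ vn M, g * v * g⁻¹ ∈ vn M := by
    intro g hg v hv
    obtain ⟨h1, h2⟩ := (mem_lz M).1 hg
    obtain ⟨p, hp⟩ := M.exists_ind h1
    exact conj_vn hp ((hp.commute_iff nn).1 h2) hv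
  intro g hg
  rw [mem_normalizer_iff]
  intro v
  refine ⟨key g hg v, fun h => ?_⟩
  have h1 := key g⁻¹ (inv_mem hg) _ h
  have e : g⁻¹ * (g * v * g⁻¹) * g⁻¹⁻¹ = v := by group
  rwa [e] at h1

/-- A permutation fixing `0` and `1` is induced by an element of `C_L(n)`. -/
theorem exists_lz {p : Equiv.Perm (Fin 5)} (hp : nn ∘ p.symm = nn) : ∃ g ∈ lz M, M.Ind g p := by
  obtain ⟨g, hg, hi⟩ := M.exists_lift p
  exact ⟨g, (mem_lz M).2 ⟨hg, (hi.commute_iff nn).2 (Or.inl hp)⟩, hi⟩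

theorem trans_vn {v w : G} (hv : v ∈ vn M) (hv1 : v ≠ 1) (hw : w ∈ vn M) (hw1 : w ≠ 1) :
    ∃ g ∈ lz M, g * v * g⁻¹ = w := by
  have key : ∀ x y : Vec, InU x → x ≠ 0 → InU y → y ≠ 0 →
      ∃ p : Equiv.Perm (Fin 5), nn ∘ p.symm = nn ∧ x ∘ p.symm = y := by
    have h1 : ∀ x : Vec, InU x → x ≠ 0 → x = aa ∨ x = bb ∨ x = cc := by
      rintro x (rfl | rfl | rfl | rfl) h
      · exact absurd rfl h
      · exact Or.inl rfl
      · exact Or.inr (Or.inl rfl)
      · exact Or.inr (Or.inr rfl)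
    intro x y hx hx0 hy hy0
    rcases h1 x hx hx0 with rfl | rfl | rfl <;> rcases h1 y hy hy0 with rfl | rfl | rfl
    · exact ⟨1, by decide, by decide⟩
    · exact ⟨Equiv.swap 3 4, by decide, by decide⟩
    · exact ⟨Equiv.swap 2 4, by decide, by decide⟩
    · exact ⟨Equiv.swap 3 4, by decide, by decide⟩
    · exact ⟨1, by decide, by decide⟩
    · exact ⟨Equiv.swap 2 3, by decide, by decide⟩
    · exact ⟨Equiv.swap 2 4, by decide, by decide⟩
    · exact ⟨Equiv.swap 2 3, by decide, by decide⟩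
    · exact ⟨1, by decide, by decide⟩
  obtain ⟨x, hx, rfl⟩ := hv
  obtain ⟨y, hy, rfl⟩ := hw
  have hx0 : x ≠ 0 := fun h => hv1 (by rw [h, M.e_zero])
  have hy0 : y ≠ 0 := fun h => hw1 (by rw [h, M.e_zero])
  obtain ⟨p, hp, hxy⟩ := key x y hx hx0 hy hy0
  obtain ⟨g, hg, hi⟩ := exists_lz M hp
  exact ⟨g, hg, by rw [hi x, hxy]⟩

theorem vn_irr (X : Subgroup G) (hX : X ≤ vn M) (hn : lz M ≤ normalizer (X : Set G)) :
    X = ⊥ ∨ X = vn M := by
  by_cases h : X = ⊥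
  · exact Or.inl h
  right
  obtain ⟨x, hx1⟩ := ne_bot_iff_exists_ne_one.1 h
  have hx2 : (x : G) ≠ 1 := fun h => hx1 (Subtype.ext h)
  refine le_antisymm hX fun w hw => ?_
  by_cases hw1 : w = 1
  · rw [hw1]; exact one_mem _
  obtain ⟨l, hl, rfl⟩ := trans_vn M (hX x.2) hx2 hw hw1
  exact (mem_normalizer_iff.1 (hn hl) _).1 x.2

theorem vn_cent : vn M ⊓ centralizer (lz M : Set G) = ⊥ := by
  rw [eq_bot_iff]
  rintro v ⟨hv, hc⟩
  rw [mem_bot]
  by_contra hv1
  have ha : M.e aa ≠ 1 := by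
    intro h
    rcases (M.ker aa).1 h with h1 | h1
    · revert h1; decide
    · revert h1; decide
  have hb : M.e bb ≠ 1 := by
    intro h
    rcases (M.ker bb).1 h with h1 | h1
    · revert h1; decide
    · revert h1; decide
  have hab : M.e aa ≠ M.e bb := by
    intro h
    rcases M.e_eq_iff.1 h with h1 | h1
    · revert h1; decide
    · revert h1; decide
  obtain ⟨g, hg, h1⟩ := trans_vn M hv hv1 (aa_mem M) ha
  obtain ⟨k, hk, h2⟩ := trans_vn M hv hv1 (bb_mem M) hb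
  apply hab
  rw [← h1, ← h2, mem_centralizer_iff.1 hc g hg, mem_centralizer_iff.1 hc k hk]
  group

end

/-! ### Adapted labels -/

/-- `S ≤ L` induces `D₈ = C((0 1)(2 3))` on `V`. -/
structure Adapt {V L : Subgroup G} (S : Subgroup G) (M : FiveMod V L) : Prop where
  SL : S ≤ L
  d8 : ∀ g ∈ S, ∀ p, M.Ind g p → p * dd = dd * p
  ex : ∀ p, p * dd = dd * p → ∃ g ∈ S, M.Ind g p
  zc : zc S ≤ V

section adapt

variable [Finite G] {V L : Subgroup G} {S : Sylow 2 G} {M : FiveMod V L} (h : Adapt (S : Subgroup G) M)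

include h

/-- `C_S(n)` -/
theorem mem_T {g : G} (hg : g ∈ (S : Subgroup G)) {p : Equiv.Perm (Fin 5)} (hp : M.Ind g p) :
    g * M.e nn = M.e nn * g ↔ TTp p := by
  rw [hp.commute_iff nn]
  exact ⟨fun h1 => ttp_of p (h.d8 g hg p hp) h1, fun h1 => Or.inl (ttp_nn p h1)⟩

theorem exists_t : ∃ t ∈ (S : Subgroup G), M.Ind t tt ∧ t * M.e nn * t⁻¹ = M.e aa := by
  obtain ⟨t, ht, hi⟩ := h.ex tt (by decide)
  have e : nn ∘ (S5.TT.tt).symm = aa := by decide
  exact ⟨t, ht, hi, by rw [hi nn, e]⟩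

/-- `T = C_S(n)` has index 2 in `S`. -/
theorem two_T {a b : G} (ha : a ∈ (S : Subgroup G)) (hb : b ∈ (S : Subgroup G))
    (hna : ¬ a * M.e nn = M.e nn * a) (hnb : ¬ b * M.e nn = M.e nn * b) :
    a * b * M.e nn = M.e nn * (a * b) := by
  obtain ⟨p, hp⟩ := M.exists_ind (h.SL ha)
  obtain ⟨q, hq⟩ := M.exists_ind (h.SL hb)
  rw [mem_T h ha hp] at hna
  rw [mem_T h hb hq] at hnb
  rw [mem_T h (mul_mem ha hb) (hp.mul hq)]
  exact ttp_mul _ _ ((ttp_or p (h.d8 a ha p hp)).resolve_left hna)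
    ((ttp_or q (h.d8 b hb q hq)).resolve_left hnb)

/-- `C_S(n)` -/
theorem card_T : Nat.card (S : Subgroup G) =
    2 * Nat.card ((S : Subgroup G) ⊓ centralizer ({M.e nn} : Set G) : Subgroup G) := by
  set T := (S : Subgroup G) ⊓ centralizer ({M.e nn} : Set G) with hT
  have hmem : ∀ x, x ∈ T ↔ x ∈ (S : Subgroup G) ∧ x * M.e nn = M.e nn * x := by
    intro x
    rw [hT, mem_inf, mem_centralizer_singleton_iff]
  obtain ⟨t, ht, -, htn⟩ := exists_t h
  have htT : t ∉ T := by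
    intro h1
    have h2 := ((hmem t).1 h1).2
    rw [h2, mul_inv_cancel_right] at htn
    rcases M.e_eq_iff.1 htn with h3 | h3
    · revert h3; decide
    · revert h3; decide
  have hrel : T.relIndex (S : Subgroup G) = 2 := by
    rw [relIndex, index_eq_two_iff]
    refine ⟨⟨t, ht⟩, fun b => ?_⟩
    simp only [mem_subgroupOf, Subgroup.coe_mul]
    by_cases hb : (b : G) ∈ T
    · right
      refine ⟨hb, fun h1 => htT ?_⟩
      rwa [Subgroup.mul_mem_cancel_left _ hb] at h1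
    · left
      refine ⟨(hmem _).2 ⟨mul_mem b.2 ht, two_T h b.2 ht (fun h1 => hb ((hmem _).2 ⟨b.2, h1⟩))
        (fun h1 => htT ((hmem _).2 ⟨ht, h1⟩))⟩, hb⟩
  rw [← Half.card_mul_relIndex (inf_le_left : T ≤ (S : Subgroup G)), hrel, mul_comm]

/-- `|Ω₁Z(S)| = 2` -/
theorem zc_cases {x : G} (hx : x ∈ ZN.zc (S : Subgroup G)) : x = 1 ∨ x = M.e ss :=
  zc_le_of M S h.zc h.ex hx

theorem card_zc_le : Nat.card (ZN.zc (S : Subgroup G)) ≤ 2 := by
  classical
  have h1 : (ZN.zc (S : Subgroup G) : Set G) ⊆ (({1, M.e ss} : Finset G) : Set G) := by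
    intro x hx
    rw [Finset.coe_insert, Finset.coe_singleton]
    exact zc_cases h hx
  have h2 : Nat.card (ZN.zc (S : Subgroup G)) = (ZN.zc (S : Subgroup G) : Set G).ncard :=
    Nat.card_coe_set_eq _
  rw [h2]
  refine (Set.ncard_le_ncard h1 (Set.toFinite _)).trans ?_
  rw [Set.ncard_coe_finset]
  exact Finset.card_le_two

/-- **HALF LEMMA, APPLICATION 2** (one `O₄⁻(2)`-module). -/
theorem half (hG : IsCharacteristicTwoType G) :
    vn M ≤ o2 (centralizer ({M.e nn} : Set G)) ∧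
      o2 (centralizer ({M.e nn} : Set G)) ≤ centralizer (vn M : Set G) := by
  have hVS := V_le_S M S h.SL
  have hVT : V ≤ (S : Subgroup G) ⊓ centralizer ({M.e nn} : Set G) := fun v hv =>
    ⟨hVS hv, mem_centralizer_singleton_iff.2 (M.comm hv (M.e_mem nn))⟩
  refine Half.gen hG S (P := L) (So := (S : Subgroup G) ⊓ centralizer ({M.e nn} : Set G)) (L := lz M)
    (U := vn M) (z := M.e nn) h.SL inf_le_left (card_T h) (n_ne_one M) (n_sq M) (hVT (M.e_mem nn))
    (inf_le_inf_right _ h.SL) inf_le_left (fun x hx => ((mem_lz M).1 hx).2) ?_ ((vn_le_V M).trans hVT)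
    (lz_normalizes M) (fun a ha b hb => M.comm (vn_le_V M ha) (vn_le_V M hb))
    (fun a ha => by rw [pow_two]; exact M.sq (vn_le_V M ha)) (vn_irr M) (vn_cent M) ?_
  · intro g hg hc
    obtain ⟨p, hp⟩ := M.exists_ind hg
    have h1 : g * M.e nn * g⁻¹ ∈ ZN.zc (S : Subgroup G) := by
      refine mem_zc.2 ⟨?_, hc, ?_⟩
      · rw [hp nn]
        exact hVS (M.e_mem _)
      · rw [hp nn, pow_two, M.e_sq]
    obtain ⟨h3, h4, h5, h6⟩ := ss_not p
    rcases zc_cases h h1 with h2 | h2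
    · rw [hp nn, M.ker] at h2
      exact h2.elim h5 h6
    · rw [hp nn, M.e_eq_iff] at h2
      exact h2.elim h3 h4
  · refine (card_zc_le h).trans ?_
    have h1 : M.e aa ∈ (vn M ⊓ centralizer (((S : Subgroup G) ⊓ centralizer ({M.e nn} : Set G) : Subgroup G) :
        Set G) : Subgroup G) := by
      refine ⟨aa_mem M, mem_centralizer_iff.2 fun g hg => ?_⟩
      obtain ⟨p, hp⟩ := M.exists_ind (h.SL hg.1)
      have h2 : TTp p := (mem_T h hg.1 hp).1 (mem_centralizer_singleton_iff.1 hg.2)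
      exact (hp.commute_iff aa).2 (Or.inl (ttp_aa p h2))
    have h2 : M.e aa ≠ 1 := by
      intro h
      rcases (M.ker aa).1 h with h1 | h1
      · revert h1; decide
      · revert h1; decide
    by_contra hcon
    push Not at hcon
    have h3 : Nat.card (vn M ⊓ centralizer (((S : Subgroup G) ⊓ centralizer ({M.e nn} : Set G) : Subgroup G) :
        Set G) : Subgroup G) = 1 := by
      have h4 : 0 < Nat.card (vn M ⊓ centralizer (((S : Subgroup G) ⊓ centralizer ({M.e nn} : Set G) :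
        Subgroup G) : Set G) : Subgroup G) := Nat.card_pos
      omega
    rw [card_eq_one] at h3
    rw [h3, mem_bot] at h1
    exact h2 h1

/-- `O₂(C_G(n)) ≤ C_S(n)` -/
theorem o2_le (hG : IsCharacteristicTwoType G) : o2 (centralizer ({M.e nn} : Set G)) ≤ (S : Subgroup G) := by
  set C := centralizer ({M.e nn} : Set G) with hC
  set T := (S : Subgroup G) ⊓ C with hT
  obtain ⟨h1, h2⟩ := half h hG
  have hTC : T ≤ C := inf_le_right
  have hT2 : IsPGroup 2 T := S.isPGroup'.to_le inf_le_left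
  -- `O₂(C) T` is a 2-group
  have hR2 : IsPGroup 2 (T ⊔ o2 C : Subgroup G) :=
    IsPGroup.to_sup_of_normal_right' hT2 (o2_isPGroup C) (hTC.trans (le_normalizer_o2 C))
  by_contra hcon
  -- it is a Sylow subgroup of `G`
  have hlt : T < T ⊔ o2 C := by
    refine lt_of_le_of_ne le_sup_left fun h3 => hcon ?_
    have h4 : o2 C ≤ T := by rw [h3]; exact le_sup_right
    exact h4.trans inf_le_left
  have hcard : Nat.card (S : Subgroup G) ≤ Nat.card (T ⊔ o2 C : Subgroup G) := by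
    have h3 := Half.card_mul_relIndex (le_sup_left : T ≤ T ⊔ o2 C)
    have h4 : T.relIndex (T ⊔ o2 C) ≠ 1 := by
      intro h5
      rw [relIndex_eq_one] at h5
      exact absurd h5 (not_le_of_gt hlt)
    have h5 : T.relIndex (T ⊔ o2 C) ≠ 0 := by
      intro h5
      rw [h5, mul_zero] at h3
      exact Nat.card_pos.ne h3
    rw [card_T h, ← h3, mul_comm]
    exact Nat.mul_le_mul_left _ (by omega)
  have hcard' : Nat.card (T ⊔ o2 C : Subgroup G) = Nat.card (S : Subgroup G) :=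
    le_antisymm (Half.card_le_sylow S hR2) hcard
  have hzc := Half.card_zc_of_card_eq S hR2 hcard'
  -- but `n` and `{2, 3}` are central
  have hn : M.e nn ∈ ZN.zc (T ⊔ o2 C) := by
    refine mem_zc.2 ⟨mem_sup_left ⟨V_le_S M S h.SL (M.e_mem nn), mem_centralizer_singleton_iff.2 rfl⟩,
      fun y hy => ?_, n_sq M⟩
    exact mem_centralizer_singleton_iff.1 (sup_le hTC (MinSimple.VModule.o2_le C) hy)
  have ha : M.e aa ∈ ZN.zc (T ⊔ o2 C) := by
    have h3 : T ⊔ o2 C ≤ centralizer ({M.e aa} : Set G) := by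
      refine sup_le ?_ ?_
      · intro g hg
        obtain ⟨p, hp⟩ := M.exists_ind (h.SL hg.1)
        have h2 : TTp p := (mem_T h hg.1 hp).1 (mem_centralizer_singleton_iff.1 hg.2)
        exact mem_centralizer_singleton_iff.2 ((hp.commute_iff aa).2 (Or.inl (ttp_aa p h2)))
      · intro g hg
        exact mem_centralizer_singleton_iff.2 (mem_centralizer_iff.1 (h2 hg) _ (aa_mem M)).symm
    refine mem_zc.2 ⟨mem_sup_right (h1 (aa_mem M)), fun y hy =>
      mem_centralizer_singleton_iff.1 (h3 hy), by rw [pow_two, M.e_sq]⟩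
  have hle : Nat.card (ZN.zc (T ⊔ o2 C)) ≤ 2 := by
    rw [hzc]; exact card_zc_le h
  have h3 : ({1, M.e nn, M.e aa} : Set G) ⊆ (ZN.zc (T ⊔ o2 C) : Set G) := by
    rintro x (rfl | rfl | rfl)
    · exact one_mem _
    · exact hn
    · exact ha
  have h4 : ({1, M.e nn, M.e aa} : Set G).ncard = 3 := by
    have e1 : M.e aa ≠ 1 := by
      intro h
      rcases (M.ker aa).1 h with h1 | h1
      · revert h1; decide
      · revert h1; decide
    have e2 : M.e nn ≠ M.e aa := by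
      intro h
      rcases M.e_eq_iff.1 h with h1 | h1
      · revert h1; decide
      · revert h1; decide
    rw [Set.ncard_insert_of_notMem _ (Set.toFinite _), Set.ncard_pair e2]
    rintro (h5 | h5)
    · exact n_ne_one M h5.symm
    · exact e1 h5.symm
  have h5 := Set.ncard_le_ncard h3 (Set.toFinite _)
  rw [h4] at h5
  have h6 : Nat.card (ZN.zc (T ⊔ o2 C)) = (ZN.zc (T ⊔ o2 C) : Set G).ncard := Nat.card_coe_set_eq _
  omega

/-- An element of `O₂(C_G(n))` acts on `V` trivially or as `(0 1)`. -/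
theorem o2_act (hG : IsCharacteristicTwoType G) {x : G} (hx : x ∈ o2 (centralizer ({M.e nn} : Set G))) :
    M.Ind x 1 ∨ M.Ind x (Equiv.swap 0 1) := by
  have hS := o2_le h hG hx
  obtain ⟨p, hp⟩ := M.exists_ind (h.SL hS)
  have hxn : x * M.e nn = M.e nn * x :=
    mem_centralizer_singleton_iff.1 (MinSimple.VModule.o2_le _ hx)
  have h1 : TTp p := (mem_T h hS hp).1 hxn
  have h2 := mem_centralizer_iff.1 ((half h hG).2 hx) _ (cc_mem M)
  rcases ttp_fix p h1 ((hp.commute_iff cc).1 h2.symm) with h3 | h3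
  · left; rw [← h3]; exact hp
  · right; rw [← h3]; exact hp

/-- **Supply**: `[v, x] ∈ ⟨n⟩` for `v ∈ V`, `x ∈ O₂(C_G(n))`. -/
theorem supply (hG : IsCharacteristicTwoType G) {x v : G} (hx : x ∈ o2 (centralizer ({M.e nn} : Set G)))
    (hv : v ∈ V) : v * x * v⁻¹ * x⁻¹ = 1 ∨ v * x * v⁻¹ * x⁻¹ = M.e nn := by
  obtain ⟨y, rfl⟩ := (M.mem_iff v).1 hv
  rcases o2_act h hG hx with h1 | h1
  · left
    have h2 := h1 y
    have h3 : x * M.e y = M.e y * x := mul_inv_eq_iff_eq_mul.1 h2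
    rw [← h3]; group
  · have h2 := h1 y
    have h3 : M.e y * x * (M.e y)⁻¹ * x⁻¹ = M.e (y ∘ (Equiv.swap 0 1 : Equiv.Perm (Fin 5)).symm + y) := by
      rw [M.e_add, M.e_comm, ← h2, M.e_inv]
      group
    rw [h3, M.ker, M.e_eq_iff]
    exact swap_comm y

end adapt

end Cfsg.Agent.Omega.IId.Sym
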