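import Cfsg.Agent.Omega.IId.SymHalf
import Cfsg.Agent.Omega.IId.Main
import Cfsg.Agent.Omega.IId.TwoOf
import Cfsg.Agent.Omega.IId.One
import Cfsg.Agent.Omega.IId.Triangle
import Cfsg.Agent.Omega.S5.Nat
import Cfsg.Agent.Omega.S5.OfEven
import Cfsg.Agent.Omega.Half.AppNat

/-!
# II.d, mixed pairs: `k ≥ 2` natural factors against one factor `S_{2^m'+1}`

* `card_two` : `|F| = 2`;
* `exists_lab5` : one `O₄⁻(2)`-module: labels adapted to `S` and to an offender `A ≤ S`;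
* `false_of_univ` : `k = 2`, `m' = 2`, `|[V, V']| ≠ 2`: contradiction;
* `line_eq` : `k = 2`, `m' = 2`, `[V, V'] = line M i`: `line M i = {1, n}`, `n = N.e nn`.
-/

set_option autoImplicit false
set_option linter.unusedSectionVars false

namespace Cfsg.Agent.Omega.IId.Sym

open Subgroup Cfsg Cfsg.Agent.ZN.ChoiceBase
open Cfsg.Agent.ZN (o2 zc zl)
open Cfsg.Agent.Omega.MinPar Cfsg.Agent.Omega.FFThm
open Cfsg.Agent.Omega.FrameFF (cv Free)
open Cfsg.Agent.Omega.FrameMulti (IsSym IsNat Typed AllTyped)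
open Cfsg.Agent.Omega.S5.Def Cfsg.Agent.Omega.S5.Mod Cfsg.Agent.Omega.S5.TT Cfsg.Agent.Omega.S5.Types
open Cfsg.Agent.MinSimple.VModule (le_normalizer_zl)
open Cfsg.Agent.Lib.SL2Mat
open Cfsg.Agent.Omega.NatPair (ap)
open scoped commutatorElement

universe u

variable {G : Type u} [Group G]

/-! ### `|F| = 2` -/

section card

variable {F : Type} [Field F] {S P : Subgroup G} {k : ℕ} {M : NatK F S P (zl S P) ⊥ k}

/-- An element of `V` which does not commute with an element of `A` has a coordinate which is moved by `A`. -/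
theorem exists_coord {A : Subgroup G} {I : Set (Fin k)} (h : Ind M A I) (hA : A ≤ P) {v a : G}
    (hv : v ∈ zl S P) (ha : a ∈ A) (hne : v * a ≠ a * v) : ∃ i ∈ I, M.e v i 1 ≠ 0 := by
  obtain ⟨b, hb, h1⟩ := h.act a ha
  by_contra hcon
  push Not at hcon
  apply hne
  have h2 : ⁅v, a⁆ = 1 := by
    by_cases hk : k = 0
    · subst hk
      have h3 : ⁅v, a⁆ ∈ zl S P := by
        have e : ⁅v, a⁆ = v * (a * v⁻¹ * a⁻¹) := by rw [commutatorElement_def]; group
        rw [e]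
        exact mul_mem hv (cj_mem (hA ha) (inv_mem hv))
      exact (e_eq_zero M h3).1 (funext fun i => i.elim0)
    · have i0 : Fin k := ⟨0, Nat.pos_of_ne_zero hk⟩
      refine (e_eq_zero M (e_comm hv (hA ha) h1 i0).1).1 (funext fun i => ?_)
      obtain ⟨-, h3, h4⟩ := e_comm hv (hA ha) h1 i
      apply NatPair.ext2
      · rw [h3]
        by_cases hi : i ∈ I
        · rw [hcon i hi]; simp
        · rw [hb i hi]; simp
      · rw [h4]; rfl
  rwa [commutatorElement_eq_one_iff_mul_comm] at h2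

/-- The commutators of `v` with the root group of a coordinate. -/
theorem exists_root {A : Subgroup G} {I : Set (Fin k)} (h : Ind M A I) (hA : A ≤ P) {v : G}
    (hv : v ∈ zl S P) {i : Fin k} (hi : i ∈ I) (c : F) :
    ∃ a ∈ A, ⁅v, a⁆ ∈ fac M i ∧ M.e ⁅v, a⁆ i 0 = - (c * M.e v i 1) ∧ M.e ⁅v, a⁆ i 1 = 0 := by
  classical
  obtain ⟨a, ha, h1⟩ := h.ex (Function.update 0 i c) fun j hj => by
    have : j ≠ i := fun h => hj (h ▸ hi)
    rw [Function.update_of_ne this]; rfl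
  refine ⟨a, ha, ⟨(e_comm hv (hA ha) h1 i).1, fun j hj => ?_⟩, ?_, (e_comm hv (hA ha) h1 i).2.2⟩
  · have hj' : j ≠ i := hj
    apply NatPair.ext2
    · rw [(e_comm hv (hA ha) h1 j).2.1, Function.update_of_ne hj']
      simp
    · exact (e_comm hv (hA ha) h1 j).2.2
  · rw [(e_comm hv (hA ha) h1 i).2.1, Function.update_self]

theorem root_ne {v a : G} {i : Fin k} {c : F} (hc : c ≠ 0) (hv : M.e v i 1 ≠ 0)
    (h : M.e ⁅v, a⁆ i 0 = - (c * M.e v i 1)) : ⁅v, a⁆ ≠ 1 := by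
  intro h0
  rw [h0, e_one] at h
  have h1 : c * M.e v i 1 = 0 := by
    have : (0 : F) = - (c * M.e v i 1) := h
    rw [← neg_eq_zero, ← this]
  rcases mul_eq_zero.1 h1 with h2 | h2
  · exact hc h2
  · exact hv h2

/-- If the commutators of an element `v ∈ V` with `A` lie in `{1, n}`, then `|F| = 2`. -/
theorem card_two_of [Finite F] {A : Subgroup G} {I : Set (Fin k)} (h : Ind M A I) (hA : A ≤ P) {v n : G}
    (hv : v ∈ zl S P) {a : G} (ha : a ∈ A) (hne : v * a ≠ a * v) (hn : ∀ a ∈ A, ⁅v, a⁆ = 1 ∨ ⁅v, a⁆ = n) :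
    Nat.card F = 2 := by
  classical
  obtain ⟨i, hi, hvi⟩ := exists_coord h hA hv ha hne
  choose f hf1 hf2 hf3 hf4 using fun c : F => exists_root h hA hv hi c
  have hinj : Function.Injective fun c => ⁅v, f c⁆ := by
    intro c d hcd
    have h1 : M.e ⁅v, f c⁆ i 0 = M.e ⁅v, f d⁆ i 0 := congrArg (fun g => M.e g i 0) hcd
    rw [hf3, hf3, neg_inj] at h1
    exact mul_right_cancel₀ hvi h1
  have hle2 : Nat.card F ≤ 2 := by
    have : Fintype F := Fintype.ofFinite F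
    rw [Nat.card_eq_fintype_card, ← Finset.card_univ]
    refine (Finset.card_le_card_of_injOn (fun c => ⁅v, f c⁆) (t := {1, n}) ?_ hinj.injOn).trans
      Finset.card_le_two
    intro c _
    rw [Finset.coe_insert, Finset.coe_singleton]
    exact hn _ (hf1 c)
  have hge2 : 2 ≤ Nat.card F := by
    have : Nontrivial F := inferInstance
    exact Finite.one_lt_card
  exact le_antisymm hle2 hge2

end card

/-- **`|F| = 2`** if `V'` is one even-subset module. -/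
theorem card_two [Finite G] (hc : IsCharacteristicTwoType G) {S S' : Sylow 2 G} {P P' : Subgroup G}
    (hp : Pair S S' P P') (hN : NoOver (zl (S : Subgroup G) P) P)
    (hN' : NoOver (zl (S' : Subgroup G) P') P') {F : Type} [Field F] [Finite F] {k : ℕ}
    (M : NatK F (S : Subgroup G) P (zl (S : Subgroup G) P) ⊥ k) {m' : ℕ} (hm' : 2 ≤ m')
    (h' : IsSym (S' : Subgroup G) P' 1 m') (hF' : Free (S' : Subgroup G) P') : Nat.card F = 2 := by
  have o1 := hp.off hc hN'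
  have o2 := hp.symm.off hc hN
  obtain ⟨ε, hε, -, hs⟩ := S5.Pair.exists_lab (S' : Subgroup G) hm' hp.star'.isLoc.le h' hF'
  have hn : 3 ≤ 2 ^ m' + 1 := (by norm_num : 3 ≤ 5).trans (S5.Syl.five_le hm')
  obtain ⟨b, hb, i, j, hij, hbs⟩ := S5.Nat.exists_swap hε (hs _ hp.le' o2) o2.ne
  obtain ⟨I, hI⟩ := exists_ind M hp.le o1
  have hVP : zl (S' : Subgroup G) P' ≤ P := hp.le.trans hp.star.isLoc.le
  refine card_two_of hI hVP hb (a := ε (Pi.single i 1)) (hε.mem _)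
    (n := ε (Pi.single i 1 + Pi.single j 1)) ?_ ?_
  · intro h1
    have h2 := (S5.Pair.swap_comm_iff hε hn hij hbs _).1 h1
    rw [Pi.single_eq_same, Pi.single_eq_of_ne hij.symm] at h2
    exact one_ne_zero h2
  · intro a ha
    obtain ⟨u, rfl⟩ := hε.surj a ha
    rw [commutatorElement_def]
    by_cases hu : u i = u j
    · left
      rw [(S5.Pair.acts_swap hε hbs u).1 hu]
      group
    · right
      rw [(S5.Pair.acts_swap hε hbs u).2 hu, hε.comm]
      group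

/-! ### Labels -/

theorem swap_d8 : ∀ i j : Fin 5, i ≠ j → Equiv.swap i j * dd = dd * Equiv.swap i j →
    Equiv.swap i j = Equiv.swap 0 1 ∨ Equiv.swap i j = Equiv.swap 2 3 := by
  decide +kernel

theorem only_swap : ∀ p : Equiv.Perm (Fin 5), (∀ i, p i ≠ i → Equiv.swap i (p i) = Equiv.swap 0 1) →
    p = 1 ∨ p = Equiv.swap 0 1 := by
  decide +kernel

/-- The action of an offender: products of disjoint transpositions induced by the offender. -/
def SideM {V L : Subgroup G} (A : Subgroup G) (N : FiveMod V L) : Prop :=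
  ∀ a ∈ A, ∃ p : Equiv.Perm (Fin 5), N.Ind a p ∧ ∀ i, p i ≠ i → p (p i) = i ∧
    ∃ b ∈ A, N.Ind b (Equiv.swap i (p i))

theorem SideM.relabel {V L A : Subgroup G} {N : FiveMod V L} (h : SideM A N) (σ : Equiv.Perm (Fin 5)) :
    SideM A (N.relabel σ) := by
  intro a ha
  obtain ⟨p, hp, h1⟩ := h a ha
  refine ⟨σ⁻¹ * p * σ, FiveMod.relabel_ind σ hp, fun i hi => ?_⟩
  have e : (σ⁻¹ * p * σ) i = σ⁻¹ (p (σ i)) := rfl
  have e1 : ∀ x, σ (σ⁻¹ x) = x := σ.apply_symm_apply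
  have e2 : ∀ x, σ⁻¹ (σ x) = x := σ.symm_apply_apply
  have hi' : p (σ i) ≠ σ i := by
    intro h2
    apply hi
    rw [e, h2]
    exact σ.symm_apply_apply i
  obtain ⟨h2, b, hb, h3⟩ := h1 (σ i) hi'
  refine ⟨?_, b, hb, ?_⟩
  · rw [e]
    change σ⁻¹ (p (σ (σ⁻¹ (p (σ i))))) = i
    rw [e1, h2, e2]
  · have h4 := FiveMod.relabel_ind σ h3
    have h5 : σ⁻¹ * Equiv.swap (σ i) (p (σ i)) * σ = Equiv.swap i ((σ⁻¹ * p * σ) i) := by
      rw [e]
      have h6 := Equiv.swap_apply_apply σ⁻¹ (σ i) (p (σ i))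
      rw [e2, inv_inv] at h6
      exact h6.symm
    rwa [h5] at h4

theorem Adapt.relabel {V L S : Subgroup G} {N : FiveMod V L} (h : Adapt S N) {σ : Equiv.Perm (Fin 5)}
    (hσ : σ * dd = dd * σ) : Adapt S (N.relabel σ) where
  SL := h.SL
  d8 g hg p hp := by
    have h1 := h.d8 g hg _ (FiveMod.ind_of_relabel σ hp)
    have h2 : σ⁻¹ * dd = dd * σ⁻¹ := by
      calc σ⁻¹ * dd = σ⁻¹ * (dd * σ) * σ⁻¹ := by group
        _ = σ⁻¹ * (σ * dd) * σ⁻¹ := by rw [hσ]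
        _ = dd * σ⁻¹ := by group
    calc p * dd = σ⁻¹ * (σ * p * σ⁻¹) * (σ * dd) := by group
      _ = σ⁻¹ * (σ * p * σ⁻¹) * (dd * σ) := by rw [hσ]
      _ = σ⁻¹ * (σ * p * σ⁻¹ * dd) * σ := by group
      _ = σ⁻¹ * (dd * (σ * p * σ⁻¹)) * σ := by rw [h1]
      _ = σ⁻¹ * dd * (σ * p) := by group
      _ = dd * σ⁻¹ * (σ * p) := by rw [h2]
      _ = dd * p := by group
  ex p hp := by
    have h1 : σ * p * σ⁻¹ * dd = dd * (σ * p * σ⁻¹) := by
      have h2 : σ⁻¹ * dd = dd * σ⁻¹ := by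
        calc σ⁻¹ * dd = σ⁻¹ * (dd * σ) * σ⁻¹ := by group
          _ = σ⁻¹ * (σ * dd) * σ⁻¹ := by rw [hσ]
          _ = dd * σ⁻¹ := by group
      calc σ * p * σ⁻¹ * dd = σ * p * (σ⁻¹ * dd) := by group
        _ = σ * p * (dd * σ⁻¹) := by rw [h2]
        _ = σ * (p * dd) * σ⁻¹ := by group
        _ = σ * (dd * p) * σ⁻¹ := by rw [hp]
        _ = (σ * dd) * p * σ⁻¹ := by group
        _ = (dd * σ) * p * σ⁻¹ := by rw [hσ]
        _ = dd * (σ * p * σ⁻¹) := by group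
    obtain ⟨g, hg, hi⟩ := h.ex _ h1
    refine ⟨g, hg, ?_⟩
    have h2 := FiveMod.relabel_ind σ hi
    have e : σ⁻¹ * (σ * p * σ⁻¹) * σ = p := by group
    rwa [e] at h2
  zc := h.zc

/-- **Labels of one `O₄⁻(2)`-module**, adapted to `S` and an offender `A ≤ S`. -/
theorem exists_lab5 [Finite G] (S : Sylow 2 G) {P : Subgroup G}
    (hP : IsParS (S : Subgroup G) P) (h : IsSym (S : Subgroup G) P 1 2) (hF : Free (S : Subgroup G) P)
    {A : Subgroup G} (hA : A ≤ S) (ho : Off (zl (S : Subgroup G) P) A) :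
    ∃ N : FiveMod (zl (S : Subgroup G) P) P, Adapt (S : Subgroup G) N ∧
      (∃ a ∈ A, N.Ind a (Equiv.swap 0 1)) ∧
      ((∀ a ∈ A, N.Ind a 1 ∨ N.Ind a (Equiv.swap 0 1)) ∨ ∃ b ∈ A, N.Ind b (Equiv.swap 2 3)) := by
  obtain ⟨ε, hε, -, hs⟩ := S5.Pair.exists_lab (S : Subgroup G) le_rfl hP.isLoc.le h hF
  have hε' : EvenSet 5 (zl (S : Subgroup G) P) P ε := hε
  have hs1 : SideM A (S5.OfEven.ofEven hε') := hs A hA ho
  obtain ⟨σ, h1, h2⟩ := exists_relabel (S5.OfEven.ofEven hε') S hP.isLoc.le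
  set N₀ := (S5.OfEven.ofEven hε').relabel σ with hN₀
  have hs2 : SideM A N₀ := hs1.relabel σ
  have hA0 : Adapt (S : Subgroup G) N₀ := ⟨hP.isLoc.le, h1, h2, ZN.ChoiceSit.zc_le_zl _ _⟩
  -- the transpositions
  have hsw : ∀ {N : FiveMod (zl (S : Subgroup G) P) P}, Adapt (S : Subgroup G) N → SideM A N →
      ∀ a ∈ A, ∀ p, N.Ind a p → ∀ i, p i ≠ i → ∃ b ∈ A, N.Ind b (Equiv.swap i (p i)) ∧
        (Equiv.swap i (p i) = Equiv.swap 0 1 ∨ Equiv.swap i (p i) = Equiv.swap 2 3) := by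
    intro N hN hs a ha p hp i hi
    obtain ⟨q, hq, h3⟩ := hs a ha
    obtain rfl := hp.unique hq
    obtain ⟨-, b, hb, h4⟩ := h3 i hi
    exact ⟨b, hb, h4, swap_d8 i (p i) (Ne.symm hi) (hN.d8 b (hA hb) _ h4)⟩
  obtain ⟨a, ha, hac⟩ : ∃ a ∈ A, a ∉ centralizer (zl (S : Subgroup G) P : Set G) := by
    by_contra hcon
    push Not at hcon
    exact ho.ne hcon
  obtain ⟨p, hp, -⟩ := hs2 a ha
  obtain ⟨i, hi⟩ : ∃ i, p i ≠ i := by
    by_contra hcon
    push Not at hcon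
    apply hac
    have h3 : p = 1 := Equiv.ext hcon
    rw [h3] at hp
    exact FiveMod.ind_one_iff.1 hp
  obtain ⟨b, hb, h3, h4⟩ := hsw hA0 hs2 a ha p hp i hi
  obtain ⟨N, hN, hs3, b, hb, hbN⟩ : ∃ N : FiveMod (zl (S : Subgroup G) P) P, Adapt (S : Subgroup G) N ∧
      SideM A N ∧ ∃ b ∈ A, N.Ind b (Equiv.swap 0 1) := by
    rcases h4 with h4 | h4
    · exact ⟨N₀, hA0, hs2, b, hb, h4 ▸ h3⟩
    · refine ⟨N₀.relabel S5.TT.tt, hA0.relabel (by decide), hs2.relabel _, b, hb, ?_⟩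
      rw [h4] at h3
      have h5 := FiveMod.relabel_ind S5.TT.tt h3
      have e : S5.TT.tt⁻¹ * Equiv.swap 2 3 * S5.TT.tt = Equiv.swap 0 1 := by decide
      rwa [e] at h5
  refine ⟨N, hN, ⟨b, hb, hbN⟩, ?_⟩
  by_cases h5 : ∃ b ∈ A, N.Ind b (Equiv.swap 2 3)
  · exact Or.inr h5
  left
  intro a ha
  obtain ⟨p, hp, -⟩ := hs3 a ha
  rcases only_swap p fun i hi => by
    obtain ⟨c, hc', h6, h7⟩ := hsw hN hs3 a ha p hp i hi
    rcases h7 with h7 | h7
    · exact h7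
    · exact absurd ⟨c, hc', h7 ▸ h6⟩ h5 with h6 | h6
  · left; rw [← h6]; exact hp
  · right; rw [← h6]; exact hp

/-! ### Two natural factors against one `O₄⁻(2)`-module -/

theorem fix_bc : ∀ p : Equiv.Perm (Fin 5), (bb ∘ p.symm = bb ∨ bb ∘ p.symm = bb + 1) →
    (cc ∘ p.symm = cc ∨ cc ∘ p.symm = cc + 1) → p = 1 ∨ p = Equiv.swap 0 1 := by
  decide +kernel

section mixed

theorem comm_swap {V L : Subgroup G} {N : FiveMod V L} {a w : G} (ha : N.Ind a (Equiv.swap 0 1)) (hw : w ∈ V) :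
    ⁅a, w⁆ = 1 ∨ ⁅a, w⁆ = N.e nn := by
  obtain ⟨y, rfl⟩ := (N.mem_iff w).1 hw
  rw [commutatorElement_def, ha.comm_eq, N.ker, N.e_eq_iff]
  exact swap_comm y

theorem swap_ne {V L : Subgroup G} {N : FiveMod V L} {a : G} (ha : N.Ind a (Equiv.swap 0 1)) :
    a * N.e (Pi.single 0 1) ≠ N.e (Pi.single 0 1) * a := by
  intro h
  rcases (ha.commute_iff _).1 h with h1 | h1
  · revert h1; decide
  · revert h1; decide

variable {S S' P P' : Subgroup G} {F : Type} [Field F] {k : ℕ} {M : NatK F S P (zl S P) ⊥ k}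
  {N : FiveMod (zl S' P') P'}

/-- `n` lies in a line of `V`. -/
theorem n_mem_line {I : Set (Fin k)} (hI : Ind M (zl S' P') I) (hVP : zl S' P' ≤ P) {a : G} (ha : a ∈ zl S P)
    (has : N.Ind a (Equiv.swap 0 1)) : ∃ i ∈ I, N.e nn ∈ line M i := by
  obtain ⟨i, hi, h1⟩ := exists_coord hI hVP ha (N.e_mem (Pi.single 0 1)) (swap_ne has)
  obtain ⟨w, hw, h2, h3, h4⟩ := exists_root hI hVP ha hi 1
  refine ⟨i, hi, ?_⟩
  rcases comm_swap has hw with h5 | h5
  · exact absurd h5 (root_ne one_ne_zero h1 h3)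
  · rw [← h5, mem_line]
    exact ⟨h2, h4⟩

/-- An element of `fac M i` which does not commute with an element of `V'`. -/
theorem exists_move {I : Set (Fin k)} (hI : Ind M (zl S' P') I) (hVP : zl S' P' ≤ P) {i : Fin k} (hi : i ∈ I) :
    ∃ w ∈ fac M i, ∃ a ∈ zl S' P', ⁅w, a⁆ ∈ fac M i ∧ ⁅w, a⁆ ≠ 1 := by
  obtain ⟨w, hw, h1⟩ := exists_fac M i ![0, 1]
  obtain ⟨a, ha, h2, h3, -⟩ := exists_root hI hVP hw.1 hi 1
  refine ⟨w, hw, a, ha, h2, root_ne one_ne_zero ?_ h3⟩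
  rw [h1]
  exact one_ne_zero

end mixed

/-- **`|[V, V']| ≠ 2`, `k = 2` against one `O₄⁻(2)`-module**: contradiction (HALF LEMMA twice). -/
theorem false_of_univ [Finite G] (hc : IsCharacteristicTwoType G) {S S' : Sylow 2 G} {P P' : Subgroup G}
    (hp : Pair S S' P P') {F : Type} [Field F]
    {M : NatK F (S : Subgroup G) P (zl (S : Subgroup G) P) ⊥ 2}
    {N : FiveMod (zl (S' : Subgroup G) P') P'} (hI : Ind M (zl (S' : Subgroup G) P') Set.univ)
    (hN : Adapt (S' : Subgroup G) N) {a : G} (ha : a ∈ zl (S : Subgroup G) P)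
    (has : N.Ind a (Equiv.swap 0 1)) : False := by
  have hVP : zl (S' : Subgroup G) P' ≤ P := hp.le.trans hp.star.isLoc.le
  obtain ⟨i, -, h1⟩ := n_mem_line hI hVP ha has
  have h2 : N.e nn ∈ fac M i := line_le M i h1
  obtain ⟨j, hij⟩ : ∃ j, i ≠ j := ⟨1 - i, by clear h1 h2; revert i; decide⟩
  obtain ⟨w, hw, c, hc', h3, h4⟩ := exists_move hI hVP (Set.mem_univ j)
  have h5 := (Half.NatA.app_two' hc S M hp.star.isLoc hij h2.1 (fun x hx => h2.2 x hx) (n_ne_one N) hw.1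
    (fun x hx => hw.2 x hx)).2
  obtain ⟨h6, -⟩ := half hN hc
  have h7 : ∀ x ∈ vn N, w * x = x * w := fun x hx => (mem_centralizer_iff.1 h5 x (h6 hx)).symm
  obtain ⟨p, hpw⟩ := N.exists_ind (hN.SL (hp.le' hw.1))
  rcases fix_bc p ((hpw.commute_iff bb).1 (h7 _ (bb_mem N))) ((hpw.commute_iff cc).1 (h7 _ (cc_mem N))) with
    rfl | rfl
  · apply h4
    rw [commutatorElement_eq_one_iff_mul_comm]
    exact (mem_centralizer_iff.1 (FiveMod.ind_one_iff.1 hpw) _ hc').symm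
  · rcases comm_swap hpw hc' with h8 | h8
    · exact h4 h8
    · apply n_ne_one N
      have h9 : N.e nn ∈ fac M i ⊓ fac M j := ⟨h2, h8 ▸ h3⟩
      rwa [fac_inf M hij, mem_bot] at h9

/-- The supply for the partner `O₄⁻(2)`: `V' ≤ K_n`. -/
theorem le_KK [Finite G] (hc : IsCharacteristicTwoType G) {S' : Sylow 2 G} {V L : Subgroup G}
    {N : FiveMod V L} (hN : Adapt (S' : Subgroup G) N) : V ≤ Triangle.KK (N.e nn) := by
  intro v hv
  refine ⟨N.comm hv (N.e_mem nn), fun x hx => ?_⟩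
  rw [Triangle.mem_zpowers_iff_of_sq (N.e_sq nn)]
  exact supply hN hc hx hv

/-- The supply in the form of `One`. -/
theorem le_Kk [Finite G] (hc : IsCharacteristicTwoType G) {S' : Sylow 2 G} {V L : Subgroup G}
    {N : FiveMod V L} (hN : Adapt (S' : Subgroup G) N) : V ≤ One.Kk (N.e nn) := by
  intro v hv
  refine ⟨One.mem_cz.2 (N.comm hv (N.e_mem nn)), fun x hx => ?_⟩
  exact (Triangle.mem_zpowers_iff_of_sq (N.e_sq nn)).2 (supply hN hc hx hv)

end Cfsg.Agent.Omega.IId.Sym
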