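import Cfsg.Agent.Omega.IId.SymEnd

/-!
# II.d, mixed pairs, CASE 1: `One` and nonlocality

* `Sit` : the normal form of CASE 1 against one `O₄⁻(2)`-module;
* `Sit.one` : `One`;
* `Sit.nonLoc` : `⟨C₁, C₂⟩` is nonlocal.
-/

set_option autoImplicit false
set_option linter.unusedSectionVars false

namespace Cfsg.Agent.Omega.IId.Sym

open Subgroup Cfsg Cfsg.Agent.ZN.ChoiceBase
open Cfsg.Agent.ZN (o2 zc zl)
open Cfsg.Agent.Omega.MinPar
open Cfsg.Agent.Omega.S5.Mod Cfsg.Agent.Omega.S5.TT Cfsg.Agent.Omega.S5.Types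
open Cfsg.Agent.Omega.IId.Two

universe u

variable {G : Type u} [Group G]

/-! ### Permutations -/

theorem split_dec : ∀ x : Vec, ∃ y z : Vec, InU y ∧ InU z ∧
    (x = y ∘ tt.symm + z ∨ x = y ∘ tt.symm + z + 1) := by
  decide +kernel

theorem swap_dec : ∀ p : Equiv.Perm (Fin 5), p * dd = dd * p → (nn ∘ p.symm = aa ∨ nn ∘ p.symm = aa + 1) →
    InU (((0 : Vec) ∘ tt.symm) ∘ p.symm) ∧ InU ((aa ∘ tt.symm) ∘ p.symm) ∧ InU ((bb ∘ tt.symm) ∘ p.symm) ∧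
      InU ((cc ∘ tt.symm) ∘ p.symm) := by
  decide +kernel

/-- `{0, 4}` -/
def mm : Vec := ![1, 0, 0, 0, 1]

theorem tv_04 : ∀ x : Vec, (x ∘ (Equiv.swap 0 4 : Equiv.Perm (Fin 5)).symm + x = 0 ∨
    x ∘ (Equiv.swap 0 4 : Equiv.Perm (Fin 5)).symm + x = 1) ∨
    (x ∘ (Equiv.swap 0 4 : Equiv.Perm (Fin 5)).symm + x = mm ∨
      x ∘ (Equiv.swap 0 4 : Equiv.Perm (Fin 5)).symm + x = mm + 1) := by
  decide +kernel

/-! ### The configuration -/

/-- CASE 1 against one `O₄⁻(2)`-module, in normal form. -/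
structure Sit [Finite G] (S : Sylow 2 G) (T V₁ V₂ L₁ L₂ : Subgroup G) (n s : G) {V L : Subgroup G}
    (N : FiveMod V L) : Prop where
  base : One.Base T V₁ V₂ L₁ L₂ n (s * n * s⁻¹) s
  two : IId.Two (S : Subgroup G) T V₁ V₂ L₁ L₂
  sS : s ∈ (S : Subgroup G)
  sT : s ∉ T
  ad : Adapt (S : Subgroup G) N
  nn : N.e S5.TT.nn = n
  aa : N.e S5.TT.aa = s * n * s⁻¹
  mv : ∃ c ∈ One.cz n, ∃ a ∈ V₁, ∃ b ∈ V, a * (c * b * c⁻¹) ≠ c * b * c⁻¹ * a

namespace Sit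

variable [Finite G] {S : Sylow 2 G} {T V₁ V₂ L₁ L₂ : Subgroup G} {n s : G} {V L : Subgroup G}
  {N : FiveMod V L} (h : Sit S T V₁ V₂ L₁ L₂ n s N)

include h

theorem s' {v : G} (hv : v ∈ V₂) : s⁻¹ * v * s ∈ V₁ := by
  have h1 := h.two.sw2 s⁻¹ (inv_mem h.sS) (fun h1 => h.sT (inv_mem_iff.1 h1)) v hv
  rwa [inv_inv] at h1

theorem s'' {v : G} (hv : v ∈ V₁) : s⁻¹ * v * s ∈ V₂ := by
  have h1 := h.two.sw1 s⁻¹ (inv_mem h.sS) (fun h1 => h.sT (inv_mem_iff.1 h1)) v hv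
  rwa [inv_inv] at h1

omit [Finite G] h in
/-- Every element of `V` is the product of an element of `V_1*` and an element of `V_2*`. -/
theorem split (N : FiveMod V L) {v : G} (hv : v ∈ V) : ∃ a ∈ vn (N.relabel tt), ∃ b ∈ vn N, v = a * b := by
  obtain ⟨x, rfl⟩ := (N.mem_iff v).1 hv
  obtain ⟨y, z, hy, hz, h1⟩ := split_dec x
  refine ⟨_, ⟨y, hy, rfl⟩, _, ⟨z, hz, rfl⟩, ?_⟩
  rw [FiveMod.relabel_e, ← N.e_add, N.e_eq_iff]
  exact h1

/-- `s` maps `V_1*` to `V_2*`. -/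
theorem s_vn {v : G} (hv : v ∈ vn (N.relabel tt)) : s * v * s⁻¹ ∈ vn N := by
  obtain ⟨p, hp⟩ := N.exists_ind (h.ad.SL h.sS)
  have h1 := hp S5.TT.nn
  rw [h.nn, ← h.aa, N.e_eq_iff] at h1
  have h1' : S5.TT.nn ∘ p.symm = S5.TT.aa ∨ S5.TT.nn ∘ p.symm = S5.TT.aa + 1 := by
    rcases h1 with h1 | h1
    · exact Or.inl h1.symm
    · right
      rw [h1, add_assoc, S5.Mod.add_self, add_zero]
  obtain ⟨h2, h3, h4, h5⟩ := swap_dec p (h.ad.d8 _ h.sS p hp) h1'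
  obtain ⟨x, hx, rfl⟩ := hv
  rw [FiveMod.relabel_e, hp]
  rcases hx with rfl | rfl | rfl | rfl
  · exact ⟨_, h2, rfl⟩
  · exact ⟨_, h3, rfl⟩
  · exact ⟨_, h4, rfl⟩
  · exact ⟨_, h5, rfl⟩

/-- An element of `Kk n` which does not commute with `V₁`. -/
theorem exists_b : ∃ b ∈ One.Kk n, ∃ a ∈ V₁, b * a ≠ a * b := by
  obtain ⟨c, hc, a, ha, b, hb, hne⟩ := h.mv
  have h1 : b ∈ One.Kk n := by
    have := le_Kk h.base.C2T h.ad hb
    rwa [h.nn] at this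
  exact ⟨c * b * c⁻¹, (mem_normalizer_iff.1 (One.le_normalizer_Kk n hc) b).1 h1, a, ha, Ne.symm hne⟩

/-- **S5 END**: `V_i* = V_i` is impossible. -/
theorem false_of_le (h2 : vn N ≤ V₂) (h1 : vn (N.relabel tt) ≤ V₁) : False := by
  obtain ⟨b, hb, a, ha, hne⟩ := h.exists_b
  have hbQ : b ∈ ZN.o2 (One.cz n) := h.base.Kk_le_Q hb
  have hb2 : ∀ v ∈ V₂, b * v = v * b := h.base.halfc1 b hbQ
  have hb1 : ∀ v ∈ V₁, b * v * b⁻¹ = v ∨ b * v * b⁻¹ = n * v := fun v hv =>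
    One.Kk_conj h.base.vq1 hb (h.base.V1_le_Q hv)
  have hbn : b * n = n * b := One.mem_cz.1 hb.1
  -- the point `w = {0, 4}`
  set w := N.e mm with hw
  have hwV : w ∈ V := N.e_mem mm
  have hw1 : w ∈ V₁ := h1 ⟨bb, Or.inr (Or.inr (Or.inl rfl)), by
    rw [FiveMod.relabel_e, hw, N.e_eq_iff]; left; decide⟩
  have hwne : w ≠ 1 := by
    rw [hw, Ne, N.ker]; decide
  have hwn : w ≠ n := by
    rw [hw, ← h.nn, Ne, N.e_eq_iff]; decide
  obtain ⟨l, hl, hln⟩ := h.base.t1 n h.base.vV1 h.base.v1 w hw1 hwne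
  have hlV : ∀ v ∈ V₁, l⁻¹ * v * l ∈ V₁ := fun v hv => by
    have := (mem_normalizer_iff.1 (inv_mem (h.base.L_norm1 hl)) v).1 hv
    rwa [inv_inv] at this
  have hl2 : ∀ v ∈ V₂, l * v = v * l := h.base.L12 l hl
  set A := l * b * l⁻¹ with hA
  have hA2 : ∀ v ∈ V₂, A * v * A⁻¹ = v := by
    intro v hv
    have e1 : l⁻¹ * v * l = v := by
      rw [mul_assoc, ← hl2 v hv]; group
    calc A * v * A⁻¹ = l * (b * (l⁻¹ * v * l) * b⁻¹) * l⁻¹ := by rw [hA]; group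
      _ = l * v * l⁻¹ := by rw [e1, hb2 v hv, mul_inv_cancel_right]
      _ = v := by rw [hl2 v hv, mul_inv_cancel_right]
  have hA1 : ∀ v ∈ V₁, A * v * A⁻¹ = v ∨ A * v * A⁻¹ = w * v := by
    intro v hv
    have e1 : A * v * A⁻¹ = l * (b * (l⁻¹ * v * l) * b⁻¹) * l⁻¹ := by rw [hA]; group
    rcases hb1 _ (hlV v hv) with h3 | h3
    · left; rw [e1, h3]; group
    · right; rw [e1, h3, ← hln]; group
  have hAV : ∀ v ∈ V, A * v * A⁻¹ = v ∨ A * v * A⁻¹ = w * v := by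
    intro v hv
    obtain ⟨x, hx, y, hy, rfl⟩ := split N hv
    have e1 : A * (x * y) * A⁻¹ = (A * x * A⁻¹) * (A * y * A⁻¹) := by group
    rw [e1, hA2 y (h2 hy)]
    rcases hA1 x (h1 hx) with h3 | h3
    · left; rw [h3]
    · right; rw [h3]; group
  have hAn : Tv V w A := by
    refine ⟨?_, hAV⟩
    have h3 : cj A V ≤ V := by
      rintro _ ⟨v, hv, rfl⟩
      rcases hAV v hv with h4 | h4
      · change A * v * A⁻¹ ∈ V
        rw [h4]; exact hv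
      · change A * v * A⁻¹ ∈ V
        rw [h4]; exact mul_mem hwV hv
    have h4 : cj A V = V := eq_of_le_of_card_ge h3 (by rw [card_cj])
    rw [mem_normalizer_iff]
    intro v
    constructor
    · intro hv; exact h3 ⟨v, hv, rfl⟩
    · intro hv
      rw [← h4] at hv
      obtain ⟨u, hu, e⟩ := hv
      have e2 : A * u * A⁻¹ = A * v * A⁻¹ := e
      have e3 : u = v := mul_left_cancel (mul_right_cancel e2)
      rwa [← e3]
  -- `A` moves `n`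
  have hAne : ∃ v ∈ V, A * v * A⁻¹ ≠ v := by
    refine ⟨n, by rw [← h.nn]; exact N.e_mem _, fun e => ?_⟩
    have e1 : b * (l⁻¹ * n * l) = l⁻¹ * n * l * b := by
      have e2 : b * (l⁻¹ * n * l) * b⁻¹ = l⁻¹ * (A * n * A⁻¹) * l := by rw [hA]; group
      rw [e] at e2
      exact mul_inv_eq_iff_eq_mul.1 e2
    have hne1 : l⁻¹ * n * l ≠ 1 := fun e2 => h.base.v1 (by
      calc n = l * (l⁻¹ * n * l) * l⁻¹ := by group
        _ = 1 := by rw [e2]; group)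
    have hne2 : l⁻¹ * n * l ≠ n := fun e2 => hwn (by
      rw [← hln]
      calc l * n * l⁻¹ = l * (l⁻¹ * n * l) * l⁻¹ := by rw [e2]
        _ = n := by group)
    apply hne
    rcases h.base.mem_V1 ha (hlV n h.base.vV1) hne1 hne2 with h3 | h3 | h3 | h3
    · rw [h3, mul_one, one_mul]
    · rw [h3]; exact hbn
    · rw [h3]; exact e1
    · rw [h3]
      calc b * (n * (l⁻¹ * n * l)) = (b * n) * (l⁻¹ * n * l) := by group
        _ = n * (b * (l⁻¹ * n * l)) := by rw [hbn]; group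
        _ = n * (l⁻¹ * n * l) * b := by rw [e1]; group
  -- the transposition `(0 4)`
  obtain ⟨B, hB, hBi⟩ := N.exists_lift (Equiv.swap 0 4)
  have hBn : Tv V w B := by
    refine ⟨N.le_normalizer hB, fun v hv => ?_⟩
    obtain ⟨x, rfl⟩ := (N.mem_iff v).1 hv
    have e1 : B * N.e x * B⁻¹ = N.e (x ∘ (Equiv.swap 0 4 : Equiv.Perm (Fin 5)).symm + x) * N.e x := by
      rw [hBi x, ← N.e_add, add_add_cancel']
    rw [e1]
    rcases tv_04 x with h3 | h3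
    · left
      rw [(N.ker _).2 h3, one_mul]
    · right
      rw [N.e_eq_iff.2 h3]
  have hcne : N.e cc ≠ N.e (cc ∘ (Equiv.swap 0 4 : Equiv.Perm (Fin 5)).symm) := by
    rw [Ne, N.e_eq_iff]; decide
  have hBne : ∃ v ∈ V, B * v * B⁻¹ ≠ v := ⟨N.e cc, N.e_mem _, by rw [hBi]; exact hcne.symm⟩
  have h3 := same_of_centre h.ad hwV hAn hBn hAne hBne (N.e cc) (N.e_mem _)
  rw [hA2 _ (h2 (cc_mem N)), hBi] at h3
  exact hcne h3

/-- `V_2* = ⟨v₂^{C_{P*}(n)}⟩`. -/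
theorem vn_le_of {A : Subgroup G} (hA : One.cz n ≤ normalizer (A : Set G)) (hv : s * n * s⁻¹ ∈ A) :
    vn N ≤ A := by
  intro v hv1
  by_cases hv2 : v = 1
  · rw [hv2]; exact one_mem _
  obtain ⟨g, hg, e⟩ := trans_vn N (aa_mem N) (Pos.a_ne N) hv1 hv2
  have h1 : g ∈ One.cz n := by
    rw [One.mem_cz, ← h.nn]
    exact ((mem_lz N).1 hg).2
  rw [← e, h.aa]
  exact (mem_normalizer_iff.1 (hA h1) _).1 hv

/-- `V_1* = ⟨v₁^{C_{P*}(v₂)}⟩`. -/
theorem vm_le_of {A : Subgroup G} (hA : One.cz (s * n * s⁻¹) ≤ normalizer (A : Set G)) (hv : n ∈ A) :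
    vn (N.relabel tt) ≤ A := by
  have e1 : (N.relabel tt).e S5.TT.aa = n := by
    rw [FiveMod.relabel_e, ← h.nn, N.e_eq_iff]; left; decide
  have e2 : (N.relabel tt).e S5.TT.nn = s * n * s⁻¹ := by
    rw [FiveMod.relabel_e, ← h.aa, N.e_eq_iff]; left; decide
  intro v hv1
  by_cases hv2 : v = 1
  · rw [hv2]; exact one_mem _
  obtain ⟨g, hg, e⟩ := trans_vn (N.relabel tt) (aa_mem _) (Pos.a_ne _) hv1 hv2
  have h1 : g ∈ One.cz (s * n * s⁻¹) := by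
    rw [One.mem_cz, ← e2]
    exact ((mem_lz _).1 hg).2
  rw [← e, e1]
  exact (mem_normalizer_iff.1 (hA h1) _).1 hv

theorem n1 : ¬ One.cz n ≤ normalizer (V₂ : Set G) := by
  intro hn
  have h2 : vn N ≤ V₂ := h.vn_le_of hn h.base.vV2
  refine h.false_of_le h2 fun v hv => ?_
  have h3 := h.s' (h2 (h.s_vn hv))
  have e : s⁻¹ * (s * v * s⁻¹) * s = v := by group
  rwa [e] at h3

theorem n2 : ¬ One.cz (s * n * s⁻¹) ≤ normalizer (V₁ : Set G) := by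
  intro hn
  apply h.n1
  apply le_normalizer_of
  intro c hc v hv
  have h1 := One.conj_cz h.base.sv1 hc
  have h2 := (mem_normalizer_iff.1 (hn h1) _).1 (h.base.s2 v hv)
  have h3 := h.s'' h2
  have e : s⁻¹ * (s * c * s⁻¹ * (s * v * s⁻¹) * (s * c * s⁻¹)⁻¹) * s = c * v * c⁻¹ := by group
  rwa [e] at h3

/-- **`One`.** -/
theorem one : One.One T V₁ V₂ L₁ L₂ n (s * n * s⁻¹) s := by
  refine ⟨h.base, ?_, ?_, h.n1, h.n2⟩
  · obtain ⟨b, hb, a, ha, hne⟩ := h.exists_b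
    exact ⟨b, hb, a, ha, hne⟩
  · obtain ⟨b, hb, a, ha, hne⟩ := h.exists_b
    refine ⟨s * b * s⁻¹, One.conj_Kk h.base.sv1 hb, s * a * s⁻¹, h.base.s1 a ha, fun e => hne ?_⟩
    have e1 : s * b * s⁻¹ * (s * a * s⁻¹) = s * (b * a) * s⁻¹ := by group
    have e2 : s * a * s⁻¹ * (s * b * s⁻¹) = s * (a * b) * s⁻¹ := by group
    rw [e1, e2] at e
    exact mul_left_cancel (mul_right_cancel e)

/-- **`⟨C₁, C₂⟩` is nonlocal.** -/
theorem nonLoc : NonLoc (One.cz n) (One.cz (s * n * s⁻¹)) := by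
  intro U hU h1 h2
  by_contra hU1
  have hb := h.base
  have hz := hb.vi_mem_zc (fun U hU _ => One.card_le_two h.two U hU) hU hU1 (hb.T_le.trans h1)
    (hb.L2_le.trans h1)
  have hn : normalizer (U : Set G) ≤ normalizer (ZN.zc (ZN.o2 (normalizer (U : Set G))) : Set G) :=
    (MinSimple.VModule.le_normalizer_o2 _).trans (MinSimple.VModule.normalizer_le_normalizer_zc _)
  set A := ZN.zc (ZN.o2 (normalizer (U : Set G))) with hA
  have hV1 : V₁ ≤ A := hb.V1_le_of (hb.L1_le.trans (h2.trans hn)) hz.1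
  have hV : V ≤ A := by
    intro v hv
    obtain ⟨x, hx, y, hy, rfl⟩ := split N hv
    exact mul_mem (h.vm_le_of (h2.trans hn) hz.1 hx) (h.vn_le_of (h1.trans hn) hz.2 hy)
  obtain ⟨c, hc, a, ha, b, hb', hne⟩ := h.mv
  exact hne (MinSimple.VModule.zc_comm _ a (hV1 ha) _ ((mem_normalizer_iff.1 (hn (h1 hc)) b).1 (hV hb')))

end Sit

end Cfsg.Agent.Omega.IId.Sym
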