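import Cfsg.Agent.Omega.SQ1.FFKNat
import Cfsg.Agent.Omega.LemmaK.OfInK
import Cfsg.Agent.Omega.IId.Main
import Cfsg.Agent.Omega.MutE.OfFF

/-!
# II.d, `|I| ≥ 2`: one side with `J(S) ≰ O₂(P)` is dead (#14650 (A1), LEMMA K #11397)

* `exists_blk`: `M : NatK F S P (zl S P) ⊥ k`, `J(S) ≰ O₂(P)`: for every factor `i` there is a block `L ≤ P` over the
  Baumann subgroup `bau S` with module `fac M i` (`LemmaK.Main.Blk`), centralising the lines of the other factors;
* `matching`: for a pair in normal position, `V'` induces on `V` the full root group of `I`, `V` on `V'` the full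
  root group of `I'`, the lines are matched by `σ : I ≃ I'`, `q = q'`;
* `side_dead`: `|[V, V']| ≠ q` implies `J(S) ≤ O₂(P)`; `side_dead'`: and `J(S') ≤ O₂(P')`.
-/

set_option autoImplicit false
set_option linter.unusedSectionVars false

namespace Cfsg.Agent.Omega.IId.TwoK

open Subgroup Cfsg Cfsg.Agent.ZN Cfsg.Agent.ZN.ChoiceBase
open Cfsg.Agent.Omega.MinPar Cfsg.Agent.Omega.Frame Cfsg.Agent.Omega.FFThm Cfsg.Agent.Omega.FrameMulti
open Cfsg.Agent.Omega.SQ1.FFOne (NatKB minH_of)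
open Cfsg.Agent.Omega.SQ1.BauK (InK V1)
open Cfsg.Agent.Lib.SL2Mat
open Cfsg.Agent.MinSimple.MinParabolic (IsMinPar)
open scoped Pointwise commutatorElement

universe u

variable {G : Type u} [Group G] [Finite G]

section blk

variable {F : Type} [Field F] [Finite F] [CharP F 2] {T P : Subgroup G} {k : ℕ}

/-- The Baumann data, `D = 1`. -/
def natKB (hT : ChoiceSit.Syl T P) (hc : P ⊓ centralizer (o2 P : Set G) ≤ o2 P) (hJ : ¬ jj T ≤ o2 P)
    (hk : 0 < k) (M : NatK F T P (zl T P) ⊥ k) : NatKB F T P (zl T P) ⊥ k where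
  nat := M
  DV := bot_le
  Vn := fun _ hh v hv => (mem_normalizer_iff.1 (MinSimple.VModule.le_normalizer_zl T P hh) v).1 hv
  VQ := (MinSimple.VModule.zl_le_zc hT.1 hT.2.1 (ChoiceSit.syl_not_dvd hT) hc).trans fun _ hx =>
    (ChoiceBase.mem_zc.1 hx).1
  Vsq := fun _ hv => (ChoiceBase.mem_zc.1 (MinSimple.VModule.zl_le_zc hT.1 hT.2.1 (ChoiceSit.syl_not_dvd hT) hc hv)).2.1
  VcQ := fun x hx _ hv =>
    (ChoiceBase.mem_zc.1 (MinSimple.VModule.zl_le_zc hT.1 hT.2.1 (ChoiceSit.syl_not_dvd hT) hc hv)).2.2 x hx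
  nle := hJ
  pos := hk

/-- **Blocks of a member of `P*(S)` over the Baumann subgroup.** -/
theorem exists_blk' (hT : ChoiceSit.Syl T P) (hP : IsMinPar T P)
    (hc : P ⊓ centralizer (o2 P : Set G) ≤ o2 P) (hJ : ¬ jj T ≤ o2 P)
    (M : NatK F T P (zl T P) ⊥ k) (i : Fin k) :
    ∃ L : Subgroup G, L ≤ P ∧ LemmaK.Main.Blk (bau T) L (fac M i) ∧
      ∀ j, j ≠ i → L ≤ centralizer (line M j : Set G) := by
  have hk : 0 < k := i.pos
  have : Nonempty (Fin k) := ⟨i⟩
  have hm := minH_of hT hP hc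
  set M' := (natKB hT hc hJ hk M).toFFK hm with hM'
  obtain ⟨E, h⟩ := M'.toInK hm
  have hN : ∀ j, M'.N j = fac M j := fun j => rfl
  have hl : ∀ j, V1 T (zl T P) ⊓ M'.N j = line M j := by
    intro j
    ext v
    rw [M'.mem_V1N hm, mem_line]
    rfl
  obtain ⟨L, hL⟩ := h.exists_blk i
  refine ⟨L, hL.LH h, ?_, fun j hj => ?_⟩
  · have := LemmaK.OfInK.blk hL h
    rwa [hN] at this
  · rw [← hl]
    exact LemmaK.OfInK.cent_line hL h hj.symm

/-- The same for a member of `P*(S)`. -/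
theorem exists_blk (hG : IsCharacteristicTwoType G) {S : Sylow 2 G} {P : Subgroup G}
    (hP : IsParS (S : Subgroup G) P) (hJ : ¬ jj (S : Subgroup G) ≤ o2 P)
    (M : NatK F (S : Subgroup G) P (zl (S : Subgroup G) P) ⊥ k) (i : Fin k) :
    ∃ L : Subgroup G, L ≤ P ∧ LemmaK.Main.Blk (bau (S : Subgroup G)) L (fac M i) ∧
      ∀ j, j ≠ i → L ≤ centralizer (line M j : Set G) :=
  exists_blk' (FFThm.syl_of_sylow S hP.le) hP.toIsMinPar (IsLoc.char2 S hG hP.isLoc) hJ M i

end blk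

section pair

variable {F F' : Type} [Field F] [Finite F] [CharP F 2] [Field F'] [Finite F'] [CharP F' 2] {k k' : ℕ}
  {S S' : Sylow 2 G} {P P' : Subgroup G}
  {M : NatK F (S : Subgroup G) P (zl (S : Subgroup G) P) ⊥ k}
  {M' : NatK F' (S' : Subgroup G) P' (zl (S' : Subgroup G) P') ⊥ k'}

/-- Both members of the pair act as full root groups, the lines are matched. -/
theorem matching (hc : IsCharacteristicTwoType G) (h : Pair S S' P P')
    (hT : NoOver (zl (S : Subgroup G) P) P) (hT' : NoOver (zl (S' : Subgroup G) P') P')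
    (M : NatK F (S : Subgroup G) P (zl (S : Subgroup G) P) ⊥ k)
    (M' : NatK F' (S' : Subgroup G) P' (zl (S' : Subgroup G) P') ⊥ k') :
    ∃ (I : Set (Fin k)) (I' : Set (Fin k')) (σ : I ≃ I'), Ind M (zl (S' : Subgroup G) P') I ∧
      Ind M' (zl (S : Subgroup G) P) I' ∧ I.Nonempty ∧ Nat.card F = Nat.card F' ∧
        ∀ i : I, line M i = line M' (σ i) := by
  have hSV : (S : Subgroup G) ≤ normalizer (zl (S : Subgroup G) P : Set G) :=
    h.star.le.trans (MinSimple.VModule.le_normalizer_zl _ _)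
  have hSV' : (S' : Subgroup G) ≤ normalizer (zl (S' : Subgroup G) P' : Set G) :=
    h.star'.le.trans (MinSimple.VModule.le_normalizer_zl _ _)
  obtain ⟨I, B, f1, f2, -, h1⟩ := M.rootAct hSV h.le (h.off hc hT')
  obtain ⟨I', B', g1, g2, -, h2⟩ := M'.rootAct hSV' h.symm.le (h.symm.off hc hT)
  have hpt : ∀ i, M.pt i = line M i := by
    intro i
    ext v
    rw [M.mem_pt, mem_line]
    exact ⟨fun h => ⟨⟨h.1, h.2.1⟩, h.2.2⟩, fun h => ⟨h.1.1, h.1.2, h.2⟩⟩
  have hpt' : ∀ i, M'.pt i = line M' i := by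
    intro i
    ext v
    rw [M'.mem_pt, mem_line]
    exact ⟨fun h => ⟨⟨h.1, h.2.1⟩, h.2.2⟩, fun h => ⟨h.1.1, h.1.2, h.2⟩⟩
  obtain ⟨σ, hσ⟩ := MutE.exists_equiv h1 h2
  have hne : ∃ v ∈ zl (S : Subgroup G) P, ∃ w ∈ zl (S' : Subgroup G) P', w * v ≠ v * w := by
    by_contra hcon
    push Not at hcon
    apply h.ne
    rw [commutator_eq_bot_iff_le_centralizer]
    intro v hv
    rw [mem_centralizer_iff]
    intro w hw
    exact hcon v hv w hw
  obtain ⟨i⟩ := MutE.nonempty_of h1 hne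
  exact ⟨I, I', σ, ⟨f1, f2⟩, ⟨g1, g2⟩, ⟨i, i.2⟩, MutE.q_eq h1 h2 i, fun i => by
    rw [← hpt, ← hpt']; exact hσ i⟩

/-- `[fac M j, V'] ≤ line M j`. -/
theorem comm_mem_line {I : Set (Fin k)} (hI : Ind M (zl (S' : Subgroup G) P') I)
    (hle : zl (S' : Subgroup G) P' ≤ P) {j : Fin k} {v w : G} (hv : v ∈ fac M j)
    (hw : w ∈ zl (S' : Subgroup G) P') : ⁅v, w⁆ ∈ line M j := by
  obtain ⟨b, hb, hact⟩ := hI.act w hw
  have h1 := e_comm (M := M) hv.1 (hle hw) hact
  rw [mem_line]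
  refine ⟨⟨(h1 j).1, fun l hl => ?_⟩, (h1 j).2.2⟩
  apply NatPair.ext2
  · rw [(h1 l).2.1, hv.2 l hl]
    simp
  · rw [(h1 l).2.2]
    rfl

/-- An element of the factor `j` of `V` acts on `V'` only on the matched factor. -/
theorem comm_part (h : Pair S S' P P') {I : Set (Fin k)} {I' : Set (Fin k')}
    (hI : Ind M (zl (S' : Subgroup G) P') I) (hI' : Ind M' (zl (S : Subgroup G) P) I')
    {j : Fin k} {j' : Fin k'} (hjj : line M j = line M' j') {v w : G} (hv : v ∈ fac M j)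
    (hw : w ∈ part M' {j'}ᶜ) : v * w = w * v := by
  classical
  obtain ⟨b, hb, hact⟩ := hI'.act v hv.1
  have hb0 : ∀ l, l ≠ j' → b l = 0 := by
    intro l hl
    obtain ⟨x, hx, hxe⟩ := M'.surj fun _ => ![0, 1]
    have h1 := (e_comm (M := M') hx (h.symm.le.trans h.symm.star.le hv.1) hact l).2.1
    have h2 : ⁅x, v⁆ ∈ line M' j' := by
      rw [← hjj, ← commutatorElement_inv]
      exact inv_mem (comm_mem_line hI (h.le.trans h.star.le) hv hx)
    rw [mem_line] at h2
    rw [h2.1.2 l hl, hxe] at h1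
    simpa using h1
  have hwV : w ∈ zl (S' : Subgroup G) P' := hw.1
  have hvP' : v ∈ P' := h.symm.le.trans h.symm.star.le hv.1
  have h1 : v * w * v⁻¹ = w := by
    refine e_inj M' (cj_mem hvP' hwV) hwV (funext fun l => ?_)
    rw [hact.1 w hwV l]
    by_cases hl : l = j'
    · subst hl
      rw [hw.2 l (by simp)]
      apply NatPair.ext2
      · rw [NatPair.ap_zero']; simp
      · rw [NatPair.ap_one']; simp
    · show NatPair.ap (up (b l)) _ = _
      rw [hb0 l hl, up_zero, NatPair.ap_one]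
  calc v * w = v * w * v⁻¹ * v := by group
    _ = w * v := by rw [h1]

/-- **One side with `J(S) ≰ O₂(P)` is dead** (`|[V, V']| ≠ q`). -/
theorem side_dead (hc : IsCharacteristicTwoType G) (h : Pair S S' P P')
    (hT : NoOver (zl (S : Subgroup G) P) P) (hT' : NoOver (zl (S' : Subgroup G) P') P')
    (M : NatK F (S : Subgroup G) P (zl (S : Subgroup G) P) ⊥ k)
    (M' : NatK F' (S' : Subgroup G) P' (zl (S' : Subgroup G) P') ⊥ k')
    (hq : Nat.card ↥⁅zl (S : Subgroup G) P, zl (S' : Subgroup G) P'⁆ ≠ Nat.card F) :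
    jj (S : Subgroup G) ≤ o2 P := by
  classical
  by_contra hJ
  obtain ⟨I, I', σ, hI, hI', ⟨i, hi⟩, hFF, hσ⟩ := matching hc h hT hT' M M'
  have hV'P : zl (S' : Subgroup G) P' ≤ P := h.le.trans h.star.le
  -- a second index
  have hj : ∃ j ∈ I, j ≠ i := by
    by_contra hcon
    push Not at hcon
    have hIi : I = {i} := Set.eq_singleton_iff_unique_mem.2 ⟨hi, hcon⟩
    apply hq
    rw [hI.commutator_eq hV'P, hIi]
    exact card_line M i
  obtain ⟨j, hjI, hji⟩ := hj
  set j' : Fin k' := (σ ⟨j, hjI⟩ : Fin k') with hj'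
  set i' : Fin k' := (σ ⟨i, hi⟩ : Fin k') with hi'
  have hij' : i' ≠ j' := by
    intro e
    have := σ.injective (Subtype.ext e)
    exact hji (congrArg Subtype.val this).symm
  have hli : line M i = line M' i' := hσ ⟨i, hi⟩
  have hlj : line M j = line M' j' := hσ ⟨j, hjI⟩
  -- a point of the line `i`
  obtain ⟨z, hz, hz1⟩ : ∃ z ∈ line M i, z ≠ 1 := by
    rcases (line M i).bot_or_exists_ne_one with h0 | h0
    · have h1 := card_line M i
      rw [h0, Subgroup.card_bot] at h1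
      have := Finite.one_lt_card (α := F)
      omega
    · exact h0
  have hzV : z ∈ zl (S : Subgroup G) P := fac_le M i (line_le M i hz)
  have hz2 : z ^ 2 = 1 := by rw [pow_two]; exact sq M hzV
  set H := centralizer ({z} : Set G) with hH
  have hHc := MinSimple.Basic.char2_centralizer hc hz2 hz1
  set ZW := o2 H ⊓ centralizer (o2 H : Set G) with hZW
  have hZWn : H ≤ normalizer (ZW : Set G) := by
    intro x hx
    rw [mem_normalizer_iff_cj, hZW, cj_inf, cj_centralizer, cj_eq_of_mem_normalizer (le_normalizer_o2 H hx)]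
  -- the factor `j` of `V`
  obtain ⟨L, -, hL, hLc⟩ := exists_blk hc h.star hJ M j
  have hLH : L ≤ H := by
    intro x hx
    rw [hH, mem_centralizer_singleton_iff]
    exact (mem_centralizer_iff.1 (hLc i hji.symm hx) z hz).symm
  have h1 : fac M j ≤ ZW := hL.le_o2 S hHc hLH
  -- the factor `j'` of `V'`
  have h2 : fac M' j' ≤ ZW := by
    obtain ⟨x, hx, hx1⟩ : ∃ x ∈ line M' j', x ≠ 1 := by
      rcases (line M' j').bot_or_exists_ne_one with h0 | h0
      · have h1 := card_line M' j'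
        rw [h0, Subgroup.card_bot] at h1
        have := Finite.one_lt_card (α := F')
        omega
      · exact h0
    have hxZ : x ∈ ZW := h1 (line_le M j (by rw [hlj]; exact hx))
    intro w hw
    by_cases hw1 : w = 1
    · rw [hw1]; exact one_mem _
    obtain ⟨g, hg, e⟩ := exists_grp M' (line_le M' j' hx) hw hx1 hw1
    have hgH : g ∈ H := by
      rw [hH, mem_centralizer_singleton_iff]
      have hz' : z ∈ part M' {i'} := line_le M' i' (by rw [← hli]; exact hz)
      exact grp_comm M' (Set.disjoint_singleton.2 hij'.symm) hg hz'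
    rw [← e]
    exact (mem_normalizer_iff.1 (hZWn hgH) x).1 hxZ
  -- they do not commute
  obtain ⟨v, hv, hve⟩ := exists_fac M j ![0, 1]
  obtain ⟨a, ha, hact⟩ := hI.ex (Pi.single j 1) fun l hl => by
    rw [Pi.single_eq_of_ne]
    rintro rfl
    exact hl hjI
  have h3 : ⁅v, a⁆ ≠ 1 := by
    intro h0
    have h4 := (e_comm (M := M) hv.1 (hV'P ha) hact j).2.1
    rw [h0, e_one M, hve] at h4
    simp at h4
  obtain ⟨a₁, ha₁, a₂, ha₂, haa, -⟩ : ∃ a₁ ∈ fac M' j', ∃ a₂ ∈ part M' {j'}ᶜ, a = a₁ * a₂ ∧ True := by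
    have h5 := part_sup M' {j'}
    have h6 : a ∈ part M' {j'} ⊔ part M' {j'}ᶜ := by rw [h5]; exact ha
    obtain ⟨x, hx, y, hy, e⟩ := SQ1.Bau.mem_sup_comm
      (fun x hx y hy => comm M' (part_le M' _ hx) (part_le M' _ hy)) h6
    exact ⟨x, hx, y, hy, e, trivial⟩
  apply h3
  have h7 : v * a₂ = a₂ * v := comm_part h hI hI' hlj hv ha₂
  have h8 : v * a₁ = a₁ * v := (mem_centralizer_iff.1 (h2 ha₁).2 v (h1 hv).1)
  rw [commutatorElement_eq_one_iff_mul_comm, haa]
  calc v * (a₁ * a₂) = (v * a₁) * a₂ := by group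
    _ = a₁ * (v * a₂) := by rw [h8]; group
    _ = a₁ * a₂ * v := by rw [h7]; group

/-- The same for the other side. -/
theorem side_dead' (hc : IsCharacteristicTwoType G) (h : Pair S S' P P')
    (hT : NoOver (zl (S : Subgroup G) P) P) (hT' : NoOver (zl (S' : Subgroup G) P') P')
    (M : NatK F (S : Subgroup G) P (zl (S : Subgroup G) P) ⊥ k)
    (M' : NatK F' (S' : Subgroup G) P' (zl (S' : Subgroup G) P') ⊥ k')
    (hq : Nat.card ↥⁅zl (S : Subgroup G) P, zl (S' : Subgroup G) P'⁆ ≠ Nat.card F) :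
    jj (S' : Subgroup G) ≤ o2 P' := by
  obtain ⟨I, I', σ, hI, hI', hne, hFF, hσ⟩ := matching hc h hT hT' M M'
  refine side_dead hc h.symm hT' hT M' M ?_
  rw [commutator_comm, ← hFF]
  exact hq

end pair

/-! ### `NoOver` for a pair in normal position -/

section typed

variable {S S' : Sylow 2 G} {P P' : Subgroup G}

/-- A pair in normal position comes from a mutual pair. -/
theorem exists_mutual (h : Pair S S' P P') :
    ∃ (y : G) (P₂ : Subgroup G), Mutual (S : Subgroup G) P P₂ y ∧ S' = sy y S ∧ P' = cj y P₂ := by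
  obtain ⟨y, hy⟩ := MulAction.exists_smul_eq G S S'
  have hS : S' = sy y S := hy.symm
  have hS2 : (S' : Subgroup G) = cj y (S : Subgroup G) := by rw [hS, sy_coe]
  have hP' : P' = cj y (cj y⁻¹ P') := by rw [cj_cj_inv]
  have hz : zl (S' : Subgroup G) P' = cj y (zl (S : Subgroup G) (cj y⁻¹ P')) := by
    rw [← zl_cj, ← hS2, ← hP']
  have hst : IsParS (S : Subgroup G) (cj y⁻¹ P') := by
    have h1 := isParS_cj h.star' y⁻¹
    rwa [hS2, cj_inv_cj] at h1
  refine ⟨y, cj y⁻¹ P', ⟨h.star, hst, ?_, ?_, ?_⟩, hS, hP'⟩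
  · have := h.le'.trans (h.star'.le.trans (MinSimple.VModule.le_normalizer_zl (S' : Subgroup G) P'))
    rw [hz] at this
    exact this
  · have := h.le.trans (h.star.le.trans (MinSimple.VModule.le_normalizer_zl (S : Subgroup G) P))
    rw [hz] at this
    exact this
  · have := h.ne
    rw [hz] at this
    exact this

/-- Both members are typed. -/
theorem typed (hT : AllTyped (S : Subgroup G)) (h : Pair S S' P P') :
    Typed (S : Subgroup G) P ∧ Typed (S' : Subgroup G) P' := by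
  obtain ⟨y, P₂, hm, hS, hP⟩ := exists_mutual h
  obtain ⟨h1, h2⟩ := hT P P₂ y hm
  refine ⟨h1, ?_⟩
  rw [hS, hP, sy_coe]
  exact typed_cj h2 y

/-- **The frame of `WrTwo`: `J(S) ≤ O₂(P)` and `J(S') ≤ O₂(P')`.** -/
theorem jj_le {K : Cls.{u}} {F F' : Type} [Field F] [Finite F] [CharP F 2] [Field F'] [Finite F'] [CharP F' 2]
    {k k' : ℕ} (hH : Hyp K S) (h : Pair S S' P P')
    (M : NatK F (S : Subgroup G) P (zl (S : Subgroup G) P) ⊥ k)
    (M' : NatK F' (S' : Subgroup G) P' (zl (S' : Subgroup G) P') ⊥ k')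
    (hq : Nat.card ↥⁅zl (S : Subgroup G) P, zl (S' : Subgroup G) P'⁆ ≠ Nat.card F) :
    jj (S : Subgroup G) ≤ o2 P ∧ jj (S' : Subgroup G) ≤ o2 P' := by
  obtain ⟨h1, h2⟩ := typed hH.typed h
  exact ⟨side_dead hH.ctx.char2 h h1.noOver h2.noOver M M' hq,
    side_dead' hH.ctx.char2 h h1.noOver h2.noOver M M' hq⟩

end typed

end Cfsg.Agent.Omega.IId.TwoK
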